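import Mathlib

/-!
Weights of a finite abelian group acting on a vector space in coprime characteristic.
-/

namespace CfsgLib.MinDegree

open Matrix

section Weights

variable {K : Type*} [Field K] {V : Type*} [AddCommGroup V] [Module K V]
variable {A : Type*} [AddCommGroup A] (π : Multiplicative A →* Module.End K V)

/-- The simultaneous eigenspace of a character. -/
def weightSpace (χ : AddChar A K) : Submodule K V where
  carrier := {v | ∀ a : A, π (Multiplicative.ofAdd a) v = χ a • v}
  zero_mem' := by simp
  add_mem' := fun {v w} hv hw a => by rw [map_add, hv a, hw a, smul_add]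
  smul_mem' := fun c v hv a => by rw [map_smul, hv a, smul_comm]

theorem finite_addChar {A K : Type*} [AddCommGroup A] [Finite A] [Field K] : Finite (AddChar A K) := by
  haveI : Fintype A := Fintype.ofFinite A
  have h : LinearIndependent K (fun χ : AddChar A K => (⇑χ : A → K)) :=
    (linearIndependent_monoidHom (Multiplicative A) K).comp AddChar.toMonoidHomEquiv AddChar.toMonoidHomEquiv.injective
  exact h.finite

theorem mem_weightSpace {χ : AddChar A K} {v : V} :
    v ∈ weightSpace π χ ↔ ∀ a : A, π (Multiplicative.ofAdd a) v = χ a • v := Iff.rfl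

variable [Fintype A]

/-- The projection to a weight space. -/
def weightProj (χ : AddChar A K) : Module.End K V :=
  ∑ a : A, χ (-a) • π (Multiplicative.ofAdd a)

theorem weightProj_apply (χ : AddChar A K) (v : V) :
    weightProj π χ v = ∑ a : A, χ (-a) • π (Multiplicative.ofAdd a) v := by
  simp [weightProj, LinearMap.sum_apply]

theorem weightProj_mem (χ : AddChar A K) (v : V) : weightProj π χ v ∈ weightSpace π χ := by
  intro b
  rw [weightProj_apply, map_sum, Finset.smul_sum]
  refine Fintype.sum_equiv (Equiv.addLeft b) _ _ fun a => ?_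
  rw [map_smul, ← Module.End.mul_apply, ← map_mul, ← ofAdd_add, Equiv.coe_addLeft, smul_smul,
    ← AddChar.map_add_eq_mul, neg_add_rev]
  congr 2
  abel

theorem weightProj_of_mem {χ η : AddChar A K} {v : V} (hv : v ∈ weightSpace π η) [DecidableEq (AddChar A K)] :
    weightProj π χ v = if χ = η then (Fintype.card A : K) • v else 0 := by
  rw [weightProj_apply]
  simp only [mem_weightSpace π |>.1 hv, smul_smul, ← Finset.sum_smul]
  split_ifs with h
  · subst h
    simp [← AddChar.map_add_eq_mul, Nat.cast_smul_eq_nsmul]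
  · have hne : χ⁻¹ * η ≠ 1 := fun e => h (by
      rw [inv_mul_eq_one] at e
      exact e)
    have := AddChar.sum_eq_zero_of_ne_one hne
    simp only [AddChar.mul_apply, AddChar.inv_apply] at this
    rw [this, zero_smul]

/-- Weight spaces are independent, so their dimensions add up to at most the dimension. -/
theorem card_mul_le_finrank [FiniteDimensional K V] (hA : (Fintype.card A : K) ≠ 0)
    (O : Finset (AddChar A K)) (k : ℕ) (hO : ∀ χ ∈ O, k ≤ Module.finrank K (weightSpace π χ)) :
    O.card * k ≤ Module.finrank K V := by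
  classical
  let f : (∀ χ : ↥O, weightSpace π (χ : AddChar A K)) →ₗ[K] V :=
    { toFun := fun w => ∑ χ : ↥O, (w χ : V)
      map_add' := fun w w' => by simp [Finset.sum_add_distrib]
      map_smul' := fun c w => by simp [Finset.smul_sum] }
  have hf : Function.Injective f := by
    rw [← LinearMap.ker_eq_bot, LinearMap.ker_eq_bot']
    intro w hw
    funext χ
    have h := congrArg (weightProj π (χ : AddChar A K)) hw
    change weightProj π (χ : AddChar A K) (∑ η : ↥O, (w η : V)) = _ at h
    rw [map_sum, map_zero, Finset.sum_congr rfl (fun η _ => weightProj_of_mem π (w η).2),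
      Finset.sum_eq_single χ (fun η _ hne => by rw [if_neg (fun e => hne (Subtype.ext e.symm))]) (by simp),
      if_pos rfl, smul_eq_zero] at h
    exact Subtype.ext (h.resolve_left hA)
  have := LinearMap.finrank_le_finrank_of_injective hf
  rw [Module.finrank_pi_fintype] at this
  refine le_trans ?_ this
  rw [← Fintype.card_coe, ← smul_eq_mul, ← Finset.card_univ, ← Finset.sum_const]
  exact Finset.sum_le_sum fun χ _ => hO χ χ.2

theorem card_le_finrank [FiniteDimensional K V] (hA : (Fintype.card A : K) ≠ 0)
    (O : Finset (AddChar A K)) (hO : ∀ χ ∈ O, weightSpace π χ ≠ ⊥) : O.card ≤ Module.finrank K V := by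
  simpa using card_mul_le_finrank π hA O 1 fun χ hχ => Submodule.one_le_finrank_iff.2 (hO χ hχ)

/-- A weight where `b` acts non-trivially. -/
theorem exists_weight [IsAlgClosed K] (hA : (Fintype.card A : K) ≠ 0) {b : A}
    (hb : π (Multiplicative.ofAdd b) ≠ 1) : ∃ χ : AddChar A K, χ b ≠ 1 ∧ weightSpace π χ ≠ ⊥ := by
  classical
  haveI : NeZero ((Monoid.exponent (Multiplicative A) : ℕ) : K) := ⟨fun h => by
    obtain ⟨c, hc⟩ := (Group.exponent_dvd_card : Monoid.exponent (Multiplicative A) ∣ _)
    have e : Fintype.card (Multiplicative A) = Fintype.card A := Fintype.card_multiplicative A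
    apply hA
    rw [← e, hc, Nat.cast_mul, h, zero_mul]⟩
  have hfin : Finite (AddChar A K) := by
    refine Finite.of_equiv (Multiplicative A →* Kˣ) ?_
    exact MonoidHom.toHomUnitsMulEquiv.symm.toEquiv.trans AddChar.toMonoidHomEquiv.symm
  haveI : Fintype (AddChar A K) := Fintype.ofFinite _
  have hdual : (Fintype.card (AddChar A K) : K) ≠ 0 := by
    rw [← Nat.card_eq_fintype_card, Nat.card_congr (AddChar.toMonoidHomEquiv.trans MonoidHom.toHomUnitsMulEquiv.toEquiv),
      CommGroup.card_monoidHom_of_hasEnoughRootsOfUnity, Nat.card_eq_fintype_card,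
      Fintype.card_multiplicative]
    exact hA
  have hsum : ∀ a : A, a ≠ 0 → ∑ χ : AddChar A K, χ (-a) = 0 := by
    intro a ha
    obtain ⟨φ, hφ⟩ := CommGroup.exists_apply_ne_one_of_hasEnoughRootsOfUnity (Multiplicative A) K
      (a := Multiplicative.ofAdd (-a)) (by simpa using ha)
    set η : AddChar A K := AddChar.toMonoidHomEquiv.symm ((Units.coeHom K).comp φ) with hη
    have hη1 : η (-a) ≠ 1 := fun e => hφ (Units.ext (by simpa [hη] using e))
    have h : η (-a) * ∑ χ : AddChar A K, χ (-a) = ∑ χ : AddChar A K, χ (-a) := by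
      rw [Finset.mul_sum]
      exact Fintype.sum_equiv (Equiv.mulLeft η) _ _ fun χ => by simp [AddChar.mul_apply]
    exact (mul_left_eq_self₀.1 h).resolve_left hη1
  by_contra hno
  push Not at hno
  apply hb
  refine LinearMap.ext fun v => ?_
  have htot : ∀ w : V, ∑ χ : AddChar A K, weightProj π χ w = (Fintype.card (AddChar A K) : K) • w := by
    intro w
    simp only [weightProj_apply]
    rw [Finset.sum_comm]
    simp only [← Finset.sum_smul]
    rw [Finset.sum_eq_single (0 : A) (fun a _ ha => by rw [hsum a ha, zero_smul]) (by simp)]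
    simp
  have h := congrArg (π (Multiplicative.ofAdd b)) (htot v)
  rw [map_sum, map_smul] at h
  have hterm : ∀ χ : AddChar A K, π (Multiplicative.ofAdd b) (weightProj π χ v) = weightProj π χ v := by
    intro χ
    rw [weightProj_mem π χ v b]
    by_cases h1 : χ b = 1
    · rw [h1, one_smul]
    · have := weightProj_mem π χ v
      rw [hno χ h1, Submodule.mem_bot] at this
      rw [this, smul_zero]
  rw [Finset.sum_congr rfl fun χ _ => hterm χ, htot, smul_right_inj hdual] at h
  rw [Module.End.one_apply]
  exact h.symm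

omit [Fintype A] in
/-- Moving weight spaces by an intertwiner. -/
theorem weightSpace_moved (α : A →+ A) (T : V →ₗ[K] V) (hT : Function.Injective T)
    (hint : ∀ a v, π (Multiplicative.ofAdd a) (T v) = T (π (Multiplicative.ofAdd (α a)) v))
    {χ : AddChar A K} (h : weightSpace π χ ≠ ⊥) : weightSpace π (χ.compAddMonoidHom α) ≠ ⊥ := by
  obtain ⟨v, hv, hv0⟩ := Submodule.exists_mem_ne_zero_of_ne_bot h
  refine Submodule.ne_bot_iff _ |>.2 ⟨T v, fun a => ?_, fun e => hv0 (hT (e.trans (map_zero T).symm))⟩
  rw [hint, hv (α a), map_smul, AddChar.compAddMonoidHom_apply]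

omit [Fintype A] in
theorem finrank_weightSpace_moved [FiniteDimensional K V] (α : A →+ A) (T : V →ₗ[K] V) (hT : Function.Injective T)
    (hint : ∀ a v, π (Multiplicative.ofAdd a) (T v) = T (π (Multiplicative.ofAdd (α a)) v)) (χ : AddChar A K) :
    Module.finrank K (weightSpace π χ) ≤ Module.finrank K (weightSpace π (χ.compAddMonoidHom α)) := by
  let f : weightSpace π χ →ₗ[K] weightSpace π (χ.compAddMonoidHom α) :=
    { toFun := fun v => ⟨T v, fun a => by rw [hint, v.2 (α a), map_smul, AddChar.compAddMonoidHom_apply]⟩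
      map_add' := fun v w => Subtype.ext (by simp)
      map_smul' := fun c v => Subtype.ext (by simp) }
  exact LinearMap.finrank_le_finrank_of_injective (f := f) fun v w e =>
    Subtype.ext (hT (congrArg Subtype.val e))

end Weights

section Field

variable {F : Type*} [Field F] {n : Type*} [Fintype n] [DecidableEq n]

/-- Independent families are moved by the general linear group. -/
theorem exists_gl_map {ι : Type*} [Fintype ι] {v w : ι → n → F} (hv : LinearIndependent F v)
    (hw : LinearIndependent F w) : ∃ g : GL n F, ∀ i, (g : Matrix n n F) *ᵥ v i = w i := by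
  obtain ⟨e, he⟩ := Submodule.exists_linearEquiv_restrict_eq
    ((Module.Basis.span hv).equiv (Module.Basis.span hw) (Equiv.refl ι))
  refine ⟨⟨LinearMap.toMatrix' e.toLinearMap, LinearMap.toMatrix' e.symm.toLinearMap, ?_, ?_⟩, fun i => ?_⟩
  · rw [← LinearMap.toMatrix'_comp]; simp
  · rw [← LinearMap.toMatrix'_comp]; simp
  · have h := he (Module.Basis.span hv i)
    rw [Module.Basis.equiv_apply, Equiv.refl_apply, Module.Basis.span_apply, Module.Basis.span_apply] at h
    change LinearMap.toMatrix' e.toLinearMap *ᵥ v i = w i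
    rw [LinearMap.toMatrix'_mulVec]
    exact h.symm

theorem exists_gl_map_one {v w : n → F} (hv : v ≠ 0) (hw : w ≠ 0) :
    ∃ g : GL n F, (g : Matrix n n F) *ᵥ v = w := by
  have hli : ∀ u : n → F, u ≠ 0 → LinearIndependent F (fun _ : Unit => u) := fun u hu =>
    linearIndependent_unique_iff.2 hu
  obtain ⟨g, hg⟩ := exists_gl_map (hli v hv) (hli w hw)
  exact ⟨g, hg ()⟩

variable {K : Type*} [Field K] [Fintype F] [IsAlgClosed K]

omit n in
theorem exists_nontrivial_addChar (hF : (Fintype.card F : K) ≠ 0) : ∃ ψ : AddChar F K, ψ ≠ 1 := by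
  haveI : NeZero ((Monoid.exponent (Multiplicative F) : ℕ) : K) := ⟨fun h => by
    obtain ⟨c, hc⟩ := (Group.exponent_dvd_card : Monoid.exponent (Multiplicative F) ∣ _)
    apply hF
    rw [← Fintype.card_multiplicative F, hc, Nat.cast_mul, h, zero_mul]⟩
  obtain ⟨φ, hφ⟩ := CommGroup.exists_apply_ne_one_of_hasEnoughRootsOfUnity (Multiplicative F) K
    (a := Multiplicative.ofAdd (1 : F)) (by simp)
  refine ⟨AddChar.toMonoidHomEquiv.symm ((Units.coeHom K).comp φ), fun e => hφ (Units.ext ?_)⟩
  simpa using DFunLike.congr_fun e (1 : F)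

omit n in
/-- Every additive character is a shift of a fixed non-trivial one. -/
theorem exists_shift (hF : (Fintype.card F : K) ≠ 0) {ψ : AddChar F K} (hψ : ψ ≠ 1) (φ : AddChar F K) :
    ∃! r : F, ∀ c : F, φ c = ψ (c * r) := by
  haveI : NeZero ((Monoid.exponent (Multiplicative F) : ℕ) : K) := ⟨fun h => by
    obtain ⟨c, hc⟩ := (Group.exponent_dvd_card : Monoid.exponent (Multiplicative F) ∣ _)
    apply hF
    rw [← Fintype.card_multiplicative F, hc, Nat.cast_mul, h, zero_mul]⟩
  have hcard : Nat.card (AddChar F K) = Nat.card F := by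
    rw [Nat.card_congr (AddChar.toMonoidHomEquiv.trans MonoidHom.toHomUnitsMulEquiv.toEquiv),
      CommGroup.card_monoidHom_of_hasEnoughRootsOfUnity]
    exact Nat.card_congr Multiplicative.toAdd
  haveI : Finite (AddChar F K) := Nat.finite_of_card_ne_zero (by rw [hcard]; exact Nat.card_pos.ne')
  have hinj : Function.Injective fun r : F => ψ.mulShift r :=
    AddChar.to_mulShift_inj_of_isPrimitive (AddChar.IsPrimitive.of_ne_one hψ)
  have hbij := (Function.Injective.bijective_of_nat_card_le hinj hcard.le)
  obtain ⟨r, hr⟩ := hbij.2 φ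
  refine ⟨r, fun c => by rw [← hr, AddChar.mulShift_apply, mul_comm], fun r' hr' => ?_⟩
  refine hinj (DFunLike.ext _ _ fun c => ?_)
  rw [AddChar.mulShift_apply, mul_comm r' c, ← hr' c, ← hr]

end Field

end CfsgLib.MinDegree
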