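import Mathlib
import Cfsg.Agent.Lib.MinDegree.Weights

/-!
Representations of the group of symmetric matrices with a compatible action of the general linear group.
-/

namespace CfsgLib.MinDegree

open Matrix

variable {F : Type*} [Field F] {m : ℕ}

/-- The additive group of symmetric matrices. -/
def symA (m : ℕ) (F : Type*) [Field F] : AddSubgroup (Matrix (Fin m) (Fin m) F) where
  carrier := {S | S.IsSymm}
  zero_mem' := Matrix.transpose_zero
  add_mem' := fun {S T} hS hT => hS.add hT
  neg_mem' := fun {S} hS => hS.neg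

theorem mem_symA {S : Matrix (Fin m) (Fin m) F} : S ∈ symA m F ↔ S.IsSymm := Iff.rfl

/-- Congruence by an invertible matrix. -/
def congrAct (g : GL (Fin m) F) : symA m F →+ symA m F where
  toFun S := ⟨(g : Matrix (Fin m) (Fin m) F) * S.1 * (g : Matrix (Fin m) (Fin m) F)ᵀ, by
    rw [mem_symA, Matrix.IsSymm, transpose_mul, transpose_mul, transpose_transpose, S.2.eq, Matrix.mul_assoc]⟩
  map_zero' := Subtype.ext (by simp)
  map_add' S T := Subtype.ext (by simp [Matrix.mul_add, Matrix.add_mul])

/-- The symmetric matrix `c v vᵀ`. -/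
def sq (v : Fin m → F) (c : F) : symA m F :=
  ⟨c • vecMulVec v v, by rw [mem_symA, Matrix.IsSymm, transpose_smul, transpose_vecMulVec]⟩

/-- The symmetric matrix `c (v wᵀ + w vᵀ)`. -/
def sy (v w : Fin m → F) (c : F) : symA m F :=
  ⟨c • (vecMulVec v w + vecMulVec w v), by
    rw [mem_symA, Matrix.IsSymm, transpose_smul, transpose_add, transpose_vecMulVec, transpose_vecMulVec, add_comm]⟩

theorem congrAct_sq (g : GL (Fin m) F) (v : Fin m → F) (c : F) :
    congrAct g (sq v c) = sq ((g : Matrix (Fin m) (Fin m) F) *ᵥ v) c := by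
  apply Subtype.ext
  change (g : Matrix (Fin m) (Fin m) F) * (c • vecMulVec v v) * (g : Matrix (Fin m) (Fin m) F)ᵀ = _
  rw [Matrix.mul_smul, Matrix.smul_mul, mul_vecMulVec, vecMulVec_mul, vecMul_transpose]
  rfl

theorem congrAct_sy (g : GL (Fin m) F) (v w : Fin m → F) (c : F) :
    congrAct g (sy v w c) = sy ((g : Matrix (Fin m) (Fin m) F) *ᵥ v) ((g : Matrix (Fin m) (Fin m) F) *ᵥ w) c := by
  apply Subtype.ext
  change (g : Matrix (Fin m) (Fin m) F) * (c • (vecMulVec v w + vecMulVec w v)) * (g : Matrix (Fin m) (Fin m) F)ᵀ = _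
  rw [Matrix.mul_smul, Matrix.smul_mul, Matrix.mul_add, Matrix.add_mul, mul_vecMulVec, mul_vecMulVec, vecMulVec_mul,
    vecMulVec_mul, vecMul_transpose, vecMul_transpose]
  rfl

/-- The symmetric matrices are generated by the elementary ones. -/
theorem symA_induction {P : symA m F → Prop} (h0 : P 0) (hadd : ∀ S T, P S → P T → P (S + T))
    (hd : ∀ i c, P (sq (Pi.single i 1) c))
    (ho : ∀ i j c, i ≠ j → P (sy (Pi.single i 1) (Pi.single j 1) c)) (S : symA m F) : P S := by
  classical
  have key : S = ∑ i : Fin m, sq (Pi.single i 1) (S.1 i i) +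
      ∑ p ∈ (Finset.univ.filter fun p : Fin m × Fin m => p.1 < p.2),
        sy (Pi.single p.1 1) (Pi.single p.2 1) (S.1 p.1 p.2) := by
    apply Subtype.ext
    ext a b
    simp only [AddSubgroup.coe_add, AddSubgroup.val_finsetSum, sq, sy, Matrix.add_apply, Matrix.sum_apply,
      Matrix.smul_apply, vecMulVec_apply, Pi.single_apply, smul_eq_mul]
    rcases lt_trichotomy a b with h | h | h
    · rw [Finset.sum_eq_zero (fun i _ => ?_), zero_add, Finset.sum_eq_single (a, b)]
      · simp [h.ne, h.ne']
      · rintro ⟨x, y⟩ hxy hne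
        simp only [Finset.mem_filter, Finset.mem_univ, true_and] at hxy
        by_cases hx : a = x <;> by_cases hy : b = y <;> by_cases hx' : a = y <;> by_cases hy' : b = x <;>
          simp_all <;> omega
      · simp [h]
      · by_cases hi : a = i
        · have hbi : b ≠ i := hi ▸ h.ne'
          simp [hbi]
        · simp [hi]
    · subst h
      rw [Finset.sum_eq_single a, Finset.sum_eq_zero (fun p hp => ?_), add_zero]
      · simp
      · simp only [Finset.mem_filter, Finset.mem_univ, true_and] at hp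
        by_cases hx : a = p.1 <;> by_cases hy : a = p.2 <;> simp_all
      · intro i _ hi
        simp [Ne.symm hi]
      · simp
    · rw [Finset.sum_eq_zero (fun i _ => ?_), zero_add, Finset.sum_eq_single (b, a)]
      · simp [h.ne, h.ne', S.2.apply]
      · rintro ⟨x, y⟩ hxy hne
        simp only [Finset.mem_filter, Finset.mem_univ, true_and] at hxy
        by_cases hx : a = x <;> by_cases hy : b = y <;> by_cases hx' : a = y <;> by_cases hy' : b = x <;>
          simp_all <;> omega
      · simp [h]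
      · by_cases hi : a = i
        · have hbi : b ≠ i := hi ▸ h.ne
          simp [hbi]
        · simp [hi]
  rw [key]
  exact hadd _ _ (Finset.sum_induction _ P hadd h0 fun i _ => hd i _)
    (Finset.sum_induction _ P hadd h0 fun p hp => ho p.1 p.2 _ (ne_of_lt (Finset.mem_filter.1 hp).2))

section Forms

variable {K : Type*} [Field K]

/-- The quadratic form and polar form attached to a character of symmetric matrices. -/
structure IsForm (ψ : AddChar F K) (χ : AddChar (symA m F) K) (Q : (Fin m → F) → F)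
    (B : (Fin m → F) → (Fin m → F) → F) : Prop where
  sq_eq : ∀ v c, χ (sq v c) = ψ (c * Q v)
  sy_eq : ∀ v w c, χ (sy v w c) = ψ (c * B v w)

variable [Fintype F]

theorem exists_form [IsAlgClosed K] (hF : (Fintype.card F : K) ≠ 0) {ψ : AddChar F K} (hψ : ψ ≠ 1)
    (χ : AddChar (symA m F) K) : ∃ Q B, IsForm ψ χ Q B := by
  have h1 : ∀ v, ∃ r, ∀ c, χ (sq v c) = ψ (c * r) := fun v => by
    obtain ⟨r, hr, -⟩ := exists_shift hF hψ (χ.compAddMonoidHom
      { toFun := sq v, map_zero' := Subtype.ext (zero_smul F _), map_add' := fun c d => Subtype.ext (add_smul c d _) })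
    exact ⟨r, hr⟩
  have h2 : ∀ v w, ∃ r, ∀ c, χ (sy v w c) = ψ (c * r) := fun v w => by
    obtain ⟨r, hr, -⟩ := exists_shift hF hψ (χ.compAddMonoidHom
      { toFun := sy v w, map_zero' := Subtype.ext (zero_smul F _), map_add' := fun c d => Subtype.ext (add_smul c d _) })
    exact ⟨r, hr⟩
  choose Q hQ using h1
  choose B hB using h2
  exact ⟨Q, B, hQ, hB⟩

omit [Fintype F] in
theorem cancel_shift {ψ : AddChar F K} (hψ : ψ ≠ 1) {r s : F} (h : ∀ c, ψ (c * r) = ψ (c * s)) : r = s :=
  AddChar.to_mulShift_inj_of_isPrimitive (AddChar.IsPrimitive.of_ne_one hψ) (DFunLike.ext _ _ fun c => by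
    rw [AddChar.mulShift_apply, AddChar.mulShift_apply, mul_comm r, mul_comm s, h])

variable {ψ : AddChar F K} (hψ : ψ ≠ 1) {χ : AddChar (symA m F) K} {Q : (Fin m → F) → F}
  {B : (Fin m → F) → (Fin m → F) → F} (hf : IsForm ψ χ Q B)

omit [Fintype F]
include hψ hf

theorem IsForm.map_add (v w : Fin m → F) : Q (v + w) = Q v + Q w + B v w := by
  refine cancel_shift hψ fun c => ?_
  rw [mul_add, mul_add, AddChar.map_add_eq_mul, AddChar.map_add_eq_mul, ← hf.sq_eq, ← hf.sq_eq, ← hf.sq_eq,
    ← hf.sy_eq, ← AddChar.map_add_eq_mul, ← AddChar.map_add_eq_mul]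
  refine congrArg χ (Subtype.ext ?_)
  simp [sq, sy, add_vecMulVec, vecMulVec_add, smul_add]
  abel

theorem IsForm.map_smul (s : F) (v : Fin m → F) : Q (s • v) = s * s * Q v := by
  refine cancel_shift hψ fun c => ?_
  rw [← mul_assoc c, ← hf.sq_eq, ← hf.sq_eq]
  refine congrArg χ (Subtype.ext ?_)
  simp [sq, smul_vecMulVec, vecMulVec_smul, smul_smul]

theorem IsForm.polar_comm (v w : Fin m → F) : B v w = B w v := by
  refine cancel_shift hψ fun c => ?_
  rw [← hf.sy_eq, ← hf.sy_eq]
  exact congrArg χ (Subtype.ext (by simp [sy, add_comm]))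

theorem IsForm.polar_add (u v w : Fin m → F) : B u (v + w) = B u v + B u w := by
  refine cancel_shift hψ fun c => ?_
  rw [mul_add, AddChar.map_add_eq_mul, ← hf.sy_eq, ← hf.sy_eq, ← hf.sy_eq, ← AddChar.map_add_eq_mul]
  refine congrArg χ (Subtype.ext ?_)
  simp [sy, add_vecMulVec, vecMulVec_add, smul_add]
  abel

theorem IsForm.polar_smul (s : F) (v w : Fin m → F) : B v (s • w) = s * B v w := by
  refine cancel_shift hψ fun c => ?_
  rw [← mul_assoc c, ← hf.sy_eq, ← hf.sy_eq]
  refine congrArg χ (Subtype.ext ?_)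
  simp [sy, smul_vecMulVec, vecMulVec_smul, smul_smul, smul_add, mul_comm]

theorem IsForm.polar_self (v : Fin m → F) : B v v = Q v + Q v := by
  refine cancel_shift hψ fun c => ?_
  rw [mul_add, AddChar.map_add_eq_mul, ← hf.sq_eq, ← hf.sy_eq, ← AddChar.map_add_eq_mul]
  exact congrArg χ (Subtype.ext (by simp [sq, sy, smul_add]))

theorem IsForm.line (v w : Fin m → F) (t : F) : Q (w + t • v) = Q w + t * B w v + t * t * Q v := by
  rw [hf.map_add hψ, hf.map_smul hψ, hf.polar_smul hψ]
  ring

omit hψ in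
theorem IsForm.comp (g : GL (Fin m) F) :
    IsForm ψ (χ.compAddMonoidHom (congrAct g)) (fun v => Q ((g : Matrix (Fin m) (Fin m) F) *ᵥ v))
      (fun v w => B ((g : Matrix (Fin m) (Fin m) F) *ᵥ v) ((g : Matrix (Fin m) (Fin m) F) *ᵥ w)) := by
  constructor
  · intro v c
    rw [AddChar.compAddMonoidHom_apply, congrAct_sq, hf.sq_eq]
  · intro v w c
    rw [AddChar.compAddMonoidHom_apply, congrAct_sy, hf.sy_eq]

end Forms

/-- The transvection `x ↦ x + φ(x) v` for `φ(v) = 0`. -/
theorem exists_shear (φ : (Fin m → F) →ₗ[F] F) {v : Fin m → F} (h : φ v = 0) :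
    ∃ g : GL (Fin m) F, ∀ x, (g : Matrix (Fin m) (Fin m) F) *ᵥ x = x + φ x • v := by
  refine ⟨⟨LinearMap.toMatrix' (LinearMap.id + φ.smulRight v), LinearMap.toMatrix' (LinearMap.id - φ.smulRight v),
    ?_, ?_⟩, fun x => ?_⟩
  · rw [← LinearMap.toMatrix'_comp, ← LinearMap.toMatrix'_id]
    congr 1
    refine LinearMap.ext fun x => ?_
    simp [h, map_sub]
  · rw [← LinearMap.toMatrix'_comp, ← LinearMap.toMatrix'_id]
    congr 1
    refine LinearMap.ext fun x => ?_
    simp [h, map_add]
  · change LinearMap.toMatrix' (LinearMap.id + φ.smulRight v) *ᵥ x = _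
    rw [LinearMap.toMatrix'_mulVec]
    simp

theorem card_vanishing [Fintype F] {ι : Type*} [Fintype ι] {v : ι → Fin m → F} (hv : LinearIndependent F v) :
    Nat.card {φ : (Fin m → F) →ₗ[F] F // ∀ i, φ (v i) = 0} = Fintype.card F ^ (m - Fintype.card ι) := by
  classical
  set W := Submodule.span F (Set.range v)
  have e : Nat.card {φ : (Fin m → F) →ₗ[F] F // ∀ i, φ (v i) = 0} = Nat.card W.dualAnnihilator := by
    refine Nat.card_congr (Equiv.subtypeEquivRight fun φ => ?_)
    rw [Submodule.mem_dualAnnihilator]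
    refine ⟨fun h x hx => ?_, fun h i => h _ (Submodule.subset_span ⟨i, rfl⟩)⟩
    induction hx using Submodule.span_induction with
    | mem x hx => obtain ⟨i, rfl⟩ := hx; exact h i
    | zero => simp
    | add a b _ _ ha hb => simp [ha, hb]
    | smul c a _ ha => simp [ha]
  have hfin := Subspace.finrank_add_finrank_dualAnnihilator_eq W
  rw [finrank_span_eq_card hv, Module.finrank_fin_fun] at hfin
  rw [e, Module.natCard_eq_pow_finrank (K := F), Nat.card_eq_fintype_card, show m - Fintype.card ι =
    Module.finrank F W.dualAnnihilator by omega]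

/-- Fibres of size at most `k` over a hyperplane section. -/
theorem count_by_lines [Fintype F] (P : (Fin m → F) → Prop) {e : Fin m → F} (he : e ≠ 0) (k : ℕ)
    (hk : ∀ u, Nat.card {t : F // P (u + t • e)} ≤ k) :
    Nat.card {v // P v} ≤ k * Fintype.card F ^ (m - 1) := by
  classical
  obtain ⟨i, hi⟩ := Function.ne_iff.1 he
  have hcard : Fintype.card {u : Fin m → F // u i = 0} = Fintype.card F ^ (m - 1) := by
    rw [← Fintype.card_congr (β := {u : Fin m → F // u i = 0}) (α := {j : Fin m // j ≠ i} → F)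
      { toFun := fun f => ⟨fun j => if h : j = i then 0 else f ⟨j, h⟩, by simp⟩
        invFun := fun u j => u.1 j
        left_inv := fun f => funext fun j => by simp [j.2]
        right_inv := fun u => Subtype.ext (funext fun j => by
          by_cases h : j = i
          · subst h; simp [u.2]
          · simp [h]) }]
    simp [Fintype.card_subtype_compl]
  let f : {v // P v} → {u : Fin m → F // u i = 0} := fun v =>
    ⟨v.1 - (v.1 i / e i) • e, by simp [div_mul_cancel₀ _ hi]⟩
  rw [← Nat.card_congr (Equiv.sigmaFiberEquiv f), Nat.card_sigma, ← hcard, ← Finset.card_univ, mul_comm,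
    ← smul_eq_mul, ← Finset.sum_const]
  refine Finset.sum_le_sum fun u _ => le_trans ?_ (hk u.1)
  have hmem : ∀ v : {v // f v = u}, P (u.1 + (v.1.1 i / e i) • e) := fun v => by
    have h2 : v.1.1 - (v.1.1 i / e i) • e = u.1 := congrArg Subtype.val v.2
    rw [← h2, sub_add_cancel]; exact v.1.2
  refine Nat.card_le_card_of_injective (fun v : {v // f v = u} => (⟨v.1.1 i / e i, hmem v⟩ : {t : F // P (u.1 + t • e)})) ?_
  rintro ⟨v, hv⟩ ⟨w, hw⟩ h
  have h1 : v.1 i / e i = w.1 i / e i := congrArg Subtype.val h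
  have h2 : v.1 - (v.1 i / e i) • e = w.1 - (w.1 i / e i) • e := congrArg Subtype.val (hv.trans hw.symm)
  rw [h1, sub_left_inj] at h2
  exact Subtype.ext (Subtype.ext h2)

section Bound

variable {K : Type*} [Field K] [IsAlgClosed K] {V : Type*} [AddCommGroup V] [Module K V] [FiniteDimensional K V]

omit [IsAlgClosed K] [FiniteDimensional K V] in
theorem at_most_two [Fintype F] (a b c : F) (h : a ≠ 0) : Nat.card {t : F // a * (t * t) + b * t + c = 0} ≤ 2 := by
  classical
  set p : Polynomial F := Polynomial.C a * Polynomial.X ^ 2 + Polynomial.C b * Polynomial.X + Polynomial.C c with hp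
  have hdeg : p.natDegree = 2 := Polynomial.natDegree_quadratic h
  have hp0 : p ≠ 0 := fun e => by rw [e] at hdeg; simp at hdeg
  rw [Nat.card_eq_fintype_card, Fintype.card_subtype]
  refine le_trans (Finset.card_le_card (t := p.roots.toFinset) fun t ht => ?_)
    (le_trans (Multiset.toFinset_card_le _) (hdeg ▸ Polynomial.card_roots' p))
  rw [Multiset.mem_toFinset, Polynomial.mem_roots hp0]
  simpa [hp, pow_two] using (Finset.mem_filter.1 ht).2

/-- Odd characteristic: a non-trivial representation of the symmetric matrices, moved by the linear group, has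
dimension at least `(q^m - 1)/2`. -/
theorem sym_bound_odd [Fintype F] (hF : (Fintype.card F : K) ≠ 0) (h2 : (2 : F) ≠ 0)
    (π : Multiplicative (symA m F) →* Module.End K V)
    (hmove : ∀ g : GL (Fin m) F, ∃ T : V →ₗ[K] V, Function.Injective T ∧
      ∀ a v, π (Multiplicative.ofAdd a) (T v) = T (π (Multiplicative.ofAdd (congrAct g a)) v))
    (hne : ∃ a, π (Multiplicative.ofAdd a) ≠ 1) :
    Fintype.card F ^ m - 1 ≤ 2 * Module.finrank K V := by
  classical
  haveI : Fintype (symA m F) := Fintype.ofFinite _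
  have hA : (Fintype.card (symA m F) : K) ≠ 0 := by
    obtain ⟨p, hp⟩ := CharP.exists F
    haveI := hp
    obtain ⟨k, hpp, hk⟩ := FiniteField.card F p
    haveI : Fact p.Prime := ⟨hpp⟩
    have hP : IsPGroup p (Multiplicative (Matrix (Fin m) (Fin m) F)) := IsPGroup.of_card (n := k * (m * m)) (by
      change Nat.card (Matrix (Fin m) (Fin m) F) = _
      rw [Module.natCard_eq_pow_finrank (K := F), Nat.card_eq_fintype_card, hk, ← pow_mul, Module.finrank_matrix]
      simp)
    obtain ⟨j, hj⟩ := (hP.to_subgroup (AddSubgroup.toSubgroup (symA m F))).exists_card_eq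
    have e : Fintype.card (symA m F) = p ^ j := by
      rw [← Nat.card_eq_fintype_card, ← hj]
      exact Nat.card_congr ((Multiplicative.ofAdd).subtypeEquiv fun a => Iff.rfl)
    have hp0 : (p : K) ≠ 0 := fun h0 => hF (by rw [hk, Nat.cast_pow, h0, zero_pow k.pos.ne'])
    rw [e, Nat.cast_pow]
    exact pow_ne_zero _ hp0
  obtain ⟨ψ, hψ⟩ := exists_nontrivial_addChar (K := K) (F := F) hF
  choose Q B hf using fun χ => exists_form (m := m) hF hψ χ
  haveI : Finite (AddChar (symA m F) K) := finite_addChar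
  haveI : Fintype (AddChar (symA m F) K) := Fintype.ofFinite _
  obtain ⟨a, ha⟩ := hne
  obtain ⟨χ₀, hχa, hW₀⟩ := exists_weight π hA ha
  obtain ⟨v₀, hv₀⟩ : ∃ v, Q χ₀ v ≠ 0 := by
    by_contra hall
    push Not at hall
    refine hχa ?_
    revert a
    suffices h : ∀ a, χ₀ a = 1 by exact fun a _ _ => h a
    refine fun a => symA_induction (P := fun a => χ₀ a = 1) (AddChar.map_zero_eq_one _)
      (fun S T hS hT => by rw [AddChar.map_add_eq_mul, hS, hT, one_mul])
      (fun i c => by rw [(hf χ₀).sq_eq, hall, mul_zero, AddChar.map_zero_eq_one]) (fun i j c _ => ?_) a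
    have := (hf χ₀).map_add hψ (Pi.single i 1) (Pi.single j 1)
    rw [hall, hall, hall, zero_add, zero_add] at this
    rw [(hf χ₀).sy_eq, ← this, mul_zero, AddChar.map_zero_eq_one]
  set c := Q χ₀ v₀ with hc
  have hv0 : v₀ ≠ 0 := fun e => hv₀ (by
    rw [hc, e, show (0 : Fin m → F) = (0 : F) • 0 by simp, (hf χ₀).map_smul hψ]; simp)
  set O : Finset (AddChar (symA m F) K) :=
    Finset.univ.filter fun χ => weightSpace π χ ≠ ⊥ ∧ ∃ v, Q χ v = c with hO
  have hdim : O.card ≤ Module.finrank K V := card_le_finrank π hA O fun χ hχ => (Finset.mem_filter.1 hχ).2.1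
  refine le_trans ?_ (Nat.mul_le_mul_left 2 hdim)
  have hQc : ∀ (χ : AddChar (symA m F) K) (g : GL (Fin m) F) x,
      Q (χ.compAddMonoidHom (congrAct g)) x = Q χ ((g : Matrix (Fin m) (Fin m) F) *ᵥ x) := fun χ g x =>
    cancel_shift hψ fun d => by rw [← (hf _).sq_eq, ((hf χ).comp g).sq_eq]
  have hBc : ∀ (χ : AddChar (symA m F) K) (g : GL (Fin m) F) x y, B (χ.compAddMonoidHom (congrAct g)) x y =
      B χ ((g : Matrix (Fin m) (Fin m) F) *ᵥ x) ((g : Matrix (Fin m) (Fin m) F) *ᵥ y) := fun χ g x y =>
    cancel_shift hψ fun d => by rw [← (hf _).sy_eq, ((hf χ).comp g).sy_eq]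
  haveI : Finite ((Fin m → F) →ₗ[F] F) := Module.finite_of_finite F
  haveI : ∀ v : Fin m → F, Fintype {φ : (Fin m → F) →ₗ[F] F // ∀ _ : Unit, φ v = 0} := fun v => Fintype.ofFinite _
  set P := Finset.univ.filter fun v : Fin m → F => v ≠ 0 with hP
  have hPc : P.card = Fintype.card F ^ m - 1 := by
    rw [hP, Finset.filter_ne', Finset.card_erase_of_mem (Finset.mem_univ _), Finset.card_univ, Fintype.card_fun,
      Fintype.card_fin]
  have key := Finset.card_mul_le_card_mul (fun v χ => Q χ v = c) (s := P) (t := O)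
    (m := Fintype.card F ^ (m - 1)) (n := 2 * Fintype.card F ^ (m - 1)) (fun v hv => ?_) (fun χ hχ => ?_)
  · rw [hPc] at key
    exact Nat.le_of_mul_le_mul_right (key.trans_eq (by ring)) (Nat.pow_pos (n := m - 1) Fintype.card_pos)
  · have hv' := (Finset.mem_filter.1 hv).2
    obtain ⟨g, hg⟩ := exists_gl_map_one (n := Fin m) hv' hv0
    obtain ⟨T, hT, hint⟩ := hmove g
    set χ := χ₀.compAddMonoidHom (congrAct g) with hχdef
    have hW : weightSpace π χ ≠ ⊥ := weightSpace_moved π (congrAct g) T hT hint hW₀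
    have hQv : Q χ v = c := by rw [hQc, hg]
    have hcard := card_vanishing (F := F) (m := m) (v := fun _ : Unit => v) (linearIndependent_unique_iff.2 hv')
    rw [Fintype.card_unit, Nat.card_eq_fintype_card] at hcard
    rw [← hcard]
    choose s hs using fun φ : {φ : (Fin m → F) →ₗ[F] F // ∀ _ : Unit, φ v = 0} => exists_shear φ.1 (φ.2 ())
    refine Finset.card_le_card_of_injOn (fun φ => χ.compAddMonoidHom (congrAct (s φ))) (fun φ _ => ?_) ?_
    · obtain ⟨T', hT', hint'⟩ := hmove (s φ)
      have hq : Q (χ.compAddMonoidHom (congrAct (s φ))) v = c := by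
        rw [hQc, hs, φ.2 (), zero_smul, add_zero, hQv]
      simp only [Finset.mem_coe, Finset.mem_bipartiteAbove, hO, Finset.mem_filter, Finset.mem_univ, true_and]
      exact ⟨⟨weightSpace_moved π _ T' hT' hint' hW, v, hq⟩, hq⟩
    · intro φ _ φ' _ h
      refine Subtype.ext (LinearMap.ext fun x => ?_)
      have h' := congrArg (fun η => B η v x) h
      simp only [hBc, hs, φ.2 (), φ'.2 (), zero_smul, add_zero] at h'
      rw [(hf χ).polar_add hψ, (hf χ).polar_add hψ, (hf χ).polar_smul hψ, (hf χ).polar_smul hψ,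
        (hf χ).polar_self hψ, hQv, add_right_inj] at h'
      exact mul_right_cancel₀ (by rw [← two_mul]; exact mul_ne_zero h2 hv₀) h'
  · obtain ⟨e, he⟩ := (Finset.mem_filter.1 hχ).2.2
    have he0 : e ≠ 0 := fun h0 => hv₀ (by
      rw [← he, h0, show (0 : Fin m → F) = (0 : F) • 0 by simp, (hf χ).map_smul hψ]; simp)
    refine le_trans ?_ (count_by_lines (fun v => Q χ v = c) he0 2 fun u => ?_)
    · rw [Nat.card_eq_fintype_card, Fintype.card_subtype]
      refine Finset.card_le_card fun v hv => ?_
      simp only [Finset.mem_bipartiteBelow] at hv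
      simp [hv.2]
    · refine le_of_eq_of_le (Nat.card_congr (Equiv.subtypeEquivRight fun t => ?_))
        (at_most_two c (B χ u e) (Q χ u - c) hv₀)
      rw [(hf χ).line hψ, he]
      constructor <;> intro h <;> linear_combination h

end Bound

end CfsgLib.MinDegree
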