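import Mathlib
import Cfsg.Agent.Lib.MinDegree.Weights
import Cfsg.Agent.Lib.MinDegree.SymOdd
import Cfsg.Agent.Lib.Transvec.Unitary

/-!
Representations of the group of Hermitian matrices over a finite field with a compatible action of linear maps.
-/

namespace CfsgLib.MinDegree

open Matrix

variable {F : Type*} [Field F]

/-- Conjugate transpose for a field automorphism. -/
def star' (σ : F ≃+* F) {a b : Type*} (M : Matrix a b F) : Matrix b a F := (M.map σ)ᵀ

section Star

variable (σ : F ≃+* F) {a b c : Type*}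

theorem star'_apply (M : Matrix a b F) (i : b) (j : a) : star' σ M i j = σ (M j i) := rfl

theorem star'_mul [Fintype b] (M : Matrix a b F) (N : Matrix b c F) : star' σ (M * N) = star' σ N * star' σ M := by
  rw [star', star', star', Matrix.map_mul, transpose_mul]

theorem star'_add (M N : Matrix a b F) : star' σ (M + N) = star' σ M + star' σ N := by
  ext i j; simp [star'_apply]

theorem star'_sub (M N : Matrix a b F) : star' σ (M - N) = star' σ M - star' σ N := by
  ext i j; simp [star'_apply]

theorem star'_one [DecidableEq a] : star' σ (1 : Matrix a a F) = 1 := by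
  ext i j
  by_cases h : i = j
  · subst h; simp [star'_apply]
  · simp [star'_apply, h, Ne.symm h]

theorem star'_zero : star' σ (0 : Matrix a b F) = 0 := by
  ext i j; simp [star'_apply]

theorem star'_smul (r : F) (M : Matrix a b F) : star' σ (r • M) = σ r • star' σ M := by
  ext i j; simp [star'_apply]

theorem star'_star' (hinv : ∀ x, σ (σ x) = x) (M : Matrix a b F) : star' σ (star' σ M) = M := by
  ext i j; simp [star'_apply, hinv]

theorem star'_vecMulVec (v : a → F) (w : b → F) : star' σ (vecMulVec v w) = vecMulVec (σ ∘ w) (σ ∘ v) := by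
  ext i j; simp [star'_apply, vecMulVec_apply, mul_comm]

end Star

variable {m : ℕ} (σ : F ≃+* F)

/-- The additive group of Hermitian matrices. -/
def hermA (σ : F ≃+* F) (m : ℕ) : AddSubgroup (Matrix (Fin m) (Fin m) F) where
  carrier := {M | star' σ M = M}
  zero_mem' := star'_zero σ
  add_mem' := fun {M N} (hM : star' σ M = M) (hN : star' σ N = N) => show star' σ (M + N) = M + N by
    rw [star'_add, hM, hN]
  neg_mem' := fun {M} (hM : star' σ M = M) => show star' σ (-M) = -M by
    conv_rhs => rw [← hM]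
    ext i j; simp [star'_apply]

theorem mem_hermA {M : Matrix (Fin m) (Fin m) F} : M ∈ hermA σ m ↔ star' σ M = M := Iff.rfl

/-- The fixed field. -/
abbrev fixF (σ : F ≃+* F) : Subfield F := RingHom.eqLocusField (σ : F →+* F) (RingHom.id F)

theorem fix_apply (c : fixF σ) : σ (c : F) = c := c.2

variable {σ} (hinv : ∀ x, σ (σ x) = x)

/-- Congruence. -/
def hermCongr (g : GL (Fin m) F) : hermA σ m →+ hermA σ m where
  toFun M := ⟨(g : Matrix (Fin m) (Fin m) F) * M.1 * star' σ (g : Matrix (Fin m) (Fin m) F), by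
    rw [mem_hermA, star'_mul, star'_mul, star'_star' σ hinv, (mem_hermA σ).1 M.2, Matrix.mul_assoc]⟩
  map_zero' := Subtype.ext (by simp)
  map_add' M N := Subtype.ext (by simp [Matrix.mul_add, Matrix.add_mul])

include hinv in
theorem tr_fix (z : F) : z + σ z ∈ fixF σ := by
  change σ (z + σ z) = z + σ z
  rw [map_add, hinv, add_comm]

/-- The trace to the fixed field. -/
def trFix : F →+ fixF σ where
  toFun z := ⟨z + σ z, tr_fix hinv z⟩
  map_zero' := Subtype.ext (by simp)
  map_add' a b := Subtype.ext (by simp; abel)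

/-- The Hermitian matrix `c v v*`. -/
def sqH (v : Fin m → F) : fixF σ →+ hermA σ m where
  toFun c := ⟨(c : F) • vecMulVec v (σ ∘ v), by
    rw [mem_hermA, star'_smul, fix_apply, star'_vecMulVec]
    congr 1
    ext i j; simp [vecMulVec_apply, hinv]⟩
  map_zero' := Subtype.ext (by simp)
  map_add' c d := Subtype.ext (by simp [add_smul])

/-- The Hermitian matrix `z v w* + σ z w v*`. -/
def syH (v w : Fin m → F) : F →+ hermA σ m where
  toFun z := ⟨z • vecMulVec v (σ ∘ w) + σ z • vecMulVec w (σ ∘ v), by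
    rw [mem_hermA, star'_add, star'_smul, star'_smul, hinv, star'_vecMulVec, star'_vecMulVec, add_comm]
    congr 2 <;> (ext i j; simp [vecMulVec_apply, hinv])⟩
  map_zero' := Subtype.ext (by simp)
  map_add' a b := Subtype.ext (by simp [add_smul]; abel)

theorem hermCongr_sq (g : GL (Fin m) F) (v : Fin m → F) (c : fixF σ) :
    hermCongr hinv g (sqH hinv v c) = sqH hinv ((g : Matrix (Fin m) (Fin m) F) *ᵥ v) c := by
  apply Subtype.ext
  change (g : Matrix (Fin m) (Fin m) F) * ((c : F) • vecMulVec v (σ ∘ v)) * star' σ (g : Matrix (Fin m) (Fin m) F) = _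
  rw [Matrix.mul_smul, Matrix.smul_mul, mul_vecMulVec, vecMulVec_mul]
  change (c : F) • vecMulVec _ _ = (c : F) • vecMulVec _ _
  congr 2
  funext i
  simp [vecMul, dotProduct, star'_apply, mulVec, map_sum, mul_comm]

theorem hermCongr_sy (g : GL (Fin m) F) (v w : Fin m → F) (z : F) :
    hermCongr hinv g (syH hinv v w z) =
      syH hinv ((g : Matrix (Fin m) (Fin m) F) *ᵥ v) ((g : Matrix (Fin m) (Fin m) F) *ᵥ w) z := by
  apply Subtype.ext
  change (g : Matrix (Fin m) (Fin m) F) * (z • vecMulVec v (σ ∘ w) + σ z • vecMulVec w (σ ∘ v)) *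
    star' σ (g : Matrix (Fin m) (Fin m) F) = _
  rw [Matrix.mul_add, Matrix.add_mul, Matrix.mul_smul, Matrix.smul_mul, Matrix.mul_smul, Matrix.smul_mul,
    mul_vecMulVec, mul_vecMulVec, vecMulVec_mul, vecMulVec_mul]
  change z • vecMulVec _ _ + σ z • vecMulVec _ _ = z • vecMulVec _ _ + σ z • vecMulVec _ _
  congr 3 <;> (funext i; simp [vecMul, dotProduct, star'_apply, mulVec, map_sum, mul_comm])

theorem sqH_shift (v w : Fin m → F) (t : F) (c : fixF σ) :
    sqH hinv (w + t • v) c = sqH hinv w c + sqH hinv v ⟨(c : F) * (t * σ t), by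
      change σ ((c : F) * (t * σ t)) = (c : F) * (t * σ t)
      rw [map_mul, map_mul, fix_apply, hinv]; ring⟩ + syH hinv w v ((c : F) * σ t) := by
  apply Subtype.ext
  ext i j
  simp [sqH, syH, vecMulVec_apply, fix_apply, hinv]
  ring

theorem syH_shift (v x : Fin m → F) (r z : F) :
    syH hinv v (x + r • v) z = syH hinv v x z + sqH hinv v (trFix hinv (z * σ r)) := by
  apply Subtype.ext
  ext i j
  simp [sqH, syH, trFix, vecMulVec_apply, hinv]
  ring

/-- The elementary Hermitian matrices generate. -/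
theorem hermA_induction {P : hermA σ m → Prop} (h0 : P 0) (hadd : ∀ M N, P M → P N → P (M + N))
    (hd : ∀ i c, P (sqH hinv (Pi.single i 1) c))
    (ho : ∀ i j z, i ≠ j → P (syH hinv (Pi.single i 1) (Pi.single j 1) z)) (M : hermA σ m) : P M := by
  classical
  have hM : ∀ a b, σ (M.1 a b) = M.1 b a := fun a b => congrFun₂ ((mem_hermA σ).1 M.2) b a
  have key : M = ∑ i : Fin m, sqH hinv (Pi.single i 1) ⟨M.1 i i, hM i i⟩ +
      ∑ p ∈ (Finset.univ.filter fun p : Fin m × Fin m => p.1 < p.2),
        syH hinv (Pi.single p.1 1) (Pi.single p.2 1) (M.1 p.1 p.2) := by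
    apply Subtype.ext
    ext a b
    simp only [AddSubgroup.coe_add, AddSubgroup.val_finsetSum, sqH, syH, AddMonoidHom.coe_mk, ZeroHom.coe_mk,
      Matrix.add_apply, Matrix.sum_apply, Matrix.smul_apply, vecMulVec_apply, Function.comp_apply, Pi.single_apply,
      smul_eq_mul, apply_ite σ, map_one, map_zero, hM]
    rcases lt_trichotomy a b with h | h | h
    · rw [Finset.sum_eq_zero (fun i _ => ?_), zero_add, Finset.sum_eq_single (a, b)]
      · simp [h.ne, h.ne']
      · rintro ⟨x, y⟩ hxy hne
        simp only [Finset.mem_filter, Finset.mem_univ, true_and] at hxy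
        by_cases hx : a = x <;> by_cases hy : b = y <;> by_cases hx' : a = y <;> by_cases hy' : b = x <;>
          simp_all <;> omega
      · simp [h]
      · by_cases hi : a = i
        · have hbi : b ≠ i := hi ▸ h.ne'
          simp [hbi]
        · simp [hi]
    · subst h
      rw [Finset.sum_eq_single a, Finset.sum_eq_zero (fun p hp => ?_), add_zero]
      · simp
      · simp only [Finset.mem_filter, Finset.mem_univ, true_and] at hp
        by_cases hx : a = p.1 <;> by_cases hy : a = p.2 <;> simp_all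
      · intro i _ hi
        simp [Ne.symm hi]
      · simp
    · rw [Finset.sum_eq_zero (fun i _ => ?_), zero_add, Finset.sum_eq_single (b, a)]
      · simp [h.ne, h.ne']
      · rintro ⟨x, y⟩ hxy hne
        simp only [Finset.mem_filter, Finset.mem_univ, true_and] at hxy
        by_cases hx : a = x <;> by_cases hy : b = y <;> by_cases hx' : a = y <;> by_cases hy' : b = x <;>
          simp_all <;> omega
      · simp [h]
      · by_cases hi : a = i
        · have hbi : b ≠ i := hi ▸ h.ne
          simp [hbi]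
        · simp [hi]
  rw [key]
  exact hadd _ _ (Finset.sum_induction _ P hadd h0 fun i _ => hd i _)
    (Finset.sum_induction _ P hadd h0 fun p hp => ho p.1 p.2 _ (ne_of_lt (Finset.mem_filter.1 hp).2))

section Bound

variable [Fintype F] {K : Type*} [Field K] [IsAlgClosed K] {V : Type*} [AddCommGroup V] [Module K V]
  [FiniteDimensional K V]

/-- A non-trivial weight is non-zero on some rank-one Hermitian matrix. -/
theorem exists_sq_ne_one (hne' : σ ≠ RingEquiv.refl F) (χ : AddChar (hermA σ m) K) (hχ : χ ≠ 1)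
    {ψ : AddChar (fixF σ) K} (hψ : ψ ≠ 1) (hF : (Fintype.card F : K) ≠ 0) :
    ∃ v c, χ (sqH hinv v c) ≠ 1 := by
  by_contra hall
  push Not at hall
  refine hχ (DFunLike.ext _ _ fun M => ?_)
  refine hermA_induction hinv (P := fun M => χ M = 1) (AddChar.map_zero_eq_one _)
    (fun S T hS hT => by rw [AddChar.map_add_eq_mul, hS, hT, one_mul]) (fun i c => hall _ _) (fun i j z _ => ?_) M
  have h := hall (Pi.single i 1 + σ z • Pi.single j 1) 1
  rw [sqH_shift, AddChar.map_add_eq_mul, AddChar.map_add_eq_mul, hall, hall, one_mul, one_mul] at h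
  simpa [hinv] using h

theorem norm_fibre (q : ℕ) (hσ : ∀ x, σ x = x ^ q) (a β : F) :
    Nat.card {t : F // (t + β) * σ (t + β) = a} ≤ q + 1 := by
  classical
  set p : Polynomial F := Polynomial.X ^ (q + 1) - Polynomial.C a with hp
  have hdeg : p.natDegree = q + 1 := by rw [hp, Polynomial.natDegree_X_pow_sub_C]
  have hp0 : p ≠ 0 := fun e => by rw [e] at hdeg; simp at hdeg
  rw [Nat.card_eq_fintype_card, Fintype.card_subtype]
  refine le_trans ?_ (le_trans (Multiset.toFinset_card_le _) (hdeg ▸ Polynomial.card_roots' p))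
  refine Finset.card_le_card_of_injOn (fun t => t + β) (fun t ht => ?_) (fun x _ y _ h => add_right_cancel h)
  simp only [Finset.mem_coe, Multiset.mem_toFinset]
  rw [Polynomial.mem_roots hp0]
  have h' := (Finset.mem_filter.1 ht).2
  simp only [hp, Polynomial.IsRoot.def, Polynomial.eval_sub, Polynomial.eval_pow, Polynomial.eval_X, Polynomial.eval_C]
  rw [pow_succ', ← hσ, h', sub_self]

theorem card_sub_ne_zero {M : Type*} [AddCommGroup M] [Module F M] [Finite M] (A : AddSubgroup M) [Fintype A]
    (hF : (Fintype.card F : K) ≠ 0) : (Fintype.card A : K) ≠ 0 := by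
  intro h0
  obtain ⟨r, hr⟩ : Nat.card A ∣ Nat.card M := AddSubgroup.card_addSubgroup_dvd_card _
  rw [Module.natCard_eq_pow_finrank (K := F), Nat.card_eq_fintype_card, Nat.card_eq_fintype_card] at hr
  have := congrArg (fun k : ℕ => (k : K)) hr
  simp [h0, hF] at this

/-- The bound from the weights of the Hermitian matrices; `k` bounds below each weight space of a weight that is
non-trivial on some rank-one matrix. -/
theorem herm_bound (q : ℕ) (hq2 : Fintype.card F = q ^ 2) (hσ : ∀ x, σ x = x ^ q) (hne' : σ ≠ RingEquiv.refl F)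
    (hF : (Fintype.card F : K) ≠ 0) (hm : 1 ≤ m)
    (π : Multiplicative (hermA σ m) →* Module.End K V)
    (Good : GL (Fin m) F → Prop)
    (htrans : ∀ v w : Fin m → F, v ≠ 0 → w ≠ 0 → ∃ g, Good g ∧ (g : Matrix (Fin m) (Fin m) F) *ᵥ v = w)
    (hdet : ∀ g : GL (Fin m) F, (g : Matrix (Fin m) (Fin m) F).det = 1 → Good g)
    (hmove : ∀ g, Good g → ∃ T : V →ₗ[K] V, Function.Injective T ∧
      ∀ a v, π (Multiplicative.ofAdd a) (T v) = T (π (Multiplicative.ofAdd (hermCongr hinv g a)) v))
    (hne : ∃ a, π (Multiplicative.ofAdd a) ≠ 1) (k : ℕ)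
    (hk : ∀ χ : AddChar (hermA σ m) K, weightSpace π χ ≠ ⊥ → (∃ v c, χ (sqH hinv v c) ≠ 1) →
      k ≤ Module.finrank K (weightSpace π χ)) :
    (q ^ (2 * m) - 1) * k ≤ (q + 1) * Module.finrank K V := by
  classical
  haveI : Fintype (hermA σ m) := Fintype.ofFinite _
  have hA : (Fintype.card (hermA σ m) : K) ≠ 0 := card_sub_ne_zero (hermA σ m) hF
  haveI : Fintype (fixF σ) := Fintype.ofFinite _
  have hK0 : (Fintype.card (fixF σ) : K) ≠ 0 := by
    exact card_sub_ne_zero (fixF σ).toAddSubgroup hF
  haveI : Finite (AddChar (hermA σ m) K) := finite_addChar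
  haveI : Fintype (AddChar (hermA σ m) K) := Fintype.ofFinite _
  obtain ⟨ψ, hψ⟩ := exists_nontrivial_addChar (K := K) (F := fixF σ) hK0
  have hshift := fun (η : AddChar (fixF σ) K) => exists_shift hK0 hψ η
  choose Q hQ using fun (χ : AddChar (hermA σ m) K) (v : Fin m → F) =>
    (hshift (χ.compAddMonoidHom (sqH hinv v))).exists
  set ψ₁ : AddChar F K := ψ.compAddMonoidHom (trFix hinv) with hψ₁def
  have hψ₁ : ψ₁ ≠ 1 := by
    obtain ⟨t, ht⟩ := AddChar.ne_one_iff.1 hψ
    obtain ⟨a, ha⟩ := CfsgLib.Transvec.Unitary.exists_trace_eq hne' hinv (b := (t : F)) t.2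
    refine AddChar.ne_one_iff.2 ⟨a, ?_⟩
    simpa [hψ₁def, trFix, ha] using ht
  have hshiftF := fun (η : AddChar F K) => exists_shift hF hψ₁ η
  choose B hB using fun (χ : AddChar (hermA σ m) K) (v w : Fin m → F) =>
    (hshiftF (χ.compAddMonoidHom (syH hinv v w))).exists
  have hQ' : ∀ χ v c, χ (sqH hinv v c) = ψ (c * Q χ v) := hQ
  have hB' : ∀ χ v w z, χ (syH hinv v w z) = ψ₁ (z * B χ v w) := hB
  have hQc : ∀ χ (g : GL (Fin m) F) x, Q (χ.compAddMonoidHom (hermCongr hinv g)) x = Q χ ((g : Matrix (Fin m) (Fin m) F) *ᵥ x) :=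
    fun χ g x => cancel_shift hψ fun c => by
      rw [← hQ', ← hQ', AddChar.compAddMonoidHom_apply, hermCongr_sq]
  have hBc : ∀ χ (g : GL (Fin m) F) x y, B (χ.compAddMonoidHom (hermCongr hinv g)) x y =
      B χ ((g : Matrix (Fin m) (Fin m) F) *ᵥ x) ((g : Matrix (Fin m) (Fin m) F) *ᵥ y) :=
    fun χ g x y => cancel_shift hψ₁ fun c => by
      rw [← hB', ← hB', AddChar.compAddMonoidHom_apply, hermCongr_sy]
  have hBshift : ∀ χ v x r, B χ v (x + r • v) = B χ v x + σ r * (Q χ v : F) := fun χ v x r =>
    cancel_shift hψ₁ fun z => by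
      rw [mul_add, AddChar.map_add_eq_mul, ← hB', ← hB', syH_shift, AddChar.map_add_eq_mul, hQ']
      congr 1
      refine congrArg ψ (Subtype.ext ?_)
      simp [trFix, hinv, fix_apply]
      ring
  obtain ⟨a, ha⟩ := hne
  obtain ⟨χ₀, hχa, hW₀⟩ := exists_weight π hA ha
  obtain ⟨v₀, c₀, hv₀c⟩ := exists_sq_ne_one hinv hne' χ₀ (fun e => hχa (by rw [e]; rfl)) hψ hF
  have hv₀ : Q χ₀ v₀ ≠ 0 := fun e => hv₀c (by rw [hQ', e, mul_zero, AddChar.map_zero_eq_one])
  set c := Q χ₀ v₀ with hc
  have hQ0 : ∀ χ, Q χ 0 = 0 := fun χ => cancel_shift hψ fun d => by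
    rw [mul_zero, AddChar.map_zero_eq_one, ← hQ',
      show sqH hinv (0 : Fin m → F) d = 0 from Subtype.ext (by simp [sqH]), AddChar.map_zero_eq_one]
  have hv0 : v₀ ≠ 0 := fun e => hv₀ (by rw [hc, e, hQ0])
  set O : Finset (AddChar (hermA σ m) K) :=
    Finset.univ.filter fun χ => weightSpace π χ ≠ ⊥ ∧ ∃ v, Q χ v = c with hO
  have hdim : O.card * k ≤ Module.finrank K V := card_mul_le_finrank π hA O k fun χ hχ => by
    obtain ⟨hW, v, hv⟩ := (Finset.mem_filter.1 hχ).2
    obtain ⟨t, ht⟩ := AddChar.ne_one_iff.1 hψ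
    refine hk χ hW ⟨v, t / c, ?_⟩
    rw [hQ', hv, div_mul_cancel₀ _ hv₀]
    exact ht
  set P := Finset.univ.filter fun v : Fin m → F => v ≠ 0 with hP
  have hPc : P.card = q ^ (2 * m) - 1 := by
    rw [hP, Finset.filter_ne', Finset.card_erase_of_mem (Finset.mem_univ _), Finset.card_univ, Fintype.card_fun,
      Fintype.card_fin, hq2, ← pow_mul]
  haveI : Finite ((Fin m → F) →ₗ[F] F) := Module.finite_of_finite F
  have key := Finset.card_mul_le_card_mul (fun v χ => Q χ v = c) (s := P) (t := O)
    (m := Fintype.card F ^ (m - 1)) (n := (q + 1) * Fintype.card F ^ (m - 1)) (fun v hv => ?_) (fun χ hχ => ?_)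
  · rw [hPc] at key
    have h' : q ^ (2 * m) - 1 ≤ (q + 1) * O.card :=
      Nat.le_of_mul_le_mul_right (key.trans_eq (by ring)) (Nat.pow_pos (n := m - 1) Fintype.card_pos)
    exact le_trans (Nat.mul_le_mul_right k h') (by rw [Nat.mul_assoc]; exact Nat.mul_le_mul_left _ hdim)
  · have hv' := (Finset.mem_filter.1 hv).2
    obtain ⟨g, hgood, hg⟩ := htrans v v₀ hv' hv0
    obtain ⟨T, hT, hint⟩ := hmove g hgood
    set χ := χ₀.compAddMonoidHom (hermCongr hinv g) with hχdef
    have hW : weightSpace π χ ≠ ⊥ := weightSpace_moved π (hermCongr hinv g) T hT hint hW₀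
    have hQv : Q χ v = c := by rw [hQc, hg]
    haveI : Fintype {φ : (Fin m → F) →ₗ[F] F // ∀ _ : Unit, φ v = 0} := Fintype.ofFinite _
    have hcard := card_vanishing (F := F) (m := m) (v := fun _ : Unit => v) (linearIndependent_unique_iff.2 hv')
    rw [Fintype.card_unit, Nat.card_eq_fintype_card] at hcard
    rw [← hcard]
    choose s hs using fun φ : {φ : (Fin m → F) →ₗ[F] F // ∀ _ : Unit, φ v = 0} => exists_shear φ.1 (φ.2 ())
    have hsdet : ∀ φ, (s φ : Matrix (Fin m) (Fin m) F).det = 1 := by
      intro φ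
      set w : Fin m → F := fun i => φ.1 (Pi.single i 1)
      have hw : ∀ x, w ⬝ᵥ x = φ.1 x := fun x => by
        conv_rhs => rw [← Finset.univ_sum_single x]
        rw [map_sum, dotProduct]
        refine Finset.sum_congr rfl fun i _ => ?_
        rw [show (Pi.single i (x i) : Fin m → F) = x i • Pi.single i 1 by rw [← Pi.single_smul', smul_eq_mul, mul_one],
          map_smul, smul_eq_mul, mul_comm]
      have e : (s φ : Matrix (Fin m) (Fin m) F) = 1 + replicateCol Unit v * replicateRow Unit w :=
        Matrix.toLin'.injective (LinearMap.ext fun x => by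
          rw [toLin'_apply, toLin'_apply, hs, add_mulVec, one_mulVec, ← vecMulVec_eq, vecMulVec_mulVec, hw]
          simp)
      rw [e, det_one_add_replicateCol_mul_replicateRow, hw, φ.2 (), add_zero]
    refine Finset.card_le_card_of_injOn (fun φ => χ.compAddMonoidHom (hermCongr hinv (s φ))) (fun φ _ => ?_) ?_
    · obtain ⟨T', hT', hint'⟩ := hmove (s φ) (hdet _ (hsdet φ))
      have hq : Q (χ.compAddMonoidHom (hermCongr hinv (s φ))) v = c := by
        rw [hQc χ, hs, φ.2 (), zero_smul, add_zero, hQv]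
      simp only [Finset.mem_coe, Finset.mem_bipartiteAbove, hO, Finset.mem_filter, Finset.mem_univ, true_and]
      exact ⟨⟨weightSpace_moved π _ T' hT' hint' hW, v, hq⟩, hq⟩
    · intro φ _ φ' _ h
      refine Subtype.ext (LinearMap.ext fun x => ?_)
      have h' := congrArg (fun η => B η v x) h
      simp only [hBc χ, hs, φ.2 (), φ'.2 (), zero_smul, add_zero] at h'
      rw [hBshift, hBshift, hQv, add_right_inj] at h'
      exact σ.injective (mul_right_cancel₀ (fun e => hv₀ (Subtype.ext e)) h')
  · obtain ⟨e, he⟩ := (Finset.mem_filter.1 hχ).2.2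
    have he0 : e ≠ 0 := fun h0 => hv₀ (by rw [← he, h0, hQ0])
    refine le_trans ?_ (count_by_lines (fun v => Q χ v = c) he0 (q + 1) fun u => ?_)
    · rw [Nat.card_eq_fintype_card, Fintype.card_subtype]
      refine Finset.card_le_card fun v hv => ?_
      simp only [Finset.mem_bipartiteBelow] at hv
      simp [hv.2]
    · have hcF : (c : F) ≠ 0 := fun e' => hv₀ (Subtype.ext e')
      set β := B χ u e / (c : F) with hβ
      have hline : ∀ t : F, (Q χ (u + t • e) : F) = Q χ u + (c : F) * ((t + β) * σ (t + β)) - (c : F) * (β * σ β) := by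
        intro t
        set N : fixF σ := ⟨(t * σ t), by change σ (t * σ t) = t * σ t; rw [map_mul, hinv, mul_comm]⟩
        have h1 : Q χ (u + t • e) = Q χ u + N * c + trFix hinv (σ t * B χ u e) := cancel_shift hψ fun d => by
          rw [← hQ', sqH_shift, AddChar.map_add_eq_mul, AddChar.map_add_eq_mul, hQ', hQ', hB', he, mul_add, mul_add,
            AddChar.map_add_eq_mul, AddChar.map_add_eq_mul]
          simp only [hψ₁def, AddChar.compAddMonoidHom_apply, ← AddChar.map_add_eq_mul]
          refine congrArg ψ (Subtype.ext ?_)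
          simp [trFix, N, fix_apply, hinv]
          ring
        have h2 : (B χ u e) = (c : F) * β := by rw [hβ, mul_div_cancel₀ _ hcF]
        rw [h1, h2]
        simp [trFix, N, hinv, fix_apply]
        ring
      refine le_trans (Nat.card_le_card_of_injective (β := {t : F // (t + β) * σ (t + β) =
        ((c : F) - Q χ u + (c : F) * (β * σ β)) / (c : F)}) (fun t => ⟨t.1, by
          have h := congrArg (fun z : fixF σ => (z : F)) t.2
          simp only [hline] at h
          rw [eq_div_iff hcF]
          linear_combination h⟩) fun x y h => Subtype.ext (congrArg Subtype.val h :)) (norm_fibre q hσ _ β)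

end Bound

end CfsgLib.MinDegree
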