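import Mathlib
import Cfsg.Agent.Lib.MinDegree.Herm
import Cfsg.Agent.Lib.Classical.UnitaryPSU

/-!
Lower bounds for the degrees of representations of the special unitary groups.
-/

namespace CfsgLib.MinDegree

open Matrix

variable {F : Type*} [Field F] {n m q : ℕ} {σ : F ≃+* F}

/-- A hyperbolic frame for the standard Hermitian form, with a further orthogonal vector. -/
structure HypFrame (σ : F ≃+* F) (n m : ℕ) where
  E : Matrix (Fin n) (Fin m) F
  G : Matrix (Fin n) (Fin m) F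
  w : Matrix (Fin n) Unit F
  EE : star' σ E * E = 0
  GG : star' σ G * G = 0
  EG : star' σ E * G = 1
  GE : star' σ G * E = 1
  wE : star' σ w * E = 0
  wG : star' σ w * G = 0
  Ew : star' σ E * w = 0
  Gw : star' σ G * w = 0

/-- The frame with the two halves exchanged. -/
def HypFrame.swap (Φ : HypFrame σ n m) : HypFrame σ n m :=
  ⟨Φ.G, Φ.E, Φ.w, Φ.GG, Φ.EE, Φ.GE, Φ.EG, Φ.wG, Φ.wE, Φ.Gw, Φ.Ew⟩

theorem mem_su (hσ : ∀ x, σ x = x ^ q) (M : SpecialLinearGroup (Fin n) F)
    (h : star' σ (M : Matrix (Fin n) (Fin n) F) * (M : Matrix (Fin n) (Fin n) F) = 1) : M ∈ Cfsg.SU n F q := by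
  intro u v
  have h' := congrArg Matrix.transpose h
  rw [transpose_mul, star', transpose_transpose, transpose_one] at h'
  have key : ∀ x y : Fin n → F, Cfsg.hermForm n F q x y = x ⬝ᵥ (σ ∘ y) := fun x y => by
    simp [Cfsg.hermForm, dotProduct, hσ]
  rw [key, key]
  change ((M : Matrix (Fin n) (Fin n) F) *ᵥ u) ⬝ᵥ (σ ∘ ((M : Matrix (Fin n) (Fin n) F) *ᵥ v)) = _
  have e : σ ∘ ((M : Matrix (Fin n) (Fin n) F) *ᵥ v) = (M : Matrix (Fin n) (Fin n) F).map σ *ᵥ (σ ∘ v) := by
    funext i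
    simp [mulVec, dotProduct, map_sum]
  rw [e, dotProduct_comm, dotProduct_mulVec, ← mulVec_transpose, mulVec_mulVec, h', one_mulVec, dotProduct_comm]

section Elements

variable (Φ : HypFrame σ n m) (hinv : ∀ x, σ (σ x) = x)

/-- `1 + E (h - 1) G*`. -/
def levA (h : Matrix (Fin m) (Fin m) F) : Matrix (Fin n) (Fin n) F := 1 + Φ.E * (h - 1) * star' σ Φ.G

/-- `1 + G (h - 1) E*`. -/
def levB (h : Matrix (Fin m) (Fin m) F) : Matrix (Fin n) (Fin n) F := 1 + Φ.G * (h - 1) * star' σ Φ.E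

/-- `1 + (l - 1) w w*`. -/
def torW (l : F) : Matrix (Fin n) (Fin n) F := 1 + (l - 1) • (Φ.w * star' σ Φ.w)

/-- `1 + E X E*`. -/
def uni (X : Matrix (Fin m) (Fin m) F) : Matrix (Fin n) (Fin n) F := 1 + Φ.E * X * star' σ Φ.E

theorem levA_mul (g h : Matrix (Fin m) (Fin m) F) : levA Φ g * levA Φ h = levA Φ (g * h) := by
  have e : ∀ Z : Matrix (Fin m) (Fin n) F, star' σ Φ.G * (Φ.E * Z) = Z := fun Z => by
    rw [← Matrix.mul_assoc, Φ.GE, Matrix.one_mul]
  simp only [levA, Matrix.add_mul, Matrix.mul_add, Matrix.one_mul, Matrix.mul_one, Matrix.mul_assoc, e,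
    Matrix.sub_mul, Matrix.mul_sub]
  abel

theorem levB_mul (g h : Matrix (Fin m) (Fin m) F) : levB Φ g * levB Φ h = levB Φ (g * h) := by
  have e : ∀ Z : Matrix (Fin m) (Fin n) F, star' σ Φ.E * (Φ.G * Z) = Z := fun Z => by
    rw [← Matrix.mul_assoc, Φ.EG, Matrix.one_mul]
  simp only [levB, Matrix.add_mul, Matrix.mul_add, Matrix.one_mul, Matrix.mul_one, Matrix.mul_assoc, e,
    Matrix.sub_mul, Matrix.mul_sub]
  abel

theorem levA_levB (g h : Matrix (Fin m) (Fin m) F) : levA Φ g * levB Φ h = levB Φ h * levA Φ g := by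
  have e1 : ∀ Z : Matrix (Fin m) (Fin n) F, star' σ Φ.G * (Φ.G * Z) = 0 := fun Z => by
    rw [← Matrix.mul_assoc, Φ.GG, Matrix.zero_mul]
  have e2 : ∀ Z : Matrix (Fin m) (Fin n) F, star' σ Φ.E * (Φ.E * Z) = 0 := fun Z => by
    rw [← Matrix.mul_assoc, Φ.EE, Matrix.zero_mul]
  simp only [levA, levB, Matrix.add_mul, Matrix.mul_add, Matrix.one_mul, Matrix.mul_one, Matrix.mul_assoc, e1, e2,
    Matrix.mul_zero, add_zero]
  abel

theorem det_levA (h : Matrix (Fin m) (Fin m) F) : (levA Φ h).det = h.det := by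
  rw [levA, Matrix.mul_assoc, det_one_add_mul_comm, Matrix.mul_assoc, Φ.GE, Matrix.mul_one, add_sub_cancel]

theorem det_levB (h : Matrix (Fin m) (Fin m) F) : (levB Φ h).det = h.det := by
  rw [levB, Matrix.mul_assoc, det_one_add_mul_comm, Matrix.mul_assoc, Φ.EG, Matrix.mul_one, add_sub_cancel]

include hinv in
theorem star_levA (h : Matrix (Fin m) (Fin m) F) : star' σ (levA Φ h) = levB Φ (star' σ h) := by
  rw [levA, levB, star'_add, star'_one, star'_mul, star'_mul, star'_star' σ hinv, star'_sub, star'_one, Matrix.mul_assoc]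

include hinv in
theorem star_levB (h : Matrix (Fin m) (Fin m) F) : star' σ (levB Φ h) = levA Φ (star' σ h) := by
  rw [levA, levB, star'_add, star'_one, star'_mul, star'_mul, star'_star' σ hinv, star'_sub, star'_one, Matrix.mul_assoc]

theorem levA_one : levA Φ 1 = 1 := by simp [levA]

theorem levB_one : levB Φ 1 = 1 := by simp [levB]

theorem torW_one : torW Φ 1 = 1 := by simp [torW]

include hinv in
theorem torW_unitary {l : F} (hl : σ l * l = 1) (h : l = 1 ∨ star' σ Φ.w * Φ.w = 1) :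
    star' σ (torW Φ l) * torW Φ l = 1 := by
  rcases h with rfl | h
  · simp [torW, star'_one]
  have e : ∀ Z : Matrix Unit (Fin n) F, star' σ Φ.w * (Φ.w * Z) = Z := fun Z => by
    rw [← Matrix.mul_assoc, h, Matrix.one_mul]
  simp only [torW, star'_add, star'_one, star'_smul, star'_mul, star'_star' σ hinv, map_sub, map_one, Matrix.add_mul,
    Matrix.mul_add, Matrix.one_mul, Matrix.mul_one, Matrix.smul_mul, Matrix.mul_smul, Matrix.mul_assoc, e, smul_smul,
    add_assoc, ← add_smul]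
  have key : σ l - 1 + ((l - 1) + (l - 1) * (σ l - 1)) = 0 := by linear_combination hl
  rw [smul_add, smul_smul, ← add_smul, ← add_smul, key, zero_smul, add_zero]

theorem det_torW (l : F) (h : l = 1 ∨ star' σ Φ.w * Φ.w = 1) : (torW Φ l).det = l := by
  rcases h with rfl | h
  · simp [torW]
  rw [torW, ← Matrix.smul_mul, det_one_add_mul_comm, Matrix.mul_smul, h]
  simp [Matrix.det_unique]

theorem det_star (h : Matrix (Fin m) (Fin m) F) : (star' σ h).det = σ h.det := by
  rw [star', det_transpose]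
  exact (RingHom.map_det (σ : F →+* F) h).symm

/-- The torus factor of a Levi element. -/
def levScalar (σ : F ≃+* F) (g : GL (Fin m) F) : F :=
  σ (g : Matrix (Fin m) (Fin m) F).det / (g : Matrix (Fin m) (Fin m) F).det

theorem gl_det_ne_zero (g : GL (Fin m) F) : (g : Matrix (Fin m) (Fin m) F).det ≠ 0 :=
  IsUnit.ne_zero ((Matrix.isUnit_iff_isUnit_det _).1 g.isUnit)

/-- The elements of the Levi factor used. -/
def Good (Φ : HypFrame σ n m) (g : GL (Fin m) F) : Prop :=
  (g : Matrix (Fin m) (Fin m) F).det = 1 ∨ star' σ Φ.w * Φ.w = 1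

theorem good_scalar {g : GL (Fin m) F} (hg : Good Φ g) : levScalar σ g = 1 ∨ star' σ Φ.w * Φ.w = 1 :=
  hg.imp_left fun h => by rw [levScalar, h, map_one, div_one]

/-- The matrix of a Levi element. -/
def levM (g : GL (Fin m) F) : Matrix (Fin n) (Fin n) F :=
  levA Φ (g : Matrix (Fin m) (Fin m) F) * levB Φ (star' σ ((g⁻¹ : GL (Fin m) F) : Matrix (Fin m) (Fin m) F)) *
    torW Φ (levScalar σ g)

include hinv in
theorem levM_unitary {g : GL (Fin m) F} (hg : Good Φ g) : star' σ (levM Φ g) * levM Φ g = 1 := by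
  set G₀ := (g : Matrix (Fin m) (Fin m) F)
  set Gi := ((g⁻¹ : GL (Fin m) F) : Matrix (Fin m) (Fin m) F)
  have h1 : Gi * G₀ = 1 := g.inv_mul
  have hl : σ (levScalar σ g) * levScalar σ g = 1 := by
    have h0 := gl_det_ne_zero g
    have h0' : σ (g : Matrix (Fin m) (Fin m) F).det ≠ 0 := (map_ne_zero_iff _ σ.injective).2 h0
    rw [levScalar, map_div₀, hinv]
    field_simp
  have h2 : star' σ (levA Φ G₀ * levB Φ (star' σ Gi)) * (levA Φ G₀ * levB Φ (star' σ Gi)) = 1 := by
    rw [star'_mul, star_levA Φ hinv, star_levB Φ hinv, star'_star' σ hinv, Matrix.mul_assoc,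
      ← Matrix.mul_assoc (levB Φ (star' σ G₀)), ← levA_levB, Matrix.mul_assoc, levB_mul,
      ← star'_mul, h1, star'_one, levB_one, Matrix.mul_one, levA_mul, h1, levA_one]
  rw [levM, star'_mul, Matrix.mul_assoc, ← Matrix.mul_assoc (star' σ (levA Φ G₀ * levB Φ (star' σ Gi))), h2,
    Matrix.one_mul, torW_unitary Φ hinv hl (good_scalar Φ hg)]

include hinv in
theorem det_levM {g : GL (Fin m) F} (hg : Good Φ g) : (levM Φ g).det = 1 := by
  rw [levM, det_mul, det_mul, det_levA, det_levB, det_torW Φ _ (good_scalar Φ hg), det_star, levScalar]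
  have h0 := gl_det_ne_zero g
  have h1 : ((g⁻¹ : GL (Fin m) F) : Matrix (Fin m) (Fin m) F).det * (g : Matrix (Fin m) (Fin m) F).det = 1 := by
    rw [← det_mul, g.inv_mul, det_one]
  have h2 : σ ((g⁻¹ : GL (Fin m) F) : Matrix (Fin m) (Fin m) F).det * σ (g : Matrix (Fin m) (Fin m) F).det = 1 := by
    rw [← map_mul, h1, map_one]
  field_simp
  linear_combination h2

theorem levM_E (g : GL (Fin m) F) : levM Φ g * Φ.E = Φ.E * (g : Matrix (Fin m) (Fin m) F) := by
  have e1 : torW Φ (levScalar σ g) * Φ.E = Φ.E := by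
    rw [torW, Matrix.add_mul, Matrix.one_mul, Matrix.smul_mul, Matrix.mul_assoc, Φ.wE, Matrix.mul_zero, smul_zero,
      add_zero]
  have e2 : ∀ h, levB Φ h * Φ.E = Φ.E := fun h => by
    rw [levB, Matrix.add_mul, Matrix.one_mul, Matrix.mul_assoc, Φ.EE, Matrix.mul_zero, add_zero]
  rw [levM, Matrix.mul_assoc, e1, Matrix.mul_assoc, e2, levA, Matrix.add_mul, Matrix.one_mul, Matrix.mul_assoc,
    Φ.GE, Matrix.mul_one, Matrix.mul_sub, Matrix.mul_one, add_sub_cancel]

theorem starE_levM (g : GL (Fin m) F) :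
    star' σ Φ.E * levM Φ g = star' σ ((g⁻¹ : GL (Fin m) F) : Matrix (Fin m) (Fin m) F) * star' σ Φ.E := by
  have e1 : star' σ Φ.E * torW Φ (levScalar σ g) = star' σ Φ.E := by
    rw [torW, Matrix.mul_add, Matrix.mul_one, Matrix.mul_smul, ← Matrix.mul_assoc, Φ.Ew, Matrix.zero_mul, smul_zero,
      add_zero]
  have e2 : ∀ h, star' σ Φ.E * levA Φ h = star' σ Φ.E := fun h => by
    rw [levA, Matrix.mul_add, Matrix.mul_one, ← Matrix.mul_assoc, ← Matrix.mul_assoc, Φ.EE, Matrix.zero_mul,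
      Matrix.zero_mul, add_zero]
  rw [levM, ← Matrix.mul_assoc, ← Matrix.mul_assoc, e2, levB, Matrix.mul_add, Matrix.mul_one, ← Matrix.mul_assoc,
    ← Matrix.mul_assoc, Φ.EG, Matrix.one_mul, Matrix.sub_mul, Matrix.one_mul, add_sub_cancel, Matrix.mul_assoc, e1]

theorem uni_mul (X Y : Matrix (Fin m) (Fin m) F) : uni Φ X * uni Φ Y = uni Φ (X + Y) := by
  have e : ∀ Z : Matrix (Fin m) (Fin n) F, star' σ Φ.E * (Φ.E * Z) = 0 := fun Z => by
    rw [← Matrix.mul_assoc, Φ.EE, Matrix.zero_mul]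
  simp only [uni, Matrix.add_mul, Matrix.mul_add, Matrix.one_mul, Matrix.mul_one, Matrix.mul_assoc, e, Matrix.mul_zero,
    add_zero]
  abel

theorem det_uni (X : Matrix (Fin m) (Fin m) F) : (uni Φ X).det = 1 := by
  rw [uni, Matrix.mul_assoc, det_one_add_mul_comm, Matrix.mul_assoc, Φ.EE, Matrix.mul_zero, add_zero, det_one]

include hinv in
theorem uni_unitary {X : Matrix (Fin m) (Fin m) F} (hX : star' σ X + X = 0) :
    star' σ (uni Φ X) * uni Φ X = 1 := by
  rw [show star' σ (uni Φ X) = uni Φ (star' σ X) by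
    rw [uni, uni, star'_add, star'_one, star'_mul, star'_mul, star'_star' σ hinv, Matrix.mul_assoc], uni_mul, hX]
  simp [uni]

end Elements

section Group

variable (Φ : HypFrame σ n m) (hinv : ∀ x, σ (σ x) = x) (hσ : ∀ x, σ x = x ^ q) {δ : F} (hδ : δ + σ δ = 0)

/-- The abelian radical in the unitary group. -/
def uniHom : Multiplicative (hermA σ m) →* Cfsg.SU n F q where
  toFun S := ⟨⟨uni Φ (δ • S.toAdd.1), det_uni Φ _⟩, mem_su hσ _ (uni_unitary Φ hinv (by
    rw [star'_smul, (mem_hermA σ).1 S.toAdd.2, ← add_smul, add_comm, hδ, zero_smul]))⟩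
  map_one' := Subtype.ext (Subtype.ext (by simp [uni]))
  map_mul' S T := Subtype.ext (Subtype.ext (by
    change uni Φ (δ • (S.toAdd.1 + T.toAdd.1)) = uni Φ _ * uni Φ _
    rw [uni_mul, smul_add]))

/-- A Levi element in the unitary group. -/
def levEl {g : GL (Fin m) F} (hg : Good Φ g) : Cfsg.SU n F q :=
  ⟨⟨levM Φ g, det_levM Φ hinv hg⟩, mem_su hσ _ (levM_unitary Φ hinv hg)⟩

theorem good_inv {g : GL (Fin m) F} (hg : Good Φ g) : Good Φ g⁻¹ := hg.imp_left fun h => by
  have h1 : ((g⁻¹ : GL (Fin m) F) : Matrix (Fin m) (Fin m) F).det * (g : Matrix (Fin m) (Fin m) F).det = 1 := by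
    rw [← det_mul, g.inv_mul, det_one]
  rwa [h, mul_one] at h1

theorem uniHom_levEl {g : GL (Fin m) F} (hg : Good Φ g) (a : hermA σ m) :
    uniHom Φ hinv hσ hδ (Multiplicative.ofAdd a) * levEl Φ hinv hσ (good_inv Φ hg) =
      levEl Φ hinv hσ (good_inv Φ hg) * uniHom Φ hinv hσ hδ (Multiplicative.ofAdd (hermCongr hinv g a)) := by
  refine Subtype.ext (Subtype.ext ?_)
  change uni Φ (δ • a.1) * levM Φ g⁻¹ = levM Φ g⁻¹ * uni Φ (δ • ((g : Matrix (Fin m) (Fin m) F) * a.1 *
    star' σ (g : Matrix (Fin m) (Fin m) F)))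
  have h1 : ((g⁻¹ : GL (Fin m) F) : Matrix (Fin m) (Fin m) F) * (g : Matrix (Fin m) (Fin m) F) = 1 := g.inv_mul
  have h2 : ∀ Z : Matrix (Fin m) (Fin n) F,
      ((g⁻¹ : GL (Fin m) F) : Matrix (Fin m) (Fin m) F) * ((g : Matrix (Fin m) (Fin m) F) * Z) = Z := fun Z => by
    rw [← Matrix.mul_assoc, h1, Matrix.one_mul]
  rw [uni, uni, Matrix.add_mul, Matrix.mul_add, Matrix.one_mul, Matrix.mul_one, Matrix.mul_assoc, starE_levM,
    inv_inv, ← Matrix.mul_assoc (levM Φ g⁻¹), ← Matrix.mul_assoc (levM Φ g⁻¹), levM_E]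
  simp only [Matrix.smul_mul, Matrix.mul_smul, Matrix.mul_assoc, h2]

variable {K : Type*} [Field K] {V : Type*} [AddCommGroup V] [Module K V]

theorem hmove_su (ρ : Cfsg.SU n F q →* Module.End K V) (g : GL (Fin m) F) (hg : Good Φ g) :
    ∃ T : V →ₗ[K] V, Function.Injective T ∧ ∀ a v, ρ.comp (uniHom Φ hinv hσ hδ) (Multiplicative.ofAdd a) (T v) =
      T (ρ.comp (uniHom Φ hinv hσ hδ) (Multiplicative.ofAdd (hermCongr hinv g a)) v) := by
  set L := levEl Φ hinv hσ (good_inv Φ hg)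
  refine ⟨ρ L, Function.LeftInverse.injective (g := ρ L⁻¹) fun v => ?_, fun a v => ?_⟩
  · rw [← Module.End.mul_apply, ← map_mul, inv_mul_cancel, map_one, Module.End.one_apply]
  · simp only [MonoidHom.comp_apply, ← Module.End.mul_apply, ← map_mul, L, uniHom_levEl Φ hinv hσ hδ hg a]

end Group

section Heisenberg

variable (Φ : HypFrame σ n m) (hinv : ∀ x, σ (σ x) = x) (hw : star' σ Φ.w * Φ.w = 1)

/-- An Eichler matrix with centre in the span of the first half of the frame. -/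
def eich (v : Matrix (Fin m) Unit F) (a b : F) : Matrix (Fin n) (Fin n) F :=
  1 + a • (Φ.w * star' σ (Φ.E * v)) + (-σ a) • (Φ.E * v * star' σ Φ.w) + b • (Φ.E * v * star' σ (Φ.E * v))

include hw in
theorem eich_mul (v : Matrix (Fin m) Unit F) (a b a' b' : F) :
    eich Φ v a b * eich Φ v a' b' = eich Φ v (a + a') (b + b' - σ a * a') := by
  set P := Φ.E * v
  have e1 : ∀ Z : Matrix Unit (Fin n) F, star' σ P * (P * Z) = 0 := fun Z => by
    rw [← Matrix.mul_assoc, star'_mul, Matrix.mul_assoc (star' σ v), ← Matrix.mul_assoc (star' σ Φ.E), Φ.EE,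
      Matrix.zero_mul, Matrix.mul_zero, Matrix.zero_mul]
  have e2 : ∀ Z : Matrix Unit (Fin n) F, star' σ Φ.w * (Φ.w * Z) = Z := fun Z => by
    rw [← Matrix.mul_assoc, hw, Matrix.one_mul]
  have e3 : ∀ Z : Matrix Unit (Fin n) F, star' σ Φ.w * (P * Z) = 0 := fun Z => by
    rw [← Matrix.mul_assoc, ← Matrix.mul_assoc, Φ.wE, Matrix.zero_mul, Matrix.zero_mul]
  have e4 : ∀ Z : Matrix Unit (Fin n) F, star' σ P * (Φ.w * Z) = 0 := fun Z => by
    rw [← Matrix.mul_assoc, star'_mul, Matrix.mul_assoc (star' σ v), Φ.Ew, Matrix.mul_zero, Matrix.zero_mul]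
  change (1 + a • (Φ.w * star' σ P) + (-σ a) • (P * star' σ Φ.w) + b • (P * star' σ P)) *
    (1 + a' • (Φ.w * star' σ P) + (-σ a') • (P * star' σ Φ.w) + b' • (P * star' σ P)) =
    1 + (a + a') • (Φ.w * star' σ P) + (-σ (a + a')) • (P * star' σ Φ.w) + (b + b' - σ a * a') • (P * star' σ P)
  simp only [Matrix.add_mul, Matrix.mul_add, Matrix.one_mul, Matrix.mul_one, Matrix.smul_mul, Matrix.mul_smul,
    Matrix.mul_assoc, e1, e2, e3, e4, Matrix.mul_zero, smul_zero, add_zero, smul_smul, map_add]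
  module

include hinv hw in
theorem eich_unitary (v : Matrix (Fin m) Unit F) {a b : F} (hb : b + σ b + a * σ a = 0) :
    star' σ (eich Φ v a b) * eich Φ v a b = 1 := by
  have e : star' σ (eich Φ v a b) = eich Φ v (-a) (σ b) := by
    simp only [eich, star'_add, star'_one, star'_smul, star'_mul, star'_star' σ hinv, map_neg, hinv, neg_neg,
      Matrix.mul_assoc]
    abel
  rw [e, eich_mul Φ hw, map_neg, neg_add_cancel,
    show σ b + b - -σ a * a = 0 by linear_combination hb]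
  simp [eich]

theorem det_eich (v : Matrix (Fin m) Unit F) (a b : F) : (eich Φ v a b).det = 1 := by
  set P := Φ.E * v
  have hPP : star' σ P * P = 0 := by
    rw [star'_mul, Matrix.mul_assoc, ← Matrix.mul_assoc (star' σ Φ.E), Φ.EE, Matrix.zero_mul, Matrix.mul_zero]
  have hwP : star' σ Φ.w * P = 0 := by rw [← Matrix.mul_assoc, Φ.wE, Matrix.zero_mul]
  have hPw : star' σ P * Φ.w = 0 := by rw [star'_mul, Matrix.mul_assoc, Φ.Ew, Matrix.mul_zero]
  have hsplit : eich Φ v a b = (1 + Φ.w * (a • star' σ P)) *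
      (1 + P * ((-σ a) • star' σ Φ.w + b • star' σ P)) := by
    have e : ∀ Z : Matrix Unit (Fin n) F, star' σ P * (P * Z) = 0 := fun Z => by
      rw [← Matrix.mul_assoc, hPP, Matrix.zero_mul]
    change 1 + a • (Φ.w * star' σ P) + (-σ a) • (P * star' σ Φ.w) + b • (P * star' σ P) = _
    simp only [Matrix.add_mul, Matrix.mul_add, Matrix.one_mul, Matrix.mul_one, Matrix.smul_mul, Matrix.mul_smul,
      Matrix.mul_assoc, e, Matrix.mul_zero, smul_zero, add_zero]
    abel
  rw [hsplit, det_mul, det_one_add_mul_comm Φ.w, det_one_add_mul_comm P, Matrix.smul_mul, hPw, smul_zero,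
    Matrix.add_mul, Matrix.smul_mul, Matrix.smul_mul, hwP, hPP, smul_zero, smul_zero, add_zero]
  simp

include hw in
theorem eich_comm_uni (v : Matrix (Fin m) Unit F) (a b : F) (X : Matrix (Fin m) (Fin m) F) :
    eich Φ v a b * uni Φ X = uni Φ X * eich Φ v a b := by
  have e1 : ∀ Z : Matrix (Fin m) (Fin n) F, star' σ (Φ.E * v) * (Φ.E * Z) = 0 := fun Z => by
    rw [← Matrix.mul_assoc, star'_mul, Matrix.mul_assoc (star' σ v), Φ.EE, Matrix.mul_zero, Matrix.zero_mul]
  have e2 : ∀ Z : Matrix (Fin m) (Fin n) F, star' σ Φ.w * (Φ.E * Z) = 0 := fun Z => by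
    rw [← Matrix.mul_assoc, Φ.wE, Matrix.zero_mul]
  have e3 : ∀ Z : Matrix Unit (Fin n) F, star' σ Φ.E * (Φ.w * Z) = 0 := fun Z => by
    rw [← Matrix.mul_assoc, Φ.Ew, Matrix.zero_mul]
  have e4 : ∀ Z : Matrix (Fin m) (Fin n) F, star' σ Φ.E * (Φ.E * Z) = 0 := fun Z => by
    rw [← Matrix.mul_assoc, Φ.EE, Matrix.zero_mul]
  have := hw
  simp only [eich, uni, Matrix.add_mul, Matrix.mul_add, Matrix.one_mul, Matrix.mul_one, Matrix.smul_mul,
    Matrix.mul_smul, Matrix.mul_assoc, e2, e3, e4, Matrix.mul_zero, smul_zero, add_zero]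
  rw [show star' σ (Φ.E * v) * (Φ.E * (X * star' σ Φ.E)) = 0 from e1 _]
  simp only [Matrix.mul_zero, smul_zero, add_zero]
  abel

variable {K : Type*} [Field K] [IsAlgClosed K] {V : Type*} [AddCommGroup V] [Module K V] [FiniteDimensional K V]

include hw in
/-- For odd dimension each relevant weight space has dimension at least `q`. -/
theorem weight_mult [Fintype F] (hq2 : Fintype.card F = q ^ 2) (hσ : ∀ x, σ x = x ^ q)
    (hne' : σ ≠ RingEquiv.refl F) (hF : (Fintype.card F : K) ≠ 0) {δ : F} (hδ : δ + σ δ = 0) (hδ0 : δ ≠ 0)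
    (ρ : Cfsg.SU n F q →* Module.End K V) (χ : AddChar (hermA σ m) K)
    (hW : weightSpace (ρ.comp (uniHom Φ hinv hσ hδ)) χ ≠ ⊥) (hχ : ∃ v c, χ (sqH hinv v c) ≠ 1) :
    q ≤ Module.finrank K (weightSpace (ρ.comp (uniHom Φ hinv hσ hδ)) χ) := by
  classical
  obtain ⟨v, c₀, hv⟩ := hχ
  set π := ρ.comp (uniHom Φ hinv hσ hδ) with hπ
  set W := weightSpace π χ with hWdef
  set vm : Matrix (Fin m) Unit F := replicateCol Unit v
  have hbex : ∀ a : F, ∃ b : F, b + σ b + a * σ a = 0 := fun a => by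
    obtain ⟨b, hb⟩ := CfsgLib.Transvec.Unitary.exists_trace_eq hne' hinv (b := -(a * σ a)) (by
      rw [map_neg, map_mul, hinv, mul_comm])
    exact ⟨b, by rw [hb, neg_add_cancel]⟩
  choose b hb using hbex
  set M : F → Cfsg.SU n F q := fun a =>
    ⟨⟨eich Φ vm a (b a), det_eich Φ vm a (b a)⟩, mem_su hσ _ (eich_unitary Φ hinv hw vm (hb a))⟩
  have hcomm : ∀ a S, M a * uniHom Φ hinv hσ hδ S = uniHom Φ hinv hσ hδ S * M a := fun a S =>
    Subtype.ext (Subtype.ext (eich_comm_uni Φ hw vm a (b a) _))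
  have hmem : ∀ a, ∀ w ∈ W, ρ (M a) w ∈ W := by
    intro a w hwW s
    change ρ (uniHom Φ hinv hσ hδ (Multiplicative.ofAdd s)) (ρ (M a) w) = _
    rw [← Module.End.mul_apply, ← map_mul, ← hcomm, map_mul, Module.End.mul_apply]
    change ρ (M a) (π (Multiplicative.ofAdd s) w) = _
    rw [hwW s, map_smul]
  set R : F → Module.End K W := fun a => (ρ (M a)).restrict (hmem a)
  have hinj : ∀ a, Function.Injective (R a) := fun a w w' e => by
    refine Subtype.ext (Function.LeftInverse.injective (g := ρ (M a)⁻¹) (fun x => ?_) (congrArg Subtype.val e))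
    change ρ (M a)⁻¹ (ρ (M a) x) = x
    rw [← Module.End.mul_apply, ← map_mul, inv_mul_cancel, map_one, Module.End.one_apply]
  set φ : AddChar F K := (χ.compAddMonoidHom (sqH hinv v)).compAddMonoidHom (trFix hinv) with hφdef
  have hφ : φ ≠ 1 := by
    obtain ⟨z, hz⟩ := CfsgLib.Transvec.Unitary.exists_trace_eq hne' hinv (b := (c₀ : F)) c₀.2
    refine AddChar.ne_one_iff.2 ⟨z, ?_⟩
    have e : trFix hinv z = c₀ := Subtype.ext hz
    simpa [hφdef, e] using hv
  have hδ' : σ δ = -δ := by linear_combination hδ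
  have hrel : ∀ y a, M y * M a =
      uniHom Φ hinv hσ hδ (Multiplicative.ofAdd (sqH hinv v (trFix hinv (y * (σ a / δ))))) * (M a * M y) := by
    intro y a
    refine Subtype.ext (Subtype.ext ?_)
    change eich Φ vm y (b y) * eich Φ vm a (b a) = uni Φ (δ • (((trFix hinv (y * (σ a / δ))) : F) •
      vecMulVec v (σ ∘ v))) * (eich Φ vm a (b a) * eich Φ vm y (b y))
    rw [eich_mul Φ hw, eich_mul Φ hw, add_comm a y]
    have e0 : vecMulVec v (σ ∘ v) = vm * star' σ vm := by
      ext i j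
      simp [vm, vecMulVec_apply, Matrix.mul_apply, star'_apply]
    have e1 : uni Φ (δ • (((trFix hinv (y * (σ a / δ))) : F) • vecMulVec v (σ ∘ v))) =
        eich Φ vm 0 (δ * ((trFix hinv (y * (σ a / δ))) : F)) := by
      simp [uni, eich, e0, star'_mul, Matrix.mul_assoc, smul_smul]
    rw [e1, eich_mul Φ hw, zero_add, map_zero, zero_mul, sub_zero]
    congr 1
    simp [trFix, map_div₀, hinv, hδ']
    field_simp
    ring
  have hR : ∀ y a, R y * R a = φ.mulShift (σ a / δ) y • (R a * R y) := by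
    intro y a
    refine LinearMap.ext fun w => Subtype.ext ?_
    change ρ (M y) (ρ (M a) w.1) = φ.mulShift (σ a / δ) y • ρ (M a) (ρ (M y) w.1)
    rw [← Module.End.mul_apply, ← map_mul, hrel, map_mul ρ, map_mul ρ, Module.End.mul_apply, Module.End.mul_apply]
    have := hmem a _ (hmem y _ w.2) (sqH hinv v (trFix hinv (y * (σ a / δ))))
    change π _ (ρ (M a) (ρ (M y) w.1)) = _ at this ⊢
    rw [this, AddChar.mulShift_apply, mul_comm (σ a / δ) y]
    rfl
  have hli : LinearIndependent K R := by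
    rw [Fintype.linearIndependent_iff]
    intro l hl b₀
    have h1 : ∀ y, ∑ a, (l a * φ.mulShift (σ a / δ) y) • R a = 0 := by
      intro y
      have h := congrArg (R y * ·) hl
      simp only [Finset.mul_sum, mul_zero] at h
      rw [Finset.sum_congr rfl (fun a _ => show R y * (l a • R a) =
        ((l a * φ.mulShift (σ a / δ) y) • R a) * R y by
          rw [mul_smul_comm, hR, smul_smul, smul_mul_assoc]), ← Finset.sum_mul] at h
      refine LinearMap.ext fun w => ?_
      obtain ⟨w', rfl⟩ := (LinearMap.injective_iff_surjective.1 (hinj y)) w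
      have := LinearMap.congr_fun h w'
      simpa [Module.End.mul_apply] using this
    have h2 : ∑ y, φ.mulShift (σ b₀ / δ) (-y) • ∑ a, (l a * φ.mulShift (σ a / δ) y) • R a = 0 :=
      Finset.sum_eq_zero fun y _ => by rw [h1 y, smul_zero]
    simp only [Finset.smul_sum, smul_smul] at h2
    rw [Finset.sum_comm] at h2
    simp only [← Finset.sum_smul] at h2
    have h3 : ∀ a, ∑ y, φ.mulShift (σ b₀ / δ) (-y) * (l a * φ.mulShift (σ a / δ) y) =
        if a = b₀ then l a * (Fintype.card F : K) else 0 := by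
      intro a
      simp only [mul_left_comm _ (l a), ← Finset.mul_sum]
      have e : ∀ y, φ.mulShift (σ b₀ / δ) (-y) * φ.mulShift (σ a / δ) y =
          φ.mulShift ((σ a - σ b₀) / δ) y := fun y => by
        simp only [AddChar.mulShift_apply, ← AddChar.map_add_eq_mul]
        congr 1
        ring
      simp only [e]
      by_cases h : a = b₀
      · subst h; simp
      · rw [if_neg h, AddChar.sum_eq_zero_of_ne_one, mul_zero]
        exact AddChar.IsPrimitive.of_ne_one hφ (div_ne_zero (sub_ne_zero.2 fun e => h (σ.injective e)) hδ0)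
    simp only [h3, ite_smul, zero_smul, Finset.sum_ite_eq', Finset.mem_univ, if_true, smul_eq_zero] at h2
    rcases h2 with h2 | h2
    · exact (mul_eq_zero.1 h2).resolve_right hF
    · exfalso
      obtain ⟨w, hwW, hw0⟩ := Submodule.exists_mem_ne_zero_of_ne_bot hW
      have := (hinj b₀) (a₁ := ⟨w, hwW⟩) (a₂ := 0) (by rw [h2]; rfl)
      exact hw0 (congrArg Subtype.val this)
  have := hli.fintype_card_le_finrank
  rw [hq2, Module.finrank_linearMap, ← pow_two] at this
  exact (Nat.pow_le_pow_iff_left (by norm_num)).1 this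

end Heisenberg

section Frame

/-- Frames exist, with `w* w = 1` when the dimension is odd. -/
theorem exists_frame [Fintype F] (hinv : ∀ x, σ (σ x) = x) (hne' : σ ≠ RingEquiv.refl F) (hσ : ∀ x, σ x = x ^ q)
    (hq2 : Fintype.card F = q ^ 2) (hn : 2 * m ≤ n) :
    ∃ Φ : HypFrame σ n m, 2 * m < n → star' σ Φ.w * Φ.w = 1 := by
  classical
  obtain ⟨t, ht⟩ := CfsgLib.Transvec.Unitary.exists_norm_eq hne' hinv (b := (-1 : F)) (by rw [map_neg, map_one])
  have hcard : 1 < Nat.card {x : F // x ^ (q + 1) = 1} := by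
    rw [CfsgLib.Classical.card_norm_one hq2]
    have := CfsgLib.Classical.two_le_q hq2
    omega
  haveI := Finite.one_lt_card_iff_nontrivial.1 hcard
  obtain ⟨⟨l, hl⟩, hl1⟩ := exists_ne (⟨1, one_pow _⟩ : {x : F // x ^ (q + 1) = 1})
  have hll : l * σ l = 1 := by rw [hσ, ← pow_succ', hl]
  have hl1' : l ≠ 1 := fun e => hl1 (Subtype.ext e)
  set t' := t * l with ht'def
  have ht' : t' * σ t' = -1 := by
    rw [ht'def, map_mul]; linear_combination ht * l * σ l - hll
  set s := (1 + σ t * t')⁻¹ with hsdef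
  have hs : 1 + σ t * t' ≠ 0 := fun e => hl1' (by
    rw [ht'def] at e
    linear_combination -e + l * ht)
  let A : Matrix (Fin n) (Fin m) F := Matrix.of fun i j => if i.1 = 2 * j.1 then 1 else 0
  let B : Matrix (Fin n) (Fin m) F := Matrix.of fun i j => if i.1 = 2 * j.1 + 1 then 1 else 0
  let w : Matrix (Fin n) Unit F := Matrix.of fun i _ => if i.1 = 2 * m then 1 else 0
  have hAA : star' σ A * A = 1 := by
    ext i j
    rw [Matrix.mul_apply, Finset.sum_eq_single (⟨2 * i.1, by omega⟩ : Fin n)]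
    · by_cases h : i = j
      · subst h; simp [A, star'_apply]
      · simp [A, star'_apply, h, Fin.val_inj]
    · intro k _ hk
      have : k.1 ≠ 2 * i.1 := fun e => hk (Fin.ext e)
      simp [A, star'_apply, this]
    · simp
  have hBB : star' σ B * B = 1 := by
    ext i j
    rw [Matrix.mul_apply, Finset.sum_eq_single (⟨2 * i.1 + 1, by omega⟩ : Fin n)]
    · by_cases h : i = j
      · subst h; simp [B, star'_apply]
      · simp [B, star'_apply, h, Fin.val_inj]
    · intro k _ hk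
      have : k.1 ≠ 2 * i.1 + 1 := fun e => hk (Fin.ext e)
      simp [B, star'_apply, this]
    · simp
  have hAB : star' σ A * B = 0 := by
    ext i j
    rw [Matrix.mul_apply, Matrix.zero_apply]
    refine Finset.sum_eq_zero fun k _ => ?_
    simp [A, B, star'_apply, apply_ite σ]
    omega
  have hBA : star' σ B * A = 0 := by
    ext i j
    rw [Matrix.mul_apply, Matrix.zero_apply]
    refine Finset.sum_eq_zero fun k _ => ?_
    simp [A, B, star'_apply, apply_ite σ]
    omega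
  have hwA : star' σ w * A = 0 := by
    ext i j
    rw [Matrix.mul_apply, Matrix.zero_apply]
    refine Finset.sum_eq_zero fun k _ => ?_
    simp [A, w, star'_apply, apply_ite σ]
    omega
  have hwB : star' σ w * B = 0 := by
    ext i j
    rw [Matrix.mul_apply, Matrix.zero_apply]
    refine Finset.sum_eq_zero fun k _ => ?_
    simp [B, w, star'_apply, apply_ite σ]
    omega
  have hAw : star' σ A * w = 0 := by
    ext i j
    rw [Matrix.mul_apply, Matrix.zero_apply]
    refine Finset.sum_eq_zero fun k _ => ?_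
    simp [A, w, star'_apply, apply_ite σ]
    omega
  have hBw : star' σ B * w = 0 := by
    ext i j
    rw [Matrix.mul_apply, Matrix.zero_apply]
    refine Finset.sum_eq_zero fun k _ => ?_
    simp [B, w, star'_apply, apply_ite σ]
    omega
  have hEG : star' σ (A + t • B) * (s • (A + t' • B)) = 1 := by
    simp only [star'_add, star'_smul, Matrix.mul_smul, Matrix.add_mul, Matrix.mul_add, Matrix.smul_mul, hAA, hBB,
      hAB, hBA, smul_zero, add_zero, zero_add, smul_smul]
    rw [smul_add, smul_smul, ← add_smul, hsdef,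
      show (1 + σ t * t')⁻¹ + (1 + σ t * t')⁻¹ * (t' * σ t) = 1 by field_simp, one_smul]
  refine ⟨⟨A + t • B, s • (A + t' • B), w, ?_, ?_, hEG, ?_, ?_, ?_, ?_, ?_⟩, fun h => ?_⟩
  · simp only [star'_add, star'_smul, Matrix.mul_smul, Matrix.add_mul, Matrix.mul_add, Matrix.smul_mul, hAA, hBB,
      hAB, hBA, smul_zero, add_zero, zero_add, smul_smul]
    rw [ht]
    simp
  · simp only [star'_add, star'_smul, Matrix.mul_smul, Matrix.add_mul, Matrix.mul_add, Matrix.smul_mul, hAA, hBB,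
      hAB, hBA, smul_zero, add_zero, zero_add, smul_smul]
    rw [show t' * (σ s * σ t') = σ s * (t' * σ t') by ring, ht']
    simp
  · have := congrArg (star' σ) hEG
    rwa [star'_mul, star'_star' σ hinv, star'_one] at this
  · simp [Matrix.mul_add, Matrix.mul_smul, hwA, hwB]
  · simp [Matrix.mul_add, Matrix.mul_smul, hwA, hwB]
  · simp [star'_add, star'_smul, Matrix.add_mul, Matrix.smul_mul, hAw, hBw]
  · simp [star'_add, star'_smul, Matrix.add_mul, Matrix.smul_mul, hAw, hBw]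
  · ext i j
    rw [Matrix.mul_apply, Finset.sum_eq_single (⟨2 * m, h⟩ : Fin n)]
    · simp [w, star'_apply]
    · intro k _ hk
      have : k.1 ≠ 2 * m := fun e => hk (Fin.ext e)
      simp [w, star'_apply, this]
    · simp

end Frame

section Main

variable {K : Type*} [Field K] {V : Type*} [AddCommGroup V] [Module K V]

theorem exists_ne_one_su [Fintype F] (hinv : ∀ x, σ (σ x) = x) (hσ : ∀ x, σ x = x ^ q)
    (hq2 : Fintype.card F = q ^ 2) (hn : 3 ≤ n) (h32 : ¬(n = 3 ∧ q = 2)) (hm : 1 ≤ m) (Φ : HypFrame σ n m)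
    {δ : F} (hδ : δ + σ δ = 0) (hδ0 : δ ≠ 0) (ρ : Cfsg.SU n F q →* Module.End K V) (hρ : ρ ≠ 1) :
    ∃ a, ρ.comp (uniHom Φ hinv hσ hδ) (Multiplicative.ofAdd a) ≠ 1 := by
  classical
  by_contra hall
  push Not at hall
  let one' : hermA σ m := ⟨1, star'_one σ⟩
  have hmem : uniHom Φ hinv hσ hδ (Multiplicative.ofAdd one') ∈ ρ.ker := hall one'
  have hnc : uniHom Φ hinv hσ hδ (Multiplicative.ofAdd one') ∉ Subgroup.center (Cfsg.SU n F q) := by
    intro hc
    have h := congrArg (fun A : Cfsg.SU n F q => star' σ Φ.G * (((A.1 : SpecialLinearGroup (Fin n) F) :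
      Matrix (Fin n) (Fin n) F) * Φ.E)) (Subgroup.mem_center_iff.1 hc (uniHom Φ.swap hinv hσ hδ (Multiplicative.ofAdd one')))
    change star' σ Φ.G * (uni Φ.swap (δ • 1) * uni Φ (δ • 1) * Φ.E) =
      star' σ Φ.G * (uni Φ (δ • 1) * uni Φ.swap (δ • 1) * Φ.E) at h
    simp only [uni, HypFrame.swap, Matrix.add_mul, Matrix.mul_add, Matrix.one_mul, Matrix.mul_one, Matrix.mul_assoc,
      Φ.EE, Φ.GE, Φ.GG, Φ.EG, Matrix.smul_mul, Matrix.mul_smul, Matrix.mul_zero, smul_zero, add_zero, smul_smul] at h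
    have h' := congrFun₂ h ⟨0, hm⟩ ⟨0, hm⟩
    simp [hδ0] at h'
  haveI := CfsgLib.Classical.Unitary.isSimpleGroup_PSU hq2 hn h32
  have hperf : commutator (Cfsg.SU n F q) = ⊤ := by
    rw [eq_top_iff, ← CfsgLib.Classical.Unitary.su_closure_transvections hq2 hn h32, commutator_eq_closure]
    refine Subgroup.closure_mono ?_
    rintro A ⟨v, c, hv, hA⟩
    exact CfsgLib.Classical.Unitary.su_transvection_mem_commutatorSet hq2 hn A v c hv hA
  set p := QuotientGroup.mk' (Subgroup.center (Cfsg.SU n F q))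
  haveI : (ρ.ker.map p).Normal := Subgroup.Normal.map inferInstance p (QuotientGroup.mk'_surjective _)
  rcases IsSimpleGroup.eq_bot_or_eq_top_of_normal (ρ.ker.map p) inferInstance with h | h
  · exact hnc ((QuotientGroup.eq_one_iff _).1 (Subgroup.mem_bot.1 (h ▸ Subgroup.mem_map_of_mem p hmem)))
  · have hz : ∀ g, ∃ z ∈ Subgroup.center (Cfsg.SU n F q), ρ g = ρ z := by
      intro g
      obtain ⟨g', hg', e⟩ := (h ▸ Subgroup.mem_top (p g) : p g ∈ ρ.ker.map p)
      refine ⟨g'⁻¹ * g, QuotientGroup.eq.1 e, ?_⟩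
      rw [map_mul, show ρ g'⁻¹ = 1 from inv_mem hg', one_mul]
    have hker : commutator (Cfsg.SU n F q) ≤ ρ.ker := by
      rw [commutator_def, Subgroup.commutator_le]
      intro g _ g₂ _
      obtain ⟨z, hzc, hz'⟩ := hz g
      have hcomm : ρ g * ρ g₂ = ρ g₂ * ρ g := by
        rw [hz', ← map_mul, ← map_mul, Subgroup.mem_center_iff.1 hzc g₂]
      rw [MonoidHom.mem_ker, commutatorElement_def, map_mul, map_mul, map_mul, hcomm, mul_assoc (ρ g₂) (ρ g),
        ← map_mul ρ g g⁻¹, mul_inv_cancel, map_one, mul_one, ← map_mul, mul_inv_cancel, map_one]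
    exact hρ (MonoidHom.ext fun g => hker (hperf ▸ Subgroup.mem_top g))

theorem exists_sl_map (hm : 2 ≤ m) {v w : Fin m → F} (hv : v ≠ 0) (hw : w ≠ 0) :
    ∃ g : GL (Fin m) F, (g : Matrix (Fin m) (Fin m) F).det = 1 ∧ (g : Matrix (Fin m) (Fin m) F) *ᵥ v = w := by
  classical
  obtain ⟨h₀, hh₀⟩ := exists_gl_map_one hv hw
  obtain ⟨i, hi⟩ := Function.ne_iff.1 hv
  obtain ⟨j, hij⟩ : ∃ j, j ≠ i := Fintype.exists_ne_of_one_lt_card (by simp; omega) i
  set t : F := (h₀ : Matrix (Fin m) (Fin m) F).det⁻¹ - 1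
  set φ : Fin m → F := Pi.single j 1 - Pi.single i (v j / v i)
  have hi' : v i ≠ 0 := hi
  have hφb : φ ⬝ᵥ v = 0 := by simp [φ, sub_dotProduct, div_mul_cancel₀ _ hi']
  have hφv : φ ⬝ᵥ (Pi.single j t) = t := by simp [φ, hij.symm]
  set k₀ : Matrix (Fin m) (Fin m) F := 1 + replicateCol Unit (Pi.single j t) * replicateRow Unit φ
  have hdet : ((h₀ : Matrix (Fin m) (Fin m) F) * k₀).det = 1 := by
    rw [det_mul, det_one_add_replicateCol_mul_replicateRow, hφv, add_sub_cancel,
      mul_inv_cancel₀ (gl_det_ne_zero h₀)]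
  refine ⟨Matrix.GeneralLinearGroup.mkOfDetNeZero ((h₀ : Matrix (Fin m) (Fin m) F) * k₀)
    (by rw [hdet]; exact one_ne_zero), hdet, ?_⟩
  change ((h₀ : Matrix (Fin m) (Fin m) F) * k₀) *ᵥ v = w
  rw [← mulVec_mulVec, add_mulVec, one_mulVec, ← vecMulVec_eq, vecMulVec_mulVec, hφb]
  simp [hh₀]

variable [Fintype F] [IsAlgClosed K] [FiniteDimensional K V]

/-- Even dimension: `(q^n - 1) ≤ (q + 1) d`. -/
theorem su_bound_even (hq2 : Fintype.card F = q ^ 2) (hm : 2 ≤ m) (hF : (Fintype.card F : K) ≠ 0)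
    (ρ : Cfsg.SU (2 * m) F q →* Module.End K V) (hρ : ρ ≠ 1) :
    q ^ (2 * m) - 1 ≤ (q + 1) * Module.finrank K V := by
  obtain ⟨σ, hσ, hinv, hne'⟩ := CfsgLib.Transvec.Unitary.exists_frob hq2
  obtain ⟨δ, hδ0, hδ⟩ := CfsgLib.Transvec.Unitary.exists_skew hne' hinv
  obtain ⟨Φ, -⟩ := exists_frame (n := 2 * m) (m := m) hinv hne' hσ hq2 le_rfl
  haveI : Fintype (hermA σ m) := Fintype.ofFinite _
  have h := herm_bound hinv q hq2 hσ hne' hF (by omega) (ρ.comp (uniHom Φ hinv hσ hδ)) (Good Φ)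
    (fun v w hv hw => by
      obtain ⟨g, hg, hg'⟩ := exists_sl_map hm hv hw
      exact ⟨g, Or.inl hg, hg'⟩)
    (fun g hg => Or.inl hg) (hmove_su Φ hinv hσ hδ ρ)
    (exists_ne_one_su hinv hσ hq2 (by omega) (by omega) (by omega) Φ hδ hδ0 ρ hρ) 1
    (fun χ hW _ => Submodule.one_le_finrank_iff.2 hW)
  simpa using h

/-- Odd dimension: `(q^n - q) ≤ (q + 1) d`. -/
theorem su_bound_odd (hq2 : Fintype.card F = q ^ 2) (hm : 1 ≤ m) (hex : ¬(2 * m + 1 = 3 ∧ q = 2))
    (hF : (Fintype.card F : K) ≠ 0) (ρ : Cfsg.SU (2 * m + 1) F q →* Module.End K V) (hρ : ρ ≠ 1) :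
    q ^ (2 * m + 1) - q ≤ (q + 1) * Module.finrank K V := by
  obtain ⟨σ, hσ, hinv, hne'⟩ := CfsgLib.Transvec.Unitary.exists_frob hq2
  obtain ⟨δ, hδ0, hδ⟩ := CfsgLib.Transvec.Unitary.exists_skew hne' hinv
  obtain ⟨Φ, hΦ⟩ := exists_frame (n := 2 * m + 1) (m := m) hinv hne' hσ hq2 (by omega)
  have hw := hΦ (by omega)
  have h := herm_bound hinv q hq2 hσ hne' hF hm (ρ.comp (uniHom Φ hinv hσ hδ)) (Good Φ)
    (fun v w hv hw' => by
      obtain ⟨g, hg⟩ := exists_gl_map_one hv hw'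
      exact ⟨g, Or.inr hw, hg⟩)
    (fun g hg => Or.inl hg) (hmove_su Φ hinv hσ hδ ρ)
    (exists_ne_one_su hinv hσ hq2 (by omega) hex hm Φ hδ hδ0 ρ hρ) q
    (fun χ hW hχ => weight_mult Φ hinv hw hq2 hσ hne' hF hδ hδ0 ρ χ hW hχ)
  refine le_trans (le_of_eq ?_) h
  rw [Nat.sub_mul, one_mul, ← pow_succ]

end Main

end CfsgLib.MinDegree
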