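import Mathlib
import Cfsg.Agent.Lib.Classical.QuadEichler

/-!
A hyperbolic pair next to a quadratic space: generation of the commutator group and the stabiliser of the pair.
-/

namespace CfsgLib.MinDegree.HypSum

open CfsgLib.Classical

variable {F V : Type*} [Field F] [AddCommGroup V] [Module F V] (Q : QuadraticForm F V)

/-- The first vector of the pair. -/
def eH : (F × F) × V := ((1, 0), 0)

/-- The second vector of the pair. -/
def fH : (F × F) × V := ((0, 1), 0)

/-- The middle part. -/
def iH (y : V) : (F × F) × V := ((0, 0), y)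

theorem quad_eH : hypSum Q (eH : (F × F) × V) = 0 := by simp [eH, hypSum_apply]

theorem quad_fH : hypSum Q (fH : (F × F) × V) = 0 := by simp [fH, hypSum_apply]

theorem polar_eH (x : (F × F) × V) : QuadraticMap.polar (hypSum Q) eH x = x.1.2 := by
  simp [eH, polar_hypSum]

theorem polar_fH (x : (F × F) × V) : QuadraticMap.polar (hypSum Q) fH x = x.1.1 := by
  simp [fH, polar_hypSum]

theorem quad_iH (y : V) : hypSum Q (iH y) = Q y := by simp [iH, hypSum_apply]

theorem polar_iH (y z : V) : QuadraticMap.polar (hypSum Q) (iH y) (iH z) = QuadraticMap.polar Q y z := by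
  simp [iH, polar_hypSum]

/-- The extension of an isometry by the identity on the pair. -/
def liftHyp : qAut Q →* qAut (hypSum Q) where
  toFun h := ⟨(LinearEquiv.refl F (F × F)).prodCongr h.1, fun x => by
    simp [hypSum_apply, qAut_map]⟩
  map_one' := qAut_ext fun x => by simp
  map_mul' g h := qAut_ext fun x => by simp [qAut_mul_apply]

theorem liftHyp_apply (h : qAut Q) (x : (F × F) × V) : (liftHyp Q h).1 x = (x.1, h.1 x.2) := rfl

theorem liftHyp_eich {u w : V} (hu : Q u = 0) (h : QuadraticMap.polar Q u w = 0) :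
    liftHyp Q (eich Q u w) = eich (hypSum Q) (iH u) (iH w) := by
  refine qAut_ext fun x => ?_
  rw [liftHyp_apply, eich_apply Q hu h, eich_apply _ (by rw [quad_iH, hu]) (by rw [polar_iH, h])]
  simp only [polar_hypSum, iH, hypSum_apply]
  ext <;> simp

/-- A subgroup with both root groups of the pair contains every Eichler transformation. -/
theorem eichGroup_le (hQ : PolarNondeg Q) {H : Subgroup (qAut (hypSum Q))}
    (he : ∀ y, eich (hypSum Q) eH (iH y) ∈ H) (hf : ∀ y, eich (hypSum Q) fH (iH y) ∈ H) :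
    eichGroup (hypSum Q) ≤ H := by
  have hE : ∀ w, QuadraticMap.polar (hypSum Q) eH w = 0 → eich (hypSum Q) eH w ∈ H := by
    intro w hw
    rw [polar_eH] at hw
    have e : w = iH w.2 + w.1.1 • eH := by
      obtain ⟨⟨a, b⟩, y⟩ := w
      simp_all [eH, iH]
    rw [e, eich_add_self _ (quad_eH Q) (by rw [polar_eH]; rfl)]
    exact he _
  have hF : ∀ w, QuadraticMap.polar (hypSum Q) fH w = 0 → eich (hypSum Q) fH w ∈ H := by
    intro w hw
    rw [polar_fH] at hw
    have e : w = iH w.2 + w.1.2 • fH := by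
      obtain ⟨⟨a, b⟩, y⟩ := w
      simp_all [fH, iH]
    rw [e, eich_add_self _ (quad_fH Q) (by rw [polar_fH]; rfl)]
    exact hf _
  have conj : ∀ g ∈ H, ∀ u : (F × F) × V, hypSum Q u = 0 →
      (∀ w, QuadraticMap.polar (hypSum Q) u w = 0 → eich (hypSum Q) u w ∈ H) →
      ∀ w, QuadraticMap.polar (hypSum Q) (g.1 u) w = 0 → eich (hypSum Q) (g.1 u) w ∈ H := by
    intro g hg u hu h w hw
    obtain ⟨w', rfl⟩ := g.1.surjective w
    rw [qAut_polar] at hw
    rw [← eich_conj _ g hu hw]
    exact mul_mem (mul_mem hg (h w' hw)) (inv_mem hg)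
  have key : ∀ u, hypSum Q u = 0 → u.1.1 ≠ 0 →
      ∀ w, QuadraticMap.polar (hypSum Q) u w = 0 → eich (hypSum Q) u w ∈ H := by
    intro u hu ha
    obtain ⟨z, hz, hzu⟩ := exists_eich_move (hypSum Q) (u := u.1.1 • eH) (u' := u) (v := fH)
      (by rw [quad_smul, quad_eH, mul_zero]) hu (quad_fH Q)
      (by simp [QuadraticMap.polar_comm _ _ (fH : (F × F) × V), polar_fH, eH])
      (by simpa [QuadraticMap.polar_comm _ _ (fH : (F × F) × V), polar_fH, eH] using ha)
    rw [← hzu]
    refine conj _ (hF z hz) _ (by rw [quad_smul, quad_eH, mul_zero]) fun w hw => ?_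
    have hw' : QuadraticMap.polar (hypSum Q) eH w = 0 := by
      rw [QuadraticMap.polar_smul_left, smul_eq_mul, mul_eq_zero] at hw
      exact hw.resolve_left ha
    rw [eich_smul_left _ (quad_eH Q) hw']
    exact hE _ (by rw [QuadraticMap.polar_smul_right, hw', smul_zero])
  refine (Subgroup.closure_le _).2 ?_
  rintro _ ⟨u, w, hu, h, rfl⟩
  rw [SetLike.mem_coe]
  by_cases ha : u.1.1 = 0
  swap
  · exact key u hu ha w h
  by_cases hy : u.2 = 0
  · have e : u = u.1.2 • fH := by
      obtain ⟨⟨a, b⟩, y⟩ := u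
      simp_all [fH]
    rcases eq_or_ne u.1.2 0 with hb | hb
    · have hu0 : u = 0 := by rw [e, hb, zero_smul]
      have h1 : eich (hypSum Q) u w = 1 := by
        refine qAut_ext fun x => ?_
        rw [eich_apply _ hu h, hu0]
        simp
      rw [h1]; exact one_mem _
    · have hw : QuadraticMap.polar (hypSum Q) fH w = 0 := by
        rw [e, QuadraticMap.polar_smul_left, smul_eq_mul, mul_eq_zero] at h
        exact h.resolve_left hb
      rw [e, eich_smul_left _ (quad_fH Q) hw]
      exact hF _ (by rw [QuadraticMap.polar_smul_right, hw, smul_zero])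
  obtain ⟨y, hy'⟩ : ∃ y, QuadraticMap.polar Q u.2 y + Q y * u.1.2 ≠ 0 := by
    by_contra! hall
    obtain ⟨y₀, hy₀⟩ : ∃ y₀, QuadraticMap.polar Q u.2 y₀ ≠ 0 := by
      by_contra! h0
      exact hy (hQ _ h0)
    have hb : u.1.2 = 0 := by
      have h12 := hall (u.2 + y₀)
      rw [quad_add, QuadraticMap.polar_add_right] at h12
      have h1 := hall u.2
      have h2 := hall y₀
      have : QuadraticMap.polar Q u.2 y₀ * u.1.2 = 0 := by linear_combination h12 - h1 - h2
      exact (mul_eq_zero.1 this).resolve_left hy₀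
    have := hall y₀
    rw [hb, mul_zero, add_zero] at this
    exact hy₀ this
  have hye : QuadraticMap.polar (hypSum Q) eH (iH y) = 0 := by rw [polar_eH]; rfl
  obtain ⟨g, hg⟩ : ∃ g, g = eich (hypSum Q) eH (iH y) := ⟨_, rfl⟩
  have hgu : (g.1 u).1.1 ≠ 0 := by
    rw [hg, eich_apply _ (quad_eH Q) hye]
    intro h0
    simp [polar_hypSum, iH, eH, ha, hypSum_apply] at h0
    exact hy' (by linear_combination -h0)
  have hgm : g ∈ H := hg ▸ he y
  have h2 := key (g.1 u) (by rw [qAut_map, hu]) hgu (g.1 w) (by rw [qAut_polar, h])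
  rw [← eich_conj _ g hu h] at h2
  simpa [mul_assoc] using mul_mem (mul_mem (inv_mem hgm) h2) hgm

variable [FiniteDimensional F V] [Fintype F]

/-- The stabiliser of the pair in the commutator group is the commutator group of the middle. -/
theorem exists_lift_of_fix (hQ : PolarNondeg Q) (hn : 5 ≤ Module.finrank F V) {g : qAut (hypSum Q)}
    (hg : g ∈ eichGroup (hypSum Q)) (he : g.1 eH = eH) (hf : g.1 fH = fH) :
    ∃ h ∈ eichGroup Q, g = liftHyp Q h := by
  classical
  haveI : Finite V := Module.finite_of_finite F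
  haveI : Finite ((F × F) × V) := inferInstance
  haveI := finite_qAut Q
  haveI := finite_qAut (hypSum Q)
  have hQ' := polarNondeg_hypSum hQ
  have hn' : 5 ≤ Module.finrank F ((F × F) × V) := by
    rw [Module.finrank_prod]; omega
  have hperp : ∀ x, (g.1 x).1 = x.1 := by
    intro x
    have h1 := qAut_polar g eH x
    have h2 := qAut_polar g fH x
    rw [he, polar_eH, polar_eH] at h1
    rw [hf, polar_fH, polar_fH] at h2
    exact Prod.ext h2 h1
  have hdec : ∀ x : (F × F) × V, x = x.1.1 • eH + x.1.2 • fH + iH x.2 := fun x => by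
    obtain ⟨⟨a, b⟩, y⟩ := x
    simp [eH, fH, iH]
  have hmid : ∀ y, g.1 (iH y) = iH (g.1 (iH y)).2 := fun y => Prod.ext (hperp _) rfl
  let hl : V →ₗ[F] V :=
    (LinearMap.snd F (F × F) V).comp (g.1.toLinearMap.comp (LinearMap.inr F (F × F) V))
  have hl_apply : ∀ y, hl y = (g.1 (iH y)).2 := fun y => rfl
  have hinj : Function.Injective hl := fun a b hab => by
    have e : g.1 (iH a) = g.1 (iH b) := by rw [hmid a, hmid b, ← hl_apply, ← hl_apply, hab]
    exact congrArg Prod.snd (g.1.injective e)
  obtain ⟨h, hh⟩ : ∃ h : qAut Q, ∀ y, h.1 y = hl y := by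
    refine ⟨⟨LinearEquiv.ofBijective hl ⟨hinj, Finite.injective_iff_surjective.1 hinj⟩, fun y => ?_⟩, fun y => rfl⟩
    show Q (hl y) = Q y
    rw [← quad_iH Q, hl_apply, ← hmid, qAut_map, quad_iH]
  have hgh : g = liftHyp Q h := by
    refine qAut_ext fun x => ?_
    rw [liftHyp_apply, hh, hl_apply]
    conv_lhs => rw [hdec x, map_add, map_add, map_smul, map_smul, he, hf, hmid]
    simp [eH, fH, iH]
  refine ⟨h, ?_, hgh⟩
  have hgen := reflGroup_eq_top (hypSum Q) hQ' (Or.inr (by omega))
  let ψ : Abelianization (qAut Q) →* Abelianization (qAut (hypSum Q)) := Abelianization.map (liftHyp Q)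
  have hsurj : Function.Surjective ψ := by
    intro a
    obtain ⟨r, rfl⟩ := QuotientGroup.mk'_surjective _ a
    have hr : r ∈ reflGroup (hypSum Q) := hgen ▸ Subgroup.mem_top r
    have hle : reflGroup (hypSum Q) ≤ ψ.range.comap Abelianization.of := by
      refine (Subgroup.closure_le _).2 ?_
      rintro _ ⟨v, hv, rfl⟩
      obtain ⟨y, hy⟩ := exists_value Q hQ (by omega) hv
      have hy0 : Q y ≠ 0 := hy ▸ hv
      have hiy : hypSum Q (iH y) ≠ 0 := by rwa [quad_iH]
      obtain ⟨s, hs, hsv⟩ := exists_move_level (hypSum Q) (v' := v) hQ' (by omega) hiy (by rw [quad_iH, hy])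
      have e : qRefl (hypSum Q) hv = s * qRefl (hypSum Q) hiy * s⁻¹ := by
        rw [qRefl_conj _ s hiy (by rw [qAut_map]; exact hiy)]
        congr 1
        exact hsv.symm
      have e2 : qRefl (hypSum Q) hiy = liftHyp Q (qRefl Q hy0) := by
        refine qAut_ext fun x => ?_
        rw [qRefl_apply, liftHyp_apply, qRefl_apply]
        ext <;> simp [iH, polar_hypSum, hypSum_apply]
      refine ⟨Abelianization.of (qRefl Q hy0), ?_⟩
      rw [e, map_mul, map_mul, map_inv, mul_right_comm, mul_inv_cancel, one_mul, e2]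
      rfl
    exact hle hr
  have hcard : Nat.card (Abelianization (qAut Q)) ≤ Nat.card (Abelianization (qAut (hypSum Q))) := by
    show (commutator (qAut Q)).index ≤ (commutator (qAut (hypSum Q))).index
    by_cases h2 : (2 : F) = 0
    · haveI : CharP F 2 := CharTwo.of_one_ne_zero_of_two_eq_zero one_ne_zero h2
      rw [index_commutator_two Q hQ (by omega) (Or.inr (by omega)),
        index_commutator_two (hypSum Q) hQ' (by omega) (Or.inr (by omega))]
    · rw [index_commutator_odd Q h2 hQ (by omega), index_commutator_odd (hypSum Q) h2 hQ' (by omega)]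
  have hbij := hsurj.bijective_of_nat_card_le hcard
  rw [eichGroup_eq_commutator Q hQ hn]
  rw [eichGroup_eq_commutator _ hQ' hn', hgh] at hg
  refine (QuotientGroup.eq_one_iff h).1 ?_
  refine hbij.1 ?_
  refine Eq.trans ?_ (map_one ψ).symm
  exact (QuotientGroup.eq_one_iff (liftHyp Q h)).2 hg

end CfsgLib.MinDegree.HypSum
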