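import Mathlib

/-!
The arithmetic of the equality case for the smallest degree of the special linear groups.
-/

namespace CfsgLib.MinDegree.SLArith

theorem overlap_value {Q P c c' d k T : ℤ} (hQ : 3 ≤ Q) (hP : Q ≤ P) (hk : k = c + (Q * P - 1))
    (hc : c = c' + d * (P - 1)) (hk0 : k ≠ 0)
    (hmain : k * ((Q - 1) * c * Q ^ 2 + (Q * (Q * P) - Q) * T) = (Q * (Q * P) - 1) * c ^ 2 * Q ^ 2) {e : ℤ}
    (hd : (Q - 1) * k = Q * (Q * P) - Q + e * (Q - 1)) (he : e = 0 ∨ e = 1) :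
    T = if e = 0 then Q ^ 2 * c - (Q * (Q * P) - 1) else Q ^ 2 * c - Q ^ 2 * (P - 1) - 2 * Q * (Q - 1) := by
  have hA : Q * (Q * P) - Q ≠ 0 := by nlinarith
  have hne : Q * (Q * P) - Q + e * (Q - 1) ≠ 0 := by rw [← hd]; exact mul_ne_zero (by omega) hk0
  refine mul_left_cancel₀ (mul_ne_zero (mul_ne_zero hne hA) (show Q - 1 ≠ 0 by omega)) ?_
  have h : (Q - 1) * k * ((Q - 1) * ((Q - 1) * c) * Q ^ 2 + (Q * (Q * P) - Q) * ((Q - 1) * T)) =
      (Q * (Q * P) - 1) * ((Q - 1) * c) ^ 2 * Q ^ 2 := by linear_combination (Q - 1) ^ 2 * hmain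
  have hc1 : (Q - 1) * c = Q * P - 1 + e * (Q - 1) := by rw [hk] at hd; linear_combination hd
  rw [hd, hc1] at h
  rcases he with rfl | rfl
  · rw [if_pos rfl]
    linear_combination h - Q ^ 2 * ((Q * (Q * P) - Q) * (Q * (Q * P) - Q)) * hc1
  · rw [if_neg one_ne_zero]
    linear_combination h - Q ^ 2 * ((Q * (Q * P) - Q + (Q - 1)) * (Q * (Q * P) - Q)) * hc1

end CfsgLib.MinDegree.SLArith
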