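import Mathlib

/-!
A non-trivial representation of a perfect group of the smallest possible dimension is irreducible.
-/

namespace CfsgLib.MinDegree

theorem irreducible_of_minimal {K : Type*} [Field K] {G : Type*} [Group G] (hG : commutator G = ⊤) {V : Type*}
    [AddCommGroup V] [Module K V] [FiniteDimensional K V] (ρ : Representation K G V) (hne : ρ ≠ 1)
    (hmin : ∀ U : Submodule K V, ∀ σ : G →* Module.End K U, σ ≠ 1 → Module.finrank K V ≤ Module.finrank K U)
    (hminq : ∀ U : Submodule K V, ∀ σ : G →* Module.End K (V ⧸ U), σ ≠ 1 →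
      Module.finrank K V ≤ Module.finrank K (V ⧸ U)) :
    ρ.IsIrreducible := by
  haveI : Nontrivial V := by
    by_contra h
    rw [not_nontrivial_iff_subsingleton] at h
    exact hne (MonoidHom.ext fun g => LinearMap.ext fun v => Subsingleton.elim _ _)
  haveI : Nontrivial (Subrepresentation ρ) := ⟨⊥, ⊤, fun h => bot_ne_top (α := Submodule K V)
    (congrArg Subrepresentation.toSubmodule h)⟩
  refine IsSimpleOrder.mk fun S => ?_
  set U := S.toSubmodule
  by_cases hb : U = ⊥
  · exact Or.inl (Subrepresentation.toSubmodule_injective hb)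
  by_cases ht : U = ⊤
  · exact Or.inr (Subrepresentation.toSubmodule_injective ht)
  exfalso
  have hle : ∀ g, U ≤ U.comap (ρ g) := fun g v hv => S.apply_mem_toSubmodule g hv
  let σ : G →* Module.End K U :=
    { toFun := fun g => (ρ g).restrict (hle g)
      map_one' := LinearMap.ext fun v => Subtype.ext (by simp)
      map_mul' := fun g h => LinearMap.ext fun v => Subtype.ext (by simp) }
  let σq : G →* Module.End K (V ⧸ U) :=
    { toFun := fun g => U.mapQ U (ρ g) (hle g)
      map_one' := LinearMap.ext fun v => by
        induction v using Submodule.Quotient.induction_on with | _ v => simp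
      map_mul' := fun g h => LinearMap.ext fun v => by
        induction v using Submodule.Quotient.induction_on with | _ v => simp }
  have hU : ∀ g, ∀ v ∈ U, ρ g v = v := by
    intro g v hv
    have h1 : σ = 1 := by
      by_contra h
      exact absurd (hmin U σ h) (not_le.2 (Submodule.finrank_lt ht))
    exact congrArg Subtype.val (LinearMap.congr_fun (DFunLike.congr_fun h1 g) ⟨v, hv⟩)
  have hQ : ∀ g v, ρ g v - v ∈ U := by
    intro g v
    have h1 : σq = 1 := by
      by_contra h
      have h2 := hminq U σq h
      have h3 := U.finrank_quotient_add_finrank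
      have h4 : 0 < Module.finrank K U := Nat.pos_of_ne_zero fun e => hb (Submodule.finrank_eq_zero.1 e)
      omega
    exact (Submodule.Quotient.eq U).1 (LinearMap.congr_fun (DFunLike.congr_fun h1 g) (Submodule.Quotient.mk v))
  have hcomm : ∀ g h, ρ g * ρ h = ρ h * ρ g := by
    intro g h
    refine LinearMap.ext fun v => ?_
    have e1 := hU g _ (hQ h v)
    have e2 := hU h _ (hQ g v)
    rw [map_sub, sub_eq_iff_eq_add] at e1 e2
    rw [Module.End.mul_apply, Module.End.mul_apply, e1, e2]
    abel
  apply hne
  have hker : commutator G ≤ ρ.ker := by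
    rw [commutator_def, Subgroup.commutator_le]
    intro g _ h _
    rw [MonoidHom.mem_ker, commutatorElement_def, map_mul, map_mul, map_mul, hcomm g h, mul_assoc (ρ h) (ρ g),
      ← map_mul ρ g g⁻¹, mul_inv_cancel, map_one, mul_one, ← map_mul, mul_inv_cancel, map_one]
  exact MonoidHom.ext fun g => hker (hG ▸ Subgroup.mem_top g)

end CfsgLib.MinDegree
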