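import Mathlib

/-!
The arithmetic of the lower bound for the degrees of the special linear groups.
-/

namespace CfsgLib.MinDegree.SLArith

theorem sl_arith {q m d c c' f z k : ℕ} (hq : 2 ≤ q) (hm : 1 ≤ m) (hd : 1 ≤ d) (hfz : f ≤ z) (hz : z ≤ c')
    (hk : (k : ℤ) = c + ((q : ℤ) ^ (m + 1) - 1)) (hc : (c : ℤ) = c' + d * ((q : ℤ) ^ m - 1))
    (hmain : (k : ℤ) * (((q : ℤ) - 1) * c * q ^ 2 + ((q : ℤ) ^ (m + 2) - q) *
        ((q : ℤ) * c' + ((q : ℤ) - 1) * (((q : ℤ) + 1) * f - z))) = ((q : ℤ) ^ (m + 2) - 1) * c ^ 2 * q ^ 2) :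
    (q : ℤ) ^ (m + 2) - q ≤ ((q : ℤ) - 1) * k := by
  obtain ⟨Q, hQ⟩ : ∃ Q : ℤ, Q = (q : ℤ) := ⟨_, rfl⟩
  obtain ⟨P, hP⟩ : ∃ P : ℤ, P = Q ^ m := ⟨_, rfl⟩
  rw [← hQ] at hk hc hmain ⊢
  rw [show Q ^ (m + 1) = Q * P by rw [hP, pow_succ']] at hk
  rw [show Q ^ (m + 2) = Q * (Q * P) by rw [hP]; ring] at hmain ⊢
  rw [← hP] at hc
  have hQ2 : 2 ≤ Q := by rw [hQ]; exact_mod_cast hq
  have hPQ : Q ≤ P := by rw [hP]; exact le_self_pow₀ (by linarith) (by omega)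
  have hc0 : (0 : ℤ) ≤ c := Int.natCast_nonneg c
  have hd' : (1 : ℤ) ≤ d := by exact_mod_cast hd
  obtain ⟨T, hT⟩ : ∃ T : ℤ, T = Q * c' + (Q - 1) * ((Q + 1) * f - z) := ⟨_, rfl⟩
  rw [← hT] at hmain
  -- the inequality obtained from an upper bound of the overlap
  have good : T ≤ Q ^ 2 * c - (Q * (Q * P) - 1) → Q * (Q * P) - Q ≤ (Q - 1) * k := by
    intro hle
    have hA : (0 : ℤ) ≤ Q * (Q * P) - Q := by nlinarith
    have hk0 : (0 : ℤ) ≤ k := Int.natCast_nonneg k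
    have h1 := mul_le_mul_of_nonneg_left (mul_le_mul_of_nonneg_left hle hA) hk0
    have h2 : 0 < (Q * (Q * P) - Q) * (Q * (Q * P) - 1) := mul_pos (by nlinarith) (by nlinarith)
    have h3 : 0 ≤ (Q * (Q * P) - Q) * (Q * (Q * P) - 1) * ((Q - 1) * c - (Q * P - 1)) := by
      rw [hk] at hmain h1
      linear_combination h1 - hmain
    have h4 := nonneg_of_mul_nonneg_right h3 h2
    rw [hk]
    linear_combination h4
  by_cases hd2 : 2 ≤ d
  · refine good ?_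
    have hd2' : (2 : ℤ) ≤ d := by exact_mod_cast hd2
    have hfz' : (f : ℤ) ≤ z := by exact_mod_cast hfz
    have hz' : (z : ℤ) ≤ c' := by exact_mod_cast hz
    have : T ≤ Q ^ 2 * c' := by rw [hT]; nlinarith [mul_nonneg (mul_nonneg (show (0 : ℤ) ≤ Q - 1 by linarith) (show (0 : ℤ) ≤ Q + 1 by linarith)) (show (0 : ℤ) ≤ (z : ℤ) - f by linarith), mul_nonneg (mul_nonneg (show (0 : ℤ) ≤ Q - 1 by linarith) (show (0 : ℤ) ≤ Q by linarith)) (show (0 : ℤ) ≤ (c' : ℤ) - z by linarith)]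
    nlinarith [mul_nonneg (show (0 : ℤ) ≤ d - 2 by linarith) (show (0 : ℤ) ≤ Q ^ 2 * (P - 1) by nlinarith)]
  have hd1 : (d : ℤ) = 1 := by omega
  rw [hd1, one_mul] at hc
  rcases Nat.lt_or_ge (f + 1) c' with h2 | h2
  · refine good ?_
    have hfz' : (f : ℤ) ≤ z := by exact_mod_cast hfz
    have h2' : (f : ℤ) + 2 ≤ c' := by exact_mod_cast h2
    rw [hT, hc]
    nlinarith [mul_nonneg (show (0 : ℤ) ≤ Q - 1 by linarith) (show (0 : ℤ) ≤ (z : ℤ) - f by linarith),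
      mul_nonneg (mul_nonneg (show (0 : ℤ) ≤ Q by linarith) (show (0 : ℤ) ≤ Q - 1 by linarith))
        (show (0 : ℤ) ≤ c' - f - 2 by linarith), sq_nonneg (Q - 1)]
  rcases (show (f + 1 = c' ∧ z = c') ∨ (f + 1 = c' ∧ z + 1 = c') ∨ (f = c' ∧ z = c') by omega) with
    ⟨hf, hz1⟩ | ⟨hf, hz1⟩ | ⟨hf, hz1⟩
  · refine good (le_of_eq ?_)
    rw [hT, hc, hz1, ← hf]
    push_cast
    ring
  · exfalso
    have h : (c : ℤ) * (Q * P * (Q - 1)) = (Q * P - 1) * (Q * P - 1) := by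
      have hne : (Q * P - 1) * Q ^ 2 ≠ 0 := mul_ne_zero (by nlinarith) (by nlinarith)
      refine mul_left_cancel₀ hne ?_
      have hf' : (f : ℤ) = c' - 1 := by omega
      have hz' : (z : ℤ) = c' - 1 := by omega
      rw [hk, hT, hf', hz'] at hmain
      have hc' : (c' : ℤ) = c - (P - 1) := by linarith
      rw [hc'] at hmain
      linear_combination hmain
    have h1 : Q ∣ (1 : ℤ) := ⟨c * P * (Q - 1) - P * (Q * P - 2), by linear_combination -h⟩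
    have := Int.le_of_dvd one_pos h1
    linarith
  · exfalso
    have h : (c : ℤ) * ((Q - 1) * (Q * P + 1)) = (Q * P - 1) * Q * (P - 1) := by
      have hne : (Q * P - 1) * Q ^ 2 ≠ 0 := mul_ne_zero (by nlinarith) (by nlinarith)
      refine mul_left_cancel₀ hne ?_
      have hc' : (c' : ℤ) = c - (P - 1) := by linarith
      rw [hk, hT, hf, hz1, hc'] at hmain
      linear_combination hmain
    have h1 : Q * P + 1 ∣ Q * (2 * (P - 1)) := ⟨Q * (P - 1) - c * (Q - 1), by linear_combination h⟩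
    have hcop : IsCoprime (Q * P + 1) Q := ⟨1, -P, by ring⟩
    have h2' := Int.le_of_dvd (by nlinarith) (hcop.dvd_of_dvd_mul_left h1)
    nlinarith

end CfsgLib.MinDegree.SLArith
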