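import Mathlib
import Cfsg.Agent.Lib.MinDegree.Weights

/-!
Weight projections of a finite coordinate space acting on a complex space, and their traces.
-/

namespace CfsgLib.MinDegree.SLAvg

open Matrix

variable {F : Type*} [Field F] [Fintype F]
variable {ι : Type*} [Fintype ι] [DecidableEq ι]
variable {K : Type*} [Field K] {V : Type*} [AddCommGroup V] [Module K V] [FiniteDimensional K V]
variable (ψ : AddChar F K) (π : Multiplicative (ι → F) →* Module.End K V)

omit [Fintype F] [DecidableEq ι] in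
theorem exists_trace_nat {p : Module.End K V} (hp : p * p = p) :
    ∃ d : ℕ, LinearMap.trace K V p = (d : K) ∧ Module.finrank K (LinearMap.range p) = d :=
  ⟨_, LinearMap.IsProj.trace (LinearMap.IsIdempotentElem.isProj_range p hp), rfl⟩

omit [Fintype F] [DecidableEq ι] in
/-- Operators commuting with a projection of rank one commute on its image. -/
theorem rank_one_comm {p A B : Module.End K V} (hp : p * p = p) (h1 : Module.finrank K (LinearMap.range p) ≤ 1)
    (hA : A * p = p * A) (hB : B * p = p * B) : A * B * p = B * A * p := by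
  refine LinearMap.ext fun x => ?_
  by_cases h0 : p x = 0
  · simp only [Module.End.mul_apply, h0, map_zero]
  obtain ⟨v, hv⟩ := finrank_le_one_iff.1 h1
  have hsc : ∀ {C : Module.End K V}, C * p = p * C → ∃ μ : K, C (p x) = μ • p x := by
    intro C hC
    obtain ⟨a, ha⟩ := hv ⟨p x, x, rfl⟩
    obtain ⟨b, hb⟩ := hv ⟨C (p x), C x, (LinearMap.congr_fun hC x).symm⟩
    have ha' : a • (v : V) = p x := congrArg Subtype.val ha
    have hb' : b • (v : V) = C (p x) := congrArg Subtype.val hb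
    have ha0 : a ≠ 0 := fun e => h0 (by rw [← ha', e, zero_smul])
    exact ⟨b / a, by rw [← hb', ← ha', smul_smul, div_mul_cancel₀ _ ha0]⟩
  obtain ⟨a, ha⟩ := hsc hA
  obtain ⟨b, hb⟩ := hsc hB
  simp only [Module.End.mul_apply]
  rw [hb, map_smul, ha, map_smul, hb, smul_comm]

/-- The projection to the weight `φ ↦ ψ (φ ⬝ᵥ w)`. -/
noncomputable def av (w : ι → F) : Module.End K V :=
  (Fintype.card (ι → F) : K)⁻¹ • ∑ φ : ι → F, ψ (-(φ ⬝ᵥ w)) • π (Multiplicative.ofAdd φ)

theorem av_def (w : ι → F) :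
    av ψ π w = (Fintype.card (ι → F) : K)⁻¹ • ∑ φ : ι → F, ψ (-(φ ⬝ᵥ w)) • π (Multiplicative.ofAdd φ) := rfl

theorem apply_mul_av (φ w : ι → F) : π (Multiplicative.ofAdd φ) * av ψ π w = ψ (φ ⬝ᵥ w) • av ψ π w := by
  rw [av_def, mul_smul_comm, Finset.mul_sum, smul_comm (ψ (φ ⬝ᵥ w)), Finset.smul_sum (r := ψ (φ ⬝ᵥ w))]
  congr 1
  refine Fintype.sum_equiv (Equiv.addLeft φ) _ _ fun χ => ?_
  rw [mul_smul_comm, ← map_mul, ← ofAdd_add, Equiv.coe_addLeft, smul_smul, ← AddChar.map_add_eq_mul,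
    add_dotProduct]
  congr 2
  ring

theorem av_mul_apply (φ w : ι → F) : av ψ π w * π (Multiplicative.ofAdd φ) = ψ (φ ⬝ᵥ w) • av ψ π w := by
  rw [← apply_mul_av, av_def, smul_mul_assoc, mul_smul_comm, Finset.sum_mul, Finset.mul_sum]
  congr 1
  refine Finset.sum_congr rfl fun χ _ => ?_
  rw [smul_mul_assoc, mul_smul_comm, ← map_mul π, ← map_mul π, ← ofAdd_add, ← ofAdd_add, add_comm]

theorem av_zero : av ψ π 0 = (Fintype.card (ι → F) : K)⁻¹ • ∑ φ : ι → F, π (Multiplicative.ofAdd φ) := by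
  simp [av_def, dotProduct_zero]

theorem sum_char_dot (hψ : ψ ≠ 1) {w : ι → F} (hw : w ≠ 0) : ∑ φ : ι → F, ψ (φ ⬝ᵥ w) = 0 := by
  obtain ⟨c, hc⟩ : ∃ c, ψ c ≠ 1 := by
    by_contra h
    push Not at h
    exact hψ (DFunLike.ext _ _ fun x => (h x).trans (AddChar.one_apply x).symm)
  obtain ⟨i, hi⟩ := Function.ne_iff.1 hw
  have hd : (Pi.single i (c / w i)) ⬝ᵥ w = c := by
    rw [single_dotProduct, div_mul_cancel₀ _ hi]
  have h : ψ c * ∑ φ : ι → F, ψ (φ ⬝ᵥ w) = ∑ φ : ι → F, ψ (φ ⬝ᵥ w) := by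
    rw [Finset.mul_sum]
    refine Fintype.sum_equiv (Equiv.addLeft (Pi.single i (c / w i))) _ _ fun φ => ?_
    rw [Equiv.coe_addLeft, add_dotProduct, AddChar.map_add_eq_mul, hd]
  exact (mul_left_eq_self₀.1 h).resolve_left hc

variable [CharZero K]

theorem sum_av (hψ : ψ ≠ 1) : ∑ w : ι → F, av ψ π w = 1 := by
  simp only [av_def, ← Finset.smul_sum]
  rw [Finset.sum_comm, Finset.sum_eq_single (0 : ι → F)]
  · rw [ofAdd_zero, map_one]
    simp only [zero_dotProduct, neg_zero, AddChar.map_zero_eq_one, one_smul, Finset.sum_const, Finset.card_univ]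
    rw [← Nat.cast_smul_eq_nsmul K, smul_smul, inv_mul_cancel₀ (Nat.cast_ne_zero.2 Fintype.card_ne_zero), one_smul]
  · intro φ _ hφ
    rw [← Finset.sum_smul]
    refine smul_eq_zero_of_left ?_ _
    rw [← sum_char_dot ψ hψ (w := -φ) (by simpa using hφ)]
    exact Finset.sum_congr rfl fun w _ => by rw [dotProduct_comm φ w, dotProduct_neg]
  · simp

theorem av_mul_av [DecidableEq F] (hψ : ψ ≠ 1) (w w' : ι → F) :
    av ψ π w * av ψ π w' = if w = w' then av ψ π w' else 0 := by
  nth_rewrite 1 [av_def]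
  rw [smul_mul_assoc, Finset.sum_mul]
  simp only [smul_mul_assoc, apply_mul_av, smul_smul, ← AddChar.map_add_eq_mul, ← Finset.sum_smul]
  split_ifs with h
  · subst h
    simp only [neg_add_cancel, AddChar.map_zero_eq_one, Finset.sum_const, Finset.card_univ, nsmul_eq_mul, mul_one]
    rw [inv_mul_cancel₀ (Nat.cast_ne_zero.2 Fintype.card_ne_zero), one_smul]
  · rw [show ∑ φ : ι → F, ψ (-(φ ⬝ᵥ w) + φ ⬝ᵥ w') = ∑ φ : ι → F, ψ (φ ⬝ᵥ (w' - w)) from
      Finset.sum_congr rfl fun φ _ => by rw [dotProduct_sub]; congr 1; ring,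
      sum_char_dot ψ hψ (sub_ne_zero.2 (Ne.symm h)), mul_zero, zero_smul]

theorem av_idem (hψ : ψ ≠ 1) (w : ι → F) : av ψ π w * av ψ π w = av ψ π w := by
  classical
  rw [av_mul_av ψ π hψ, if_pos rfl]

omit [CharZero K] in
/-- Commutation with everything gives commutation with the projections. -/
theorem commute_av {T : Module.End K V} (h : ∀ φ, T * π (Multiplicative.ofAdd φ) = π (Multiplicative.ofAdd φ) * T)
    (w : ι → F) : T * av ψ π w = av ψ π w * T := by
  rw [av_def, mul_smul_comm, smul_mul_assoc, Finset.mul_sum, Finset.sum_mul]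
  congr 1
  exact Finset.sum_congr rfl fun φ _ => by rw [mul_smul_comm, smul_mul_assoc, h]

omit [CharZero K] in
/-- An intertwiner moves the weight projections. -/
theorem move_av {T : Module.End K V} (σ : (ι → F) ≃ (ι → F))
    (h : ∀ φ, T * π (Multiplicative.ofAdd φ) = π (Multiplicative.ofAdd (σ φ)) * T) {w w' : ι → F}
    (hw : ∀ φ, σ φ ⬝ᵥ w' = φ ⬝ᵥ w) : T * av ψ π w = av ψ π w' * T := by
  rw [av_def, av_def, mul_smul_comm, smul_mul_assoc, Finset.mul_sum, Finset.sum_mul]
  congr 1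
  exact Fintype.sum_equiv σ _ _ fun φ => by rw [mul_smul_comm, smul_mul_assoc, h, hw]

omit [Fintype F] [DecidableEq ι] [CharZero K] in
theorem trace_eq_of_conj {T U p p' : Module.End K V} (hUT : U * T = 1) (h : T * p = p' * T) :
    LinearMap.trace K V p = LinearMap.trace K V p' := by
  have hTU : T * U = 1 := mul_eq_one_comm.1 hUT
  calc LinearMap.trace K V p = LinearMap.trace K V ((U * p') * T) := by
        rw [mul_assoc, ← h, ← mul_assoc, hUT, one_mul]
    _ = LinearMap.trace K V p' := by rw [LinearMap.trace_mul_comm, ← mul_assoc, hTU, one_mul]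

omit [Fintype F] [DecidableEq ι] [CharZero K] in
/-- A moved projection contributes nothing to the trace. -/
theorem trace_moved {T p p' : Module.End K V} (hp : p * p = p) (hpp : p * p' = 0) (h : T * p = p' * T) :
    LinearMap.trace K V (T * p) = 0 := by
  have e : T * p = T * p * p := by rw [mul_assoc, hp]
  rw [e, LinearMap.trace_mul_comm, h, ← mul_assoc, hpp, zero_mul, map_zero]

theorem eq_zero_of_trace {p : Module.End K V} (hp : p * p = p) (h : LinearMap.trace K V p = 0) : p = 0 := by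
  obtain ⟨d, hd, hd'⟩ := exists_trace_nat hp
  rw [hd, Nat.cast_eq_zero] at h
  rw [h] at hd'
  exact LinearMap.range_eq_bot.1 (Submodule.finrank_eq_zero.1 hd')

end CfsgLib.MinDegree.SLAvg
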