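import Mathlib
import Cfsg.Agent.Lib.MinDegree.Weights
import Cfsg.Agent.Lib.Transvec.Linear

/-!
Transvections of the special linear group and moves of small independent families.
-/

namespace CfsgLib.MinDegree.SLTv

open Matrix

variable {F : Type*} [Field F] {ι : Type} [Fintype ι] [DecidableEq ι]

theorem det_one_add_vv (v φ : ι → F) : (1 + vecMulVec v φ).det = 1 + φ ⬝ᵥ v := by
  rw [vecMulVec_eq Unit, det_one_add_replicateCol_mul_replicateRow]

/-- The transvection in the special linear group, the identity unless `φ ⬝ᵥ v = 0`. -/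
noncomputable def tv (v φ : ι → F) : SpecialLinearGroup ι F :=
  haveI := Classical.propDecidable (φ ⬝ᵥ v = 0)
  if h : φ ⬝ᵥ v = 0 then ⟨1 + vecMulVec v φ, by rw [det_one_add_vv, h, add_zero]⟩ else 1

theorem tv_val {v φ : ι → F} (h : φ ⬝ᵥ v = 0) : (tv v φ : Matrix ι ι F) = 1 + vecMulVec v φ := by
  unfold tv
  simp only [h, ↓reduceDIte]

theorem tv_mulVec {v φ : ι → F} (h : φ ⬝ᵥ v = 0) (x : ι → F) :
    (tv v φ : Matrix ι ι F) *ᵥ x = x + (φ ⬝ᵥ x) • v := by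
  rw [tv_val h, add_mulVec, one_mulVec, vecMulVec_mulVec, op_smul_eq_smul]

theorem sl_ext {g h : SpecialLinearGroup ι F}
    (H : ∀ x, (g : Matrix ι ι F) *ᵥ x = (h : Matrix ι ι F) *ᵥ x) : g = h :=
  Subtype.ext (Matrix.ext_of_mulVec_single fun _ => H _)

theorem sl_mul_mulVec (g h : SpecialLinearGroup ι F) (x : ι → F) :
    ((g * h : SpecialLinearGroup ι F) : Matrix ι ι F) *ᵥ x = (g : Matrix ι ι F) *ᵥ ((h : Matrix ι ι F) *ᵥ x) := by
  rw [mulVec_mulVec]
  rfl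

theorem tv_mul {v φ χ : ι → F} (h : φ ⬝ᵥ v = 0) (h' : χ ⬝ᵥ v = 0) : tv v φ * tv v χ = tv v (φ + χ) := by
  refine sl_ext fun x => ?_
  rw [sl_mul_mulVec, tv_mulVec h', tv_mulVec h, tv_mulVec (by rw [add_dotProduct, h, h', add_zero]),
    dotProduct_add, dotProduct_smul, h, smul_zero, add_zero, add_dotProduct, add_smul]
  abel

theorem tv_zero (v : ι → F) : tv v 0 = 1 :=
  sl_ext fun x => by rw [tv_mulVec (zero_dotProduct v)]; simp

/-- Conjugation. -/
theorem mul_tv (g : SpecialLinearGroup ι F) {v φ w χ : ι → F} (h : φ ⬝ᵥ v = 0) (h' : χ ⬝ᵥ w = 0)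
    (H : ∀ x, (φ ⬝ᵥ x) • ((g : Matrix ι ι F) *ᵥ v) = (χ ⬝ᵥ ((g : Matrix ι ι F) *ᵥ x)) • w) :
    g * tv v φ = tv w χ * g := by
  refine sl_ext fun x => ?_
  rw [sl_mul_mulVec, sl_mul_mulVec, tv_mulVec h, tv_mulVec h', mulVec_add, mulVec_smul, H]

/-- The commutator of two transvections. -/
theorem tv_comm {b η z φ : ι → F} (hηb : η ⬝ᵥ b = 0) (hφz : φ ⬝ᵥ z = 0) (hφb : φ ⬝ᵥ b = 0) :
    tv b η * tv z φ = tv b ((η ⬝ᵥ z) • φ) * (tv z φ * tv b η) := by
  refine sl_ext fun x => ?_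
  rw [sl_mul_mulVec, sl_mul_mulVec, sl_mul_mulVec, tv_mulVec hηb, tv_mulVec hφz, tv_mulVec hηb, tv_mulVec hφz,
    tv_mulVec (by rw [smul_dotProduct, hφb, smul_zero])]
  simp only [dotProduct_add, dotProduct_smul, smul_dotProduct, hηb, hφz, hφb, smul_eq_mul]
  module

/-- The adjoint of the inverse. -/
theorem exists_adjoint (g : SpecialLinearGroup ι F) (φ : ι → F) :
    ∃ φ' : ι → F, ∀ x, φ' ⬝ᵥ ((g : Matrix ι ι F) *ᵥ x) = φ ⬝ᵥ x := by
  refine ⟨φ ᵥ* ((g⁻¹ : SpecialLinearGroup ι F) : Matrix ι ι F), fun x => ?_⟩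
  rw [← dotProduct_mulVec, ← sl_mul_mulVec, inv_mul_cancel]
  exact congrArg (φ ⬝ᵥ ·) (one_mulVec x)

/-- Independent families are moved by the special linear group, one member up to a scalar. -/
theorem exists_sl_map {κ : Type*} [Fintype κ] {v w : κ → ι → F} (hv : LinearIndependent F v)
    (hw : LinearIndependent F w) (i₀ : κ) :
    ∃ (g : SpecialLinearGroup ι F) (s : F), s ≠ 0 ∧ (g : Matrix ι ι F) *ᵥ v i₀ = s • w i₀ ∧
      ∀ i, i ≠ i₀ → (g : Matrix ι ι F) *ᵥ v i = w i := by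
  classical
  obtain ⟨g₀, hg₀⟩ := exists_gl_map hv hw
  have hdet : (g₀ : Matrix ι ι F).det ≠ 0 := (g₀.isUnit.map Matrix.detMonoidHom).ne_zero
  obtain ⟨η, hη, hη1⟩ := CfsgLib.Transvec.exists_functional
    (hw.notMem_span_image (Set.notMem_compl_iff.2 (Set.mem_singleton i₀)))
  obtain ⟨D, hD⟩ : ∃ D, D = 1 + vecMulVec (((g₀ : Matrix ι ι F).det⁻¹ - 1) • w i₀) η := ⟨_, rfl⟩
  have hDdet : D.det = (g₀ : Matrix ι ι F).det⁻¹ := by
    rw [hD, det_one_add_vv, dotProduct_smul, hη1, smul_eq_mul, mul_one, add_sub_cancel]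
  refine ⟨⟨D * (g₀ : Matrix ι ι F), by rw [det_mul, hDdet, inv_mul_cancel₀ hdet]⟩, (g₀ : Matrix ι ι F).det⁻¹,
    inv_ne_zero hdet, ?_, fun i hi => ?_⟩
  · show (D * (g₀ : Matrix ι ι F)) *ᵥ v i₀ = _
    rw [← mulVec_mulVec, hg₀, hD, add_mulVec, one_mulVec, vecMulVec_mulVec, op_smul_eq_smul, hη1, one_smul,
      sub_smul, one_smul, add_sub_cancel]
  · show (D * (g₀ : Matrix ι ι F)) *ᵥ v i = _
    rw [← mulVec_mulVec, hg₀, hD, add_mulVec, one_mulVec, vecMulVec_mulVec, op_smul_eq_smul,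
      hη _ (Submodule.subset_span ⟨i, hi, rfl⟩), zero_smul, add_zero]

/-- In dimension at least three, independent pairs are moved exactly. -/
theorem exists_sl_pair (h3 : 3 ≤ Fintype.card ι) {a b a' b' : ι → F} (h : LinearIndependent F ![a, b])
    (h' : LinearIndependent F ![a', b']) :
    ∃ g : SpecialLinearGroup ι F, (g : Matrix ι ι F) *ᵥ a = a' ∧ (g : Matrix ι ι F) *ᵥ b = b' := by
  have hext : ∀ {x y : ι → F}, LinearIndependent F ![x, y] → ∃ z, LinearIndependent F ![z, x, y] := by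
    intro x y hxy
    obtain ⟨z, hz⟩ : ∃ z, z ∉ Submodule.span F (Set.range ![x, y]) := by
      by_contra! hc
      have h2 := finrank_span_eq_card hxy
      rw [show Submodule.span F (Set.range ![x, y]) = ⊤ from eq_top_iff.2 fun z _ => hc z, finrank_top,
        Module.finrank_fintype_fun_eq_card, Fintype.card_fin] at h2
      omega
    exact ⟨z, linearIndependent_finCons.2 ⟨hxy, hz⟩⟩
  obtain ⟨z, hz⟩ := hext h
  obtain ⟨z', hz'⟩ := hext h'
  obtain ⟨g, -, -, -, hg⟩ := exists_sl_map hz hz' 0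
  exact ⟨g, hg 1 (by decide), hg 2 (by decide)⟩

end CfsgLib.MinDegree.SLTv
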