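import Mathlib
import Cfsg.Agent.Lib.MinDegree.SLAverage
import Cfsg.Agent.Lib.MinDegree.SLTransv

/-!
Projections to fixed spaces of transvection groups of the special linear group.
-/

namespace CfsgLib.MinDegree.SLOps

open Matrix SLAvg SLTv

variable {F : Type*} [Field F] [Fintype F] {m : ℕ}
variable {V : Type*} [AddCommGroup V] [Module ℂ V] [FiniteDimensional ℂ V]
variable (ρ : SpecialLinearGroup (Fin (m + 2)) F →* Module.End ℂ V)

/-- The standard vectors. -/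
def ev (i : Fin (m + 2)) : Fin (m + 2) → F := Pi.single i 1

/-- Padding by one zero. -/
def p1 (φ : Fin (m + 1) → F) : Fin (m + 2) → F := Fin.cons 0 φ

/-- Padding by two zeros. -/
def p2 (φ : Fin m → F) : Fin (m + 2) → F := Fin.cons 0 (Fin.cons 0 φ)

theorem dot_ev (φ : Fin (m + 2) → F) (i : Fin (m + 2)) : φ ⬝ᵥ ev i = φ i := by
  rw [ev, dotProduct_single, mul_one]

theorem p1_ev0 (φ : Fin (m + 1) → F) : p1 φ ⬝ᵥ (ev 0 : Fin (m + 2) → F) = 0 := by rw [dot_ev]; rfl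

theorem p2_ev0 (φ : Fin m → F) : p2 φ ⬝ᵥ (ev 0 : Fin (m + 2) → F) = 0 := by rw [dot_ev]; rfl

theorem p2_ev1 (φ : Fin m → F) : p2 φ ⬝ᵥ (ev 1 : Fin (m + 2) → F) = 0 := by rw [dot_ev]; rfl

theorem p1_add (φ χ : Fin (m + 1) → F) : p1 (φ + χ) = p1 φ + p1 χ := by
  funext i; refine Fin.cases ?_ (fun j => ?_) i <;> simp [p1]

theorem p2_add (φ χ : Fin m → F) : p2 (φ + χ) = p2 φ + p2 χ := by
  funext i; refine Fin.cases ?_ (fun j => Fin.cases ?_ (fun l => ?_) j) i <;> simp [p2]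

theorem p2_smul (a : F) (φ : Fin m → F) : p2 (a • φ) = a • p2 φ := by
  funext i; refine Fin.cases ?_ (fun j => Fin.cases ?_ (fun l => ?_) j) i <;> simp [p2]

theorem p2_neg (φ : Fin m → F) : p2 (-φ) = -p2 φ := by
  funext i; refine Fin.cases ?_ (fun j => Fin.cases ?_ (fun l => ?_) j) i <;> simp [p2]

theorem p1_zero : p1 (0 : Fin (m + 1) → F) = 0 := by
  funext i; refine Fin.cases ?_ (fun j => ?_) i <;> simp [p1]

theorem p2_zero : p2 (0 : Fin m → F) = 0 := by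
  funext i; refine Fin.cases ?_ (fun j => Fin.cases ?_ (fun l => ?_) j) i <;> simp [p2]

theorem p1_dot (φ w : Fin (m + 1) → F) : p1 φ ⬝ᵥ p1 w = φ ⬝ᵥ w := by
  simp [p1, dotProduct, Fin.sum_univ_succ]

theorem p2_dot (φ w : Fin m → F) : p2 φ ⬝ᵥ p2 w = φ ⬝ᵥ w := by
  simp [p2, dotProduct, Fin.sum_univ_succ]

/-- Transvections of centre the first vector. -/
noncomputable def qHom : Multiplicative (Fin (m + 1) → F) →* Module.End ℂ V where
  toFun φ := ρ (tv (ev 0) (p1 φ.toAdd))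
  map_one' := by simp [p1_zero, tv_zero]
  map_mul' φ χ := by rw [← map_mul ρ, tv_mul (p1_ev0 _) (p1_ev0 _), ← p1_add, toAdd_mul]

/-- Transvections of centre `v` vanishing on the first two vectors. -/
noncomputable def xHom (v : Fin (m + 2) → F) (hv : ∀ φ, p2 φ ⬝ᵥ v = 0) :
    Multiplicative (Fin m → F) →* Module.End ℂ V where
  toFun φ := ρ (tv v (p2 φ.toAdd))
  map_one' := by simp [p2_zero, tv_zero]
  map_mul' φ χ := by rw [← map_mul ρ, tv_mul (hv _) (hv _), ← p2_add, toAdd_mul]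

variable [DecidableEq F]

/-- The projection to the fixed space of all transvections of centre `v`. -/
noncomputable def pv (v : Fin (m + 2) → F) : Module.End ℂ V :=
  ((Fintype.card F : ℂ) ^ (m + 1))⁻¹ • ∑ φ : {φ : Fin (m + 2) → F // φ ⬝ᵥ v = 0}, ρ (tv v φ.1)

theorem conj_pv (g : SpecialLinearGroup (Fin (m + 2)) F) (v : Fin (m + 2) → F) :
    ρ g * pv ρ v = pv ρ ((g : Matrix (Fin (m + 2)) (Fin (m + 2)) F) *ᵥ v) * ρ g := by
  rw [pv, pv, mul_smul_comm, smul_mul_assoc, Finset.mul_sum, Finset.sum_mul]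
  congr 1
  have hinv : ((g⁻¹ : SpecialLinearGroup (Fin (m + 2)) F) : Matrix (Fin (m + 2)) (Fin (m + 2)) F) *ᵥ ((g : Matrix (Fin (m + 2)) (Fin (m + 2)) F) *ᵥ v) = v := by
    rw [← sl_mul_mulVec, inv_mul_cancel]; exact one_mulVec v
  refine Fintype.sum_equiv
    { toFun := fun φ => ⟨φ.1 ᵥ* ((g⁻¹ : SpecialLinearGroup (Fin (m + 2)) F) : Matrix (Fin (m + 2)) (Fin (m + 2)) F),
        by rw [← dotProduct_mulVec, hinv, φ.2]⟩
      invFun := fun φ => ⟨φ.1 ᵥ* (g : Matrix (Fin (m + 2)) (Fin (m + 2)) F), by rw [← dotProduct_mulVec, φ.2]⟩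
      left_inv := fun φ => Subtype.ext ?_
      right_inv := fun φ => Subtype.ext ?_ } _ _ fun φ => ?_
  · dsimp only
    rw [vecMul_vecMul, show ((g⁻¹ : SpecialLinearGroup (Fin (m + 2)) F) : Matrix (Fin (m + 2)) (Fin (m + 2)) F) * (g : Matrix (Fin (m + 2)) (Fin (m + 2)) F) = 1 from
      congrArg Subtype.val (inv_mul_cancel g), vecMul_one]
  · dsimp only
    rw [vecMul_vecMul, show (g : Matrix (Fin (m + 2)) (Fin (m + 2)) F) * ((g⁻¹ : SpecialLinearGroup (Fin (m + 2)) F) : Matrix (Fin (m + 2)) (Fin (m + 2)) F) = 1 from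
      congrArg Subtype.val (mul_inv_cancel g), vecMul_one]
  · rw [← map_mul, ← map_mul]
    refine congrArg ρ (mul_tv g φ.2 (by show (φ.1 ᵥ* _) ⬝ᵥ _ = 0; rw [← dotProduct_mulVec, hinv, φ.2]) fun x => ?_)
    show _ = ((φ.1 ᵥ* _) ⬝ᵥ _) • _
    rw [← dotProduct_mulVec, ← sl_mul_mulVec, inv_mul_cancel]
    exact congrArg (fun y => (φ.1 ⬝ᵥ y) • _) (one_mulVec x).symm

theorem pv_smul {s : F} (hs : s ≠ 0) (v : Fin (m + 2) → F) : pv ρ (s • v) = pv ρ v := by
  rw [pv, pv]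
  congr 1
  let e : {φ : Fin (m + 2) → F // φ ⬝ᵥ (s • v) = 0} ≃ {φ : Fin (m + 2) → F // φ ⬝ᵥ v = 0} :=
    { toFun := fun φ => ⟨s • φ.1, by
        have h := φ.2
        rw [dotProduct_smul] at h
        rw [smul_dotProduct, h]⟩
      invFun := fun φ => ⟨s⁻¹ • φ.1, by rw [smul_dotProduct, dotProduct_smul, φ.2, smul_zero, smul_zero]⟩
      left_inv := fun φ => Subtype.ext (by simp [smul_smul, inv_mul_cancel₀ hs])
      right_inv := fun φ => Subtype.ext (by simp [smul_smul, mul_inv_cancel₀ hs]) }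
  refine Fintype.sum_equiv e _ _ fun φ => ?_
  have h := φ.2
  rw [dotProduct_smul, smul_eq_zero] at h
  refine congrArg ρ (sl_ext fun x => ?_)
  rw [tv_mulVec φ.2, tv_mulVec (by
    show (s • φ.1) ⬝ᵥ v = 0
    rw [smul_dotProduct, h.resolve_left hs, smul_zero])]
  simp [e, smul_smul, mul_comm]

theorem pv_ev0 (ψ : AddChar F ℂ) : pv ρ (ev 0) = av ψ (qHom ρ) 0 := by
  rw [pv, av_zero, Fintype.card_fun, Fintype.card_fin, Nat.cast_pow]
  congr 1
  let e : (Fin (m + 1) → F) ≃ {φ : Fin (m + 2) → F // φ ⬝ᵥ ev 0 = 0} :=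
    { toFun := fun φ => ⟨p1 φ, p1_ev0 φ⟩
      invFun := fun φ => Fin.tail φ.1
      left_inv := fun φ => funext fun j => rfl
      right_inv := fun φ => Subtype.ext (by
        have h := φ.2
        rw [dot_ev] at h
        exact funext fun i => Fin.cases h.symm (fun j => rfl) i) }
  exact (Fintype.sum_equiv e _ _ fun φ => rfl).symm

/-- An element fixing the line of the first vector moves the weights. -/
theorem move1 (ψ : AddChar F ℂ) (g : SpecialLinearGroup (Fin (m + 2)) F) {s a : F} (hs : s ≠ 0)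
    (hg : (g : Matrix (Fin (m + 2)) (Fin (m + 2)) F) *ᵥ ev 0 = s • ev 0) {w w' : Fin (m + 1) → F}
    (hw : (g : Matrix (Fin (m + 2)) (Fin (m + 2)) F) *ᵥ p1 w = a • ev 0 + s • p1 w') :
    ρ g * av ψ (qHom ρ) w = av ψ (qHom ρ) w' * ρ g := by
  choose adj hadj using exists_adjoint g
  have h0 : ∀ φ : Fin (m + 1) → F, adj (p1 φ) 0 = 0 := fun φ => by
    have h := hadj (p1 φ) (ev 0)
    rw [hg, dotProduct_smul, p1_ev0, smul_eq_mul, mul_eq_zero, dot_ev] at h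
    exact h.resolve_left hs
  obtain ⟨σ, hσ⟩ : ∃ σ : (Fin (m + 1) → F) → (Fin (m + 1) → F), ∀ φ, p1 (σ φ) = s • adj (p1 φ) :=
    ⟨fun φ => Fin.tail (s • adj (p1 φ)), fun φ => funext fun i =>
      Fin.cases (show (0 : F) = (s • adj (p1 φ)) 0 by simp [h0]) (fun j => rfl) i⟩
  have hbij : Function.Bijective σ := Finite.injective_iff_bijective.1 fun φ φ' e => by
    refine dotProduct_eq _ _ fun x => ?_
    have e1 : adj (p1 φ) = adj (p1 φ') := smul_right_injective _ hs (((hσ φ).symm.trans (congrArg p1 e)).trans (hσ φ'))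
    rw [← p1_dot φ x, ← p1_dot φ' x, ← hadj (p1 φ), ← hadj (p1 φ'), e1]
  refine move_av ψ _ (Equiv.ofBijective σ hbij) (fun φ => ?_) (fun φ => ?_)
  · show ρ g * ρ (tv (ev 0) (p1 φ)) = ρ (tv (ev 0) (p1 (σ φ))) * ρ g
    rw [← map_mul, ← map_mul]
    refine congrArg ρ (mul_tv g (p1_ev0 _) (p1_ev0 _) fun x => ?_)
    rw [hg, hσ, smul_dotProduct, hadj, smul_eq_mul, smul_smul, mul_comm]
  · show σ φ ⬝ᵥ w' = _
    rw [← p1_dot, hσ, ← p1_dot φ w, ← hadj (p1 φ) (p1 w), hw, dotProduct_add, dotProduct_smul, dot_ev, h0,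
      smul_zero, zero_add, smul_dotProduct, dotProduct_smul]

/-- An element fixing the second vector and the line of the first one moves the weights of `X`. -/
theorem move2 (ψ : AddChar F ℂ) (g : SpecialLinearGroup (Fin (m + 2)) F) {s : F} (hs : s ≠ 0)
    (hg : (g : Matrix (Fin (m + 2)) (Fin (m + 2)) F) *ᵥ ev 0 = s • ev 0) (hg1 : (g : Matrix (Fin (m + 2)) (Fin (m + 2)) F) *ᵥ ev 1 = ev 1) {w w' : Fin m → F}
    (hw : (g : Matrix (Fin (m + 2)) (Fin (m + 2)) F) *ᵥ p2 w = p2 w') :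
    ρ g * av ψ (xHom ρ (ev 1) p2_ev1) w = av ψ (xHom ρ (ev 1) p2_ev1) w' * ρ g := by
  choose adj hadj using exists_adjoint g
  have h0 : ∀ φ : Fin m → F, adj (p2 φ) 0 = 0 := fun φ => by
    have h := hadj (p2 φ) (ev 0)
    rw [hg, dotProduct_smul, p2_ev0, smul_eq_mul, mul_eq_zero, dot_ev] at h
    exact h.resolve_left hs
  have h1 : ∀ φ : Fin m → F, adj (p2 φ) 1 = 0 := fun φ => by
    have h := hadj (p2 φ) (ev 1)
    rwa [hg1, p2_ev1, dot_ev] at h
  obtain ⟨σ, hσ⟩ : ∃ σ : (Fin m → F) → (Fin m → F), ∀ φ, p2 (σ φ) = adj (p2 φ) :=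
    ⟨fun φ => Fin.tail (Fin.tail (adj (p2 φ))), fun φ => funext fun i =>
      Fin.cases (h0 φ).symm (fun j => Fin.cases (h1 φ).symm (fun l => rfl) j) i⟩
  have hbij : Function.Bijective σ := Finite.injective_iff_bijective.1 fun φ φ' e => by
    refine dotProduct_eq _ _ fun x => ?_
    rw [← p2_dot φ x, ← p2_dot φ' x, ← hadj (p2 φ), ← hadj (p2 φ'), ← hσ, ← hσ, e]
  refine move_av ψ _ (Equiv.ofBijective σ hbij) (fun φ => ?_) (fun φ => ?_)
  · show ρ g * ρ (tv (ev 1) (p2 φ)) = ρ (tv (ev 1) (p2 (σ φ))) * ρ g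
    rw [← map_mul, ← map_mul]
    refine congrArg ρ (mul_tv g (p2_ev1 _) (p2_ev1 _) fun x => ?_)
    rw [hg1, hσ, hadj]
  · show σ φ ⬝ᵥ w' = _
    rw [← p2_dot, hσ, ← p2_dot φ w, ← hadj (p2 φ) (p2 w), hw]

end CfsgLib.MinDegree.SLOps
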