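import Mathlib
import Cfsg.Agent.Lib.MinDegree.SLOps

/-!
The overlap of the fixed spaces of two transvection groups with different centres.
-/

namespace CfsgLib.MinDegree.SLOverlap

open Matrix SLAvg SLTv SLOps

variable {F : Type*} [Field F] [Fintype F] [DecidableEq F] {m : ℕ}
variable {V : Type*} [AddCommGroup V] [Module ℂ V] [FiniteDimensional ℂ V]
variable (ρ : SpecialLinearGroup (Fin (m + 2)) F →* Module.End ℂ V) (ψ : AddChar F ℂ)

/-- A root group as a homomorphism. -/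
noncomputable def yHom (v χ : Fin (m + 2) → F) (h : χ ⬝ᵥ v = 0) :
    Multiplicative (Fin 1 → F) →* Module.End ℂ V where
  toFun φ := ρ (tv v (φ.toAdd 0 • χ))
  map_one' := by simp [tv_zero]
  map_mul' φ η := by
    rw [← map_mul ρ, tv_mul (by rw [smul_dotProduct, h, smul_zero]) (by rw [smul_dotProduct, h, smul_zero]),
      ← add_smul]
    rfl

theorem ev10 : (ev 1 : Fin (m + 2) → F) ⬝ᵥ ev 0 = 0 := by rw [dot_ev, ev]; exact Pi.single_eq_of_ne (by simp) _

theorem ev01 : (ev 0 : Fin (m + 2) → F) ⬝ᵥ ev 1 = 0 := by rw [dot_ev, ev]; exact Pi.single_eq_of_ne (by simp) _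

/-- The upper root element. -/
noncomputable def uu (a : F) : SpecialLinearGroup (Fin (m + 2)) F := tv (ev 0) (a • ev 1)

/-- The lower root element. -/
noncomputable def ll (a : F) : SpecialLinearGroup (Fin (m + 2)) F := tv (ev 1) (a • ev 0)

/-- The Weyl element. -/
noncomputable def ww : SpecialLinearGroup (Fin (m + 2)) F := uu (-1) * ll 1 * uu (-1)

/-- The torus. -/
noncomputable def hh (s : Fˣ) : SpecialLinearGroup (Fin (m + 2)) F :=
  ⟨Matrix.diagonal (Fin.cons (s : F) (Fin.cons (s : F)⁻¹ 1)), by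
    rw [det_diagonal, Fin.prod_univ_succ, Fin.prod_univ_succ]
    simp [mul_inv_cancel₀ s.ne_zero]⟩

theorem ev_dot (x : Fin (m + 2) → F) (i : Fin (m + 2)) : ev i ⬝ᵥ x = x i := by
  rw [dotProduct_comm, dot_ev]

theorem uu_mulVec (a : F) (x : Fin (m + 2) → F) :
    ((uu a : SpecialLinearGroup (Fin (m + 2)) F) : Matrix (Fin (m + 2)) (Fin (m + 2)) F) *ᵥ x = x + (a * x 1) • ev 0 := by
  rw [uu, tv_mulVec (by rw [smul_dotProduct, ev10, smul_zero]), smul_dotProduct, ev_dot, smul_eq_mul]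

theorem ll_mulVec (a : F) (x : Fin (m + 2) → F) :
    ((ll a : SpecialLinearGroup (Fin (m + 2)) F) : Matrix (Fin (m + 2)) (Fin (m + 2)) F) *ᵥ x = x + (a * x 0) • ev 1 := by
  rw [ll, tv_mulVec (by rw [smul_dotProduct, ev01, smul_zero]), smul_dotProduct, ev_dot, smul_eq_mul]

theorem ww_mulVec (x : Fin (m + 2) → F) :
    ((ww : SpecialLinearGroup (Fin (m + 2)) F) : Matrix (Fin (m + 2)) (Fin (m + 2)) F) *ᵥ x = Fin.cons (-x 1) (Fin.cons (x 0) fun i => x i.succ.succ) := by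
  rw [ww, sl_mul_mulVec, sl_mul_mulVec, uu_mulVec, ll_mulVec, uu_mulVec]
  funext i
  refine Fin.cases ?_ (fun j => Fin.cases ?_ (fun l => ?_) j) i <;>
    simp [ev, Pi.single_apply, Fin.ext_iff] <;> ring

theorem hh_mulVec (s : Fˣ) (x : Fin (m + 2) → F) :
    ((hh s : SpecialLinearGroup (Fin (m + 2)) F) : Matrix (Fin (m + 2)) (Fin (m + 2)) F) *ᵥ x =
      Fin.cons ((s : F) * x 0) (Fin.cons ((s : F)⁻¹ * x 1) fun i => x i.succ.succ) := by
  funext i
  show (Matrix.diagonal _ *ᵥ x) i = _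
  rw [mulVec_diagonal]
  refine Fin.cases ?_ (fun j => Fin.cases ?_ (fun l => ?_) j) i <;> simp

theorem bruhat {y : F} (hy : y ≠ 0) :
    uu (-y⁻¹) * ll y * uu (-y⁻¹) = hh (Units.mk0 y hy)⁻¹ * (ww : SpecialLinearGroup (Fin (m + 2)) F) := by
  refine sl_ext fun x => ?_
  rw [sl_mul_mulVec, sl_mul_mulVec, sl_mul_mulVec, uu_mulVec, ll_mulVec, uu_mulVec, ww_mulVec, hh_mulVec]
  funext i
  refine Fin.cases ?_ (fun j => Fin.cases ?_ (fun l => ?_) j) i <;>
    simp [ev, Pi.single_apply, Fin.ext_iff] <;> field_simp <;> ring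

theorem p2_dot_cons (φ : Fin m → F) (a b : F) (x : Fin m → F) :
    p2 φ ⬝ᵥ Fin.cons a (Fin.cons b x) = φ ⬝ᵥ x := by
  simp [p2, dotProduct, Fin.sum_univ_succ]

theorem p2_dot_tail (φ : Fin m → F) (x : Fin (m + 2) → F) : p2 φ ⬝ᵥ x = φ ⬝ᵥ fun i => x i.succ.succ := by
  simp [p2, dotProduct, Fin.sum_univ_succ]

theorem cons_smul0 (a : F) : a • (ev 0 : Fin (m + 2) → F) = Fin.cons a (Fin.cons 0 0) := by
  funext i
  refine Fin.cases ?_ (fun j => Fin.cases ?_ (fun l => ?_) j) i <;> simp [ev, Pi.single_apply, Fin.ext_iff]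

theorem cons_smul1 (a : F) : a • (ev 1 : Fin (m + 2) → F) = Fin.cons 0 (Fin.cons a 0) := by
  funext i
  refine Fin.cases ?_ (fun j => Fin.cases ?_ (fun l => ?_) j) i <;> simp [ev, Pi.single_apply, Fin.ext_iff]

theorem hh_ev0 (s : Fˣ) : ((hh s : SpecialLinearGroup (Fin (m + 2)) F) : Matrix (Fin (m + 2)) (Fin (m + 2)) F) *ᵥ ev 0 = (s : F) • ev 0 := by
  rw [hh_mulVec, cons_smul0]
  simp [ev, Pi.single_apply, Fin.ext_iff, Pi.zero_def]

theorem hh_ev1 (s : Fˣ) : ((hh s : SpecialLinearGroup (Fin (m + 2)) F) : Matrix (Fin (m + 2)) (Fin (m + 2)) F) *ᵥ ev 1 = (s : F)⁻¹ • ev 1 := by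
  rw [hh_mulVec, cons_smul1]
  simp [ev, Pi.single_apply, Fin.ext_iff, Pi.zero_def]

theorem ww_ev0 : ((ww : SpecialLinearGroup (Fin (m + 2)) F) : Matrix (Fin (m + 2)) (Fin (m + 2)) F) *ᵥ ev 0 = ev 1 := by
  rw [ww_mulVec, ← one_smul F (ev 1 : Fin (m + 2) → F), cons_smul1]
  simp [ev, Pi.single_apply, Fin.ext_iff, Pi.zero_def]

theorem ww_ev1 : ((ww : SpecialLinearGroup (Fin (m + 2)) F) : Matrix (Fin (m + 2)) (Fin (m + 2)) F) *ᵥ ev 1 = (-1 : F) • ev 0 := by
  rw [ww_mulVec, cons_smul0]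
  simp [ev, Pi.single_apply, Fin.ext_iff, Pi.zero_def]

theorem p2_hh (φ : Fin m → F) (s : Fˣ) (x : Fin (m + 2) → F) :
    p2 φ ⬝ᵥ (((hh s : SpecialLinearGroup (Fin (m + 2)) F) : Matrix (Fin (m + 2)) (Fin (m + 2)) F) *ᵥ x) = p2 φ ⬝ᵥ x := by
  rw [hh_mulVec, p2_dot_cons, p2_dot_tail]

theorem p2_ww (φ : Fin m → F) (x : Fin (m + 2) → F) :
    p2 φ ⬝ᵥ (((ww : SpecialLinearGroup (Fin (m + 2)) F) : Matrix (Fin (m + 2)) (Fin (m + 2)) F) *ᵥ x) = p2 φ ⬝ᵥ x := by
  rw [ww_mulVec, p2_dot_cons, p2_dot_tail]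

theorem av_zero_move {κ : Type*} [Fintype κ] [DecidableEq κ] (π π' : Multiplicative (κ → F) →* Module.End ℂ V)
    {T : Module.End ℂ V} (σ : (κ → F) → (κ → F)) (hσ : Function.Injective σ)
    (h : ∀ φ, T * π (Multiplicative.ofAdd φ) = π' (Multiplicative.ofAdd (σ φ)) * T) :
    T * av ψ π 0 = av ψ π' 0 * T := by
  rw [av_zero, av_zero, mul_smul_comm, smul_mul_assoc, Finset.mul_sum, Finset.sum_mul]
  congr 1
  exact Fintype.sum_equiv (Equiv.ofBijective σ (Finite.injective_iff_bijective.1 hσ)) _ _ fun φ => h φ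

/-- `PX`. -/
noncomputable def PX : Module.End ℂ V := av ψ (xHom ρ (ev 1) p2_ev1) 0
/-- `PX'`. -/
noncomputable def PX' : Module.End ℂ V := av ψ (xHom ρ (ev 0) p2_ev0) 0
/-- `PY'`. -/
noncomputable def PU : Module.End ℂ V := av ψ (yHom ρ (ev 0) (ev 1) ev10) 0
/-- `PY`. -/
noncomputable def PL : Module.End ℂ V := av ψ (yHom ρ (ev 1) (ev 0) ev01) 0
/-- The average over the torus. -/
noncomputable def PT : Module.End ℂ V := (Fintype.card Fˣ : ℂ)⁻¹ • ∑ s : Fˣ, ρ (hh s)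

theorem hh_mul (s t : Fˣ) : hh s * hh t = (hh (s * t) : SpecialLinearGroup (Fin (m + 2)) F) := by
  refine sl_ext fun x => ?_
  rw [sl_mul_mulVec, hh_mulVec, hh_mulVec, hh_mulVec]
  funext i
  refine Fin.cases ?_ (fun j => Fin.cases ?_ (fun l => ?_) j) i <;>
    simp [Fin.ext_iff, _root_.mul_inv_rev, mul_comm, mul_left_comm, mul_assoc]

theorem qHom_split (a : F) (φ : Fin m → F) :
    tv (ev 0) (p1 (Fin.cons a φ)) = uu a * tv (ev 0) (p2 φ) := by
  rw [uu, tv_mul (by rw [smul_dotProduct, ev10, smul_zero]) (p2_ev0 φ), cons_smul1]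
  congr 1
  funext i
  refine Fin.cases ?_ (fun j => Fin.cases ?_ (fun l => ?_) j) i <;> simp [p1, p2]

theorem pv0_split : pv ρ (ev 0) = PU ρ ψ * PX' ρ ψ := by
  rw [pv_ev0 ρ ψ, PU, PX', av_zero, av_zero, av_zero, smul_mul_smul_comm, Finset.sum_mul]
  simp only [Finset.mul_sum]
  rw [← Fintype.sum_prod_type', Fintype.card_fun, Fintype.card_fun, Fintype.card_fun, Fintype.card_fin,
    Fintype.card_fin, Fintype.card_fin, ← mul_inv, ← Nat.cast_mul, ← pow_add, Nat.add_comm 1 m]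
  congr 1
  refine (Fintype.sum_equiv
    (((Equiv.funUnique (Fin 1) F).prodCongr (Equiv.refl _)).trans (Fin.consEquiv fun _ => F)) _ _ fun x => ?_).symm
  show ρ (tv (ev 0) (x.1 0 • ev 1)) * ρ (tv (ev 0) (p2 x.2)) = ρ (tv (ev 0) (p1 (Fin.cons (x.1 default) x.2)))
  rw [qHom_split, map_mul]
  rfl

theorem commute_X : PX ρ ψ * PX' ρ ψ = PX' ρ ψ * PX ρ ψ := by
  refine commute_av ψ _ (fun φ => (commute_av ψ _ (T := ρ (tv (ev 0) (p2 φ))) (fun χ => ?_) 0).symm) 0
  show ρ _ * ρ _ = ρ _ * ρ _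
  rw [← map_mul, ← map_mul]
  refine congrArg ρ (mul_tv _ (p2_ev1 χ) (p2_ev1 χ) fun x => ?_)
  rw [tv_mulVec (p2_ev0 φ), tv_mulVec (p2_ev0 φ), p2_ev1, zero_smul, add_zero, dotProduct_add, dotProduct_smul,
    p2_ev0, smul_zero, add_zero]

theorem uu_commute_R (a : F) : ρ (uu a) * (PX ρ ψ * PX' ρ ψ) = PX ρ ψ * PX' ρ ψ * ρ (uu a) := by
  have hX' : ρ (uu a) * PX' ρ ψ = PX' ρ ψ * ρ (uu a) := by
    refine commute_av ψ _ (fun χ => ?_) 0
    show ρ _ * ρ _ = ρ _ * ρ _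
    rw [← map_mul, ← map_mul, uu, tv_mul (by rw [smul_dotProduct, ev10, smul_zero]) (p2_ev0 _),
      tv_mul (p2_ev0 _) (by rw [smul_dotProduct, ev10, smul_zero]), add_comm (a • ev 1)]
  have hu : ∀ φ : Fin m → F, uu a * tv (ev 1) (p2 φ) = tv (ev 1) (p2 φ) * tv (ev 0) (p2 (a • φ)) * uu a := by
    intro φ
    refine sl_ext fun x => ?_
    rw [sl_mul_mulVec, sl_mul_mulVec, sl_mul_mulVec, uu_mulVec, uu_mulVec, tv_mulVec (p2_ev1 φ),
      tv_mulVec (p2_ev0 (a • φ)), tv_mulVec (p2_ev1 φ), p2_smul]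
    have e : p2 φ ⬝ᵥ (Pi.single 0 1 : Fin (m + 2) → F) = 0 := p2_ev0 φ
    simp only [dotProduct_add, dotProduct_smul, smul_dotProduct, p2_ev0, e, smul_zero, add_zero, Pi.add_apply,
      Pi.smul_apply, ev, Pi.single_eq_same, smul_eq_mul, mul_one]
    module
  rw [PX, av_zero, smul_mul_assoc, mul_smul_comm, smul_mul_assoc]
  congr 1
  rw [Finset.sum_mul, Finset.mul_sum, Finset.sum_mul]
  refine Finset.sum_congr rfl fun φ _ => ?_
  show ρ (uu a) * (ρ (tv (ev 1) (p2 φ)) * PX' ρ ψ) = ρ (tv (ev 1) (p2 φ)) * PX' ρ ψ * ρ (uu a)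
  have habs : ρ (tv (ev 0) (p2 (a • φ))) * PX' ρ ψ = PX' ρ ψ := by
    have h := apply_mul_av ψ (xHom ρ (ev 0) p2_ev0) (a • φ) 0
    rwa [dotProduct_zero, AddChar.map_zero_eq_one, one_smul] at h
  rw [← mul_assoc, ← map_mul, hu, map_mul, map_mul, mul_assoc, mul_assoc, hX', ← mul_assoc (ρ (tv (ev 0) _)), habs,
    mul_assoc]

/-- The overlap, with the fixed vectors of the first block. -/
theorem overlap_ext (hψ : ψ ≠ 1) : ∃ c' z f : ℕ, f ≤ z ∧ z ≤ c' ∧
    LinearMap.trace ℂ V (pv ρ (ev 0) * PX ρ ψ) = c' ∧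
    (z = c' → ∀ s : Fˣ, ρ (hh s) * (pv ρ (ev 0) * PX ρ ψ) = pv ρ (ev 0) * PX ρ ψ) ∧
    ((∀ s : Fˣ, ρ (hh s) * (pv ρ (ev 0) * PX ρ ψ) = pv ρ (ev 0) * PX ρ ψ) → z = c') ∧
    (Fintype.card F : ℂ) ^ 2 * LinearMap.trace ℂ V (pv ρ (ev 0) * pv ρ (ev 1)) =
      (Fintype.card F : ℂ) * c' + ((Fintype.card F : ℂ) - 1) * (((Fintype.card F : ℂ) + 1) * f - z) ∧
    (0 < f → ∃ y : V, y ≠ 0 ∧ (∀ a, ρ (uu a) y = y) ∧ (∀ a, ρ (ll a) y = y) ∧ (∀ s, ρ (hh s) y = y) ∧
      pv ρ (ev 0) y = y ∧ PX ρ ψ y = y) := by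
  classical
  obtain ⟨q, hq⟩ : ∃ q : ℂ, q = (Fintype.card F : ℂ) := ⟨_, rfl⟩
  rw [← hq]
  have hq0 : q ≠ 0 := hq ▸ Nat.cast_ne_zero.2 Fintype.card_ne_zero
  have hq1 : q + 1 ≠ 0 := by rw [hq, ← Nat.cast_one, ← Nat.cast_add]; exact Nat.cast_ne_zero.2 (by omega)
  have hqu : (Fintype.card Fˣ : ℂ) = q - 1 := by
    rw [Fintype.card_units, hq, Nat.cast_sub Fintype.card_pos, Nat.cast_one]
  have hu0 : (Fintype.card Fˣ : ℂ) ≠ 0 := Nat.cast_ne_zero.2 Fintype.card_ne_zero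
  obtain ⟨R, hR⟩ : ∃ R, R = PX ρ ψ * PX' ρ ψ := ⟨_, rfl⟩
  obtain ⟨A, hA⟩ : ∃ A, A = PU ρ ψ * R := ⟨_, rfl⟩
  obtain ⟨W, hW⟩ : ∃ W, W = ρ (ww : SpecialLinearGroup (Fin (m + 2)) F) := ⟨_, rfl⟩
  have hW' : ρ (ww : SpecialLinearGroup (Fin (m + 2)) F)⁻¹ * W = 1 := by rw [hW, ← map_mul, inv_mul_cancel, map_one]
  have hWW' : W * ρ (ww : SpecialLinearGroup (Fin (m + 2)) F)⁻¹ = 1 := mul_eq_one_comm.1 hW'
  have hUR : PU ρ ψ * R = R * PU ρ ψ := by
    refine (commute_av ψ _ (fun φ => ?_) 0).symm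
    rw [hR]; exact (uu_commute_R ρ ψ (φ 0)).symm
  have hRR : R * R = R := by
    rw [hR, mul_assoc, ← mul_assoc (PX' ρ ψ), ← commute_X, mul_assoc, ← mul_assoc]
    rw [show PX ρ ψ * PX ρ ψ = PX ρ ψ from av_idem ψ _ hψ 0, show PX' ρ ψ * PX' ρ ψ = PX' ρ ψ from av_idem ψ _ hψ 0]
  have hUU : PU ρ ψ * PU ρ ψ = PU ρ ψ := av_idem ψ _ hψ 0
  have hAA : A * A = A := by rw [hA, mul_assoc, ← mul_assoc R, ← hUR, mul_assoc, hRR, ← mul_assoc, hUU]
  have hPA : pv ρ (ev 0) * PX ρ ψ = A := by rw [hA, hR, commute_X, pv0_split ρ ψ, mul_assoc]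
  have huA : ∀ a, ρ (uu a) * A = A := fun a => by
    have h := apply_mul_av ψ (yHom ρ (ev 0) (ev 1) ev10) (fun _ => a) 0
    rw [dotProduct_zero, AddChar.map_zero_eq_one, one_smul] at h
    rw [hA, ← mul_assoc, PU]
    exact congrArg (· * R) h
  have hAu : ∀ a, A * ρ (uu a) = A := fun a => by
    rw [hA, hUR, mul_assoc]
    congr 1
    have h := av_mul_apply ψ (yHom ρ (ev 0) (ev 1) ev10) (fun _ => a) 0
    rw [dotProduct_zero, AddChar.map_zero_eq_one, one_smul] at h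
    exact h
  have hhX : ∀ s, ρ (hh s) * PX ρ ψ = PX ρ ψ * ρ (hh s) := fun s => by
    refine av_zero_move ψ _ _ (fun φ => (s : F)⁻¹ • φ) (smul_right_injective _ (inv_ne_zero s.ne_zero)) fun φ => ?_
    show ρ _ * ρ _ = ρ _ * ρ _
    rw [← map_mul, ← map_mul]
    refine congrArg ρ (mul_tv _ (p2_ev1 _) (p2_ev1 _) fun x => ?_)
    rw [toAdd_ofAdd, toAdd_ofAdd, hh_ev1, p2_smul, smul_dotProduct, p2_hh, smul_eq_mul, smul_smul, mul_comm]
  have hhX' : ∀ s, ρ (hh s) * PX' ρ ψ = PX' ρ ψ * ρ (hh s) := fun s => by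
    refine av_zero_move ψ _ _ (fun φ => (s : F) • φ) (smul_right_injective _ s.ne_zero) fun φ => ?_
    show ρ _ * ρ _ = ρ _ * ρ _
    rw [← map_mul, ← map_mul]
    refine congrArg ρ (mul_tv _ (p2_ev0 _) (p2_ev0 _) fun x => ?_)
    rw [toAdd_ofAdd, toAdd_ofAdd, hh_ev0, p2_smul, smul_dotProduct, p2_hh, smul_eq_mul, smul_smul, mul_comm]
  have hhU : ∀ s, ρ (hh s) * PU ρ ψ = PU ρ ψ * ρ (hh s) := fun s => by
    refine av_zero_move ψ _ _ (fun φ => ((s : F) * s) • φ)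
      (smul_right_injective _ (mul_ne_zero s.ne_zero s.ne_zero)) fun φ => ?_
    show ρ _ * ρ _ = ρ _ * ρ _
    rw [← map_mul, ← map_mul]
    refine congrArg ρ (mul_tv _ (by rw [smul_dotProduct, ev10, smul_zero]) (by rw [smul_dotProduct, ev10, smul_zero])
      fun x => ?_)
    rw [hh_ev0, smul_dotProduct, smul_dotProduct, ev_dot, ev_dot, hh_mulVec]
    simp [smul_smul]
    congr 1
    field_simp
  have hhR : ∀ s, ρ (hh s) * R = R * ρ (hh s) := fun s => by
    rw [hR, ← mul_assoc, hhX, mul_assoc, hhX', mul_assoc]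
  have hhA : ∀ s, ρ (hh s) * A = A * ρ (hh s) := fun s => by
    rw [hA, ← mul_assoc, hhU, mul_assoc, hhR, mul_assoc]
  have hTh : ∀ s, ρ (hh s) * PT ρ = PT ρ := fun s => by
    rw [PT, mul_smul_comm, Finset.mul_sum]
    congr 1
    exact Fintype.sum_equiv (Equiv.mulLeft s) _ _ fun t => by rw [← map_mul, hh_mul]; rfl
  have hhT : ∀ s, PT ρ * ρ (hh s) = PT ρ := fun s => by
    rw [PT, smul_mul_assoc, Finset.sum_mul]
    congr 1
    exact Fintype.sum_equiv (Equiv.mulRight s) _ _ fun t => by rw [← map_mul, hh_mul]; rfl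
  have hTT : PT ρ * PT ρ = PT ρ := by
    nth_rewrite 1 [PT]
    rw [smul_mul_assoc, Finset.sum_mul]
    simp only [hTh, Finset.sum_const, Finset.card_univ]
    rw [← Nat.cast_smul_eq_nsmul ℂ, smul_smul, inv_mul_cancel₀ hu0, one_smul]
  have hcommT : ∀ X, (∀ s, ρ (hh s) * X = X * ρ (hh s)) → PT ρ * X = X * PT ρ := fun X hX => by
    rw [PT, smul_mul_assoc, mul_smul_comm, Finset.sum_mul, Finset.mul_sum]
    simp only [hX]
  obtain ⟨B, hB⟩ : ∃ B, B = A * PT ρ := ⟨_, rfl⟩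
  have hBB : B * B = B := by rw [hB, mul_assoc, ← mul_assoc (PT ρ), hcommT A hhA, mul_assoc, hTT, ← mul_assoc, hAA]
  have hAB : A * B = B := by rw [hB, ← mul_assoc, hAA]
  have huB : ∀ a, ρ (uu a) * B = B := fun a => by rw [hB, ← mul_assoc, huA]
  have hBu : ∀ a, B * ρ (uu a) = B := fun a => by rw [hB, ← hcommT A hhA, mul_assoc, hAu]
  have hBh : ∀ s, B * ρ (hh s) = B := fun s => by rw [hB, mul_assoc, hhT]
  have hhB : ∀ s, ρ (hh s) * B = B := fun s => by rw [hB, ← hcommT A hhA, ← mul_assoc, hTh]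
  obtain ⟨ω, hω⟩ : ∃ ω, ω = B * W * B := ⟨_, rfl⟩
  have hll : ∀ y : Fˣ, ρ (ll (y : F)) = ρ (uu (y : F)⁻¹) * (ρ (hh y⁻¹) * W) * ρ (uu (y : F)⁻¹) := by
    intro y
    have hu : ∀ a : F, ρ (uu a) * ρ (uu (-a)) = (1 : Module.End ℂ V) := fun a => by
      rw [← map_mul, uu, uu, tv_mul (by rw [smul_dotProduct, ev10, smul_zero])
        (by rw [smul_dotProduct, ev10, smul_zero]), ← add_smul, add_neg_cancel, zero_smul, tv_zero, map_one]
    have hb := congrArg ρ (bruhat (m := m) y.ne_zero)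
    rw [map_mul, map_mul, map_mul, Units.mk0_val, ← hW] at hb
    rw [← hb, mul_assoc, mul_assoc, mul_eq_one_comm.1 (hu _), mul_one, ← mul_assoc, hu, one_mul]
  have hsumL : PL ρ ψ = q⁻¹ • (1 + ∑ y : Fˣ, ρ (ll (y : F))) := by
    rw [PL, av_zero, Fintype.card_fun, Fintype.card_fin, pow_one, ← hq]
    congr 1
    rw [Fintype.sum_equiv (Equiv.funUnique (Fin 1) F) (fun φ : Fin 1 → F => yHom ρ (ev 1) (ev 0) ev01 (Multiplicative.ofAdd φ))
        (fun a : F => ρ (ll a)) (fun φ => rfl),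
      ← Finset.add_sum_erase _ _ (Finset.mem_univ (0 : F)), ll, zero_smul, tv_zero, map_one]
    congr 1
    refine (Finset.sum_bij (fun (y : Fˣ) _ => (y : F)) (fun y _ => by simp) (fun a _ b _ h => Units.ext h)
      (fun a ha => ⟨Units.mk0 a (Finset.ne_of_mem_erase ha), Finset.mem_univ _, rfl⟩) fun y _ => rfl).symm
  obtain ⟨c', hc', hcr⟩ := exists_trace_nat hAA
  obtain ⟨z, hz, hzr⟩ := exists_trace_nat hBB
  -- the trace of the overlap
  have htrace : LinearMap.trace ℂ V (pv ρ (ev 0) * pv ρ (ev 1)) =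
      q⁻¹ * ((c' : ℂ) + (q - 1) * LinearMap.trace ℂ V ω) := by
    have h1 : pv ρ (ev 1) = PL ρ ψ * PX ρ ψ := by
      have hc := conj_pv ρ ww (ev 0)
      rw [ww_ev0, ← hW, pv0_split ρ ψ, ← mul_assoc] at hc
      have hWU : W * PU ρ ψ = PL ρ ψ * W := by
        rw [hW]
        refine av_zero_move ψ _ _ (fun φ => -φ) neg_injective fun φ => ?_
        show ρ _ * ρ _ = ρ _ * ρ _
        rw [← map_mul, ← map_mul]
        refine congrArg ρ (mul_tv _ (by rw [smul_dotProduct, ev10, smul_zero]) (by rw [smul_dotProduct, ev01, smul_zero])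
          fun x => ?_)
        rw [ww_ev0, smul_dotProduct, smul_dotProduct, ev_dot, ev_dot, ww_mulVec]
        simp
      have hWX' : W * PX' ρ ψ = PX ρ ψ * W := by
        rw [hW]
        refine av_zero_move ψ _ _ id Function.injective_id fun φ => ?_
        show ρ _ * ρ _ = ρ _ * ρ _
        rw [← map_mul, ← map_mul]
        refine congrArg ρ (mul_tv _ (p2_ev0 _) (p2_ev1 _) fun x => ?_)
        rw [ww_ev0, p2_ww]
        rfl
      rw [hWU, mul_assoc (PL ρ ψ), hWX', ← mul_assoc] at hc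
      have h2 := congrArg (fun x : Module.End ℂ V => x * ρ (ww : SpecialLinearGroup (Fin (m + 2)) F)⁻¹) hc
      simp only [mul_assoc, hWW', mul_one] at h2
      exact h2.symm
    have hAX : PX ρ ψ * pv ρ (ev 0) = A := by
      rw [← hPA]
      refine (commute_av ψ _ (fun φ => ?_) 0).symm
      have h := conj_pv ρ (tv (ev 1) (p2 φ)) (ev 0)
      rw [tv_mulVec (p2_ev1 φ), p2_ev0, zero_smul, add_zero] at h
      exact h.symm
    rw [h1, ← mul_assoc, LinearMap.trace_mul_comm, ← mul_assoc, hAX, hsumL, mul_smul_comm, mul_add, mul_one,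
      Finset.mul_sum, map_smul, map_add, map_sum, hc', smul_eq_mul]
    congr 2
    have hy : ∀ y : Fˣ, LinearMap.trace ℂ V (A * ρ (ll (y : F))) = LinearMap.trace ℂ V (A * ρ (hh y⁻¹) * W) := by
      intro y
      rw [hll, ← mul_assoc, ← mul_assoc, hAu, LinearMap.trace_mul_comm, ← mul_assoc, huA, mul_assoc]
    rw [Finset.sum_congr rfl fun y _ => hy y, ← map_sum, ← Finset.sum_mul,
      Fintype.sum_equiv (Equiv.inv Fˣ) (fun y => A * ρ (hh y⁻¹)) (fun y => A * ρ (hh y)) (fun y => rfl),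
      ← Finset.mul_sum]
    have hs : ∑ s : Fˣ, ρ (hh s : SpecialLinearGroup (Fin (m + 2)) F) = (q - 1) • PT ρ := by
      rw [PT, smul_smul, ← hqu, mul_inv_cancel₀ hu0, one_smul]
    rw [hs, mul_smul_comm, ← hB, smul_mul_assoc, map_smul, smul_eq_mul]
    congr 1
    rw [hω, LinearMap.trace_mul_comm ℂ (B * W) B, ← mul_assoc, hBB]
  -- the quadratic relation
  have hωq : ω * ω = q⁻¹ • (B + (q - 1) • ω) := by
    have hWB : W * B = PL ρ ψ * R * PT ρ * W := by
      have hWU : W * PU ρ ψ = PL ρ ψ * W := by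
        rw [hW]
        refine av_zero_move ψ _ _ (fun φ => -φ) neg_injective fun φ => ?_
        show ρ _ * ρ _ = ρ _ * ρ _
        rw [← map_mul, ← map_mul]
        refine congrArg ρ (mul_tv _ (by rw [smul_dotProduct, ev10, smul_zero]) (by rw [smul_dotProduct, ev01, smul_zero])
          fun x => ?_)
        rw [ww_ev0, smul_dotProduct, smul_dotProduct, ev_dot, ev_dot, ww_mulVec]
        simp
      have hWX : W * PX ρ ψ = PX' ρ ψ * W := by
        rw [hW]
        refine av_zero_move ψ _ _ (fun φ => -φ) neg_injective fun φ => ?_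
        show ρ _ * ρ _ = ρ _ * ρ _
        rw [← map_mul, ← map_mul]
        refine congrArg ρ (mul_tv _ (p2_ev1 _) (p2_ev0 _) fun x => ?_)
        rw [toAdd_ofAdd, toAdd_ofAdd, ww_ev1, p2_neg, neg_dotProduct, p2_ww, neg_one_smul, smul_neg, neg_smul]
      have hWX' : W * PX' ρ ψ = PX ρ ψ * W := by
        rw [hW]
        refine av_zero_move ψ _ _ id Function.injective_id fun φ => ?_
        show ρ _ * ρ _ = ρ _ * ρ _
        rw [← map_mul, ← map_mul]
        refine congrArg ρ (mul_tv _ (p2_ev0 _) (p2_ev1 _) fun x => ?_)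
        rw [ww_ev0, p2_ww]
        rfl
      have hWR : W * R = R * W := by
        rw [hR, ← mul_assoc, hWX, mul_assoc, hWX', ← mul_assoc, ← commute_X]
      have hWT : W * PT ρ = PT ρ * W := by
        rw [PT, mul_smul_comm, smul_mul_assoc, Finset.mul_sum, Finset.sum_mul]
        congr 1
        refine Fintype.sum_equiv (Equiv.inv Fˣ) _ _ fun s => ?_
        rw [hW, ← map_mul, ← map_mul]
        refine congrArg ρ (sl_ext fun x => ?_)
        rw [sl_mul_mulVec, sl_mul_mulVec, ww_mulVec, ww_mulVec, hh_mulVec, hh_mulVec]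
        funext i
        refine Fin.cases ?_ (fun j => Fin.cases ?_ (fun l => ?_) j) i <;> simp [Fin.ext_iff]
      rw [hB, hA, ← mul_assoc, ← mul_assoc, hWU, mul_assoc (PL ρ ψ) W, hWR, ← mul_assoc, mul_assoc _ W, hWT,
        ← mul_assoc]
    have hWWB : W * W * B = B := by
      rw [show W * W = ρ (hh (-1 : Fˣ) : SpecialLinearGroup (Fin (m + 2)) F) by
        rw [hW, ← map_mul]
        refine congrArg ρ (sl_ext fun x => ?_)
        rw [sl_mul_mulVec, ww_mulVec, ww_mulVec, hh_mulVec]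
        funext i
        refine Fin.cases ?_ (fun j => Fin.cases ?_ (fun l => ?_) j) i <;> simp [Fin.ext_iff], hhB]
    have hRB : R * (PT ρ * B) = B := by
      have e1 : PT ρ * B = B := by rw [hB, ← mul_assoc, hcommT A hhA, mul_assoc, hTT]
      have e2 : R * A = A := by rw [hA, ← mul_assoc, ← hUR, mul_assoc, hRR]
      rw [e1, hB, ← mul_assoc, e2]
    calc ω * ω = B * (W * B) * (W * B) := by
          rw [hω]
          simp only [mul_assoc]
          rw [← mul_assoc B B, hBB]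
      _ = B * PL ρ ψ * B := by
          nth_rewrite 1 [hWB]
          simp only [mul_assoc]
          rw [show W * (W * B) = B by rw [← mul_assoc, hWWB], hRB]
      _ = q⁻¹ • (B + (q - 1) • ω) := by
          rw [hsumL, mul_smul_comm, smul_mul_assoc, mul_add, mul_one, add_mul, hBB, Finset.mul_sum, Finset.sum_mul]
          congr 2
          have hy : ∀ y : Fˣ, B * ρ (ll (y : F)) * B = ω := fun y => by
            rw [hll, ← mul_assoc, ← mul_assoc, ← mul_assoc, hBu, hBh, mul_assoc, huB, hω]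
          rw [Finset.sum_congr rfl fun y _ => hy y, Finset.sum_const, Finset.card_univ, ← Nat.cast_smul_eq_nsmul ℂ,
            hqu]
  -- an idempotent
  obtain ⟨E, hE⟩ : ∃ E, E = (q + 1)⁻¹ • (B + q • ω) := ⟨_, rfl⟩
  have hBω : B * ω = ω := by rw [hω, ← mul_assoc, ← mul_assoc, hBB]
  have hωB : ω * B = ω := by rw [hω, mul_assoc, hBB]
  have hEE : E * E = E := by
    rw [hE, smul_mul_smul_comm, mul_add, add_mul, add_mul, hBB, smul_mul_assoc, mul_smul_comm, hωB, hBω,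
      smul_mul_smul_comm, hωq]
    simp only [smul_add, smul_smul]
    match_scalars <;> field_simp <;> ring
  have hBE : B * E = E := by rw [hE, mul_smul_comm, mul_add, hBB, mul_smul_comm, hBω]
  obtain ⟨f, hf, hfr⟩ := exists_trace_nat hEE
  refine ⟨c', z, f, ?_, ?_, by rw [hPA, hc'], fun hzc s => ?_, fun hfix => ?_, ?_, fun hf0 => ?_⟩
  · rw [← hfr, ← hzr]
    refine Submodule.finrank_mono ?_
    rintro _ ⟨x, rfl⟩
    exact ⟨E x, LinearMap.congr_fun hBE x⟩
  · rw [← hzr, ← hcr]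
    refine Submodule.finrank_mono ?_
    rintro _ ⟨x, rfl⟩
    exact ⟨B x, LinearMap.congr_fun hAB x⟩
  · have hle : LinearMap.range B ≤ LinearMap.range A := by
      rintro _ ⟨x, rfl⟩
      exact ⟨B x, LinearMap.congr_fun hAB x⟩
    have heq := Submodule.eq_of_le_of_finrank_le hle (by rw [hcr, hzr, hzc])
    rw [hPA]
    refine LinearMap.ext fun x => ?_
    obtain ⟨y, hy⟩ : A x ∈ LinearMap.range B := heq ▸ ⟨x, rfl⟩
    rw [Module.End.mul_apply, ← hy, ← Module.End.mul_apply, hhB]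
  · have h1 : PT ρ * A = A := by
      rw [PT, smul_mul_assoc, Finset.sum_mul]
      rw [hPA] at hfix
      simp only [hfix, Finset.sum_const, Finset.card_univ]
      rw [← Nat.cast_smul_eq_nsmul ℂ, smul_smul, inv_mul_cancel₀ hu0, one_smul]
    rw [← hcr, ← hzr, hB, ← hcommT A hhA, h1]
  · rw [hE, map_smul, map_add, map_smul, hz, smul_eq_mul, smul_eq_mul] at hf
    have hω' : q * LinearMap.trace ℂ V ω = (q + 1) * f - z := by
      rw [← hf]; field_simp; ring
    rw [htrace, ← hω']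
    field_simp
  · have hne : E ≠ 0 := fun h => by
      rw [h, LinearMap.range_zero, finrank_bot] at hfr
      omega
    obtain ⟨x, hx⟩ : ∃ x, E x ≠ 0 := by
      by_contra! h
      exact hne (LinearMap.ext h)
    have hωE : ω * E = E := by
      rw [hE, mul_smul_comm, mul_add, hωB, mul_smul_comm, hωq]
      congr 1
      match_scalars <;> field_simp <;> ring
    have hfixE : ∀ {T : Module.End ℂ V}, T * E = E → T (E x) = E x := fun h => LinearMap.congr_fun h x
    obtain ⟨y, hy⟩ : ∃ y, y = E x := ⟨_, rfl⟩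
    have hAE : A * E = E := by rw [← hBE, ← mul_assoc, hAB]
    have hu : ∀ a, ρ (uu a) y = y := fun a => hy ▸ hfixE (by rw [← hBE, ← mul_assoc, huB])
    have hs : ∀ s, ρ (hh s) y = y := fun s => hy ▸ hfixE (by rw [← hBE, ← mul_assoc, hhB])
    have hP : pv ρ (ev 0) y = y := by
      rw [hy]; refine hfixE ?_
      have hpp : pv ρ (ev 0) * A = A := by
        rw [← hPA, ← mul_assoc, show pv ρ (ev 0) * pv ρ (ev 0) = pv ρ (ev 0) by rw [pv_ev0 ρ ψ]; exact av_idem ψ _ hψ 0]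
      rw [← hAE, ← mul_assoc, hpp]
    have hX : PX ρ ψ y = y := by
      rw [hy]; refine hfixE ?_
      have hxx : PX ρ ψ * A = A := by
        rw [hA, hUR, hR, ← mul_assoc, ← mul_assoc, show PX ρ ψ * PX ρ ψ = PX ρ ψ from av_idem ψ _ hψ 0]
      rw [← hAE, ← mul_assoc, hxx]
    refine ⟨y, hy ▸ hx, hu, fun a => ?_, hs, hP, hX⟩
    -- the Weyl element fixes the vector
    have hwh : ∀ s : Fˣ, ρ (hh s) (W y) = W y := by
      intro s
      have e : (hh s : SpecialLinearGroup (Fin (m + 2)) F) * ww = ww * hh s⁻¹ := sl_ext fun v => by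
        rw [sl_mul_mulVec, sl_mul_mulVec, ww_mulVec, ww_mulVec, hh_mulVec, hh_mulVec]
        funext i
        refine Fin.cases ?_ (fun j => Fin.cases ?_ (fun l => ?_) j) i <;> simp [Fin.ext_iff]
      rw [hW, ← Module.End.mul_apply, ← map_mul, e, map_mul, Module.End.mul_apply, hs]
    have hWX : W * PX ρ ψ = PX' ρ ψ * W := by
      rw [hW]
      refine av_zero_move ψ _ _ (fun φ => -φ) neg_injective fun φ => ?_
      show ρ _ * ρ _ = ρ _ * ρ _
      rw [← map_mul, ← map_mul]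
      refine congrArg ρ (mul_tv _ (p2_ev1 _) (p2_ev0 _) fun x => ?_)
      rw [toAdd_ofAdd, toAdd_ofAdd, ww_ev1, p2_neg, neg_dotProduct, p2_ww, neg_one_smul, smul_neg, neg_smul]
    have hWX' : W * PX' ρ ψ = PX ρ ψ * W := by
      rw [hW]
      refine av_zero_move ψ _ _ id Function.injective_id fun φ => ?_
      show ρ _ * ρ _ = ρ _ * ρ _
      rw [← map_mul, ← map_mul]
      refine congrArg ρ (mul_tv _ (p2_ev0 _) (p2_ev1 _) fun x => ?_)
      rw [ww_ev0, p2_ww]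
      rfl
    have hRy : R (W y) = W y := by
      have hWR : W * R = R * W := by rw [hR, ← mul_assoc, hWX, mul_assoc, hWX', ← mul_assoc, ← commute_X]
      have hRy0 : R y = y := by
        rw [hy]; refine hfixE ?_
        have e2 : R * A = A := by rw [hA, ← mul_assoc, ← hUR, mul_assoc, hRR]
        rw [← hAE, ← mul_assoc, e2]
      rw [← Module.End.mul_apply, ← hWR, Module.End.mul_apply, hRy0]
    have hPUy : PU ρ ψ (W y) = y := by
      have h1 : ω y = y := hy ▸ hfixE hωE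
      have hBy : B y = y := hy ▸ hfixE hBE
      have hT : PT ρ (W y) = W y := by
        rw [PT, LinearMap.smul_apply, LinearMap.sum_apply, Finset.sum_congr rfl (fun s _ => hwh s), Finset.sum_const,
          Finset.card_univ, ← Nat.cast_smul_eq_nsmul ℂ, smul_smul, inv_mul_cancel₀ hu0, one_smul]
      rw [hω, Module.End.mul_apply, Module.End.mul_apply, hBy, hB, Module.End.mul_apply, hT, hA, Module.End.mul_apply,
        hRy] at h1
      exact h1
    have hsum : ∑ b : F, ρ (uu b) (W y) = q • y := by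
      have h := hPUy
      rw [PU, av_zero, Fintype.card_fun, Fintype.card_fin, pow_one, ← hq, LinearMap.smul_apply, LinearMap.sum_apply,
        inv_smul_eq_iff₀ hq0] at h
      rw [← h]
      exact (Fintype.sum_equiv (Equiv.funUnique (Fin 1) F)
        (fun φ : Fin 1 → F => yHom ρ (ev 0) (ev 1) ev10 (Multiplicative.ofAdd φ) (W y))
        (fun b : F => ρ (uu b) (W y)) (fun φ => rfl)).symm
    have huu0 : ∀ v : V, ρ (uu 0) v = v := fun v => by rw [uu, zero_smul, tv_zero, map_one, Module.End.one_apply]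
    have hlly : ∀ b : Fˣ, ρ (ll (b : F)) y = ρ (uu (b : F)⁻¹) (W y) := fun b => by
      rw [hll, Module.End.mul_apply, Module.End.mul_apply, hu, Module.End.mul_apply, hwh]
    have hWy : W y = y := by
      have hWW : W (W y) = y := by
        rw [hW, ← Module.End.mul_apply, ← map_mul, show (ww : SpecialLinearGroup (Fin (m + 2)) F) * ww = hh (-1) from
          sl_ext fun x => by
            rw [sl_mul_mulVec, ww_mulVec, ww_mulVec, hh_mulVec]
            funext i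
            refine Fin.cases ?_ (fun j => Fin.cases ?_ (fun l => ?_) j) i <;> simp [Fin.ext_iff]]
        exact hs _
      have h2 : ∀ b : F, W (ρ (uu b) (W y)) = ρ (ll (-b)) y := fun b => by
        have e : (ww : SpecialLinearGroup (Fin (m + 2)) F) * uu b = ll (-b) * ww := by
          refine sl_ext fun x => ?_
          rw [sl_mul_mulVec, sl_mul_mulVec, ww_mulVec, uu_mulVec, ww_mulVec, ll_mulVec]
          funext i
          refine Fin.cases ?_ (fun j => Fin.cases ?_ (fun l => ?_) j) i <;> simp [ev, Pi.single_apply, Fin.ext_iff]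
        conv_rhs => rw [← hWW]
        rw [hW, ← Module.End.mul_apply, ← map_mul, e, map_mul, Module.End.mul_apply]
      have h3 := congrArg W hsum
      rw [map_sum, map_smul, Finset.sum_congr rfl fun b _ => h2 b] at h3
      rw [← Finset.add_sum_erase _ _ (Finset.mem_univ (0 : F)), huu0] at hsum
      rw [← Finset.add_sum_erase _ _ (Finset.mem_univ (0 : F)), neg_zero,
        show ρ (ll (0 : F)) y = y by rw [ll, zero_smul, tv_zero, map_one, Module.End.one_apply]] at h3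
      have h4 : ∑ b ∈ Finset.univ.erase (0 : F), ρ (ll (-b)) y = ∑ b ∈ Finset.univ.erase (0 : F), ρ (uu b) (W y) := by
        refine Finset.sum_nbij' (fun b => (-b)⁻¹) (fun b => -(b⁻¹)) ?_ ?_ ?_ ?_ ?_
        · intro b hb; simpa using hb
        · intro b hb; simpa using hb
        · intro b _; simp
        · intro b _; simp
        · intro b hb
          exact hlly (Units.mk0 (-b) (neg_ne_zero.2 (Finset.ne_of_mem_erase hb)))
      rw [h4, eq_sub_of_add_eq' hsum] at h3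
      have h5 : (q + 1) • W y = (q + 1) • y := by
        rw [add_smul, add_smul, one_smul, one_smul, ← h3]
        abel
      exact smul_right_injective V hq1 h5
    rcases eq_or_ne a 0 with rfl | ha
    · rw [ll, zero_smul, tv_zero, map_one, Module.End.one_apply]
    · rw [show a = ((Units.mk0 a ha : Fˣ) : F) from rfl, hlly, hWy, hu]

/-- The overlap. -/
theorem overlap (hψ : ψ ≠ 1) : ∃ c' z f : ℕ, f ≤ z ∧ z ≤ c' ∧
    LinearMap.trace ℂ V (pv ρ (ev 0) * PX ρ ψ) = c' ∧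
    (z = c' → ∀ s : Fˣ, ρ (hh s) * (pv ρ (ev 0) * PX ρ ψ) = pv ρ (ev 0) * PX ρ ψ) ∧
    ((∀ s : Fˣ, ρ (hh s) * (pv ρ (ev 0) * PX ρ ψ) = pv ρ (ev 0) * PX ρ ψ) → z = c') ∧
    (Fintype.card F : ℂ) ^ 2 * LinearMap.trace ℂ V (pv ρ (ev 0) * pv ρ (ev 1)) =
      (Fintype.card F : ℂ) * c' + ((Fintype.card F : ℂ) - 1) * (((Fintype.card F : ℂ) + 1) * f - z) := by
  obtain ⟨c', z, f, h1, h2, h3, h4, h5, h6, -⟩ := overlap_ext ρ ψ hψ
  exact ⟨c', z, f, h1, h2, h3, h4, h5, h6⟩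

end CfsgLib.MinDegree.SLOverlap
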