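import Mathlib
import Cfsg.Agent.Lib.MinDegree.SLOps
import Cfsg.Agent.Lib.Classical.SLBasic

/-!
The weights of the transvection groups of the special linear group in a complex representation.
-/

namespace CfsgLib.MinDegree.SLWts

open Matrix SLAvg SLTv SLOps

variable {F : Type*} [Field F] [Fintype F] [DecidableEq F] {l : ℕ}
variable {V : Type*} [AddCommGroup V] [Module ℂ V] [FiniteDimensional ℂ V]
variable (ρ : SpecialLinearGroup (Fin (l + 1 + 2)) F →* Module.End ℂ V) (ψ : AddChar F ℂ)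

/-- The third coordinate. -/
def f2 (l : ℕ) (F : Type*) [Field F] : Fin (l + 1 + 2) → F := p2 (Pi.single (0 : Fin (l + 1)) 1)

theorem f2_ev0 : f2 l F ⬝ᵥ ev 0 = 0 := p2_ev0 _

theorem f2_ev1 : f2 l F ⬝ᵥ ev 1 = 0 := p2_ev1 _

theorem f2_dot (x : Fin (l + 1 + 2) → F) : f2 l F ⬝ᵥ x = x (0 : Fin (l + 1)).succ.succ := by
  rw [dotProduct, Fin.sum_univ_succ, Fin.sum_univ_succ, Finset.sum_eq_single (0 : Fin (l + 1))]
  · show (0 : F) * _ + ((0 : F) * _ + (Pi.single (0 : Fin (l + 1)) (1 : F) : Fin (l + 1) → F) 0 * _) = _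
    rw [Pi.single_eq_same, one_mul, zero_mul, zero_mul, zero_add, zero_add]
  · intro b _ hb
    simp [f2, p2, hb]
  · simp

theorem ev_ne_zero {n : ℕ} (i : Fin (n + 2)) : (ev i : Fin (n + 2) → F) ≠ 0 := by simp [ev]

theorem li_ev0_p1 {n : ℕ} {w : Fin (n + 1) → F} (hw : w ≠ 0) :
    LinearIndependent F ![(ev 0 : Fin (n + 2) → F), p1 w] := by
  refine LinearIndependent.pair_iff.2 fun s t h => ?_
  have hs : s = 0 := by
    have h0 := congrFun h 0
    simpa [ev, p1] using h0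
  refine ⟨hs, ?_⟩
  obtain ⟨i, hi⟩ := Function.ne_iff.1 hw
  have h1 := congrFun h i.succ
  have hi : w i ≠ 0 := hi
  simpa [ev, p1, hs, hi] using h1

theorem li_ev {n : ℕ} {i j : Fin (n + 2)} (hij : i ≠ j) :
    LinearIndependent F ![(ev i : Fin (n + 2) → F), ev j] := by
  refine LinearIndependent.pair_iff.2 fun s t h => ?_
  have h1 := congrFun h i
  have h2 := congrFun h j
  simp only [ev, Pi.add_apply, Pi.smul_apply, Pi.single_eq_same, Pi.single_eq_of_ne hij, Pi.single_eq_of_ne hij.symm,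
    smul_eq_mul, mul_one, mul_zero, add_zero, zero_add, Pi.zero_apply] at h1 h2
  exact ⟨h1, h2⟩

theorem li_ev01_p2 {n : ℕ} {w : Fin n → F} (hw : w ≠ 0) :
    LinearIndependent F ![(ev 0 : Fin (n + 2) → F), ev 1, p2 w] := by
  rw [Fintype.linearIndependent_iff]
  intro g hg
  simp only [Fin.sum_univ_three, Matrix.cons_val_zero, Matrix.cons_val_one, Matrix.cons_val_two,
    Matrix.head_cons, Matrix.tail_cons] at hg
  have h0 := congrFun hg 0
  have h1 := congrFun hg (0 : Fin (n + 1)).succ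
  obtain ⟨i, hi⟩ := Function.ne_iff.1 hw
  have hi : w i ≠ 0 := hi
  have h2 := congrFun hg i.succ.succ
  simp [ev, p2, Pi.single_apply, Fin.ext_iff] at h0 h1 h2
  intro j
  fin_cases j
  · exact h0
  · exact h1
  · exact h2.resolve_right hi

theorem inv_mul_rho {n : ℕ} (σ : SpecialLinearGroup (Fin n) F →* Module.End ℂ V) (g : SpecialLinearGroup (Fin n) F) :
    σ g⁻¹ * σ g = 1 := by rw [← map_mul, inv_mul_cancel, map_one]

/-- The common multiplicity of the weights. -/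
theorem trace_weight_eq {w w' : Fin (l + 1 + 1) → F} (hw : w ≠ 0) (hw' : w' ≠ 0) :
    LinearMap.trace ℂ V (av ψ (qHom ρ) w) = LinearMap.trace ℂ V (av ψ (qHom ρ) w') := by
  obtain ⟨g, hg0, hg1⟩ := exists_sl_pair (by rw [Fintype.card_fin]; omega) (li_ev0_p1 hw) (li_ev0_p1 hw')
  exact trace_eq_of_conj (inv_mul_rho ρ g)
    (move1 ρ ψ g one_ne_zero (a := 0) (by rw [hg0, one_smul]) (by rw [hg1, zero_smul, zero_add, one_smul]))

/-- A non-trivial representation has a non-trivial weight. -/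
theorem exists_weight_ne_zero (hψ : ψ ≠ 1) (hρ : ρ ≠ 1) : ∃ w, w ≠ 0 ∧ av ψ (qHom ρ) w ≠ 0 := by
  classical
  by_contra hall
  push Not at hall
  have h0 : av ψ (qHom ρ) 0 = 1 := by
    rw [← sum_av ψ (qHom ρ) hψ, Finset.sum_eq_single (0 : Fin (l + 1 + 1) → F) (fun w _ hw => hall w hw) (by simp)]
  have hq : ∀ φ, φ ⬝ᵥ ev 0 = 0 → ρ (tv (ev 0) φ) = 1 := by
    intro φ hφ
    have h := apply_mul_av ψ (qHom ρ) (Fin.tail φ) 0
    rw [h0, mul_one, dotProduct_zero, AddChar.map_zero_eq_one, one_smul] at h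
    rw [dot_ev] at hφ
    have e : p1 (Fin.tail φ) = φ := funext fun i => Fin.cases hφ.symm (fun j => rfl) i
    rw [← e]
    exact h
  apply hρ
  have htop : ρ.ker = ⊤ := by
    refine CfsgLib.Classical.SL_le_of_transvections _ fun i j hij c => ?_
    have hg : ∃ g : SpecialLinearGroup (Fin (l + 1 + 2)) F, (g : Matrix (Fin (l + 1 + 2)) (Fin (l + 1 + 2)) F) *ᵥ ev 0 = ev i := by
      obtain ⟨g, hg, -⟩ := exists_sl_pair (a := ev 0) (b := ev 1) (a' := ev i) (b' := ev j)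
        (by rw [Fintype.card_fin]; omega) (li_ev (F := F) (i := 0) (j := 1) (Fin.ext_iff.not.2 (by simp))) (li_ev (F := F) hij)
      exact ⟨g, hg⟩
    obtain ⟨g, hg⟩ := hg
    have hj : Pi.single j c ⬝ᵥ (ev i : Fin (l + 1 + 2) → F) = 0 := by rw [dot_ev, Pi.single_eq_of_ne hij]
    have hpv := conj_pv ρ g (ev 0)
    rw [hg, pv_ev0 ρ ψ, h0, mul_one] at hpv
    have hpi : pv ρ (ev i) = 1 := by
      have h2 : ρ g * ρ g⁻¹ = pv ρ (ev i) * ρ g * ρ g⁻¹ := congrArg (fun x : Module.End ℂ V => x * ρ g⁻¹) hpv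
      rw [mul_assoc, ← map_mul ρ, mul_inv_cancel, map_one, mul_one] at h2
      exact h2.symm
    obtain ⟨φ, hφ⟩ := exists_adjoint g⁻¹ (Pi.single j c)
    have hφ0 : φ ⬝ᵥ ev 0 = 0 := by
      have h := hφ (ev i)
      rwa [hj, ← hg, ← sl_mul_mulVec, inv_mul_cancel, show ((1 : SpecialLinearGroup (Fin (l + 1 + 2)) F) :
        Matrix (Fin (l + 1 + 2)) (Fin (l + 1 + 2)) F) *ᵥ ev 0 = ev 0 from one_mulVec _] at h
    have hconj : g * tv (ev 0) φ = tv (ev i) (Pi.single j c) * g := by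
      refine mul_tv g hφ0 hj fun x => ?_
      rw [hg, ← hφ ((g : Matrix (Fin (l + 1 + 2)) (Fin (l + 1 + 2)) F) *ᵥ x), ← sl_mul_mulVec, inv_mul_cancel]
      exact congrArg (fun y => (φ ⬝ᵥ y) • _) (one_mulVec x).symm
    have he : SpecialLinearGroup.transvection hij c = tv (ev i) (Pi.single j c) := by
      refine Subtype.ext ?_
      rw [tv_val hj]
      show Matrix.transvection i j c = _
      rw [Matrix.transvection]
      refine congrArg _ (Matrix.ext fun a b => ?_)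
      simp [vecMulVec, ev, Matrix.single, Pi.single_apply, ite_and, eq_comm]
      split_ifs <;> rfl
    rw [he, MonoidHom.mem_ker]
    have h3 := congrArg ρ hconj
    rw [map_mul, map_mul, hq φ hφ0, mul_one] at h3
    have h4 : ρ (tv (ev i) (Pi.single j c)) * ρ g * ρ g⁻¹ = ρ g * ρ g⁻¹ :=
      congrArg (fun x : Module.End ℂ V => x * ρ g⁻¹) h3.symm
    rwa [mul_assoc, ← map_mul ρ g, mul_inv_cancel, map_one, mul_one] at h4
  exact MonoidHom.ext fun g => (show g ∈ ρ.ker from htop ▸ Subgroup.mem_top g)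

/-- The fixed weights are fixed by the transvection. -/
theorem fixed_weight (hex : (l = 0 → Fintype.card F ≠ 2 ∧ Fintype.card F ≠ 4) ∧
      (l = 1 → Fintype.card F ≠ 2 ∧ Fintype.card F ≠ 3)) (hψ : ψ ≠ 1) {w : Fin (l + 1 + 1) → F} (hw : w ≠ 0)
    (hone : Module.finrank ℂ (LinearMap.range (av ψ (qHom ρ) w)) ≤ 1) (hwf : f2 l F ⬝ᵥ p1 w = 0) :
    ρ (tv (ev 1) (f2 l F)) * av ψ (qHom ρ) w = av ψ (qHom ρ) w := by
  classical
  obtain ⟨P, hP⟩ : ∃ P, P = av ψ (qHom ρ) w := ⟨_, rfl⟩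
  rw [← hP] at hone ⊢
  have hidem : P * P = P := hP ▸ av_idem ψ _ hψ w
  have stab : ∀ g : SpecialLinearGroup (Fin (l + 1 + 2)) F, (∃ s : F, s ≠ 0 ∧
      (g : Matrix (Fin (l + 1 + 2)) (Fin (l + 1 + 2)) F) *ᵥ ev 0 = s • ev 0 ∧
      (g : Matrix (Fin (l + 1 + 2)) (Fin (l + 1 + 2)) F) *ᵥ p1 w = s • p1 w) → ρ g * P = P * ρ g := by
    rintro g ⟨s, hs, hg, hgw⟩
    rw [hP]
    exact move1 ρ ψ g hs (a := 0) hg (by rw [hgw, zero_smul, zero_add])
  have key : ∀ (A B : SpecialLinearGroup (Fin (l + 1 + 2)) F) (φ : Fin (l + 1 + 2) → F),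
      ρ A * P = P * ρ A → ρ B * P = P * ρ B → A * B = tv (ev 1) φ * (B * A) → ρ (tv (ev 1) φ) * P = P := by
    intro A B φ hA hB h
    have e1 : ρ (A * B) * P = ρ (B * A) * P := by
      rw [map_mul, map_mul]; exact rank_one_comm hidem hone hA hB
    have hBA : ρ (B * A) * P = P * ρ (B * A) := by
      rw [map_mul, mul_assoc, hA, ← mul_assoc, hB, mul_assoc]
    rw [h, map_mul, mul_assoc, hBA, ← mul_assoc] at e1
    have e2 := congrArg (· * ρ (B * A)⁻¹) e1
    simp only [mul_assoc, ← map_mul, mul_inv_cancel, map_one, mul_one] at e2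
    exact e2
  by_cases hl : l = 0
  · subst hl
    obtain ⟨a, ha0, ha3⟩ : ∃ a : F, a ≠ 0 ∧ a ^ 3 ≠ 1 := by
      obtain ⟨g, hg⟩ := IsCyclic.exists_ofOrder_eq_natCard (α := Fˣ)
      refine ⟨g, g.ne_zero, fun h => ?_⟩
      have h3 := orderOf_dvd_of_pow_eq_one (show g ^ 3 = 1 from Units.ext (by simpa using h))
      rw [hg, Nat.card_units, Nat.card_eq_fintype_card] at h3
      have := Fintype.one_lt_card (α := F)
      have h4 := Nat.le_of_dvd (by norm_num) h3
      obtain ⟨h5, h6⟩ := hex.1 rfl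
      have : Fintype.card F = 3 := by omega
      rw [this] at h3
      norm_num at h3
    let d : Fin (0 + 1 + 2) → F := ![a, a, (a * a)⁻¹]
    let h : SpecialLinearGroup (Fin (0 + 1 + 2)) F :=
      ⟨Matrix.diagonal d, by rw [det_diagonal, Fin.prod_univ_three]; exact mul_inv_cancel₀ (mul_ne_zero ha0 ha0)⟩
    have hh : ∀ x i, ((h : Matrix (Fin (0 + 1 + 2)) (Fin (0 + 1 + 2)) F) *ᵥ x) i = d i * x i :=
      fun x i => mulVec_diagonal d x i
    have hw1 : p1 w 2 = 0 := by rwa [f2_dot] at hwf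
    have hstab : ρ h * P = P * ρ h := by
      refine stab h ⟨a, ha0, funext fun i => ?_, funext fun i => ?_⟩
      · rw [hh, Pi.smul_apply, smul_eq_mul]; fin_cases i <;> simp [d, ev]
      · rw [hh, Pi.smul_apply, smul_eq_mul]; fin_cases i <;> simp [d]
        exact Or.inr hw1
    obtain ⟨c, hc⟩ : ∃ c : F, c = (a ^ 3 - 1)⁻¹ := ⟨_, rfl⟩
    have hkey := key h (tv (ev 1) (c • f2 0 F)) ((a ^ 3 - 1) • c • f2 0 F) hstab ?_ ?_
    · rwa [hc, smul_smul, mul_inv_cancel₀ (sub_ne_zero.2 ha3), one_smul] at hkey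
    · refine stab _ ⟨1, one_ne_zero, ?_, ?_⟩ <;>
        rw [tv_mulVec (by rw [smul_dotProduct, f2_ev1, smul_zero]), smul_dotProduct]
      · rw [f2_ev0, smul_zero, zero_smul, add_zero, one_smul]
      · rw [hwf, smul_zero, zero_smul, add_zero, one_smul]
    · have hz : ∀ t : F, (t • f2 0 F) ⬝ᵥ ev 1 = 0 := fun t => by rw [smul_dotProduct, f2_ev1, smul_zero]
      rw [← mul_assoc, tv_mul (by rw [smul_smul]; exact hz _) (hz c)]
      refine mul_tv h (hz c) (by rw [smul_smul, ← add_smul]; exact hz _) fun x => ?_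
      funext i
      simp only [Pi.smul_apply, smul_eq_mul, hh]
      fin_cases i <;> simp [d, ev, f2, p2, dotProduct, Fin.sum_univ_three, hh]
      field_simp
      ring
  obtain ⟨S, hS⟩ : ∃ S, S = Submodule.span F (Set.range ![(ev 0 : Fin (l + 1 + 2) → F), ev 1, p1 w]) := ⟨_, rfl⟩
  have hmem : ev 0 ∈ S ∧ ev 1 ∈ S ∧ p1 w ∈ S := by
    rw [hS]; exact ⟨Submodule.subset_span ⟨0, rfl⟩, Submodule.subset_span ⟨1, rfl⟩, Submodule.subset_span ⟨2, rfl⟩⟩
  by_cases hz : ∃ z, f2 l F ⬝ᵥ z = 0 ∧ z ∉ S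
  · obtain ⟨z, hz0, hz⟩ := hz
    obtain ⟨η, hη, hη1⟩ := CfsgLib.Transvec.exists_functional hz
    have hcomm := tv_comm (hη _ hmem.2.1) hz0 f2_ev1
    rw [hη1, one_smul] at hcomm
    refine key _ _ _ ?_ ?_ hcomm
    · refine stab _ ⟨1, one_ne_zero, ?_, ?_⟩ <;> rw [tv_mulVec (hη _ hmem.2.1), one_smul]
      · rw [hη _ hmem.1, zero_smul, add_zero]
      · rw [hη _ hmem.2.2, zero_smul, add_zero]
    · refine stab _ ⟨1, one_ne_zero, ?_, ?_⟩ <;> rw [tv_mulVec hz0, one_smul]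
      · rw [f2_ev0, zero_smul, add_zero]
      · rw [hwf, zero_smul, add_zero]
  push Not at hz
  -- now the dimension is four and the three vectors are independent
  have htwo : (0 : Fin (l + 1)).succ.succ = (2 : Fin (l + 1 + 2)) := rfl
  have hf2 : ∀ x, f2 l F ⬝ᵥ x = x (0 : Fin (l + 1)).succ.succ := f2_dot
  have hrank : l + 1 + 1 ≤ Module.finrank F S := by
    have hli : LinearIndependent F fun i : {i : Fin (l + 1 + 2) // i ≠ (0 : Fin (l + 1)).succ.succ} =>
        (ev i.1 : Fin (l + 1 + 2) → F) := by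
      have := ((Pi.basisFun F (Fin (l + 1 + 2))).linearIndependent).comp
        (fun i : {i : Fin (l + 1 + 2) // i ≠ (0 : Fin (l + 1)).succ.succ} => i.1) Subtype.val_injective
      convert this using 1
      funext i
      exact (Pi.basisFun_apply F (Fin (l + 1 + 2)) i.1).symm
    have h := finrank_span_eq_card hli
    rw [Fintype.card_subtype_compl, Fintype.card_subtype_eq, Fintype.card_fin] at h
    rw [show l + 1 + 2 - 1 = l + 1 + 1 by omega] at h
    rw [← h]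
    refine Submodule.finrank_mono (Submodule.span_le.2 ?_)
    rintro _ ⟨i, rfl⟩
    exact hz _ (by rw [hf2]; exact Pi.single_eq_of_ne i.2.symm _)
  have hle : Module.finrank F S ≤ 3 := by
    rw [hS]
    simpa [Set.finrank] using finrank_range_le_card (R := F) ![(ev 0 : Fin (l + 1 + 2) → F), ev 1, p1 w]
  obtain rfl : l = 1 := by omega
  have hli : LinearIndependent F ![(ev 0 : Fin (1 + 1 + 2) → F), ev 1, p1 w] := by
    rw [linearIndependent_iff_card_eq_finrank_span, Set.finrank, ← hS, Fintype.card_fin]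
    omega
  obtain ⟨z, hzdef⟩ : ∃ z : Fin (1 + 1 + 2) → F, z = ev (0 : Fin (1 + 1)).succ.succ := ⟨_, rfl⟩
  have hfz : f2 1 F ⬝ᵥ z = 1 := by rw [hzdef, hf2]; exact Pi.single_eq_same _ _
  have hzS : z ∉ S := by
    intro hh
    have : ∀ y ∈ S, f2 1 F ⬝ᵥ y = 0 := by
      intro y hy
      rw [hS] at hy
      induction hy using Submodule.span_induction with
      | mem y hy =>
        obtain ⟨i, rfl⟩ := hy
        fin_cases i
        · exact f2_ev0
        · exact f2_ev1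
        · exact hwf
      | zero => exact dotProduct_zero _
      | add a b _ _ ha hb => rw [dotProduct_add, ha, hb, add_zero]
      | smul a b _ hb => rw [dotProduct_smul, hb, smul_zero]
    rw [this z hh] at hfz
    exact zero_ne_one hfz
  have h1S : ev 1 ∉ Submodule.span F (Set.range ![(ev 0 : Fin (1 + 1 + 2) → F), p1 w, z]) := by
    have hli4 : LinearIndependent F (Fin.cons z ![(ev 0 : Fin (1 + 1 + 2) → F), ev 1, p1 w] :
        Fin 4 → Fin (1 + 1 + 2) → F) := linearIndependent_finCons.2 ⟨hli, hS ▸ hzS⟩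
    intro hh
    refine (hli4.notMem_span_image (s := {1, 3, 0}) (x := 2) (by decide)) (Submodule.span_mono ?_ hh)
    rintro _ ⟨i, rfl⟩
    fin_cases i
    · exact ⟨1, by decide, rfl⟩
    · exact ⟨3, by decide, rfl⟩
    · exact ⟨0, by decide, rfl⟩
  obtain ⟨η, hη, hη1⟩ := CfsgLib.Transvec.exists_functional h1S
  have hη0 : η ⬝ᵥ ev 0 = 0 := hη _ (Submodule.subset_span ⟨0, rfl⟩)
  have hηw : η ⬝ᵥ p1 w = 0 := hη _ (Submodule.subset_span ⟨1, rfl⟩)
  have hηz : η ⬝ᵥ z = 0 := hη _ (Submodule.subset_span ⟨2, rfl⟩)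
  obtain ⟨s, hs0, hs2⟩ : ∃ s : F, s ≠ 0 ∧ s * s ≠ 1 := by
    obtain ⟨g, hg⟩ := IsCyclic.exists_ofOrder_eq_natCard (α := Fˣ)
    refine ⟨g, g.ne_zero, fun h => ?_⟩
    have h3 := orderOf_dvd_of_pow_eq_one (show g ^ 2 = 1 from Units.ext (by simpa [pow_two] using h))
    rw [hg, Nat.card_units, Nat.card_eq_fintype_card] at h3
    have := Fintype.one_lt_card (α := F)
    have h4 := Nat.le_of_dvd (by norm_num) h3
    obtain ⟨h5, h6⟩ := hex.2 rfl
    omega
  obtain ⟨D1, hD1⟩ : ∃ D, D = (1 : Matrix (Fin (1 + 1 + 2)) (Fin (1 + 1 + 2)) F) + vecMulVec ((s - 1) • ev 1) η := ⟨_, rfl⟩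
  obtain ⟨D2, hD2⟩ : ∃ D, D = (1 : Matrix (Fin (1 + 1 + 2)) (Fin (1 + 1 + 2)) F) + vecMulVec ((s⁻¹ - 1) • z) (f2 1 F) :=
    ⟨_, rfl⟩
  let h : SpecialLinearGroup (Fin (1 + 1 + 2)) F := ⟨D1 * D2, by
    rw [det_mul, hD1, hD2, det_one_add_vv, det_one_add_vv, dotProduct_smul, dotProduct_smul, hη1, hfz, smul_eq_mul,
      smul_eq_mul, mul_one, mul_one, add_sub_cancel, add_sub_cancel, mul_inv_cancel₀ hs0]⟩
  have hh : ∀ x, (h : Matrix (Fin (1 + 1 + 2)) (Fin (1 + 1 + 2)) F) *ᵥ x =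
      x + ((f2 1 F ⬝ᵥ x) * (s⁻¹ - 1)) • z + ((η ⬝ᵥ x) * (s - 1)) • ev 1 := fun x => by
    show (D1 * D2) *ᵥ x = _
    rw [← mulVec_mulVec, hD1, hD2]
    simp only [add_mulVec, one_mulVec, vecMulVec_mulVec, op_smul_eq_smul, dotProduct_add, dotProduct_smul, hηz,
      smul_smul, smul_eq_mul, mul_zero, add_zero, mulVec_add, mulVec_smul]
    module
  have hstab : ρ h * P = P * ρ h := by
    refine stab h ⟨1, one_ne_zero, ?_, ?_⟩ <;> rw [hh, one_smul]
    · rw [f2_ev0, hη0, zero_mul, zero_mul, zero_smul, zero_smul, add_zero, add_zero]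
    · rw [hwf, hηw, zero_mul, zero_mul, zero_smul, zero_smul, add_zero, add_zero]
  obtain ⟨c, hc⟩ : ∃ c : F, c = (s * s - 1)⁻¹ := ⟨_, rfl⟩
  have hz' : ∀ t : F, (t • f2 1 F) ⬝ᵥ ev 1 = 0 := fun t => by rw [smul_dotProduct, f2_ev1, smul_zero]
  have hkey := key h (tv (ev 1) (c • f2 1 F)) ((s * s - 1) • c • f2 1 F) hstab ?_ ?_
  · rwa [hc, smul_smul, mul_inv_cancel₀ (sub_ne_zero.2 hs2), one_smul] at hkey
  · refine stab _ ⟨1, one_ne_zero, ?_, ?_⟩ <;> rw [tv_mulVec (hz' c), smul_dotProduct, one_smul]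
    · rw [f2_ev0, smul_zero, zero_smul, add_zero]
    · rw [hwf, smul_zero, zero_smul, add_zero]
  · rw [← mul_assoc, tv_mul (by rw [smul_smul]; exact hz' _) (hz' c)]
    refine mul_tv h (hz' c) (by rw [smul_smul, ← add_smul]; exact hz' _) fun x => ?_
    simp only [hh, dotProduct_add, dotProduct_smul, add_dotProduct, smul_dotProduct, f2_ev1, hfz, hη1, smul_eq_mul,
      mul_zero, add_zero, zero_mul, zero_smul, smul_add, smul_smul]
    rw [← add_smul]
    congr 1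
    field_simp
    ring

end CfsgLib.MinDegree.SLWts
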