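import Mathlib
import Cfsg.Agent.Lib.MinDegree.SLWeights
import Cfsg.Agent.Lib.MinDegree.SLOverlap
import Cfsg.Agent.Lib.MinDegree.SLArith

/-!
The smallest degree of a non-trivial irreducible complex representation of the special linear group.
-/

namespace CfsgLib.MinDegree.SLBound

open Matrix SLAvg SLTv SLOps SLWts SLOverlap

variable {F : Type*} [Field F] [Fintype F] [DecidableEq F] {l : ℕ}
variable {V : Type*} [AddCommGroup V] [Module ℂ V] [FiniteDimensional ℂ V]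

/-- An operator commuting with an irreducible representation is a scalar. -/
theorem exists_scalar_of_comm {G : Type*} [Group G] (σ : Representation ℂ G V) [σ.IsIrreducible] [Nontrivial V]
    {S : Module.End ℂ V} (h : ∀ g, σ g * S = S * σ g) : ∃ a : ℂ, S = a • 1 := by
  obtain ⟨a, ha⟩ := Module.End.exists_eigenvalue S
  let U : Subrepresentation σ :=
    { toSubmodule := Module.End.eigenspace S a
      apply_mem_toSubmodule := fun g v hv => by
        rw [Module.End.mem_eigenspace_iff] at hv ⊢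
        rw [← Module.End.mul_apply, ← h, Module.End.mul_apply, hv, map_smul] }
  refine ⟨a, ?_⟩
  rcases eq_bot_or_eq_top U with hU | hU
  · exact absurd (congrArg Subrepresentation.toSubmodule hU) ha
  · refine LinearMap.ext fun v => ?_
    have hv : v ∈ Module.End.eigenspace S a := by
      rw [show Module.End.eigenspace S a = ⊤ from congrArg Subrepresentation.toSubmodule hU]; trivial
    exact Module.End.mem_eigenspace_iff.1 hv

theorem p1_single {n : ℕ} (r : F) : p1 (Pi.single 0 r) = r • (ev 1 : Fin (n + 2) → F) := by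
  funext i
  show _ = r * (Pi.single (0 : Fin (n + 1)).succ (1 : F) : Fin (n + 2) → F) i
  refine Fin.cases ?_ (fun j => ?_) i <;> simp [p1, Pi.single_apply] <;> rw [← Fin.succ_zero_eq_one] <;> simp only [Fin.succ_inj]

theorem sum_ne_zero_char (ψ : AddChar F ℂ) (hψ : ψ ≠ 1) {κ : Type*} [Fintype κ] [DecidableEq κ] {φ : κ → F}
    (hφ : φ ≠ 0) : ∑ w ∈ Finset.univ.erase (0 : κ → F), ψ (φ ⬝ᵥ w) = -1 := by
  rw [Finset.sum_erase_eq_sub (Finset.mem_univ _), dotProduct_zero, AddChar.map_zero_eq_one,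
    Finset.sum_congr rfl (fun w _ => by rw [dotProduct_comm φ w] :
      ∀ w ∈ Finset.univ, ψ (φ ⬝ᵥ w) = ψ (w ⬝ᵥ φ)),
    sum_char_dot ψ hψ hφ, zero_sub]

/-- The data of a representation, with the fixed vectors of the first block. -/
theorem sl_data_gen_ext
    (ρ : Representation ℂ (SpecialLinearGroup (Fin (l + 1 + 2)) F) V) [ρ.IsIrreducible] (hρ : ρ ≠ 1) :
    ((Fintype.card F : ℤ) ^ (l + 1 + 2) - Fintype.card F ≤ ((Fintype.card F : ℤ) - 1) * Module.finrank ℂ V ∧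
      (3 ≤ Fintype.card F →
        (Fintype.card F : ℤ) ^ (l + 1 + 2) - 1 < ((Fintype.card F : ℤ) - 1) * Module.finrank ℂ V)) ∨
    ∃ c c' d f z : ℕ, (((l = 0 → Fintype.card F ≠ 2 ∧ Fintype.card F ≠ 4) ∧
        (l = 1 → Fintype.card F ≠ 2 ∧ Fintype.card F ≠ 3)) → 1 ≤ d) ∧ f ≤ z ∧ z ≤ c' ∧
      (Module.finrank ℂ V : ℤ) = c + ((Fintype.card F : ℤ) ^ (l + 1 + 1) - 1) ∧
      (c : ℤ) = c' + d * ((Fintype.card F : ℤ) ^ (l + 1) - 1) ∧
      (Module.finrank ℂ V : ℤ) * (((Fintype.card F : ℤ) - 1) * c * (Fintype.card F : ℤ) ^ 2 +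
          ((Fintype.card F : ℤ) ^ (l + 1 + 2) - Fintype.card F) * ((Fintype.card F : ℤ) * c' +
            ((Fintype.card F : ℤ) - 1) * (((Fintype.card F : ℤ) + 1) * f - z))) =
        ((Fintype.card F : ℤ) ^ (l + 1 + 2) - 1) * c ^ 2 * (Fintype.card F : ℤ) ^ 2 ∧
      LinearMap.trace ℂ V (pv ρ (ev (0 : Fin (l + 1 + 2)))) = c ∧
      (z = c' → ∀ (s : Fˣ) (v : V), pv ρ (ev (0 : Fin (l + 1 + 2))) v = v →
        (∀ φ, ρ (tv (ev 1) (p2 φ)) v = v) → ρ (hh s) v = v) ∧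
      ((∀ (s : Fˣ) (v : V), pv ρ (ev (0 : Fin (l + 1 + 2))) v = v →
        (∀ φ, ρ (tv (ev 1) (p2 φ)) v = v) → ρ (hh s) v = v) → z = c') ∧
      (0 < f → ∃ y : V, y ≠ 0 ∧ (∀ a, ρ (uu a) y = y) ∧ (∀ a, ρ (ll a) y = y) ∧ (∀ s, ρ (hh s) y = y) ∧
        pv ρ (ev (0 : Fin (l + 1 + 2))) y = y ∧ ∀ φ, ρ (tv (ev 1) (p2 φ)) y = y) ∧
      (d = 0 → ∀ v : V, pv ρ (ev (0 : Fin (l + 1 + 2))) v = v → ∀ φ, ρ (tv (ev 1) (p2 φ)) v = v) := by
  classical
  obtain ⟨Hex, hHex⟩ : ∃ H : Prop, H ↔ ((l = 0 → Fintype.card F ≠ 2 ∧ Fintype.card F ≠ 4) ∧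
      (l = 1 → Fintype.card F ≠ 2 ∧ Fintype.card F ≠ 3)) := ⟨_, Iff.rfl⟩
  rw [← hHex]
  haveI : Nontrivial V := by
    by_contra h
    rw [not_nontrivial_iff_subsingleton] at h
    exact hρ (MonoidHom.ext fun g => LinearMap.ext fun v => Subsingleton.elim _ _)
  obtain ⟨q, hq⟩ : ∃ q, q = Fintype.card F := ⟨_, rfl⟩
  rw [← hq]
  have hq2 : 2 ≤ q := hq ▸ Fintype.one_lt_card
  obtain ⟨ψ, hψ⟩ := CfsgLib.MinDegree.exists_nontrivial_addChar (F := F) (K := ℂ)
    (Nat.cast_ne_zero.2 Fintype.card_ne_zero)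
  let Q := qHom (m := l + 1) ρ
  have hcard : ∀ n : ℕ, ((Finset.univ.erase (0 : Fin n → F)).card : ℤ) = (q : ℤ) ^ n - 1 := fun n => by
    rw [Finset.card_erase_of_mem (Finset.mem_univ _), Finset.card_univ, Fintype.card_fun, Fintype.card_fin, ← hq,
      Nat.cast_sub (Nat.one_le_pow _ _ (by omega)), Nat.cast_pow, Nat.cast_one]
  obtain ⟨c, hc, -⟩ := exists_trace_nat (av_idem ψ Q hψ 0)
  obtain ⟨w₀, hw₀, hav₀⟩ := exists_weight_ne_zero ρ ψ hψ hρ
  obtain ⟨e, he, her⟩ := exists_trace_nat (av_idem ψ Q hψ w₀)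
  have he1 : e ≠ 0 := fun h => hav₀ (eq_zero_of_trace (av_idem ψ _ hψ w₀) (by rw [he, h, Nat.cast_zero]))
  have hall : ∀ w, w ≠ 0 → LinearMap.trace ℂ V (av ψ Q w) = e := fun w hw =>
    (trace_weight_eq ρ ψ hw hw₀).trans he
  have hk : (Module.finrank ℂ V : ℤ) = c + e * ((q : ℤ) ^ (l + 1 + 1) - 1) := by
    have h : (Module.finrank ℂ V : ℂ) = ((c + e * (Finset.univ.erase (0 : Fin (l + 1 + 1) → F)).card : ℕ) : ℂ) := by
      rw [← LinearMap.trace_one (R := ℂ) (M := V), ← sum_av ψ Q hψ, map_sum,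
        ← Finset.add_sum_erase _ _ (Finset.mem_univ (0 : Fin (l + 1 + 1) → F)), hc,
        Finset.sum_congr rfl (fun w hw => hall w (Finset.ne_of_mem_erase hw)), Finset.sum_const, nsmul_eq_mul]
      push_cast
      ring
    rw [Nat.cast_inj.1 h, Nat.cast_add, Nat.cast_mul, hcard]
  rcases (show e = 1 ∨ 2 ≤ e by omega) with rfl | he2
  swap
  · left
    have he2' : (2 : ℤ) ≤ e := by exact_mod_cast he2
    have hq2' : (2 : ℤ) ≤ q := by exact_mod_cast hq2
    have hA : (0 : ℤ) ≤ (q : ℤ) ^ (l + 1 + 1) - 1 := sub_nonneg.2 (one_le_pow₀ (by omega))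
    have hc0 : (0 : ℤ) ≤ c := Int.natCast_nonneg c
    rw [hk, pow_succ' (q : ℤ) (l + 1 + 1)]
    refine ⟨?_, fun h3 => by
      have h3' : (3 : ℤ) ≤ q := by exact_mod_cast h3
      have hA2 : (q : ℤ) ^ 2 ≤ (q : ℤ) ^ (l + 1 + 1) := pow_le_pow_right₀ (by omega) (by omega)
      nlinarith [mul_nonneg (show (0 : ℤ) ≤ q - 1 by omega) hc0,
        mul_nonneg (mul_nonneg (show (0 : ℤ) ≤ q - 1 by omega) hA) (show (0 : ℤ) ≤ e - 2 by omega),
        mul_nonneg (show (0 : ℤ) ≤ q - 3 by omega) hA]⟩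
    nlinarith [mul_nonneg (show (0 : ℤ) ≤ q - 1 by omega) hc0,
      mul_nonneg (mul_nonneg (show (0 : ℤ) ≤ q - 1 by omega) hA) (show (0 : ℤ) ≤ e - 2 by omega),
      mul_nonneg (show (0 : ℤ) ≤ q - 2 by omega) hA]
  rw [Nat.cast_one, one_mul] at hk
  -- the second transvection group
  obtain ⟨P, hP⟩ : ∃ P, P = pv ρ (ev (0 : Fin (l + 1 + 2))) := ⟨_, rfl⟩
  have hP0 : P = av ψ Q 0 := hP.trans (pv_ev0 ρ ψ)
  have hPP : P * P = P := hP0 ▸ av_idem ψ Q hψ 0
  let X := xHom (m := l + 1) ρ (ev 1) p2_ev1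
  have hXP : ∀ w, P * av ψ X w = av ψ X w * P := fun w => by
    refine commute_av ψ _ (fun φ => ?_) w
    have h := conj_pv ρ (tv (ev 1) (p2 φ)) (ev 0)
    rw [tv_mulVec (p2_ev1 φ), p2_ev0, zero_smul, add_zero, ← hP] at h
    exact h.symm
  have hidem : ∀ w, av ψ X w * P * (av ψ X w * P) = av ψ X w * P := fun w => by
    rw [mul_assoc, ← mul_assoc P, hXP, mul_assoc, hPP, ← mul_assoc, av_idem ψ X hψ]
  obtain ⟨c', z, f, hfz, hzc, htr', hzfix, hfixz, hov, hvec⟩ := SLOverlap.overlap_ext ρ ψ hψ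
  have hX0 : LinearMap.trace ℂ V (av ψ X 0 * P) = c' := by
    rw [LinearMap.trace_mul_comm, hP]; exact htr'
  obtain ⟨w₁, hw₁⟩ : ∃ w₁ : Fin (l + 1) → F, w₁ = Pi.single 0 1 := ⟨_, rfl⟩
  have hw₁0 : w₁ ≠ 0 := by rw [hw₁]; simp
  obtain ⟨d, hd, -⟩ := exists_trace_nat (hidem w₁)
  have hdall : ∀ w : Fin (l + 1) → F, w ≠ 0 → LinearMap.trace ℂ V (av ψ X w * P) = d := by
    intro w hw
    obtain ⟨g, s, hs, hg0, hg⟩ := exists_sl_map (li_ev01_p2 hw) (li_ev01_p2 hw₁0) 0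
    have h1 := move2 ρ ψ g hs hg0 (hg 1 (by decide)) (hg 2 (by decide))
    have h2 : ρ g * P = P * ρ g := by
      have h := conj_pv ρ g (ev 0)
      rw [show (g : Matrix (Fin (l + 1 + 2)) (Fin (l + 1 + 2)) F) *ᵥ ev 0 = s • ev 0 from hg0, pv_smul ρ hs, ← hP] at h
      exact h
    refine (trace_eq_of_conj (inv_mul_rho ρ g) (p' := av ψ X w₁ * P) ?_).trans hd
    rw [← mul_assoc, h1, mul_assoc, h2, ← mul_assoc]
  have hcc : (c : ℤ) = c' + d * ((q : ℤ) ^ (l + 1) - 1) := by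
    have h : (c : ℂ) = ((c' + d * (Finset.univ.erase (0 : Fin (l + 1) → F)).card : ℕ) : ℂ) := by
      rw [← hc, ← hP0, ← one_mul P, ← sum_av ψ X hψ, Finset.sum_mul, map_sum,
        ← Finset.add_sum_erase _ _ (Finset.mem_univ (0 : Fin (l + 1) → F)), hX0,
        Finset.sum_congr rfl (fun w hw => hdall w (Finset.ne_of_mem_erase hw)), Finset.sum_const, nsmul_eq_mul]
      push_cast
      ring
    rw [Nat.cast_inj.1 h, Nat.cast_add, Nat.cast_mul, hcard]
  -- the second group is not trivial on the fixed space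
  have hd1 : Hex → d ≠ 0 := by
    intro hex0 hd0
    have hex := hHex.1 hex0
    have hz : ∀ w : Fin (l + 1) → F, w ≠ 0 → av ψ X w * P = 0 := fun w hw =>
      eq_zero_of_trace (hidem w) (by rw [hdall w hw, hd0, Nat.cast_zero])
    have hfixP : av ψ X 0 * P = P := by
      conv_rhs => rw [← one_mul P, ← sum_av ψ X hψ, Finset.sum_mul,
        Finset.sum_eq_single (0 : Fin (l + 1) → F) (fun w _ hw => hz w hw) (by simp)]
    obtain ⟨T, hT⟩ : ∃ T, T = ρ (tv (ev 1) (f2 l F)) := ⟨_, rfl⟩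
    have hTP : T * P = P := by
      rw [← hfixP, ← mul_assoc]
      congr 1
      have h := apply_mul_av ψ X (Pi.single (0 : Fin (l + 1)) 1) 0
      rw [dotProduct_zero, AddChar.map_zero_eq_one, one_smul] at h
      rw [hT]
      exact h
    let φ1 : Fin (l + 1 + 1) → F := Pi.single (0 : Fin (l + 1)).succ 1
    have hφ1 : p1 φ1 = f2 l F := by
      funext i
      refine Fin.cases ?_ (fun j => Fin.cases ?_ (fun k => ?_) j) i <;>
        simp [p1, p2, f2, φ1, Pi.single_apply] <;> rw [← Fin.succ_zero_eq_one] <;> simp only [Fin.succ_inj]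
    have e1 : LinearMap.trace ℂ V (ρ (tv (ev 0) (f2 l F))) = (c : ℂ) - 1 := by
      have hu : ρ (tv (ev 0) (f2 l F)) = Q (Multiplicative.ofAdd φ1) := by rw [← hφ1]; rfl
      rw [hu, ← mul_one (Q _), ← sum_av ψ Q hψ, Finset.mul_sum, map_sum]
      simp only [apply_mul_av, map_smul, smul_eq_mul]
      rw [← Finset.add_sum_erase _ _ (Finset.mem_univ (0 : Fin (l + 1 + 1) → F)), dotProduct_zero,
        AddChar.map_zero_eq_one, one_mul, hc,
        Finset.sum_congr rfl (fun w hw => by rw [hall w (Finset.ne_of_mem_erase hw), Nat.cast_one, mul_one]),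
        sum_ne_zero_char ψ hψ (by simp [φ1]), ← sub_eq_add_neg]
    have e2 : LinearMap.trace ℂ V T = (c : ℂ) +
        ((Finset.univ.erase (0 : Fin (l + 1 + 1) → F)).filter fun w => f2 l F ⬝ᵥ p1 w = 0).card := by
      rw [← mul_one T, ← sum_av ψ Q hψ, Finset.mul_sum, map_sum,
        ← Finset.add_sum_erase _ _ (Finset.mem_univ (0 : Fin (l + 1 + 1) → F)), ← hP0, hTP, hP0, hc,
        ← Finset.sum_boole]
      congr 1
      refine Finset.sum_congr rfl fun w hw => ?_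
      have hw0 := Finset.ne_of_mem_erase hw
      split_ifs with hf
      · obtain ⟨e', he', her'⟩ := exists_trace_nat (av_idem ψ Q hψ w)
        have : e' = 1 := Nat.cast_inj.1 (he'.symm.trans (hall w hw0))
        rw [hT, fixed_weight ρ ψ hex hψ hw0 (by rw [her', this]) hf, hall w hw0, Nat.cast_one]
      · have hw' : (tv (ev 1) (f2 l F) : Matrix (Fin (l + 1 + 2)) (Fin (l + 1 + 2)) F) *ᵥ p1 w =
            (0 : F) • ev 0 + (1 : F) • p1 (w + Pi.single 0 (f2 l F ⬝ᵥ p1 w)) := by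
          rw [tv_mulVec f2_ev1, zero_smul, zero_add, one_smul, p1_add]
          congr 1
          exact (p1_single _).symm
        have hm := move1 ρ ψ (tv (ev 1) (f2 l F)) one_ne_zero
          (by rw [tv_mulVec f2_ev1, f2_ev0, zero_smul, add_zero, one_smul]) hw'
        rw [hT]
        refine trace_moved (av_idem ψ Q hψ w) ?_ hm
        rw [av_mul_av ψ Q hψ, if_neg]
        intro h
        have h0 := congrFun h 0
        rw [Pi.add_apply, Pi.single_eq_same, left_eq_add] at h0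
        exact hf h0
    have hconj : LinearMap.trace ℂ V (ρ (tv (ev 0) (f2 l F))) = LinearMap.trace ℂ V T := by
      refine trace_eq_of_conj (inv_mul_rho ρ ww) ?_
      rw [hT, ← map_mul, ← map_mul]
      refine congrArg ρ (mul_tv _ f2_ev0 f2_ev1 fun x => ?_)
      rw [ww_ev0, show f2 l F = p2 (Pi.single 0 1) from rfl, p2_ww]
    rw [e1, e2, sub_eq_add_neg, add_right_inj] at hconj
    have h := congrArg Complex.re hconj
    simp only [Complex.neg_re, Complex.one_re, Complex.natCast_re] at h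
    have hpos : (0 : ℝ) ≤ ((((Finset.univ.erase (0 : Fin (l + 1 + 1) → F)).filter
      fun w => f2 l F ⬝ᵥ p1 w = 0).card : ℕ) : ℝ) := Nat.cast_nonneg _
    linarith
  -- the sum of the projections is a scalar
  obtain ⟨S, hS⟩ : ∃ S, S = ∑ v : {v : Fin (l + 1 + 2) → F // v ≠ 0}, pv ρ v.1 := ⟨_, rfl⟩
  have hScomm : ∀ g, ρ g * S = S * ρ g := by
    intro g
    rw [hS, Finset.mul_sum, Finset.sum_mul]
    have hne : ∀ v : Fin (l + 1 + 2) → F, v ≠ 0 → (g : Matrix (Fin (l + 1 + 2)) (Fin (l + 1 + 2)) F) *ᵥ v ≠ 0 := by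
      intro v hv h
      apply hv
      have h1 : ((g⁻¹ * g : SpecialLinearGroup (Fin (l + 1 + 2)) F) : Matrix (Fin (l + 1 + 2)) (Fin (l + 1 + 2)) F) *ᵥ v = 0 := by
        rw [sl_mul_mulVec, h, mulVec_zero]
      rw [inv_mul_cancel] at h1
      exact (one_mulVec v).symm.trans h1
    obtain ⟨j, hj⟩ : ∃ j : {v : Fin (l + 1 + 2) → F // v ≠ 0} → {v : Fin (l + 1 + 2) → F // v ≠ 0},
        ∀ v, (j v).1 = (g : Matrix (Fin (l + 1 + 2)) (Fin (l + 1 + 2)) F) *ᵥ v.1 :=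
      ⟨fun v => ⟨_, hne v.1 v.2⟩, fun v => rfl⟩
    have hbij : Function.Bijective j := Finite.injective_iff_bijective.1 fun a b h => Subtype.ext (by
      by_contra hab
      have h' := congrArg Subtype.val h
      rw [hj, hj] at h'
      exact hne (a.1 - b.1) (sub_ne_zero.2 hab) (by rw [mulVec_sub, sub_eq_zero]; exact h'))
    refine Fintype.sum_bijective j hbij _ _ fun v => ?_
    rw [conj_pv, hj]
  obtain ⟨σ, hσ⟩ := exists_scalar_of_comm ρ hScomm
  have h3 : 3 ≤ Fintype.card (Fin (l + 1 + 2)) := by rw [Fintype.card_fin]; omega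
  have htr : ∀ v : Fin (l + 1 + 2) → F, v ≠ 0 → LinearMap.trace ℂ V (pv ρ v) = c := by
    intro v hv
    obtain ⟨g, s, hs, hg, -⟩ := exists_sl_map (κ := Unit) (v := fun _ => ev 0) (w := fun _ => v)
      (linearIndependent_unique_iff.2 (ev_ne_zero 0)) (linearIndependent_unique_iff.2 hv) ()
    have h := conj_pv ρ g (ev 0)
    rw [hg, pv_smul ρ hs, pv_ev0 ρ ψ] at h
    exact (trace_eq_of_conj (inv_mul_rho ρ g) h).symm.trans hc
  obtain ⟨t, ht⟩ : ∃ t, t = LinearMap.trace ℂ V (P * pv ρ (ev (1 : Fin (l + 1 + 2)))) := ⟨_, rfl⟩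
  have hsum : σ * Module.finrank ℂ V = (((q : ℂ) ^ (l + 1 + 2)) - 1) * c := by
    have h := congrArg (LinearMap.trace ℂ V) hσ
    rw [map_smul, LinearMap.trace_one, smul_eq_mul, hS, map_sum,
      Finset.sum_congr rfl (fun v _ => htr v.1 v.2), Finset.sum_const, Finset.card_univ, nsmul_eq_mul,
      Fintype.card_subtype_compl, Fintype.card_subtype_eq, Fintype.card_fun, Fintype.card_fin, ← hq,
      Nat.cast_sub (Nat.one_le_pow _ _ (by omega)), Nat.cast_pow, Nat.cast_one] at h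
    exact h.symm
  have hsum2 : σ * c = ((q : ℂ) - 1) * c + (((q : ℂ) ^ (l + 1 + 2)) - q) * t := by
    have h := congrArg (fun S => LinearMap.trace ℂ V (P * S)) hσ
    simp only [mul_smul_comm, mul_one, map_smul, smul_eq_mul] at h
    rw [← hc, ← hP0]
    rw [← h, hS, Finset.mul_sum, map_sum]
    have hstep : ∀ v : {v : Fin (l + 1 + 2) → F // v ≠ 0}, LinearMap.trace ℂ V (P * pv ρ v.1) =
        if (∃ s : F, s • ev 0 = v.1) then LinearMap.trace ℂ V P else t := by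
      intro v
      split_ifs with hv
      · obtain ⟨s, hs⟩ := hv
        have hs0 : s ≠ 0 := fun h => v.2 (by rw [← hs, h, zero_smul])
        rw [← hs, pv_smul ρ hs0, ← hP, hPP]
      · have hli : LinearIndependent F ![(ev 0 : Fin (l + 1 + 2) → F), v.1] :=
          (LinearIndependent.pair_iff' (ev_ne_zero 0)).2 fun s hs => hv ⟨s, hs⟩
        obtain ⟨g, hg0, hg1⟩ := exists_sl_pair h3 (li_ev (F := F) (i := 0) (j := 1) (Fin.ext_iff.not.2 (by simp))) hli
        have h0 := conj_pv ρ g (ev 0)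
        rw [hg0, ← hP] at h0
        have h1 := conj_pv ρ g (ev 1)
        rw [hg1] at h1
        rw [ht]
        refine (trace_eq_of_conj (inv_mul_rho ρ g) ?_).symm
        rw [← mul_assoc, h0, mul_assoc, h1, ← mul_assoc]
    rw [Finset.sum_congr rfl (fun v _ => hstep v), Finset.sum_ite, Finset.sum_const, Finset.sum_const]
    have hline : (Finset.univ.filter fun v : {v : Fin (l + 1 + 2) → F // v ≠ 0} => ∃ s : F, s • ev 0 = v.1).card =
        q - 1 := by
      rw [hq, ← Fintype.card_units, ← Finset.card_univ]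
      refine (Finset.card_bij (fun (s : Fˣ) _ => (⟨(s : F) • ev 0, smul_ne_zero s.ne_zero (ev_ne_zero 0)⟩ :
        {v : Fin (l + 1 + 2) → F // v ≠ 0})) (fun s _ => by simp) (fun a _ b _ h => ?_) (fun v hv => ?_)).symm
      · exact Units.ext (smul_left_injective F (ev_ne_zero 0) (congrArg Subtype.val h))
      · obtain ⟨s, hs⟩ := (Finset.mem_filter.1 hv).2
        exact ⟨Units.mk0 s fun h => v.2 (by rw [← hs, h, zero_smul]), Finset.mem_univ _, Subtype.ext hs⟩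
    have hrest := Finset.card_filter_add_card_filter_not (s := (Finset.univ :
      Finset {v : Fin (l + 1 + 2) → F // v ≠ 0})) (fun v => ∃ s : F, s • ev 0 = v.1)
    rw [hline, Finset.card_univ, Fintype.card_subtype_compl, Fintype.card_subtype_eq, Fintype.card_fun,
      Fintype.card_fin, ← hq] at hrest
    have hpow : q ≤ q ^ (l + 1 + 2) := Nat.le_self_pow (by omega) q
    rw [hline, show (Finset.univ.filter fun v : {v : Fin (l + 1 + 2) → F // v ≠ 0} => ¬∃ s : F, s • ev 0 = v.1).card =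
      q ^ (l + 1 + 2) - q by omega, nsmul_eq_mul, nsmul_eq_mul, Nat.cast_sub (by omega), Nat.cast_sub hpow,
      Nat.cast_pow, Nat.cast_one]
  rw [← hP, ← ht, ← hq] at hov
  have hfin : ((Module.finrank ℂ V : ℂ)) * (((q : ℂ) - 1) * c * (q : ℂ) ^ 2 + ((q : ℂ) ^ (l + 1 + 2) - q) *
      ((q : ℂ) * c' + ((q : ℂ) - 1) * (((q : ℂ) + 1) * f - z))) = ((q : ℂ) ^ (l + 1 + 2) - 1) * c ^ 2 * (q : ℂ) ^ 2 := by
    rw [← hov]
    linear_combination (c : ℂ) * (q : ℂ) ^ 2 * hsum - (Module.finrank ℂ V : ℂ) * (q : ℂ) ^ 2 * hsum2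
  right
  refine ⟨c, c', d, f, z, fun h => Nat.one_le_iff_ne_zero.2 (hd1 h), hfz, hzc, hk, hcc, by exact_mod_cast hfin, hP ▸ hP0 ▸ hc, fun hz s v hv hXv => ?_, fun hfix => hfixz fun s => ?_, fun hf => ?_, fun hd0 v hv φ => ?_⟩
  · have hX : SLOverlap.PX ρ ψ v = v := by
      have hXv' : ∀ φ, xHom ρ (ev 1) p2_ev1 (Multiplicative.ofAdd φ) v = v := hXv
      rw [SLOverlap.PX, av_zero, LinearMap.smul_apply, LinearMap.sum_apply, Finset.sum_congr rfl (fun φ _ => hXv' φ),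
        Finset.sum_const, Finset.card_univ, ← Nat.cast_smul_eq_nsmul ℂ, smul_smul,
        inv_mul_cancel₀ (Nat.cast_ne_zero.2 Fintype.card_ne_zero), one_smul]
    rw [← hP] at hv hzfix
    have h := LinearMap.congr_fun (hzfix hz s) v
    rwa [Module.End.mul_apply, Module.End.mul_apply, hX, hv] at h
  · refine LinearMap.ext fun x => ?_
    rw [← hP, Module.End.mul_apply, Module.End.mul_apply]
    refine hfix s _ ?_ fun φ => ?_
    · rw [← hP, ← Module.End.mul_apply, hPP]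
    · have hc2 : P * SLOverlap.PX ρ ψ = SLOverlap.PX ρ ψ * P := hXP 0
      have h : ρ (tv (ev 1) (p2 φ)) * SLOverlap.PX ρ ψ = SLOverlap.PX ρ ψ := by
        have h := apply_mul_av ψ X φ 0
        rwa [dotProduct_zero, AddChar.map_zero_eq_one, one_smul] at h
      rw [← Module.End.mul_apply P, hc2, ← Module.End.mul_apply (ρ _), ← mul_assoc, h]
  · obtain ⟨y, hy0, hu, hl, hs, hPy, hXy⟩ := hvec hf
    refine ⟨y, hy0, hu, hl, hs, hPy, fun φ => ?_⟩
    have h := apply_mul_av ψ X φ 0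
    rw [dotProduct_zero, AddChar.map_zero_eq_one, one_smul] at h
    rw [← hXy, ← Module.End.mul_apply]
    exact LinearMap.congr_fun h y
  · have hz : ∀ w : Fin (l + 1) → F, w ≠ 0 → av ψ X w * P = 0 := fun w hw =>
      eq_zero_of_trace (hidem w) (by rw [hdall w hw, hd0, Nat.cast_zero])
    have hfixP : av ψ X 0 * P = P := by
      conv_rhs => rw [← one_mul P, ← sum_av ψ X hψ, Finset.sum_mul,
        Finset.sum_eq_single (0 : Fin (l + 1) → F) (fun w _ hw => hz w hw) (by simp)]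
    rw [← hP] at hv
    have h := apply_mul_av ψ X φ 0
    rw [dotProduct_zero, AddChar.map_zero_eq_one, one_smul] at h
    have h' := LinearMap.congr_fun (congrArg (· * P) h) v
    simp only [Module.End.mul_apply] at h'
    rw [hv, show av ψ X 0 v = v from by
      have h2 := LinearMap.congr_fun hfixP v
      rwa [Module.End.mul_apply, hv] at h2] at h'
    exact h'

/-- The data of a representation, without a restriction on the field. -/
theorem sl_data_gen
    (ρ : Representation ℂ (SpecialLinearGroup (Fin (l + 1 + 2)) F) V) [ρ.IsIrreducible] (hρ : ρ ≠ 1) :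
    ((Fintype.card F : ℤ) ^ (l + 1 + 2) - Fintype.card F ≤ ((Fintype.card F : ℤ) - 1) * Module.finrank ℂ V ∧
      (3 ≤ Fintype.card F →
        (Fintype.card F : ℤ) ^ (l + 1 + 2) - 1 < ((Fintype.card F : ℤ) - 1) * Module.finrank ℂ V)) ∨
    ∃ c c' d f z : ℕ, (((l = 0 → Fintype.card F ≠ 2 ∧ Fintype.card F ≠ 4) ∧
        (l = 1 → Fintype.card F ≠ 2 ∧ Fintype.card F ≠ 3)) → 1 ≤ d) ∧ f ≤ z ∧ z ≤ c' ∧
      (Module.finrank ℂ V : ℤ) = c + ((Fintype.card F : ℤ) ^ (l + 1 + 1) - 1) ∧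
      (c : ℤ) = c' + d * ((Fintype.card F : ℤ) ^ (l + 1) - 1) ∧
      (Module.finrank ℂ V : ℤ) * (((Fintype.card F : ℤ) - 1) * c * (Fintype.card F : ℤ) ^ 2 +
          ((Fintype.card F : ℤ) ^ (l + 1 + 2) - Fintype.card F) * ((Fintype.card F : ℤ) * c' +
            ((Fintype.card F : ℤ) - 1) * (((Fintype.card F : ℤ) + 1) * f - z))) =
        ((Fintype.card F : ℤ) ^ (l + 1 + 2) - 1) * c ^ 2 * (Fintype.card F : ℤ) ^ 2 ∧
      LinearMap.trace ℂ V (pv ρ (ev (0 : Fin (l + 1 + 2)))) = c ∧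
      (z = c' → ∀ (s : Fˣ) (v : V), pv ρ (ev (0 : Fin (l + 1 + 2))) v = v →
        (∀ φ, ρ (tv (ev 1) (p2 φ)) v = v) → ρ (hh s) v = v) ∧
      ((∀ (s : Fˣ) (v : V), pv ρ (ev (0 : Fin (l + 1 + 2))) v = v →
        (∀ φ, ρ (tv (ev 1) (p2 φ)) v = v) → ρ (hh s) v = v) → z = c') := by
  rcases sl_data_gen_ext ρ hρ with h | ⟨c, c', d, f, z, h1, h2, h3, h4, h5, h6, h7, h8, h9, -, -⟩
  · exact Or.inl h
  · exact Or.inr ⟨c, c', d, f, z, h1, h2, h3, h4, h5, h6, h7, h8, h9⟩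

/-- The numerical data of an irreducible representation. -/
theorem sl_data (hex : (l = 0 → Fintype.card F ≠ 2 ∧ Fintype.card F ≠ 4) ∧
      (l = 1 → Fintype.card F ≠ 2 ∧ Fintype.card F ≠ 3))
    (ρ : Representation ℂ (SpecialLinearGroup (Fin (l + 1 + 2)) F) V) [ρ.IsIrreducible] (hρ : ρ ≠ 1) :
    ((Fintype.card F : ℤ) ^ (l + 1 + 2) - Fintype.card F ≤ ((Fintype.card F : ℤ) - 1) * Module.finrank ℂ V ∧
      (3 ≤ Fintype.card F →
        (Fintype.card F : ℤ) ^ (l + 1 + 2) - 1 < ((Fintype.card F : ℤ) - 1) * Module.finrank ℂ V)) ∨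
    ∃ c c' d f z : ℕ, 1 ≤ d ∧ f ≤ z ∧ z ≤ c' ∧
      (Module.finrank ℂ V : ℤ) = c + ((Fintype.card F : ℤ) ^ (l + 1 + 1) - 1) ∧
      (c : ℤ) = c' + d * ((Fintype.card F : ℤ) ^ (l + 1) - 1) ∧
      (Module.finrank ℂ V : ℤ) * (((Fintype.card F : ℤ) - 1) * c * (Fintype.card F : ℤ) ^ 2 +
          ((Fintype.card F : ℤ) ^ (l + 1 + 2) - Fintype.card F) * ((Fintype.card F : ℤ) * c' +
            ((Fintype.card F : ℤ) - 1) * (((Fintype.card F : ℤ) + 1) * f - z))) =
        ((Fintype.card F : ℤ) ^ (l + 1 + 2) - 1) * c ^ 2 * (Fintype.card F : ℤ) ^ 2 ∧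
      LinearMap.trace ℂ V (pv ρ (ev (0 : Fin (l + 1 + 2)))) = c ∧
      (z = c' → ∀ (s : Fˣ) (v : V), pv ρ (ev (0 : Fin (l + 1 + 2))) v = v →
        (∀ φ, ρ (tv (ev 1) (p2 φ)) v = v) → ρ (hh s) v = v) ∧
      ((∀ (s : Fˣ) (v : V), pv ρ (ev (0 : Fin (l + 1 + 2))) v = v →
        (∀ φ, ρ (tv (ev 1) (p2 φ)) v = v) → ρ (hh s) v = v) → z = c') := by
  rcases sl_data_gen ρ hρ with h | ⟨c, c', d, f, z, hd, h⟩
  · exact Or.inl h
  · exact Or.inr ⟨c, c', d, f, z, hd hex, h⟩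

theorem sl_bound (hex : (l = 0 → Fintype.card F ≠ 2 ∧ Fintype.card F ≠ 4) ∧
      (l = 1 → Fintype.card F ≠ 2 ∧ Fintype.card F ≠ 3))
    (ρ : Representation ℂ (SpecialLinearGroup (Fin (l + 1 + 2)) F) V) [ρ.IsIrreducible] (hρ : ρ ≠ 1) :
    (Fintype.card F : ℤ) ^ (l + 1 + 2) - Fintype.card F ≤
      ((Fintype.card F : ℤ) - 1) * Module.finrank ℂ V := by
  rcases sl_data hex ρ hρ with h | ⟨c, c', d, f, z, hd, hfz, hzc, hk, hc, hm, -⟩
  · exact h.1
  · exact SLArith.sl_arith (d := d) (c := c) (c' := c') (f := f) (z := z) (m := l + 1) Fintype.one_lt_card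
      (by omega) hd hfz hzc hk hc hm

end CfsgLib.MinDegree.SLBound
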