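import Mathlib
import Cfsg.Agent.Lib.MinDegree.SLBound
import Cfsg.Agent.Lib.MinDegree.Minimal

/-!
The permutation representation of the special linear group on projective points.
-/

namespace CfsgLib.MinDegree.SLBound

open Matrix SLTv SLOps SLWts SLOverlap

universe u w

variable {F : Type u} [Field F] [Fintype F] [DecidableEq F] {l : ℕ}

theorem sl_commutator (l : ℕ) (F : Type u) [Field F] :
    commutator (SpecialLinearGroup (Fin (l + 1 + 2)) F) = ⊤ :=
  CfsgLib.Classical.commutator_SL_eq_top (by rw [Fintype.card_fin]; omega)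

/-- The bound for every non-trivial representation. -/
theorem sl_bound_of_ne_one (hex : (l = 0 → Fintype.card F ≠ 2 ∧ Fintype.card F ≠ 4) ∧
      (l = 1 → Fintype.card F ≠ 2 ∧ Fintype.card F ≠ 3))
    {V : Type w} [AddCommGroup V] [Module ℂ V] [FiniteDimensional ℂ V]
    (ρ : Representation ℂ (SpecialLinearGroup (Fin (l + 1 + 2)) F) V) (hρ : ρ ≠ 1) :
    (Fintype.card F : ℤ) ^ (l + 1 + 2) - Fintype.card F ≤
      ((Fintype.card F : ℤ) - 1) * Module.finrank ℂ V := by
  suffices H : ∀ (d : ℕ) (V : Type w) [AddCommGroup V] [Module ℂ V] [FiniteDimensional ℂ V]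
      (ρ : Representation ℂ (SpecialLinearGroup (Fin (l + 1 + 2)) F) V), Module.finrank ℂ V = d → ρ ≠ 1 →
      (Fintype.card F : ℤ) ^ (l + 1 + 2) - Fintype.card F ≤ ((Fintype.card F : ℤ) - 1) * d from
    H _ V ρ rfl hρ
  intro d
  induction d using Nat.strong_induction_on with
  | h d ih =>
    intro V _ _ _ ρ hd hρ
    by_cases hirr : ρ.IsIrreducible
    · exact hd ▸ sl_bound hex ρ hρ
    have hq : (1 : ℤ) ≤ Fintype.card F := by exact_mod_cast Fintype.card_pos
    by_contra hlt
    refine hirr (irreducible_of_minimal (sl_commutator l F) ρ hρ (fun U σ hσ => ?_) fun U σ hσ => ?_)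
    · by_contra h
      refine hlt ((ih _ (by omega) U σ rfl hσ).trans (mul_le_mul_of_nonneg_left ?_ (by omega)))
      exact_mod_cast (by omega : Module.finrank ℂ U ≤ d)
    · by_contra h
      refine hlt ((ih _ (by omega) (V ⧸ U) σ rfl hσ).trans (mul_le_mul_of_nonneg_left ?_ (by omega)))
      exact_mod_cast (by omega : Module.finrank ℂ (V ⧸ U) ≤ d)

theorem exists_perm_irreducible (hex : (l = 0 → Fintype.card F ≠ 2 ∧ Fintype.card F ≠ 4) ∧
      (l = 1 → Fintype.card F ≠ 2 ∧ Fintype.card F ≠ 3)) :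
    ∃ ρ : Representation ℂ (SpecialLinearGroup (Fin (l + 1 + 2)) F)
        (Fin ((Fintype.card F ^ (l + 1 + 2) - Fintype.card F) / (Fintype.card F - 1)) → ℂ), ρ.IsIrreducible := by
  classical
  let G := SpecialLinearGroup (Fin (l + 1 + 2)) F
  let P := Projectivization F (Fin (l + 1 + 2) → F)
  letI : Fintype P := Fintype.ofFinite P
  let sumMap : (P → ℂ) →ₗ[ℂ] ℂ := ∑ x : P, LinearMap.proj x
  let σ : G →* Module.End ℂ (LinearMap.ker sumMap) :=
    { toFun := fun g => (LinearMap.funLeft ℂ ℂ (fun x : P => g⁻¹ • x)).restrict (fun f hf => by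
        rw [LinearMap.mem_ker] at hf ⊢
        rw [← hf]
        simp only [sumMap, LinearMap.sum_apply, LinearMap.proj_apply, LinearMap.funLeft_apply]
        exact Fintype.sum_equiv (MulAction.toPerm g⁻¹) _ _ fun x => rfl)
      map_one' := by
        refine LinearMap.ext fun f => Subtype.ext (funext fun x => ?_)
        show f.1 ((1 : G)⁻¹ • x) = f.1 x
        rw [inv_one, one_smul]
      map_mul' := fun g h => by
        refine LinearMap.ext fun f => Subtype.ext (funext fun x => ?_)
        show f.1 ((g * h)⁻¹ • x) = f.1 (h⁻¹ • g⁻¹ • x)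
        rw [_root_.mul_inv_rev, mul_smul] }
  have hσ : σ ≠ 1 := by
    intro h
    obtain ⟨x, hx⟩ : ∃ x : P, x = Projectivization.mk F (ev 0) (ev_ne_zero 0) := ⟨_, rfl⟩
    obtain ⟨y, hy⟩ : ∃ y : P, y = (ww : G) • x := ⟨_, rfl⟩
    have hxy : x ≠ y := by
      have e : y = Projectivization.mk F (ev 1) (ev_ne_zero 1) := by
        rw [hy, hx, Projectivization.matrixSpecialLinearGroup_smul_def]
        show Projectivization.mk F _ _ = _
        congr 1
        exact ww_ev0
      rw [e, hx, Ne, Projectivization.mk_eq_mk_iff']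
      rintro ⟨a, ha⟩
      exact zero_ne_one ((by simpa [ev] using congrFun ha 0 : (0 : F) = 1))
    let f : LinearMap.ker sumMap := ⟨Pi.single x 1 - Pi.single y 1, by
      rw [LinearMap.mem_ker]; simp [sumMap, Finset.sum_pi_single']⟩
    have h1 := congrArg (fun e : LinearMap.ker sumMap => (e.1 : P → ℂ) y)
      (LinearMap.congr_fun (DFunLike.congr_fun h (ww : G)) f)
    have hyx : (ww : G)⁻¹ • y = x := by rw [hy, inv_smul_smul]
    change f.1 ((ww : G)⁻¹ • y) = f.1 y at h1
    rw [hyx] at h1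
    simp [f, hxy, hxy.symm] at h1
    norm_num at h1
  obtain ⟨N, hN⟩ : ∃ N, N = Fintype.card P := ⟨_, rfl⟩
  have hsurj : LinearMap.range sumMap = ⊤ := by
    refine LinearMap.range_eq_top.2 fun a => ?_
    obtain ⟨x⟩ : Nonempty P := ⟨Projectivization.mk F (ev 0) (ev_ne_zero 0)⟩
    exact ⟨Pi.single x a, by simp [sumMap, Finset.sum_pi_single']⟩
  have hker : Module.finrank ℂ (LinearMap.ker sumMap) + 1 = N := by
    have h := LinearMap.finrank_range_add_finrank_ker sumMap
    rw [hsurj, finrank_top, Module.finrank_self, Module.finrank_fintype_fun_eq_card, ← hN] at h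
    omega
  have hNq : Fintype.card F ^ (l + 1 + 2) - 1 = N * (Fintype.card F - 1) := by
    have h := Projectivization.card F (Fin (l + 1 + 2) → F)
    rw [Nat.card_eq_fintype_card, Nat.card_eq_fintype_card, Nat.card_eq_fintype_card, Fintype.card_fun,
      Fintype.card_fin, ← hN] at h
    exact h
  have hq : 2 ≤ Fintype.card F := Fintype.one_lt_card
  have hdim : (Fintype.card F ^ (l + 1 + 2) - Fintype.card F) = Module.finrank ℂ (LinearMap.ker sumMap) * (Fintype.card F - 1) := by
    have : N * (Fintype.card F - 1) =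
        Module.finrank ℂ (LinearMap.ker sumMap) * (Fintype.card F - 1) + (Fintype.card F - 1) := by
      rw [← hker, add_mul, one_mul]
    omega
  obtain ⟨B, hB⟩ : ∃ B, B = (Fintype.card F ^ (l + 1 + 2) - Fintype.card F) / (Fintype.card F - 1) := ⟨_, rfl⟩
  rw [← hB]
  rw [hdim, Nat.mul_div_cancel _ (by omega)] at hB
  let e : LinearMap.ker sumMap ≃ₗ[ℂ] (Fin B → ℂ) := LinearEquiv.ofFinrankEq _ _ (by rw [Module.finrank_fin_fun, hB])
  let σ' : Representation ℂ G (Fin B → ℂ) := (e.conjAlgEquiv ℂ).toAlgHom.toMonoidHom.comp σ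
  have hσ' : σ' ≠ 1 := fun h => hσ (MonoidHom.ext fun g =>
    (e.conjAlgEquiv ℂ).injective (((DFunLike.congr_fun h g : _)).trans (map_one (e.conjAlgEquiv ℂ)).symm))
  refine ⟨σ', irreducible_of_minimal (sl_commutator l F) σ' hσ' (fun U τ hτ => ?_) fun U τ hτ => ?_⟩
  all_goals
    have h := sl_bound_of_ne_one hex τ hτ
    rw [Module.finrank_fin_fun]
    refine hB.le.trans ?_
    have hcast : ((Fintype.card F ^ (l + 1 + 2) - Fintype.card F : ℕ) : ℤ) =
        (Fintype.card F : ℤ) ^ (l + 1 + 2) - Fintype.card F := by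
      rw [Nat.cast_sub (Nat.le_self_pow (by omega) _), Nat.cast_pow]
    rw [← hcast, hdim, Nat.cast_mul, Nat.cast_sub (by omega), Nat.cast_one, mul_comm] at h
    exact_mod_cast le_of_mul_le_mul_left h (by omega)

end CfsgLib.MinDegree.SLBound
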