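import Mathlib
import Cfsg.Agent.Lib.MinDegree.SLPerm
import Cfsg.Agent.Lib.MinDegree.SLExactArith

/-!
An irreducible representation of the smallest degree of the special linear group has a vector fixed by the
stabiliser of a point.
-/

namespace CfsgLib.MinDegree.SLExact

open Matrix SLAvg SLTv SLOps SLWts SLOverlap SLBound


universe u w

variable {F : Type u} [Field F] [Fintype F] [DecidableEq F] {l : ℕ}
variable {V : Type w} [AddCommGroup V] [Module ℂ V] [FiniteDimensional ℂ V]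

/-- The torus condition. -/
def TorusFixed (ρ : Representation ℂ (SpecialLinearGroup (Fin (l + 1 + 2)) F) V) : Prop :=
  ∀ (s : Fˣ) (v : V), pv ρ (ev (0 : Fin (l + 1 + 2))) v = v →
    (∀ φ, ρ (tv (ev 1) (p2 φ)) v = v) → ρ (hh s) v = v

theorem hex_of (hq : 5 ≤ Fintype.card F ∨ (4 ≤ Fintype.card F ∧ 1 ≤ l)) :
    (l = 0 → Fintype.card F ≠ 2 ∧ Fintype.card F ≠ 4) ∧ (l = 1 → Fintype.card F ≠ 2 ∧ Fintype.card F ≠ 3) := by
  omega

/-- The torus is trivial on the overlap in the extreme case. -/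
theorem torusFixed_of_min (hex : (l = 0 → Fintype.card F ≠ 2 ∧ Fintype.card F ≠ 4) ∧
      (l = 1 → Fintype.card F ≠ 2 ∧ Fintype.card F ≠ 3)) (hq : 3 ≤ Fintype.card F)
    (ρ : Representation ℂ (SpecialLinearGroup (Fin (l + 1 + 2)) F) V) [ρ.IsIrreducible] (hρ : ρ ≠ 1)
    (hk : ((Fintype.card F : ℤ) - 1) * Module.finrank ℂ V = (Fintype.card F : ℤ) ^ (l + 1 + 2) - Fintype.card F) :
    TorusFixed ρ := by
  obtain ⟨Q, hQ⟩ : ∃ Q : ℤ, Q = (Fintype.card F : ℤ) := ⟨_, rfl⟩
  have hQ3 : 3 ≤ Q := by rw [hQ]; exact_mod_cast hq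
  rcases sl_data hex ρ hρ with h | ⟨c, c', d, f, z, hd, hfz, hzc, hkc, hc, hm, -, hfix, -⟩
  · have := h.2 hq
    rw [hk] at this
    omega
  refine hfix ?_
  rw [← hQ] at hm hk hc hkc
  obtain ⟨P, hP⟩ : ∃ P : ℤ, P = Q ^ (l + 1) := ⟨_, rfl⟩
  rw [show Q ^ (l + 1 + 1) = Q * P by rw [hP, pow_succ']] at hkc
  rw [show Q ^ (l + 1 + 2) = Q * (Q * P) by rw [hP]; ring] at hm hk
  rw [← hP] at hc
  have hPQ : Q ≤ P := by rw [hP]; exact le_self_pow₀ (by omega) (by omega)
  have hk0 : (Module.finrank ℂ V : ℤ) ≠ 0 := fun h => by rw [h, mul_zero] at hk; nlinarith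
  have hT := SLArith.overlap_value (e := 0) hQ3 hPQ hkc hc hk0 hm (by linear_combination hk) (Or.inl rfl)
  rw [if_pos rfl] at hT
  have hf' : (f : ℤ) ≤ z := by exact_mod_cast hfz
  have hz' : (z : ℤ) ≤ c' := by exact_mod_cast hzc
  have hd' : (1 : ℤ) ≤ d := by exact_mod_cast hd
  have hd1 : (d : ℤ) = 1 := by
    by_contra hne
    have h2 : (2 : ℤ) ≤ d := by omega
    nlinarith [mul_nonneg (mul_nonneg (show (0 : ℤ) ≤ Q - 1 by omega) (show (0 : ℤ) ≤ Q + 1 by omega))
        (show (0 : ℤ) ≤ (z : ℤ) - f by linarith),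
      mul_nonneg (mul_nonneg (show (0 : ℤ) ≤ Q - 1 by omega) (show (0 : ℤ) ≤ Q by omega))
        (show (0 : ℤ) ≤ (c' : ℤ) - z by linarith),
      mul_nonneg (mul_nonneg (show (0 : ℤ) ≤ Q by omega) (show (0 : ℤ) ≤ Q by omega))
        (mul_nonneg (show (0 : ℤ) ≤ d - 2 by omega) (show (0 : ℤ) ≤ P - 1 by omega)),
      mul_nonneg (mul_nonneg (show (0 : ℤ) ≤ Q by omega) (show (0 : ℤ) ≤ Q by omega))
        (show (0 : ℤ) ≤ P - 2 by omega)]
  rw [hd1, one_mul] at hc
  have e : (Q + 1) * ((c' : ℤ) - f - 1) = (c' : ℤ) - z := by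
    refine mul_left_cancel₀ (show Q - 1 ≠ 0 by omega) ?_
    rw [hc] at hT
    linear_combination -hT
  have h1 : ((c' : ℤ) - f - 1) = 0 := by
    rcases lt_trichotomy ((c' : ℤ) - f - 1) 0 with h | h | h
    · nlinarith
    · exact h
    · nlinarith
  rw [h1, mul_zero] at e
  omega

/-- Every non-trivial representation contains all the non-zero weights. -/
theorem weight_bound (ρ : Representation ℂ (SpecialLinearGroup (Fin (l + 1 + 2)) F) V) (hρ : ρ ≠ 1) :
    (Fintype.card F : ℤ) ^ (l + 1 + 1) - 1 ≤ (Module.finrank ℂ V : ℤ) := by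
  classical
  obtain ⟨ψ, hψ⟩ := CfsgLib.MinDegree.exists_nontrivial_addChar (F := F) (K := ℂ)
    (Nat.cast_ne_zero.2 Fintype.card_ne_zero)
  obtain ⟨w₀, hw₀, hne⟩ := exists_weight_ne_zero ρ ψ hψ hρ
  obtain ⟨c, hc, -⟩ := exists_trace_nat (av_idem ψ (qHom ρ) hψ 0)
  obtain ⟨e, he, -⟩ := exists_trace_nat (av_idem ψ (qHom ρ) hψ w₀)
  have he1 : 1 ≤ e := Nat.one_le_iff_ne_zero.2 fun h =>
    hne (eq_zero_of_trace (av_idem ψ _ hψ w₀) (by rw [he, h, Nat.cast_zero]))
  have hd : Module.finrank ℂ V = c + (Finset.univ.erase (0 : Fin (l + 1 + 1) → F)).card * e := by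
    refine Nat.cast_injective (R := ℂ) ?_
    rw [← LinearMap.trace_one (R := ℂ) (M := V), ← sum_av ψ (qHom ρ) hψ, map_sum,
      ← Finset.add_sum_erase _ _ (Finset.mem_univ (0 : Fin (l + 1 + 1) → F)), hc,
      Finset.sum_congr rfl (fun w hw => (trace_weight_eq ρ ψ (Finset.ne_of_mem_erase hw) hw₀).trans he),
      Finset.sum_const, nsmul_eq_mul, Nat.cast_add, Nat.cast_mul]
  rw [Finset.card_erase_of_mem (Finset.mem_univ _), Finset.card_univ, Fintype.card_fun, Fintype.card_fin] at hd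
  have hle : Fintype.card F ^ (l + 1 + 1) - 1 ≤ Module.finrank ℂ V := by
    rw [hd]; nlinarith
  have h' : ((Fintype.card F ^ (l + 1 + 1) - 1 : ℕ) : ℤ) ≤ (Module.finrank ℂ V : ℤ) := by exact_mod_cast hle
  push_cast [Nat.one_le_pow _ _ Fintype.card_pos] at h'
  exact h'

/-- With trivial torus the degree `(q ^ n - 1) / (q - 1)` does not occur. -/
theorem not_torusFixed_of_succ (hq : 4 ≤ Fintype.card F)
    (ρ : Representation ℂ (SpecialLinearGroup (Fin (l + 1 + 2)) F) V) [ρ.IsIrreducible] (hρ : ρ ≠ 1)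
    (hk : ((Fintype.card F : ℤ) - 1) * Module.finrank ℂ V = (Fintype.card F : ℤ) ^ (l + 1 + 2) - 1) :
    ¬ TorusFixed ρ := by
  intro hT0
  obtain ⟨Q, hQ⟩ : ∃ Q : ℤ, Q = (Fintype.card F : ℤ) := ⟨_, rfl⟩
  have hQ4 : 4 ≤ Q := by rw [hQ]; exact_mod_cast hq
  have hQ3 : 3 ≤ Q := by omega
  rcases sl_data_gen ρ hρ with h | ⟨c, c', d, f, z, -, hfz, hzc, hkc, hc, hm, -, -, hzeq⟩
  · have := h.2 (by omega)
    rw [hk] at this
    exact lt_irrefl _ this
  have hz := hzeq hT0
  rw [← hQ] at hm hk hc hkc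
  obtain ⟨P, hP⟩ : ∃ P : ℤ, P = Q ^ (l + 1) := ⟨_, rfl⟩
  rw [show Q ^ (l + 1 + 1) = Q * P by rw [hP, pow_succ']] at hkc
  rw [show Q ^ (l + 1 + 2) = Q * (Q * P) by rw [hP]; ring] at hm hk
  rw [← hP] at hc
  have hPQ : Q ≤ P := by rw [hP]; exact le_self_pow₀ (by omega) (by omega)
  have hk0 : (Module.finrank ℂ V : ℤ) ≠ 0 := fun h => by rw [h, mul_zero] at hk; nlinarith
  have hT := SLArith.overlap_value (e := 1) hQ3 hPQ hkc hc hk0 hm (by linear_combination hk) (Or.inr rfl)
  rw [if_neg one_ne_zero, hz] at hT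
  have hf' : (f : ℤ) ≤ c' := by rw [← hz]; exact_mod_cast hfz
  have hd' : (1 : ℤ) ≤ d := by
    rcases Nat.eq_zero_or_pos d with h0 | h0
    · exfalso
      rw [h0, Nat.cast_zero, zero_mul, add_zero] at hc
      rw [← hc] at hT
      have hdvd : Q + 1 ∣ (Q ^ 2 * (P - 1) + 2 * Q * (Q - 1)) := ⟨(Q - 1) * ((c : ℤ) - f), by linear_combination hT⟩
      have hsub : Q + 1 ∣ P - (-1) ^ (l + 1) := by
        have := sub_dvd_pow_sub_pow Q (-1) (l + 1)
        rwa [sub_neg_eq_add, ← hP] at this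
      have hdiv : Q + 1 ∣ (-1) ^ (l + 1) + 3 := by
        have e : (-1 : ℤ) ^ (l + 1) + 3 = (Q ^ 2 * (P - 1) + 2 * Q * (Q - 1)) - (P - (-1) ^ (l + 1)) -
            (Q + 1) * ((Q - 1) * (P - 1) + 2 * Q - 4) := by ring
        rw [e]
        exact Int.dvd_sub (Int.dvd_sub hdvd hsub) (dvd_mul_right _ _)
      rcases neg_one_pow_eq_or ℤ (l + 1) with h | h <;> rw [h] at hdiv <;>
        have := Int.le_of_dvd (by norm_num) hdiv <;> omega
    · exact_mod_cast h0
  have hd1 : (d : ℤ) = 1 := by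
    by_contra hne
    have h2 : (2 : ℤ) ≤ d := by omega
    nlinarith [mul_nonneg (mul_nonneg (show (0 : ℤ) ≤ Q - 1 by omega) (show (0 : ℤ) ≤ Q + 1 by omega))
        (show (0 : ℤ) ≤ (c' : ℤ) - f by linarith),
      mul_nonneg (mul_nonneg (show (0 : ℤ) ≤ Q by omega) (show (0 : ℤ) ≤ Q by omega))
        (mul_nonneg (show (0 : ℤ) ≤ d - 2 by omega) (show (0 : ℤ) ≤ P - 1 by omega)),
      mul_nonneg (mul_nonneg (show (0 : ℤ) ≤ Q by omega) (show (0 : ℤ) ≤ Q by omega))
        (show (0 : ℤ) ≤ P - 3 by omega)]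
  rw [hd1, one_mul] at hc
  have e : ((c' : ℤ) - f) * (Q + 1) = 2 * Q := by
    refine mul_left_cancel₀ (show Q - 1 ≠ 0 by omega) ?_
    rw [hc] at hT
    linear_combination -hT
  rcases le_or_gt ((c' : ℤ) - f) 1 with h | h <;> nlinarith

/-- The block embedding fixing the first vector. -/
def blk (A : SpecialLinearGroup (Fin (l + 1 + 2)) F) : SpecialLinearGroup (Fin (l + 1 + 1 + 2)) F :=
  ⟨Matrix.of (Fin.cons (Fin.cons 1 0) fun i => Fin.cons 0 (A.1 i)), by
    rw [det_succ_column_zero, Finset.sum_eq_single (0 : Fin (l + 1 + 1 + 2))]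
    · simp only [Fin.val_zero, pow_zero, one_mul, Matrix.of_apply, Fin.cons_zero]
      exact A.2
    · intro i _ hi
      obtain ⟨j, rfl⟩ := Fin.exists_succ_eq.2 hi
      simp
    · simp⟩

theorem blk_mulVec (A : SpecialLinearGroup (Fin (l + 1 + 2)) F) (x : Fin (l + 1 + 1 + 2) → F) :
    ((blk A : SpecialLinearGroup (Fin (l + 1 + 1 + 2)) F) : Matrix (Fin (l + 1 + 1 + 2)) (Fin (l + 1 + 1 + 2)) F) *ᵥ x =
      Fin.cons (x 0) ((A : Matrix (Fin (l + 1 + 2)) (Fin (l + 1 + 2)) F) *ᵥ Fin.tail x) := by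
  funext i
  refine Fin.cases ?_ (fun j => ?_) i <;>
    simp [blk, mulVec, dotProduct, Fin.sum_univ_succ, Fin.tail]

/-- The block embedding as a homomorphism. -/
def blkHom : SpecialLinearGroup (Fin (l + 1 + 2)) F →* SpecialLinearGroup (Fin (l + 1 + 1 + 2)) F where
  toFun := blk
  map_one' := sl_ext fun x => by
    rw [blk_mulVec]
    funext i
    refine Fin.cases ?_ (fun j => ?_) i <;> simp [Fin.tail]
  map_mul' A B := sl_ext fun x => by
    rw [sl_mul_mulVec, blk_mulVec, blk_mulVec, blk_mulVec, Fin.cons_zero, Fin.tail_cons, mulVec_mulVec]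
    rfl

/-- The transpose inverse. -/
def dualHom (n : ℕ) (F : Type u) [Field F] : SpecialLinearGroup (Fin n) F →* SpecialLinearGroup (Fin n) F where
  toFun g := ⟨((g⁻¹ : SpecialLinearGroup (Fin n) F) : Matrix (Fin n) (Fin n) F)ᵀ, by rw [det_transpose]; exact (g⁻¹).2⟩
  map_one' := Subtype.ext (by
    show ((1⁻¹ : SpecialLinearGroup (Fin n) F) : Matrix (Fin n) (Fin n) F)ᵀ = 1
    rw [inv_one]; exact transpose_one)
  map_mul' g h := Subtype.ext (by
    show (((g * h)⁻¹ : SpecialLinearGroup (Fin n) F) : Matrix (Fin n) (Fin n) F)ᵀ = _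
    rw [_root_.mul_inv_rev]
    exact transpose_mul _ _)

theorem dualHom_surjective (n : ℕ) : Function.Surjective (dualHom n F) := fun g => by
  refine ⟨dualHom n F g, Subtype.ext ?_⟩
  show (Matrix.adjugate (Matrix.adjugate g.1)ᵀ)ᵀ = g.1
  rw [← Matrix.adjugate_transpose, transpose_transpose]
  exact congrArg Subtype.val (inv_inv g)

theorem dualHom_tv {n : ℕ} {v φ : Fin n → F} (h : φ ⬝ᵥ v = 0) :
    dualHom n F (tv v φ) = tv φ (-v) := by
  have hinv : (tv v φ)⁻¹ = tv v (-φ) := inv_eq_of_mul_eq_one_right (by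
    rw [tv_mul h (by rw [neg_dotProduct, h, neg_zero]), add_neg_cancel, tv_zero])
  refine Subtype.ext ?_
  show (((tv v φ)⁻¹ : SpecialLinearGroup (Fin n) F) : Matrix (Fin n) (Fin n) F)ᵀ = _
  rw [hinv, tv_val (by rw [neg_dotProduct, h, neg_zero]),
    tv_val (by rw [neg_dotProduct, dotProduct_comm, h, neg_zero]), transpose_add, transpose_one, transpose_vecMulVec]
  rw [vecMulVec_neg, neg_vecMulVec]

theorem irreducible_comp {G H : Type*} [Group G] [Group H] (ρ : Representation ℂ G V) [hρ : ρ.IsIrreducible]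
    (θ : H →* G) (hθ : Function.Surjective θ) : Representation.IsIrreducible (ρ.comp θ) := by
  haveI : Nontrivial (Subrepresentation (ρ.comp θ)) := by
    refine ⟨⊥, ⊤, fun h => ?_⟩
    have hne : (⊥ : Subrepresentation ρ) ≠ ⊤ := bot_ne_top
    exact hne (Subrepresentation.toSubmodule_injective
      (congrArg Subrepresentation.toSubmodule h :))
  refine IsSimpleOrder.mk fun S => ?_
  let T : Subrepresentation ρ :=
    { toSubmodule := S.toSubmodule
      apply_mem_toSubmodule := fun g v hv => by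
        obtain ⟨h, rfl⟩ := hθ g
        exact S.apply_mem_toSubmodule h hv }
  rcases IsSimpleOrder.eq_bot_or_eq_top T with h | h
  · exact Or.inl (Subrepresentation.toSubmodule_injective (congrArg Subrepresentation.toSubmodule h :))
  · exact Or.inr (Subrepresentation.toSubmodule_injective (congrArg Subrepresentation.toSubmodule h :))

/-- In the extreme case some non-zero vector is fixed by the stabiliser of the first point. -/
theorem exists_point_fixed (hq : 4 ≤ Fintype.card F)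
    (ρ : Representation ℂ (SpecialLinearGroup (Fin (l + 1 + 1 + 2)) F) V) [ρ.IsIrreducible] (hρ : ρ ≠ 1)
    (hk : ((Fintype.card F : ℤ) - 1) * Module.finrank ℂ V =
      (Fintype.card F : ℤ) ^ (l + 1 + 1 + 2) - Fintype.card F) :
    ∃ y : V, y ≠ 0 ∧ ∀ (g : SpecialLinearGroup (Fin (l + 1 + 1 + 2)) F) (a : F),
      (g : Matrix (Fin (l + 1 + 1 + 2)) (Fin (l + 1 + 1 + 2)) F) *ᵥ ev 0 = a • ev 0 → ρ g y = y := by
  classical
  have hex : (l + 1 = 0 → Fintype.card F ≠ 2 ∧ Fintype.card F ≠ 4) ∧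
      (l + 1 = 1 → Fintype.card F ≠ 2 ∧ Fintype.card F ≠ 3) := by omega
  have hTρ := torusFixed_of_min (l := l + 1) hex (by omega) ρ hρ hk
  -- the fixed space of the first transvection group
  obtain ⟨P, hP⟩ : ∃ P, P = pv ρ (ev (0 : Fin (l + 1 + 1 + 2))) := ⟨_, rfl⟩
  obtain ⟨ψ, hψ⟩ := CfsgLib.MinDegree.exists_nontrivial_addChar (F := F) (K := ℂ)
    (Nat.cast_ne_zero.2 Fintype.card_ne_zero)
  have hP0 : P = av ψ (qHom ρ) 0 := hP.trans (pv_ev0 ρ ψ)
  have hPP : P * P = P := hP0 ▸ av_idem ψ _ hψ 0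
  have hblk0 : ∀ A, ((blk A : SpecialLinearGroup (Fin (l + 1 + 1 + 2)) F) : Matrix (Fin (l + 1 + 1 + 2)) (Fin (l + 1 + 1 + 2)) F) *ᵥ ev 0 = ev 0 := fun A => by
    rw [blk_mulVec]
    funext i
    refine Fin.cases ?_ (fun j => ?_) i
    · rfl
    · rw [Fin.cons_succ, show Fin.tail (ev 0 : Fin (l + 1 + 1 + 2) → F) = 0 from funext fun j => by
        simp [Fin.tail, ev], mulVec_zero]
      simp [ev]
  have hcomm : ∀ A, ρ (blk A) * P = P * ρ (blk A) := fun A => by
    have h := conj_pv ρ (blk A) (ev 0)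
    rwa [hblk0, ← hP] at h
  have hfixP : ∀ (v : V), P v = v → ∀ φ, φ ⬝ᵥ ev 0 = 0 → ρ (tv (ev 0) φ) v = v := by
    intro v hv φ hφ
    have h := apply_mul_av ψ (qHom ρ) (Fin.tail φ) 0
    rw [dotProduct_zero, AddChar.map_zero_eq_one, one_smul, ← hP0] at h
    have e : p1 (Fin.tail φ) = φ := by
      rw [dot_ev] at hφ
      exact funext fun i => Fin.cases hφ.symm (fun j => rfl) i
    have h' := LinearMap.congr_fun h v
    rw [Module.End.mul_apply, hv] at h'
    rw [← e]
    exact h'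
  let C := LinearMap.range P
  have hmemC : ∀ v : V, v ∈ C ↔ P v = v := fun v => ⟨by
    rintro ⟨x, rfl⟩; exact LinearMap.congr_fun hPP x, fun h => ⟨v, h⟩⟩
  let σ : Representation ℂ (SpecialLinearGroup (Fin (l + 1 + 2)) F) C :=
    { toFun := fun A => (ρ (blk A)).restrict (fun v hv => by
        rw [hmemC] at hv ⊢
        rw [← Module.End.mul_apply, ← hcomm, Module.End.mul_apply, hv])
      map_one' := LinearMap.ext fun v => Subtype.ext (by
        show ρ (blkHom 1) v.1 = v.1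
        rw [map_one, map_one, Module.End.one_apply])
      map_mul' := fun A B => LinearMap.ext fun v => Subtype.ext (by
        show ρ (blkHom (A * B)) v.1 = ρ (blkHom A) (ρ (blkHom B) v.1)
        rw [map_mul, map_mul, Module.End.mul_apply]) }
  have hdimC : ((Fintype.card F : ℤ) - 1) * Module.finrank ℂ C = (Fintype.card F : ℤ) ^ (l + 1 + 2) - 1 := by
    rcases sl_data (l := l + 1) hex ρ hρ with h | ⟨c, c', d, f, z, -, -, -, hkc, -, -, htr, -, -⟩
    · have := h.2 (by omega)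
      rw [hk] at this
      omega
    obtain ⟨d', hd', hd''⟩ := exists_trace_nat hPP
    rw [← hP, hd', Nat.cast_inj] at htr
    rw [hd'', htr]
    rw [hkc] at hk
    linear_combination hk
  -- a fixed vector of the block
  have hfixed : ∃ y : C, y ≠ 0 ∧ ∀ A, σ A y = y := by
    by_contra hno
    push Not at hno
    obtain ⟨E, hE⟩ : ∃ E : Module.End ℂ C, E = ∑ A : SpecialLinearGroup (Fin (l + 1 + 2)) F, σ A := ⟨_, rfl⟩
    have hE0 : ∀ v : C, E v = 0 := fun v => by
      by_contra h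
      obtain ⟨A, hA⟩ := hno (E v) h
      refine hA ?_
      rw [hE, LinearMap.sum_apply, map_sum]
      exact Fintype.sum_equiv (Equiv.mulLeft A) _ _ fun B => by
        rw [← Module.End.mul_apply, ← map_mul]; rfl
    have hσ1 : σ ≠ 1 := fun h => by
      have hc : Nontrivial C := by
        refine Module.nontrivial_of_finrank_pos (R := ℂ) (Nat.pos_of_ne_zero fun h0 => ?_)
        rw [h0, Nat.cast_zero, mul_zero] at hdimC
        have : (2 : ℤ) ≤ (Fintype.card F : ℤ) ^ (l + 1 + 2) :=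
          le_trans (by omega) (le_self_pow₀ (by omega) (by omega))
        omega
      obtain ⟨v, hv⟩ := exists_ne (0 : C)
      obtain ⟨A, hA⟩ := hno v hv
      exact hA (by rw [h]; rfl)
    have hq' : (4 : ℤ) ≤ Fintype.card F := by exact_mod_cast hq
    by_cases hirr : σ.IsIrreducible
    · -- an irreducible block contradicts the torus condition
      let σ' : Representation ℂ (SpecialLinearGroup (Fin (l + 1 + 2)) F) C := σ.comp (dualHom _ F)
      haveI := irreducible_comp σ (dualHom (l + 1 + 2) F) (dualHom_surjective _)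
      have hσ'1 : σ' ≠ 1 := fun h => hσ1 (MonoidHom.ext fun g => by
        obtain ⟨g', rfl⟩ := dualHom_surjective _ g
        exact DFunLike.congr_fun h g')
      refine not_torusFixed_of_succ hq σ' hσ'1 hdimC ?_
      -- the twisted representation of the whole group
      obtain ⟨e, he1, he2⟩ : ∃ e : Fin (l + 1 + 1 + 2) ≃ Fin (l + 1 + 1 + 2),
          e (0 : Fin (l + 1 + 2)).succ = 0 ∧ e (0 : Fin (l + 1 + 1)).succ.succ = (0 : Fin (l + 1 + 2)).succ :=
        ⟨(Equiv.swap 0 (0 : Fin (l + 1 + 1)).succ.succ).trans (Equiv.swap 0 (0 : Fin (l + 1 + 2)).succ), by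
          rw [Equiv.trans_apply, Equiv.swap_apply_of_ne_of_ne (Fin.succ_ne_zero _)
            (fun h => Fin.succ_ne_zero _ (Fin.succ_inj.1 h).symm), Equiv.swap_apply_right], by
          rw [Equiv.trans_apply, Equiv.swap_apply_right, Equiv.swap_apply_left]⟩
      let Θ : SpecialLinearGroup (Fin (l + 1 + 1 + 2)) F →* SpecialLinearGroup (Fin (l + 1 + 1 + 2)) F :=
        { toFun := fun g => ⟨(dualHom _ F g).1.submatrix e e, by rw [det_submatrix_equiv_self]; exact (dualHom _ F g).2⟩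
          map_one' := Subtype.ext (by rw [map_one]; exact submatrix_one_equiv e)
          map_mul' := fun g h => Subtype.ext (by
            rw [map_mul]; exact (submatrix_mul_equiv _ _ e e e).symm) }
      have hΘs : Function.Surjective Θ := fun g => by
        obtain ⟨g', hg'⟩ := dualHom_surjective (F := F) _
          ⟨g.1.submatrix e.symm e.symm, by rw [det_submatrix_equiv_self]; exact g.2⟩
        refine ⟨g', Subtype.ext ?_⟩
        show (dualHom _ F g').1.submatrix e e = g.1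
        rw [hg', submatrix_submatrix]
        simp
      let ρ' : Representation ℂ (SpecialLinearGroup (Fin (l + 1 + 1 + 2)) F) V := ρ.comp Θ
      haveI := irreducible_comp ρ Θ hΘs
      have hρ'1 : ρ' ≠ 1 := fun h => hρ (MonoidHom.ext fun g => by
        obtain ⟨g', rfl⟩ := hΘs g
        exact DFunLike.congr_fun h g')
      have hT' := torusFixed_of_min (l := l + 1) hex (by omega) ρ' hρ'1 hk
      have htvΘ : ∀ {v φ : Fin (l + 1 + 1 + 2) → F}, φ ⬝ᵥ v = 0 → Θ (tv v φ) = tv (φ ∘ e) (-v ∘ e) := by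
        intro v φ h
        have h' : (-v ∘ e) ⬝ᵥ (φ ∘ e) = 0 := by
          rw [neg_dotProduct, comp_equiv_dotProduct_comp_equiv, dotProduct_comm, h, neg_zero]
        refine Subtype.ext ?_
        show (dualHom _ F (tv v φ)).1.submatrix e e = _
        rw [dualHom_tv h, tv_val h', tv_val (by rw [neg_dotProduct, dotProduct_comm, h, neg_zero])]
        ext i j
        simp [vecMulVec_apply, Matrix.one_apply]
      intro s v hv hXv
      have hvC : P v.1 = v.1 := (hmemC _).1 v.2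
      -- the fixed space of the block group
      have hQ' : ∀ φ : Fin (l + 1 + 2) → F, φ ⬝ᵥ ev 0 = 0 →
          ρ (blk (tv φ (-ev 0))) v.1 = v.1 := by
        intro φ hφ
        have e1 : p1 (Fin.tail φ) = φ := by
          rw [dot_ev] at hφ
          exact funext fun i => Fin.cases hφ.symm (fun j => rfl) i
        have h := apply_mul_av ψ (qHom σ') (Fin.tail φ) 0
        rw [dotProduct_zero, AddChar.map_zero_eq_one, one_smul, ← pv_ev0] at h
        have h' := LinearMap.congr_fun h v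
        rw [Module.End.mul_apply, hv] at h'
        have h'' : ρ (blk (dualHom _ F (tv (ev 0) (p1 (Fin.tail φ))))) v.1 = v.1 := congrArg Subtype.val h'
        rw [dualHom_tv (p1_ev0 (Fin.tail φ)), e1] at h''
        exact h''
      have hX' : ∀ φ : Fin (l + 1) → F, ρ (blk (tv (p2 φ) (-ev 1))) v.1 = v.1 := fun φ => by
        have h : ρ (blk (dualHom _ F (tv (ev 1) (p2 φ)))) v.1 = v.1 := congrArg Subtype.val (hXv φ)
        rw [dualHom_tv (p2_ev1 φ)] at h
        exact h
      have hblktv : ∀ {x χ : Fin (l + 1 + 2) → F}, χ ⬝ᵥ x = 0 →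
          blk (tv x χ) = tv (p1 x) (p1 χ) := by
        intro x χ h
        refine sl_ext fun y => ?_
        rw [blk_mulVec, tv_mulVec h, tv_mulVec (by rw [p1_dot, h])]
        funext i
        have hd : p1 χ ⬝ᵥ y = χ ⬝ᵥ Fin.tail y := by simp [p1, dotProduct, Fin.sum_univ_succ, Fin.tail]
        rw [hd]
        refine Fin.cases ?_ (fun j => ?_) i <;> simp [hd, p1, Fin.tail]
      have hev0 : -(ev (0 : Fin (l + 1 + 1 + 2)) : Fin (l + 1 + 1 + 2) → F) ∘ e = p1 (-ev (0 : Fin (l + 1 + 2))) := by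
        funext i
        show -(Pi.single (0 : Fin (l + 1 + 1 + 2)) (1 : F) : Fin (l + 1 + 1 + 2) → F) (e i) = _
        refine Fin.cases ?_ (fun j => ?_) i
        · rw [show p1 (-ev (0 : Fin (l + 1 + 2)) : Fin (l + 1 + 2) → F) 0 = 0 from rfl,
            Pi.single_eq_of_ne (fun h => Fin.succ_ne_zero _ (e.injective (h.trans he1.symm)).symm), neg_zero]
        · show _ = -(Pi.single (0 : Fin (l + 1 + 2)) (1 : F) : Fin (l + 1 + 2) → F) j
          rcases eq_or_ne j 0 with rfl | hj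
          · rw [he1, Pi.single_eq_same, Pi.single_eq_same]
          · rw [Pi.single_eq_of_ne hj, Pi.single_eq_of_ne (fun h => hj (Fin.succ_inj.1 (e.injective (h.trans he1.symm))))]
      have hev1 : -(ev (0 : Fin (l + 1 + 2)).succ : Fin (l + 1 + 1 + 2) → F) ∘ e = p1 (-ev (0 : Fin (l + 1 + 1)).succ) := by
        funext i
        show -(Pi.single (0 : Fin (l + 1 + 2)).succ (1 : F) : Fin (l + 1 + 1 + 2) → F) (e i) = _
        refine Fin.cases ?_ (fun j => ?_) i
        · rw [show p1 (-ev (0 : Fin (l + 1 + 1)).succ : Fin (l + 1 + 2) → F) 0 = 0 from rfl,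
            Pi.single_eq_of_ne (fun h => Fin.succ_ne_zero _ (e.injective (h.trans he2.symm)).symm), neg_zero]
        · show _ = -(Pi.single (0 : Fin (l + 1 + 1)).succ (1 : F) : Fin (l + 1 + 2) → F) j
          rcases eq_or_ne j (0 : Fin (l + 1 + 1)).succ with rfl | hj
          · rw [he2, Pi.single_eq_same, Pi.single_eq_same]
          · rw [Pi.single_eq_of_ne hj, Pi.single_eq_of_ne (fun h => hj (Fin.succ_inj.1 (e.injective (h.trans he2.symm))))]
      -- the centre `0` part and the block part of a transvection with given axis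
      have hsplit : ∀ (x χ : Fin (l + 1 + 1 + 2) → F), χ ⬝ᵥ x = 0 → χ 0 = 0 →
          ρ (blk (tv (Fin.tail x) (Fin.tail χ))) v.1 = v.1 → ρ (tv x χ) v.1 = v.1 := by
        intro x χ h h0 hb
        have h1 : Fin.tail χ ⬝ᵥ Fin.tail x = 0 := by
          simpa [dotProduct, Fin.sum_univ_succ, Fin.tail, h0] using h
        have hχp : p1 (Fin.tail χ) = χ := funext fun i => Fin.cases h0.symm (fun j => rfl) i
        have h2 : (x 0 • χ) ⬝ᵥ ev 0 = 0 := by rw [smul_dotProduct, dot_ev, h0, smul_zero]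
        have h3 : χ ⬝ᵥ p1 (Fin.tail x) = 0 := by rw [← hχp, p1_dot, h1]
        have hfac : tv x χ = tv (ev 0) (x 0 • χ) * tv (p1 (Fin.tail x)) χ := by
          refine sl_ext fun y => ?_
          rw [sl_mul_mulVec, tv_mulVec h, tv_mulVec h3, tv_mulVec h2]
          funext i
          have hz : χ ⬝ᵥ p1 (Fin.tail x) = 0 := h3
          simp only [dotProduct_add, dotProduct_smul, hz, smul_zero, add_zero, smul_dotProduct, Pi.add_apply,
            Pi.smul_apply, smul_eq_mul, ev]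
          refine Fin.cases ?_ (fun j => ?_) i <;> simp [p1, Fin.tail, mul_comm, mul_left_comm, hz]
        rw [hfac, map_mul, Module.End.mul_apply]
        rw [hblktv h1, hχp] at hb
        rw [hb, hfixP _ hvC _ h2]
      have hA : pv ρ' (ev 0) v.1 = v.1 := by
        rw [pv_ev0 ρ' ψ, av_zero, LinearMap.smul_apply, LinearMap.sum_apply]
        have hall : ∀ φ : Fin (l + 1 + 1 + 1) → F, qHom ρ' (Multiplicative.ofAdd φ) v.1 = v.1 := fun φ => by
          show ρ (Θ (tv (ev 0) (p1 φ))) v.1 = v.1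
          rw [htvΘ (p1_ev0 φ), hev0]
          have h0 : (p1 (-ev (0 : Fin (l + 1 + 2))) : Fin (l + 1 + 1 + 2) → F) 0 = 0 := rfl
          have hdot : p1 (-ev (0 : Fin (l + 1 + 2))) ⬝ᵥ (p1 φ ∘ e) = 0 := by
            rw [← hev0, neg_dotProduct, comp_equiv_dotProduct_comp_equiv, dotProduct_comm, p1_ev0, neg_zero]
          refine hsplit _ _ hdot h0 ?_
          refine hQ' _ ?_
          rw [dot_ev]
          show p1 φ (e (0 : Fin (l + 1 + 2)).succ) = 0
          rw [he1]; rfl
        rw [Finset.sum_congr rfl (fun φ _ => hall φ), Finset.sum_const, Finset.card_univ,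
          ← Nat.cast_smul_eq_nsmul ℂ, smul_smul, inv_mul_cancel₀ (Nat.cast_ne_zero.2 Fintype.card_ne_zero), one_smul]
      have hB : ∀ φ, ρ' (tv (ev 1) (p2 φ)) v.1 = v.1 := fun φ => by
        show ρ (Θ (tv (ev (0 : Fin (l + 1 + 2)).succ) (p2 φ))) v.1 = v.1
        rw [htvΘ (v := ev (0 : Fin (l + 1 + 2)).succ) (φ := p2 φ) (p2_ev1 φ), hev1]
        have h0 : (p1 (-ev (0 : Fin (l + 1 + 1)).succ) : Fin (l + 1 + 1 + 2) → F) 0 = 0 := rfl
        have hdot : p1 (-ev (0 : Fin (l + 1 + 1)).succ) ⬝ᵥ (p2 φ ∘ e) = 0 := by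
          rw [← hev1, neg_dotProduct, comp_equiv_dotProduct_comp_equiv, dotProduct_comm]
          exact neg_eq_zero.2 (p2_ev1 φ)
        refine hsplit _ _ hdot h0 ?_
        obtain ⟨x, hx⟩ : ∃ x : Fin (l + 1 + 2) → F, x = Fin.tail (p2 φ ∘ e) := ⟨_, rfl⟩
        rw [← hx]
        have hx0 : x 0 = 0 := by
          rw [hx]; show p2 φ (e (0 : Fin (l + 1 + 2)).succ) = 0
          rw [he1]; rfl
        have hx1 : x (0 : Fin (l + 1 + 1)).succ = 0 := by
          rw [hx]; show p2 φ (e (0 : Fin (l + 1 + 1)).succ.succ) = 0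
          rw [he2]; rfl
        have e2 : p2 (Fin.tail (Fin.tail x)) = x :=
          funext fun i => Fin.cases hx0.symm (fun j => Fin.cases hx1.symm (fun k => rfl) j) i
        have h := hX' (Fin.tail (Fin.tail x))
        rw [e2] at h
        exact h
      have hhs := hT' s v.1 hA hB
      refine Subtype.ext ?_
      show ρ (blk (dualHom _ F (hh s))) v.1 = v.1
      have hΘh : Θ (hh s) = blk (dualHom _ F (hh s)) := by
        have hinv : ∀ (k : ℕ) (t : Fˣ), ((hh t)⁻¹ : SpecialLinearGroup (Fin (k + 2)) F) = hh t⁻¹ := fun k t => by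
          refine inv_eq_of_mul_eq_one_right ?_
          rw [hh_mul, mul_inv_cancel]
          refine sl_ext fun x => ?_
          rw [hh_mulVec]
          funext i
          refine Fin.cases ?_ (fun j => Fin.cases ?_ (fun j' => ?_) j) i <;> simp
        refine Subtype.ext (Matrix.ext fun i j => ?_)
        show (dualHom _ F (hh s)).1 (e i) (e j) = (blk (dualHom _ F (hh s))).1 i j
        show ((((hh s)⁻¹ : SpecialLinearGroup (Fin (l + 1 + 1 + 2)) F)).1)ᵀ (e i) (e j) =
          (Fin.cons (Fin.cons 1 0) (fun i => Fin.cons 0 (((((hh s)⁻¹ : SpecialLinearGroup (Fin (l + 1 + 2)) F)).1)ᵀ i)) :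
            Fin (l + 1 + 1 + 2) → Fin (l + 1 + 1 + 2) → F) i j
        rw [hinv, hinv]
        simp only [hh, diagonal_transpose]
        simp only [Matrix.diagonal_apply, e.injective.eq_iff]
        have hd : ∀ i, (Fin.cons ((s⁻¹ : Fˣ) : F) (Fin.cons ((s⁻¹ : Fˣ) : F)⁻¹ 1) : Fin (l + 1 + 1 + 2) → F) (e i) =
            (Fin.cons 1 (Fin.cons ((s⁻¹ : Fˣ) : F) (Fin.cons ((s⁻¹ : Fˣ) : F)⁻¹ 1)) : Fin (l + 1 + 1 + 2) → F) i := by
          intro i
          refine Fin.cases ?_ (fun a => Fin.cases ?_ (fun b => Fin.cases ?_ (fun c => ?_) b) a) i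
          · have h0 : e 0 ≠ 0 := fun h => Fin.succ_ne_zero _ (e.injective (h.trans he1.symm)).symm
            have h1 : e 0 ≠ (0 : Fin (l + 1 + 2)).succ := fun h => Fin.succ_ne_zero _ (e.injective (h.trans he2.symm)).symm
            obtain ⟨a, ha⟩ := Fin.exists_succ_eq.2 h0
            obtain ⟨b, hb⟩ := Fin.exists_succ_eq.2 (show a ≠ 0 from fun h => h1 (by rw [← ha, h]))
            rw [← ha, ← hb]; rfl
          · rw [he1]; rfl
          · rw [he2]; rfl
          · have h0 : e c.succ.succ.succ ≠ 0 := fun h => Fin.succ_ne_zero _ (Fin.succ_inj.1 (e.injective (h.trans he1.symm)))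
            have h1 : e c.succ.succ.succ ≠ (0 : Fin (l + 1 + 2)).succ := fun h => Fin.succ_ne_zero _ (Fin.succ_inj.1 (Fin.succ_inj.1 (e.injective (h.trans he2.symm))))
            obtain ⟨a, ha⟩ := Fin.exists_succ_eq.2 h0
            obtain ⟨b, hb⟩ := Fin.exists_succ_eq.2 (show a ≠ 0 from fun h => h1 (by rw [← ha, h]))
            rw [← ha, ← hb]; rfl
        rw [hd]
        refine Fin.cases ?_ (fun a => ?_) i <;> refine Fin.cases ?_ (fun b => ?_) j <;>
          simp [Matrix.diagonal_apply, Fin.succ_inj, Fin.succ_ne_zero, Ne.symm (Fin.succ_ne_zero _)]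
      rw [← hΘh]
      exact hhs
    · haveI : Nontrivial (Subrepresentation σ) := ⟨⊥, ⊤, fun h => by
        obtain ⟨v, hv⟩ : ∃ v : C, v ≠ 0 := by
          by_contra h0
          push Not at h0
          exact hσ1 (MonoidHom.ext fun A => LinearMap.ext fun v => (h0 _).trans (h0 _).symm)
        have hmem : v ∈ (⊥ : Subrepresentation σ).toSubmodule := by rw [h]; trivial
        exact hv hmem⟩
      obtain ⟨S, hS0, hS1⟩ : ∃ S : Subrepresentation σ, S ≠ ⊥ ∧ S ≠ ⊤ := by
        by_contra hall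
        push Not at hall
        exact hirr (IsSimpleOrder.mk fun S => or_iff_not_imp_left.2 (hall S))
      obtain ⟨U, hU⟩ : ∃ U, U = S.toSubmodule := ⟨_, rfl⟩
      have hle : ∀ A, U ≤ U.comap (σ A) := fun A v hv => by rw [hU] at hv ⊢; exact S.apply_mem_toSubmodule A hv
      have hUb : U ≠ ⊥ := fun h => hS0 (Subrepresentation.toSubmodule_injective (hU ▸ h))
      have hUt : U ≠ ⊤ := fun h => hS1 (Subrepresentation.toSubmodule_injective (hU ▸ h))
      let τ : Representation ℂ (SpecialLinearGroup (Fin (l + 1 + 2)) F) U :=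
        { toFun := fun A => (σ A).restrict (hle A)
          map_one' := LinearMap.ext fun v => Subtype.ext (by simp)
          map_mul' := fun g h => LinearMap.ext fun v => Subtype.ext (by simp) }
      let τq : Representation ℂ (SpecialLinearGroup (Fin (l + 1 + 2)) F) (C ⧸ U) :=
        { toFun := fun A => U.mapQ U (σ A) (hle A)
          map_one' := LinearMap.ext fun v => by
            induction v using Submodule.Quotient.induction_on with | _ v => simp
          map_mul' := fun g h => LinearMap.ext fun v => by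
            induction v using Submodule.Quotient.induction_on with | _ v => simp }
      have hτ : τ ≠ 1 := fun h => by
        obtain ⟨v, hv, hv0⟩ := Submodule.exists_mem_ne_zero_of_ne_bot hUb
        obtain ⟨A, hA⟩ := hno v hv0
        exact hA (congrArg Subtype.val (LinearMap.congr_fun (DFunLike.congr_fun h A) ⟨v, hv⟩))
      have hτq : τq ≠ 1 := fun h => hUt (eq_top_iff.2 fun v _ => by
        have hA : ∀ A, σ A v - v ∈ U := fun A => (Submodule.Quotient.eq U).1
          (LinearMap.congr_fun (DFunLike.congr_fun h A) (Submodule.Quotient.mk v))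
        have hsum : ∑ A, (σ A v - v) ∈ U := Submodule.sum_mem _ fun A _ => hA A
        rw [Finset.sum_sub_distrib, ← LinearMap.sum_apply, ← hE, hE0, zero_sub, Finset.sum_const, Finset.card_univ,
          Submodule.neg_mem_iff, ← Nat.cast_smul_eq_nsmul ℂ,
          Submodule.smul_mem_iff _ (Nat.cast_ne_zero.2 Fintype.card_ne_zero)] at hsum
        exact hsum)
      have h1 := weight_bound τ hτ
      have h2 := weight_bound τq hτq
      have h3 : (Module.finrank ℂ (C ⧸ U) : ℤ) + Module.finrank ℂ U = Module.finrank ℂ C := by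
        exact_mod_cast U.finrank_quotient_add_finrank
      have hpow : (Fintype.card F : ℤ) ^ 2 ≤ (Fintype.card F : ℤ) ^ (l + 1 + 1) :=
        pow_le_pow_right₀ (by omega) (by omega)
      rw [pow_succ' (Fintype.card F : ℤ) (l + 1 + 1)] at hdimC
      have h4 := mul_le_mul_of_nonneg_left (add_le_add h2 h1) (show (0 : ℤ) ≤ (Fintype.card F : ℤ) - 1 by omega)
      rw [h3, hdimC] at h4
      nlinarith
  obtain ⟨y, hy0, hyfix⟩ := hfixed
  refine ⟨y.1, fun h => hy0 (Subtype.ext h), fun g a hg => ?_⟩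
  have hyP : P y.1 = y.1 := (hmemC _).1 y.2
  have hyb : ∀ A, ρ (blk A) y.1 = y.1 := fun A => congrArg Subtype.val (hyfix A)
  have hyh : ∀ s, ρ (hh s) y.1 = y.1 := fun s => by
    refine hTρ s y.1 (hP ▸ hyP) fun φ => ?_
    have e1 : tv (ev 1) (p2 φ) = blk (tv (ev 0) (p1 φ) : SpecialLinearGroup (Fin (l + 1 + 2)) F) := by
      refine sl_ext fun x => ?_
      rw [blk_mulVec, tv_mulVec (p2_ev1 φ), tv_mulVec (p1_ev0 φ)]
      funext i
      have hd : p2 φ ⬝ᵥ x = p1 φ ⬝ᵥ Fin.tail x := by simp [p1, p2, dotProduct, Fin.sum_univ_succ, Fin.tail]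
      refine Fin.cases ?_ (fun j => ?_) i <;> simp [hd, Fin.tail, ev, Pi.single_apply]
      exact if_congr (by rw [← Fin.succ_zero_eq_one, Fin.succ_inj]) rfl rfl
    rw [e1, hyb]
  have ha : a ≠ 0 := fun h => by
    rw [h, zero_smul] at hg
    have := congrArg (fun x => ((g⁻¹ : SpecialLinearGroup (Fin (l + 1 + 1 + 2)) F) : Matrix (Fin (l + 1 + 1 + 2)) (Fin (l + 1 + 1 + 2)) F) *ᵥ x) hg
    simp only [mulVec_zero, ← sl_mul_mulVec, inv_mul_cancel] at this
    exact ev_ne_zero (F := F) (0 : Fin (l + 1 + 1 + 2)) ((one_mulVec _).symm.trans this)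
  obtain ⟨g1, hg1⟩ : ∃ g1, g1 = hh (Units.mk0 a ha)⁻¹ * g := ⟨_, rfl⟩
  have hg10 : (g1 : Matrix (Fin (l + 1 + 1 + 2)) (Fin (l + 1 + 1 + 2)) F) *ᵥ ev 0 = ev 0 := by
    rw [hg1, sl_mul_mulVec, hg, mulVec_smul, hh_ev0, smul_smul]
    simp [ha]
  obtain ⟨A, hA⟩ : ∃ A : SpecialLinearGroup (Fin (l + 1 + 2)) F, A.1 = g1.1.submatrix Fin.succ Fin.succ := by
    refine ⟨⟨g1.1.submatrix Fin.succ Fin.succ, ?_⟩, rfl⟩
    have hcol : ∀ i, g1.1 i 0 = (ev 0 : Fin (l + 1 + 1 + 2) → F) i := fun i => by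
      rw [← congrFun hg10 i]
      simp [ev, mulVec_single]
    have h := g1.2
    rw [det_succ_column_zero, Finset.sum_eq_single (0 : Fin (l + 1 + 1 + 2))] at h
    · simpa [hcol, ev] using h
    · intro i _ hi
      simp [hcol, ev, hi]
    · simp
  obtain ⟨φ, hφ⟩ : ∃ φ : Fin (l + 1 + 1 + 2) → F, ∀ j, φ j = ((g1 * (blk A)⁻¹).1 0 j) - (ev 0 : Fin (l + 1 + 1 + 2) → F) j :=
    ⟨_, fun j => rfl⟩
  have hU0 : ((g1 * (blk A)⁻¹ : SpecialLinearGroup (Fin (l + 1 + 1 + 2)) F) : Matrix (Fin (l + 1 + 1 + 2)) (Fin (l + 1 + 1 + 2)) F) *ᵥ ev 0 = ev 0 := by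
    rw [sl_mul_mulVec, show (((blk A)⁻¹ : SpecialLinearGroup (Fin (l + 1 + 1 + 2)) F) : Matrix (Fin (l + 1 + 1 + 2)) (Fin (l + 1 + 1 + 2)) F) *ᵥ ev 0 = ev 0 by
      conv_lhs => rw [← hblk0 A, ← sl_mul_mulVec, inv_mul_cancel]
      exact one_mulVec _, hg10]
  have hφ0 : φ ⬝ᵥ ev 0 = 0 := by
    rw [dot_ev, hφ, sub_eq_zero, ← congrFun hU0 0]
    simp [ev, mulVec_single]
  have hrow : ∀ (j : Fin (l + 1 + 2)) x, ((g1 : SpecialLinearGroup (Fin (l + 1 + 1 + 2)) F).1 *ᵥ x) j.succ =
      ((blk A).1 *ᵥ x) j.succ := fun j x => by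
    rw [blk_mulVec, Fin.cons_succ]
    simp only [mulVec, dotProduct, Fin.sum_univ_succ (n := l + 1 + 2), Fin.tail, hA, submatrix_apply]
    rw [add_eq_right]
    have : g1.1 j.succ 0 = 0 := by
      have h := congrFun hg10 j.succ
      simpa [ev, mulVec_single] using h
    rw [this, zero_mul]
  have hfac : g1 * (blk A)⁻¹ = tv (ev 0) φ := by
    refine sl_ext fun x => ?_
    rw [tv_mulVec hφ0]
    funext i
    refine Fin.cases ?_ (fun j => ?_) i
    · simp only [Pi.add_apply, Pi.smul_apply, smul_eq_mul, mulVec, dotProduct]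
      rw [show (ev 0 : Fin (l + 1 + 1 + 2) → F) 0 = 1 from Pi.single_eq_same _ _, mul_one]
      simp only [hφ, sub_mul, Finset.sum_sub_distrib]
      simp [ev, Pi.single_apply]
    · rw [sl_mul_mulVec, hrow, ← sl_mul_mulVec, mul_inv_cancel]
      simp [ev, Pi.single_apply, Fin.succ_ne_zero]
  have hg' : g = hh (Units.mk0 a ha) * (tv (ev 0) φ * blk A) := by
    rw [← hfac, inv_mul_cancel_right, hg1, ← mul_assoc, hh_mul, mul_inv_cancel]
    refine sl_ext fun x => ?_
    rw [sl_mul_mulVec, hh_mulVec]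
    funext i
    refine Fin.cases ?_ (fun j => Fin.cases ?_ (fun j' => ?_) j) i <;> simp
  rw [hg', map_mul, map_mul, Module.End.mul_apply, Module.End.mul_apply, hyb, hfixP _ hyP _ hφ0, hyh]

end CfsgLib.MinDegree.SLExact
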