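import Mathlib
import Cfsg.Agent.Lib.MinDegree.SLExact

/-!
Alternating matrices in coordinates: congruence, rank two forms and counts.
-/

namespace CfsgLib.MinDegree.PlusAlt

open Matrix SLTv SLOps

universe u

variable {F : Type u} [Field F]

/-- The positions above the diagonal. -/
abbrev Pair (d : ℕ) : Type := {p : Fin d × Fin d // p.1 < p.2}

variable {d : ℕ}

/-- The part above the diagonal. -/
def tri (w : Pair d → F) : Matrix (Fin d) (Fin d) F :=
  Matrix.of fun i j => if h : i < j then w ⟨(i, j), h⟩ else 0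

/-- The alternating matrix. -/
def mat (w : Pair d → F) : Matrix (Fin d) (Fin d) F := tri w - (tri w)ᵀ

/-- The coordinates of an alternating matrix. -/
def upper (M : Matrix (Fin d) (Fin d) F) : Pair d → F := fun p => M p.1.1 p.1.2

theorem upper_mat (w : Pair d → F) : upper (mat w) = w := by
  funext p
  simp [upper, mat, tri, p.2, p.2.not_gt]

theorem mat_upper_sub (X : Matrix (Fin d) (Fin d) F) : mat (upper (X - Xᵀ)) = X - Xᵀ := by
  ext i j
  rcases lt_trichotomy i j with h | rfl | h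
  · simp [mat, tri, upper, h, h.not_gt]
  · simp [mat, tri]
  · simp [mat, tri, upper, h, h.not_gt]

theorem mat_add (w z : Pair d → F) : mat (w + z) = mat w + mat z := by
  ext i j
  simp only [mat, tri, Matrix.sub_apply, Matrix.add_apply, transpose_apply, of_apply, Pi.add_apply]
  split_ifs <;> ring

theorem mat_zero : mat (0 : Pair d → F) = 0 := by
  ext i j; simp [mat, tri]

theorem mat_smul (c : F) (w : Pair d → F) : mat (c • w) = c • mat w := by
  ext i j
  simp only [mat, tri, Matrix.sub_apply, Matrix.smul_apply, transpose_apply, of_apply, Pi.smul_apply, smul_eq_mul]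
  split_ifs <;> ring

theorem mat_neg_apply (w : Pair d → F) (i j : Fin d) : mat w j i = -mat w i j := by
  simp [mat]

theorem mat_diag (w : Pair d → F) (i : Fin d) : mat w i i = 0 := by
  simp [mat]

theorem mat_transpose (w : Pair d → F) : (mat w)ᵀ = -mat w := by
  ext i j; simp [mat]

theorem trace_tri (M : Matrix (Fin d) (Fin d) F) (φ : Pair d → F) :
    (Mᵀ * tri φ).trace = φ ⬝ᵥ upper M := by
  classical
  simp only [Matrix.trace, diag_apply, mul_apply, transpose_apply, tri, of_apply, dotProduct]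
  rw [Finset.sum_comm, ← Fintype.sum_prod_type',
    ← Finset.sum_subtype (Finset.univ.filter fun p : Fin d × Fin d => p.1 < p.2) (by simp)
      (fun p => if h : p.1 < p.2 then φ ⟨p, h⟩ * M p.1 p.2 else 0) |>.trans
      (Finset.sum_congr rfl fun p _ => show _ = φ p * upper M p by rw [dif_pos p.2]; rfl),
    Finset.sum_filter]
  refine Finset.sum_congr rfl fun p _ => ?_
  by_cases h : p.1 < p.2
  · rw [if_pos h, dif_pos h, dif_pos h, mul_comm]
  · rw [if_neg h, dif_neg h, mul_zero]

theorem trace_mat (X : Matrix (Fin d) (Fin d) F) (φ : Pair d → F) :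
    (Xᵀ * mat φ).trace = φ ⬝ᵥ upper (X - Xᵀ) := by
  rw [mat, mul_sub, trace_sub, trace_mul_comm Xᵀ (tri φ)ᵀ, ← transpose_mul, trace_transpose,
    ← trace_tri (X - Xᵀ), transpose_sub, transpose_transpose, sub_mul, trace_sub]

/-- The congruence action. -/
def act (A : Matrix (Fin d) (Fin d) F) (w : Pair d → F) : Pair d → F := upper (Aᵀ * mat w * A)

theorem cong_eq_sub (A : Matrix (Fin d) (Fin d) F) (w : Pair d → F) :
    Aᵀ * mat w * A = Aᵀ * tri w * A - (Aᵀ * tri w * A)ᵀ := by
  rw [mat, transpose_mul, transpose_mul, transpose_transpose, mul_sub, sub_mul, Matrix.mul_assoc, Matrix.mul_assoc]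

theorem mat_act (A : Matrix (Fin d) (Fin d) F) (w : Pair d → F) : mat (act A w) = Aᵀ * mat w * A := by
  rw [act, cong_eq_sub, mat_upper_sub]

theorem act_mul (A B : Matrix (Fin d) (Fin d) F) (w : Pair d → F) : act (A * B) w = act B (act A w) := by
  rw [act, act, mat_act, transpose_mul]
  simp only [Matrix.mul_assoc]

theorem act_one (w : Pair d → F) : act 1 w = w := by
  rw [act, transpose_one, Matrix.one_mul, Matrix.mul_one, upper_mat]

theorem act_cancel {A : Matrix (Fin d) (Fin d) F} (hA : A.det ≠ 0) (w : Pair d → F) :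
    act A⁻¹ (act A w) = w ∧ act A (act A⁻¹ w) = w := by
  rw [← act_mul, ← act_mul, mul_nonsing_inv _ (isUnit_iff_ne_zero.2 hA), nonsing_inv_mul _ (isUnit_iff_ne_zero.2 hA),
    act_one]
  exact ⟨rfl, rfl⟩

theorem act_dot (A : Matrix (Fin d) (Fin d) F) (φ w : Pair d → F) : act Aᵀ φ ⬝ᵥ w = φ ⬝ᵥ act A w := by
  conv_lhs => rw [← upper_mat w, mat, ← trace_mat, mat_act, transpose_transpose]
  rw [act, cong_eq_sub, ← trace_mat]
  simp only [transpose_mul, transpose_transpose, ← Matrix.mul_assoc]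
  rw [trace_mul_cycle, trace_mul_cycle]
  simp only [Matrix.mul_assoc]
  rw [trace_mul_comm (mat φ)]
  simp only [Matrix.mul_assoc]

/-- The exterior product of two vectors. -/
def wedge (u v : Fin d → F) : Matrix (Fin d) (Fin d) F := vecMulVec u v - vecMulVec v u

theorem wedge_apply (u v : Fin d → F) (i j : Fin d) : wedge u v i j = u i * v j - v i * u j := by
  simp [wedge, vecMulVec_apply]

theorem mat_upper_wedge (u v : Fin d → F) : mat (upper (wedge u v)) = wedge u v := by
  rw [wedge, ← transpose_vecMulVec u v, mat_upper_sub]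

theorem act_wedge (A : Matrix (Fin d) (Fin d) F) (u v : Fin d → F) :
    act A (upper (wedge u v)) = upper (wedge (Aᵀ *ᵥ u) (Aᵀ *ᵥ v)) := by
  rw [act, mat_upper_wedge, wedge, mul_sub, sub_mul, mul_vecMulVec, mul_vecMulVec, vecMulVec_mul, vecMulVec_mul,
    mulVec_transpose A u, mulVec_transpose A v]
  rfl

theorem indep_of_wedge {u v : Fin d → F} (h : upper (wedge u v) ≠ 0) : LinearIndependent F ![u, v] := by
  rw [LinearIndependent.pair_iff]
  intro s t hst
  by_contra hne
  refine h (funext fun p => ?_)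
  have e := fun i => congrFun hst i
  simp only [Pi.add_apply, Pi.smul_apply, smul_eq_mul, Pi.zero_apply] at e
  show wedge u v p.1.1 p.1.2 = 0
  rw [wedge_apply]
  by_cases hs : s = 0
  · have ht : t ≠ 0 := fun ht => hne ⟨hs, ht⟩
    have hv : ∀ i, v i = 0 := fun i => by simpa [hs, ht] using e i
    simp [hv]
  · refine (mul_eq_zero.1 ?_).resolve_left hs
    linear_combination v p.1.2 * e p.1.1 - v p.1.1 * e p.1.2

variable [Fintype F] [DecidableEq F]

/-- The non-zero exterior products. -/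
noncomputable def wedges (d : ℕ) (F : Type u) [Field F] [Fintype F] : Finset (Pair d → F) :=
  haveI := Classical.decEq F
  (Finset.univ.image fun p : (Fin d → F) × (Fin d → F) => upper (wedge p.1 p.2)).erase 0

theorem mem_wedges {w : Pair d → F} : w ∈ wedges d F ↔ w ≠ 0 ∧ ∃ u v, upper (wedge u v) = w := by
  simp [wedges, Finset.mem_erase]

theorem act_mem_wedges {A : Matrix (Fin d) (Fin d) F} (hA : A.det ≠ 0) {w : Pair d → F} (hw : w ∈ wedges d F) :
    act A w ∈ wedges d F := by
  obtain ⟨hw0, u, v, rfl⟩ := mem_wedges.1 hw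
  refine mem_wedges.2 ⟨fun h => hw0 ?_, _, _, (act_wedge A u v).symm⟩
  rw [← (act_cancel hA (upper (wedge u v))).1, h, act, mat_zero]
  simp [upper, funext_iff]

/-- Exterior products are congruent to the standard one. -/
theorem wedges_transitive {k : ℕ} {w : Pair (k + 3) → F} (hw : w ∈ wedges (k + 3) F) :
    ∃ A : SpecialLinearGroup (Fin (k + 3)) F, act A.1 (upper (wedge (ev 0) (ev 1))) = w := by
  obtain ⟨hw0, u, v, rfl⟩ := mem_wedges.1 hw
  have h01 : LinearIndependent F ![(ev 0 : Fin (k + 3) → F), ev 1] := indep_of_wedge fun h => by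
    have := congrFun h ⟨(0, 1), Fin.zero_lt_one⟩
    simp [upper, wedge_apply, ev, Pi.single_apply] at this
  obtain ⟨g, hg0, hg1⟩ := exists_sl_pair (by simp) h01 (indep_of_wedge hw0)
  refine ⟨⟨g.1ᵀ, by rw [det_transpose]; exact g.2⟩, ?_⟩
  show act g.1ᵀ _ = _
  rw [act_wedge, transpose_transpose, hg0, hg1]

/-- The first row. -/
def row (w : Pair (d + 1) → F) : Fin d → F := fun j => w ⟨(0, j.succ), Fin.succ_pos j⟩

theorem row_eq_mat (w : Pair (d + 1) → F) (j : Fin d) : row w j = mat w 0 j.succ := by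
  simp [row, mat, tri, Fin.succ_pos]

theorem exists_pivot {r : Fin (d + 1) → F} (hr : r ≠ 0) : ∃ i, r i ≠ 0 := Function.ne_iff.1 hr

omit [DecidableEq F] in
/-- The number of exterior products. -/
theorem card_wedges_succ (k : ℕ) :
    ((Fintype.card F) ^ (k + 1) - 1) * (Fintype.card F) ^ k + (wedges (k + 1) F).card ≤
      (wedges (k + 2) F).card := by
  classical
  let J : ({r : Fin (k + 1) → F // r ≠ 0} × (Fin k → F)) ⊕ ↥(wedges (k + 1) F) → (Pair (k + 2) → F)
    | Sum.inl q => upper (wedge (Fin.cons 1 (Fin.insertNth (exists_pivot q.1.2).choose 0 q.2)) (Fin.cons 0 q.1.1))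
    | Sum.inr w => fun p => if h : p.1.1 = 0 then 0 else
        mat w.1 (p.1.1.pred h) (p.1.2.pred (ne_of_gt (lt_of_le_of_lt (Fin.zero_le _) p.2)))
  have hrow : ∀ q, row (J (Sum.inl q)) = q.1.1 := fun q => funext fun j => by
    simp [J, row, upper, wedge_apply]
  have hrow' : ∀ w, row (J (Sum.inr w)) = 0 := fun w => funext fun j => by simp [J, row]
  have hmem : ∀ x, J x ∈ wedges (k + 2) F := by
    rintro (q | ⟨w, hw⟩)
    · refine mem_wedges.2 ⟨fun h => q.1.2 ?_, _, _, rfl⟩
      rw [← hrow q]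
      funext j
      simp [row, h]
    · obtain ⟨hw0, u, v, rfl⟩ := mem_wedges.1 hw
      refine mem_wedges.2 ⟨fun h => hw0 (funext fun p => ?_), Fin.cons 0 u, Fin.cons 0 v, funext fun p => ?_⟩
      · have := congrFun h ⟨(p.1.1.succ, p.1.2.succ), Fin.succ_lt_succ_iff.2 p.2⟩
        simpa [J, mat_upper_wedge, Fin.succ_ne_zero, upper] using this
      · obtain ⟨⟨i, j⟩, hij⟩ := p
        obtain ⟨b, rfl⟩ := Fin.exists_succ_eq.2 (ne_of_gt (lt_of_le_of_lt (Fin.zero_le i) hij))
        revert hij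
        refine Fin.cases ?_ (fun a => ?_) i <;> intro hij
        · simp [J, upper, wedge_apply]
        · simp [J, upper, wedge_apply, mat_upper_wedge, Fin.succ_ne_zero]
  have hinj : Function.Injective J := by
    rintro (q | w) (q' | w') h
    · have hr : q.1 = q'.1 := Subtype.ext (by rw [← hrow q, ← hrow q', h])
      obtain ⟨r, β⟩ := q
      obtain ⟨r', β'⟩ := q'
      obtain rfl : r = r' := hr
      refine congrArg Sum.inl (Prod.ext rfl (funext fun t => ?_))
      have hj := (exists_pivot r.2).choose_spec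
      simp only [J] at h
      set j := (exists_pivot r.2).choose
      have he := congrArg mat h
      rw [mat_upper_wedge, mat_upper_wedge] at he
      have := congrFun (congrFun he (j.succAbove t).succ) j.succ
      simpa [wedge_apply, hj] using this
    · exact absurd ((hrow q).symm.trans ((congrArg row h).trans (hrow' w'))) q.1.2
    · exact absurd ((hrow q').symm.trans ((congrArg row h.symm).trans (hrow' w))) q'.1.2
    · refine congrArg Sum.inr (Subtype.ext (funext fun p => ?_))
      have := congrFun h ⟨(p.1.1.succ, p.1.2.succ), Fin.succ_lt_succ_iff.2 p.2⟩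
      simpa [J, Fin.succ_ne_zero, ← congrFun (upper_mat w.1) p, ← congrFun (upper_mat w'.1) p, upper] using this
  have := Finset.card_le_card_of_injOn (s := Finset.univ) J (fun x _ => hmem x) hinj.injOn
  rw [Finset.card_univ, Fintype.card_sum, Fintype.card_prod, Fintype.card_coe, Fintype.card_fun, Fintype.card_fin,
    Fintype.card_subtype_compl (fun r : Fin (k + 1) → F => r = 0), Fintype.card_subtype_eq, Fintype.card_fun,
    Fintype.card_fin] at this
  exact this

omit [DecidableEq F] in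
theorem card_wedges (k : ℕ) : ((Fintype.card F : ℤ) ^ (k + 1) - 1) * ((Fintype.card F : ℤ) ^ k - 1) ≤
    ((Fintype.card F : ℤ) ^ 2 - 1) * (wedges (k + 1) F).card := by
  have hq : (1 : ℤ) ≤ Fintype.card F := by exact_mod_cast Fintype.card_pos
  induction k with
  | zero => simp only [pow_zero, sub_self, mul_zero]; exact mul_nonneg (by nlinarith) (Nat.cast_nonneg _)
  | succ k ih =>
    have h : (((Fintype.card F ^ (k + 1) - 1) * Fintype.card F ^ k + (wedges (k + 1) F).card : ℕ) : ℤ) ≤
        ((wedges (k + 2) F).card : ℤ) := by exact_mod_cast card_wedges_succ k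
    push_cast [Nat.one_le_pow _ _ Fintype.card_pos] at h
    have h2 : (0 : ℤ) ≤ (Fintype.card F : ℤ) ^ 2 - 1 := by nlinarith
    have := mul_le_mul_of_nonneg_left h h2
    ring_nf at this ih ⊢
    linarith

section Orbit

open SLExact

variable {k : ℕ}

theorem act_entry {d : ℕ} (A : Matrix (Fin (d + 2)) (Fin (d + 2)) F) (w : Pair (d + 2) → F) (i j : Fin (d + 2)) :
    mat (act A w) i j = (A *ᵥ ev i) ⬝ᵥ (mat w *ᵥ (A *ᵥ ev j)) := by
  rw [mat_act, mulVec_mulVec, ev, ev, mulVec_single_one, mulVec_single_one, Matrix.mul_assoc]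
  rfl

theorem ev_form {d : ℕ} (M : Matrix (Fin (d + 2)) (Fin (d + 2)) F) (i j : Fin (d + 2)) :
    (ev i : Fin (d + 2) → F) ⬝ᵥ (M *ᵥ ev j) = M i j := by
  rw [ev, ev, mulVec_single_one, single_dotProduct, one_mul]
  rfl

/-- Some congruent form has the standard first row. -/
theorem exists_normal {w : Pair (k + 1 + 1 + 2) → F} (hw : w ≠ 0) :
    ∃ A : SpecialLinearGroup (Fin (k + 1 + 1 + 2)) F, row (act A.1 w) = Pi.single 0 1 := by
  obtain ⟨⟨⟨i, j⟩, hij⟩, hp⟩ := Function.ne_iff.1 hw
  have hM : mat w i j ≠ 0 := by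
    rw [← upper_mat w] at hp
    exact hp
  have hli : ∀ (a b : Fin (k + 1 + 1 + 2)) (c : F), a ≠ b → c ≠ 0 →
      LinearIndependent F ![(ev a : Fin (k + 1 + 1 + 2) → F), c • ev b] := by
    intro a b c hab hc
    rw [LinearIndependent.pair_iff]
    intro s t h
    have ha := congrFun h a
    have hb := congrFun h b
    simp [ev, Pi.single_apply, hab, hab.symm, hc] at ha hb
    exact ⟨ha, hb⟩
  obtain ⟨g, hg0, hg1⟩ := exists_sl_pair (by simp) (hli 0 1 1 (Fin.zero_lt_one).ne one_ne_zero)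
    (hli i j (mat w i j)⁻¹ hij.ne (inv_ne_zero hM))
  rw [one_smul] at hg1
  obtain ⟨w', hw'⟩ : ∃ w', w' = act g.1 w := ⟨_, rfl⟩
  have h01 : mat w' 0 1 = 1 := by
    rw [hw', act_entry, hg0, hg1, mulVec_smul, dotProduct_smul, ev_form, smul_eq_mul, inv_mul_cancel₀ hM]
  obtain ⟨φ, hφ⟩ : ∃ φ : Fin (k + 1 + 1 + 2) → F, φ = ev 1 - fun j => mat w' 0 j := ⟨_, rfl⟩
  have hφ1 : φ ⬝ᵥ ev 1 = 0 := by rw [dot_ev, hφ]; simp [ev, h01]
  have hφ0 : φ ⬝ᵥ ev 0 = 0 := by rw [dot_ev, hφ]; simp [ev, mat_diag]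
  refine ⟨g * tv (ev 1) φ, funext fun j => ?_⟩
  rw [show ((g * tv (ev 1) φ : SpecialLinearGroup (Fin (k + 1 + 1 + 2)) F)).1 = g.1 * (tv (ev 1) φ).1 from rfl,
    act_mul, ← hw', row_eq_mat, act_entry, tv_mulVec hφ1, tv_mulVec hφ1, hφ0, zero_smul, add_zero, mulVec_add,
    mulVec_smul, dotProduct_add, dotProduct_smul, ev_form, ev_form, h01, dot_ev, hφ]
  rw [smul_eq_mul, mul_one, Pi.sub_apply, ev, add_sub_cancel]
  simp only [Pi.single_apply]
  exact if_congr (by rw [← Fin.succ_zero_eq_one, Fin.succ_inj]) rfl rfl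

theorem row_act_blk (A : SpecialLinearGroup (Fin (k + 1 + 2)) F) (w : Pair (k + 1 + 1 + 2) → F) :
    row (act (blk A).1 w) = A.1ᵀ *ᵥ row w := by
  funext j
  rw [row_eq_mat, act_entry]
  have h0 : ((blk A).1 : Matrix (Fin (k + 1 + 1 + 2)) (Fin (k + 1 + 1 + 2)) F) *ᵥ ev 0 = ev 0 := by
    rw [blk_mulVec]
    funext i
    refine Fin.cases ?_ (fun t => ?_) i <;> simp [ev, Fin.tail, mulVec, dotProduct]
  rw [h0, blk_mulVec]
  show (Pi.single (0 : Fin (k + 1 + 1 + 2)) (1 : F)) ⬝ᵥ (mat w *ᵥ _) = _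
  rw [single_dotProduct, one_mul, mulVec, dotProduct, Fin.sum_univ_succ, mat_diag, zero_mul, zero_add,
    mulVec_transpose, vecMul, dotProduct]
  refine Finset.sum_congr rfl fun t _ => ?_
  rw [Fin.cons_succ, row_eq_mat]
  congr 1
  simp [mulVec, dotProduct, Fin.tail, ev, Pi.single_apply]

theorem exists_row_move {r : Fin (k + 1 + 2) → F} (hr : r ≠ 0) :
    ∃ A : SpecialLinearGroup (Fin (k + 1 + 2)) F, A.1ᵀ *ᵥ Pi.single 0 1 = r := by
  obtain ⟨i, hi⟩ := Function.ne_iff.1 hr
  obtain ⟨j, hj⟩ := exists_ne i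
  have h1 : LinearIndependent F ![(ev 0 : Fin (k + 1 + 2) → F), ev 1] := by
    rw [LinearIndependent.pair_iff]
    intro s t h
    have ha := congrFun h 0
    have hb := congrFun h 1
    simp [ev, Pi.single_apply] at ha hb
    exact ⟨ha, hb⟩
  have h2 : LinearIndependent F ![r, (ev j : Fin (k + 1 + 2) → F)] := by
    rw [LinearIndependent.pair_iff]
    intro s t h
    have ha := congrFun h i
    have hs : s = 0 := by
      simp [ev, Pi.single_apply, hj.symm] at ha
      exact ha.resolve_right hi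
    have hb := congrFun h j
    simp [ev, hs] at hb
    exact ⟨hs, hb⟩
  obtain ⟨g, hg, -⟩ := exists_sl_pair (by simp) h1 h2
  exact ⟨⟨g.1ᵀ, by rw [det_transpose]; exact g.2⟩, by rw [transpose_transpose]; exact hg⟩

theorem exists_square_ne_one (hq : 3 < Fintype.card F) : ∃ s : F, s ≠ 0 ∧ s * s ≠ 1 := by
  by_contra h
  push Not at h
  have hsub : Finset.univ ⊆ ({0, 1, -1} : Finset F) := fun s _ => by
    rcases eq_or_ne s 0 with h0 | h0
    · simp [h0]
    · rcases mul_self_eq_one_iff.1 (h s h0) with h1 | h1 <;> simp [h1]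
  have := Finset.card_le_card hsub
  rw [Finset.card_univ] at this
  have := this.trans Finset.card_le_three
  omega

/-- A form of rank at least four has a large orbit. -/
theorem exists_big_orbit (hq : 3 < Fintype.card F) {w : Pair (k + 1 + 1 + 2) → F} (hw0 : w ≠ 0)
    (hw : w ∉ wedges (k + 1 + 1 + 2) F) : ∃ O : Finset (Pair (k + 1 + 1 + 2) → F),
      2 * ((Fintype.card F ^ (k + 1 + 2) - 1) * Fintype.card F ^ (k + 1 + 1)) ≤ O.card ∧ 0 ∉ O ∧
      ∀ w' ∈ O, ∃ A : GL (Fin (k + 1 + 1 + 2)) F,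
        IsSquare (A : Matrix (Fin (k + 1 + 1 + 2)) (Fin (k + 1 + 1 + 2)) F).det ∧ act A.1 w = w' := by
  classical
  obtain ⟨A₀, hA₀⟩ := exists_normal hw0
  obtain ⟨w₁, hw₁⟩ : ∃ w₁, w₁ = act A₀.1 w := ⟨_, rfl⟩
  rw [← hw₁] at hA₀
  have hrow : ∀ j : Fin (k + 1 + 1 + 1), mat w₁ 0 j.succ = (Pi.single (0 : Fin (k + 1 + 2)) (1 : F) : Fin (k + 1 + 2) → F) j := fun j => by
    rw [← row_eq_mat, hA₀]
  obtain ⟨i₀, j₀, hne⟩ : ∃ i j : Fin (k + 1 + 1), mat w₁ i.succ.succ j.succ.succ ≠ 0 := by
    by_contra! hall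
    have hmem : w₁ ∈ wedges (k + 1 + 1 + 2) F := by
      refine mem_wedges.2 ⟨fun h => ?_, fun i => mat w₁ i 1, ev 1, ?_⟩
      · have := hrow 0
        simp [h, mat_zero] at this
      · have hns : ∀ a : Fin (k + 1 + 1), a.succ.succ ≠ (1 : Fin (k + 1 + 1 + 2)) := fun a h => by
          rw [← Fin.succ_zero_eq_one, Fin.succ_inj] at h
          exact Fin.succ_ne_zero a h
        have hm01 : mat w₁ 0 1 = 1 := by
          rw [← Fin.succ_zero_eq_one, hrow, Pi.single_eq_same]
        have hm0 : ∀ a : Fin (k + 1 + 1), mat w₁ 0 a.succ.succ = 0 := fun a => by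
          rw [hrow, Pi.single_eq_of_ne (Fin.succ_ne_zero a)]
        rw [← upper_mat w₁]
        refine congrArg upper (Matrix.ext fun i j => ?_)
        rw [upper_mat, wedge_apply]
        simp only [ev, Pi.single_apply]
        refine Fin.cases ?_ (fun i => Fin.cases ?_ (fun i => ?_) i) i <;>
          refine Fin.cases ?_ (fun j => Fin.cases ?_ (fun j => ?_) j) j <;>
          (try simp only [Fin.succ_zero_eq_one]) <;>
          simp [hns, hm01, hm0, hall, mat_diag, mat_neg_apply w₁ 0]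
        rw [mat_neg_apply w₁ 1, neg_neg]
    refine hw ?_
    rw [← (act_cancel (A := A₀.1) (by rw [A₀.2]; exact one_ne_zero) w).1, ← hw₁]
    exact act_mem_wedges (by rw [det_nonsing_inv, A₀.2, Ring.inverse_one]; exact one_ne_zero) hmem
  have hij : i₀ ≠ j₀ := fun h => hne (by rw [h, mat_diag])
  obtain ⟨s, hs0, hs1⟩ := exists_square_ne_one hq
  choose R hR using fun r : {r : Fin (k + 1 + 2) → F // r ≠ 0} => exists_row_move r.2
  let D : Bool → Matrix (Fin (k + 1 + 1 + 2)) (Fin (k + 1 + 1 + 2)) F := fun b =>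
    diagonal (Function.update 1 i₀.succ.succ (if b then s * s else 1))
  let N : ({r : Fin (k + 1 + 2) → F // r ≠ 0} × (Fin (k + 1 + 1) → F)) × Bool →
      Matrix (Fin (k + 1 + 1 + 2)) (Fin (k + 1 + 1 + 2)) F := fun q =>
    A₀.1 * (D q.2 * (tv (ev 0) (p2 q.1.2)).1) * (blk (R q.1.1)).1
  have hdet : ∀ q, IsSquare (N q).det ∧ (N q).det ≠ 0 := by
    intro q
    have h : (N q).det = if q.2 then s * s else 1 := by
      simp only [N, D, det_mul, A₀.2, (tv (ev 0) (p2 q.1.2)).2, (blk (R q.1.1)).2, det_diagonal]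
      rw [Finset.prod_update_of_mem (Finset.mem_univ _)]
      simp
    rw [h]
    split_ifs
    · exact ⟨⟨s, rfl⟩, mul_ne_zero hs0 hs0⟩
    · exact ⟨IsSquare.one, one_ne_zero⟩
  have hw2 : ∀ q, act (N q) w = act (blk (R q.1.1)).1 (act (D q.2 * (tv (ev 0) (p2 q.1.2)).1) w₁) := fun q => by
    rw [hw₁, ← act_mul, ← act_mul, ← Matrix.mul_assoc]
  have hcol : ∀ b β (j : Fin (k + 1 + 1 + 2)), (D b * (tv (ev 0) (p2 β)).1) *ᵥ ev j =
      (Function.update (1 : Fin (k + 1 + 1 + 2) → F) i₀.succ.succ (if b then s * s else 1)) j • ev j + p2 β j • ev 0 := by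
    intro b β j
    rw [← mulVec_mulVec, tv_mulVec (p2_ev0 β), mulVec_add, mulVec_smul, dot_ev]
    simp only [D, ev, mulVec_single_one]
    funext t
    simp [diagonal_apply, Pi.single_apply, Function.update_apply, (Fin.succ_ne_zero _).symm]
    split_ifs <;> simp_all
  have hrow2 : ∀ q : ({r : Fin (k + 1 + 2) → F // r ≠ 0} × (Fin (k + 1 + 1) → F)) × Bool, row (act (D q.2 * (tv (ev 0) (p2 q.1.2)).1) w₁) = Pi.single 0 1 := fun q => funext fun j => by
    rw [row_eq_mat, act_entry, hcol, hcol]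
    simp only [mulVec_add, mulVec_smul, dotProduct_add, dotProduct_smul, add_dotProduct, smul_dotProduct, ev_form,
      mat_diag, hrow, smul_eq_mul]
    rw [show p2 q.1.2 (0 : Fin (k + 1 + 1 + 2)) = 0 from rfl,
      Function.update_of_ne (Fin.succ_ne_zero i₀.succ).symm]
    rcases eq_or_ne j 0 with rfl | hj
    · rw [Function.update_of_ne (fun h => Fin.succ_ne_zero i₀ (Fin.succ_inj.1 h).symm)]
      simp
    · simp [Pi.single_apply, hj]
  refine ⟨Finset.univ.image fun q => act (N q) w, ?_, ?_, ?_⟩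
  · rw [Finset.card_image_of_injective]
    · rw [Finset.card_univ, Fintype.card_prod, Fintype.card_prod, Fintype.card_bool,
        Fintype.card_subtype_compl (fun r : Fin (k + 1 + 2) → F => r = 0), Fintype.card_subtype_eq, Fintype.card_fun,
        Fintype.card_fun, Fintype.card_fin, Fintype.card_fin, mul_comm]
    · intro q q' h
      simp only [hw2] at h
      have hr : q.1.1 = q'.1.1 := by
        refine Subtype.ext ?_
        rw [← hR q.1.1, ← hR q'.1.1, ← hrow2 q, ← row_act_blk, h, row_act_blk, hrow2 q']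
        rw [hrow2 q]
      obtain ⟨⟨r, β⟩, b⟩ := q
      obtain ⟨⟨r', β'⟩, b'⟩ := q'
      obtain rfl : r = r' := hr
      have hcan := congrArg (act (blk (R r)).1⁻¹) h
      rw [(act_cancel (by rw [(blk (R r)).2]; exact one_ne_zero) _).1,
        (act_cancel (by rw [(blk (R r)).2]; exact one_ne_zero) _).1] at hcan
      have he : ∀ i j, mat (act (D b * (tv (ev 0) (p2 β)).1) w₁) i j =
          mat (act (D b' * (tv (ev 0) (p2 β')).1) w₁) i j := fun i j => by rw [hcan]
      simp only [act_entry, hcol, mulVec_add, mulVec_smul, dotProduct_add, dotProduct_smul, add_dotProduct,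
        smul_dotProduct, ev_form, mat_diag, smul_eq_mul] at he
      have hb : b = b' := by
        have h2 := he i₀.succ.succ j₀.succ.succ
        rw [mat_neg_apply w₁ 0 i₀.succ.succ, hrow, hrow] at h2
        simp [Function.update_apply, hij.symm] at h2
        cases b <;> cases b' <;> simp_all
      subst hb
      refine Prod.ext (Prod.ext rfl (funext fun t => ?_)) rfl
      have h2 := he t.succ.succ (0 : Fin (k + 1 + 2)).succ
      rw [hrow, Pi.single_eq_same] at h2
      have h0 : ∀ γ : Fin (k + 1 + 1) → F, p2 γ (0 : Fin (k + 1 + 2)).succ = 0 := fun γ => rfl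
      have h3 : ∀ γ : Fin (k + 1 + 1) → F, p2 γ t.succ.succ = γ t := fun γ => rfl
      rw [h0, h0, h3, h3] at h2
      rw [Function.update_of_ne (fun h => Fin.succ_ne_zero i₀ (Fin.succ_inj.1 h).symm)] at h2
      simpa using h2
  · simp only [Finset.mem_image, not_exists, not_and]
    intro q _ h
    have := congrArg (act (N q)⁻¹) h
    rw [(act_cancel (hdet q).2 w).1, act, mat_zero] at this
    exact hw0 (this.trans (by funext p; simp [upper]))
  · intro w' hw'
    obtain ⟨q, -, rfl⟩ := Finset.mem_image.1 hw'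
    exact ⟨GeneralLinearGroup.mkOfDetNeZero (N q) (hdet q).2, (hdet q).1, rfl⟩

/-- The forms fixed by the first transvection. -/
theorem act_tv_fixed_iff (w : Pair (k + 1 + 1 + 2) → F) :
    act (tv (ev (0 : Fin (k + 1 + 1 + 2))) (ev 1)).1 w = w ↔ ∀ j : Fin (k + 1 + 1 + 1), j ≠ 0 → row w j = 0 := by
  have h10 : (ev 1 : Fin (k + 1 + 1 + 2) → F) ⬝ᵥ ev 0 = 0 := by rw [dot_ev]; simp [ev]
  have hent : ∀ i j, mat (act (tv (ev (0 : Fin (k + 1 + 1 + 2))) (ev 1)).1 w) i j =
      mat w i j + (ev 1 : Fin (k + 1 + 1 + 2) → F) j * mat w i 0 + (ev 1 : Fin (k + 1 + 1 + 2) → F) i * mat w 0 j := by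
    intro i j
    rw [act_entry, tv_mulVec h10, tv_mulVec h10, dot_ev, dot_ev]
    simp only [mulVec_add, mulVec_smul, dotProduct_add, dotProduct_smul, add_dotProduct, smul_dotProduct, ev_form,
      mat_diag, smul_eq_mul]
    ring
  constructor
  · intro h j hj
    have h2 := hent 1 j.succ
    have hj1 : j.succ ≠ (1 : Fin (k + 1 + 1 + 2)) := by
      rw [← Fin.succ_zero_eq_one, Ne, Fin.succ_inj]; exact hj
    rw [h] at h2
    simp [ev, hj1] at h2
    rw [row_eq_mat]
    exact h2
  · intro h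
    funext p
    rw [← congrFun (upper_mat (act (tv (ev (0 : Fin (k + 1 + 1 + 2))) (ev 1)).1 w)) p, ← congrFun (upper_mat w) p]
    obtain ⟨⟨i, j⟩, hij⟩ := p
    show mat _ i j = mat w i j
    rw [hent]
    obtain ⟨b, rfl⟩ := Fin.exists_succ_eq.2 (ne_of_gt (lt_of_le_of_lt (Fin.zero_le i) hij))
    rcases eq_or_ne b 0 with rfl | hb
    · have hi : i = 0 := by
        have h1 : i.1 < 1 := hij
        exact Fin.ext (show i.1 = 0 by omega)
      subst hi
      simp [ev, mat_diag]
    · have hb1 : b.succ ≠ (1 : Fin (k + 1 + 1 + 2)) := by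
        rw [← Fin.succ_zero_eq_one, Ne, Fin.succ_inj]; exact hb
      have h0 := h b hb
      rw [row_eq_mat] at h0
      simp [ev, hb1, h0]

/-- The balance of an additive character against the fixed points is not zero. -/
theorem balance_ne_zero (ψ : AddChar F ℂ) (hψ : ψ ≠ 1) :
    ∑ w ∈ wedges (k + 1 + 1 + 2) F,
      (ψ (row w 0) - if act (tv (ev (0 : Fin (k + 1 + 1 + 2))) (ev 1)).1 w = w then (1 : ℂ) else 0) ≠ 0 := by
  classical
  let g : (Fin (k + 1 + 2) → F) → ℂ := fun r => ψ (r 0) - if ∀ j, j ≠ 0 → r j = 0 then (1 : ℂ) else 0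
  have hg : ∀ w : Pair (k + 1 + 1 + 2) → F,
      (ψ (row w 0) - if act (tv (ev (0 : Fin (k + 1 + 1 + 2))) (ev 1)).1 w = w then (1 : ℂ) else 0) = g (row w) := fun w => by
    simp only [g, act_tv_fixed_iff]
  rw [Finset.sum_congr rfl fun w _ => hg w, ← Finset.sum_fiberwise (wedges (k + 1 + 1 + 2) F) row]
  obtain ⟨M, hM⟩ : ∃ M, M = ((wedges (k + 1 + 1 + 2) F).filter fun w => row w = Pi.single 0 1).card := ⟨_, rfl⟩
  have hfib : ∀ r : Fin (k + 1 + 2) → F, r ≠ 0 →
      ((wedges (k + 1 + 1 + 2) F).filter fun w => row w = r).card = M := by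
    intro r hr
    obtain ⟨A, hA⟩ := exists_row_move hr
    have hd : (blk A).1.det ≠ 0 := by rw [(blk A).2]; exact one_ne_zero
    have hd' : (blk A).1⁻¹.det ≠ 0 := by rw [det_nonsing_inv, (blk A).2, Ring.inverse_one]; exact one_ne_zero
    refine hM ▸ (Finset.card_nbij' (act (blk A).1) (act (blk A).1⁻¹) ?_ ?_ ?_ ?_).symm
    · intro w hw
      simp only [Finset.coe_filter, Set.mem_setOf_eq] at hw ⊢
      exact ⟨act_mem_wedges hd hw.1, by rw [row_act_blk, hw.2, hA]⟩
    · intro w hw
      simp only [Finset.coe_filter, Set.mem_setOf_eq] at hw ⊢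
      refine ⟨act_mem_wedges hd' hw.1, ?_⟩
      have h := row_act_blk A (act (blk A).1⁻¹ w)
      rw [(act_cancel hd w).2, hw.2, ← hA] at h
      exact (mulVec_injective_of_isUnit (by
        rw [Matrix.isUnit_iff_isUnit_det, det_transpose, A.2]; exact isUnit_one) h).symm
    · exact fun w _ => (act_cancel hd w).1
    · exact fun w _ => (act_cancel hd w).2
  have hM0 : M ≠ 0 := by
    rw [hM]
    refine Finset.card_ne_zero_of_mem (a := upper (wedge (ev 0) (ev 1))) ?_
    have hr : row (upper (wedge (ev 0) (ev 1)) : Pair (k + 1 + 1 + 2) → F) = Pi.single 0 1 := funext fun j => by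
      simp only [row, upper, wedge_apply, ev, Pi.single_apply, Fin.succ_ne_zero, if_false]
      simp only [← Fin.succ_zero_eq_one, Fin.succ_inj]
      simp
    refine Finset.mem_filter.2 ⟨mem_wedges.2 ⟨fun h => ?_, _, _, rfl⟩, hr⟩
    rw [h] at hr
    simpa [row] using congrFun hr 0
  have hterm : ∀ r, (∑ w ∈ (wedges (k + 1 + 1 + 2) F).filter (fun w => row w = r), g (row w)) = (M : ℂ) * g r := by
    intro r
    rw [Finset.sum_congr rfl fun w hw => by rw [(Finset.mem_filter.1 hw).2], Finset.sum_const, nsmul_eq_mul]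
    rcases eq_or_ne r 0 with rfl | hr
    · simp [g]
    · rw [hfib r hr]
  rw [Finset.sum_congr rfl fun r _ => hterm r, ← Finset.mul_sum]
  refine mul_ne_zero (Nat.cast_ne_zero.2 hM0) ?_
  simp only [g, Finset.sum_sub_distrib, Finset.sum_boole]
  have h1 : ∑ r : Fin (k + 1 + 2) → F, ψ (r 0) = 0 := by
    rw [← SLAvg.sum_char_dot ψ hψ (ι := Fin (k + 1 + 2)) (w := Pi.single 0 1) (by simp)]
    exact Finset.sum_congr rfl fun r _ => by rw [dotProduct_single, mul_one]
  rw [h1, zero_sub, neg_ne_zero, Nat.cast_ne_zero]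
  exact Finset.card_ne_zero_of_mem (a := (0 : Fin (k + 1 + 2) → F)) (by simp)

end Orbit

end CfsgLib.MinDegree.PlusAlt
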