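import Mathlib
import Cfsg.Agent.Lib.MinDegree.PlusAlt
import Cfsg.Agent.Lib.MinDegree.HypSum
import Cfsg.Agent.Lib.Classical.QuadStd
import Cfsg.Agent.Lib.Classical.QuadSimple

/-!
The elements of the commutator group of a hyperbolic extension in coordinates.
-/

namespace CfsgLib.MinDegree.HypFrm

open Matrix CfsgLib.Classical SLTv SLOps PlusAlt

universe u

noncomputable section

variable {F : Type u} [Field F] {J : Type} {l : ℕ}

/-- The coordinates. -/
abbrev Vc (F : Type u) (l : ℕ) (J : Type) : Type u := (Fin (l + 1 + 2) ⊕ Fin (l + 1 + 2)) ⊕ J → F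

/-- The coordinates of the middle part. -/
abbrev Md (F : Type u) (l : ℕ) (J : Type) : Type u := (Fin (l + 1 + 1) ⊕ Fin (l + 1 + 1)) ⊕ J → F

variable (Q₀ : QuadraticForm F (J → F))

/-- The form. -/
abbrev QF (l : ℕ) : QuadraticForm F (Vc F l J) := qExt (l + 1 + 2) Q₀

/-- The group generated by the Eichler transformations. -/
abbrev EG (l : ℕ) : Subgroup (qAut (QF Q₀ l)) := eichGroup (QF Q₀ l)

/-- A vector from its three parts. -/
def mk (a b : Fin (l + 1 + 2) → F) (w : J → F) : Vc F l J := Sum.elim (Sum.elim a b) w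

/-- The vectors of the first totally singular space. -/
def eA (a : Fin (l + 1 + 2) → F) : Vc F l J := mk a 0 0

/-- The vectors of the second totally singular space. -/
def fB (b : Fin (l + 1 + 2) → F) : Vc F l J := mk 0 b 0

/-- The vectors of the middle space. -/
def eJ (w : J → F) : Vc F l J := mk (l := l) 0 0 w

theorem exists_mk (x : Vc F l J) : ∃ a b w, x = mk a b w :=
  ⟨fun i => x (.inl (.inl i)), fun i => x (.inl (.inr i)), fun j => x (.inr j), by
    funext i; rcases i with (i | i) | i <;> rfl⟩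

theorem mk_add (a a' b b' : Fin (l + 1 + 2) → F) (w w' : J → F) :
    mk a b w + mk a' b' w' = mk (a + a') (b + b') (w + w') := by
  funext i; rcases i with (i | i) | i <;> rfl

theorem mk_sub (a a' b b' : Fin (l + 1 + 2) → F) (w w' : J → F) :
    mk a b w - mk a' b' w' = mk (a - a') (b - b') (w - w') := by
  funext i; rcases i with (i | i) | i <;> rfl

theorem mk_smul (c : F) (a b : Fin (l + 1 + 2) → F) (w : J → F) : c • mk a b w = mk (c • a) (c • b) (c • w) := by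
  funext i; rcases i with (i | i) | i <;> rfl

theorem mk_inj {a a' b b' : Fin (l + 1 + 2) → F} {w w' : J → F} (h : mk a b w = mk a' b' w') :
    a = a' ∧ b = b' ∧ w = w' :=
  ⟨funext fun i => congrFun h (.inl (.inl i)), funext fun i => congrFun h (.inl (.inr i)),
    funext fun j => congrFun h (.inr j)⟩

theorem quad_mk (a b : Fin (l + 1 + 2) → F) (w : J → F) : QF Q₀ l (mk a b w) = a ⬝ᵥ b + Q₀ w := by
  rw [qExt_apply]
  rfl

theorem polar_mk (a a' b b' : Fin (l + 1 + 2) → F) (w w' : J → F) :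
    QuadraticMap.polar (QF Q₀ l) (mk a b w) (mk a' b' w') =
      a ⬝ᵥ b' + b ⬝ᵥ a' + QuadraticMap.polar Q₀ w w' := by
  simp only [QuadraticMap.polar, mk_add, quad_mk, add_dotProduct, dotProduct_add, dotProduct_comm b a']
  ring

theorem quad_eA (a : Fin (l + 1 + 2) → F) : QF Q₀ l (eA a) = 0 := by
  rw [eA, quad_mk, dotProduct_zero, map_zero, add_zero]

theorem quad_fB (b : Fin (l + 1 + 2) → F) : QF Q₀ l (fB b) = 0 := by
  rw [fB, quad_mk, zero_dotProduct, map_zero, add_zero]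

theorem quad_eJ (w : J → F) : QF Q₀ l (eJ w) = Q₀ w := by
  rw [eJ, quad_mk, dotProduct_zero, zero_add]

theorem polar_eA_eA (a a' : Fin (l + 1 + 2) → F) : QuadraticMap.polar (QF Q₀ l) (eA a) (eA a') = 0 := by
  simp [eA, polar_mk]

theorem polar_eA_fB (a b : Fin (l + 1 + 2) → F) : QuadraticMap.polar (QF Q₀ l) (eA a) (fB b) = a ⬝ᵥ b := by
  simp [eA, fB, polar_mk]

theorem polar_eA_eJ (a : Fin (l + 1 + 2) → F) (w : J → F) : QuadraticMap.polar (QF Q₀ l) (eA a) (eJ w) = 0 := by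
  simp [eA, eJ, polar_mk]

theorem polar_fB_eJ (b : Fin (l + 1 + 2) → F) (w : J → F) : QuadraticMap.polar (QF Q₀ l) (fB b) (eJ w) = 0 := by
  simp [fB, eJ, polar_mk]

theorem polar_fB_fB (b b' : Fin (l + 1 + 2) → F) : QuadraticMap.polar (QF Q₀ l) (fB b) (fB b') = 0 := by
  simp [fB, polar_mk]

theorem eA_add (a a' : Fin (l + 1 + 2) → F) : (eA (a + a') : Vc F l J) = eA a + eA a' := by
  simp [eA, mk_add]

theorem eA_smul (c : F) (a : Fin (l + 1 + 2) → F) : (eA (c • a) : Vc F l J) = c • eA a := by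
  simp [eA, mk_smul]

theorem fB_add (a a' : Fin (l + 1 + 2) → F) : (fB (a + a') : Vc F l J) = fB a + fB a' := by
  simp [fB, mk_add]

theorem fB_smul (c : F) (a : Fin (l + 1 + 2) → F) : (fB (c • a) : Vc F l J) = c • fB a := by
  simp [fB, mk_smul]

theorem eJ_add (w w' : J → F) : (eJ (w + w') : Vc F l J) = eJ w + eJ w' := by
  simp [eJ, mk_add]

/-- The action on vectors. -/
abbrev ap (g : EG Q₀ l) (x : Vc F l J) : Vc F l J := g.1.1 x

theorem eg_ext {g h : EG Q₀ l} (H : ∀ x, ap Q₀ g x = ap Q₀ h x) : g = h := Subtype.ext (qAut_ext H)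

theorem ap_mul (g h : EG Q₀ l) (x : Vc F l J) : ap Q₀ (g * h) x = ap Q₀ g (ap Q₀ h x) := rfl

/-- An Eichler transformation in the group. -/
noncomputable def el (u w : Vc F l J) : EG Q₀ l :=
  ⟨eich (QF Q₀ l) u w, by
    by_cases h : QF Q₀ l u = 0 ∧ QuadraticMap.polar (QF Q₀ l) u w = 0
    · exact eich_mem _ h.1 h.2
    · rw [eich, dif_neg h]; exact one_mem _⟩

theorem ap_el {u w : Vc F l J} (hu : QF Q₀ l u = 0) (h : QuadraticMap.polar (QF Q₀ l) u w = 0) (x : Vc F l J) :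
    ap Q₀ (el Q₀ u w) x = x + QuadraticMap.polar (QF Q₀ l) x u • w -
      (QuadraticMap.polar (QF Q₀ l) x w + QF Q₀ l w * QuadraticMap.polar (QF Q₀ l) x u) • u :=
  eich_apply _ hu h x

theorem el_mul {u w w' : Vc F l J} (hu : QF Q₀ l u = 0) (h : QuadraticMap.polar (QF Q₀ l) u w = 0)
    (h' : QuadraticMap.polar (QF Q₀ l) u w' = 0) : el Q₀ u w * el Q₀ u w' = el Q₀ u (w + w') :=
  Subtype.ext (eich_mul _ hu h h')

theorem el_zero {u : Vc F l J} (hu : QF Q₀ l u = 0) : el Q₀ u 0 = 1 := Subtype.ext (eich_zero _ hu)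

theorem el_smul_left {u w : Vc F l J} (hu : QF Q₀ l u = 0) (h : QuadraticMap.polar (QF Q₀ l) u w = 0) (t : F) :
    el Q₀ (t • u) w = el Q₀ u (t • w) :=
  Subtype.ext (eich_smul_left _ hu h t)

theorem el_conj (g : EG Q₀ l) {u w : Vc F l J} (hu : QF Q₀ l u = 0)
    (h : QuadraticMap.polar (QF Q₀ l) u w = 0) : g * el Q₀ u w = el Q₀ (ap Q₀ g u) (ap Q₀ g w) * g := by
  rw [← mul_inv_eq_iff_eq_mul]
  exact Subtype.ext (eich_conj _ g.1 hu h)

/-- For two orthogonal singular vectors the roles may be exchanged. -/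
theorem el_swap {u v : Vc F l J} (hu : QF Q₀ l u = 0) (hv : QF Q₀ l v = 0)
    (h : QuadraticMap.polar (QF Q₀ l) u v = 0) : el Q₀ u v = el Q₀ v (-u) := by
  have h' : QuadraticMap.polar (QF Q₀ l) v (-u) = 0 := by
    rw [QuadraticMap.polar_neg_right, QuadraticMap.polar_comm, h, neg_zero]
  refine eg_ext Q₀ fun x => ?_
  rw [ap_el Q₀ hu h, ap_el Q₀ hv h', QuadraticMap.map_neg, hu, hv, QuadraticMap.polar_neg_right]
  module

/-- The translation by an alternating matrix. -/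
def zLin (φ : Pair (l + 1 + 2) → F) : Vc F l J →ₗ[F] Vc F l J where
  toFun x := x + eA (mat φ *ᵥ fun i => x (.inl (.inr i)))
  map_add' x y := by
    rw [show (fun i => (x + y) (.inl (.inr i))) = (fun i => x (.inl (.inr i))) + fun i => y (.inl (.inr i)) from rfl,
      mulVec_add, eA_add]
    abel
  map_smul' c x := by
    rw [show (fun i => (c • x) (.inl (.inr i))) = c • fun i => x (.inl (.inr i)) from rfl, mulVec_smul, eA_smul,
      RingHom.id_apply, smul_add]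

theorem zLin_mk (φ : Pair (l + 1 + 2) → F) (a b : Fin (l + 1 + 2) → F) (w : J → F) :
    zLin φ (mk a b w) = mk (a + mat φ *ᵥ b) b w := by
  show mk a b w + eA (mat φ *ᵥ b) = _
  rw [eA, mk_add, add_zero, add_zero]

theorem zLin_add (φ χ : Pair (l + 1 + 2) → F) (x : Vc F l J) : zLin φ (zLin χ x) = zLin (φ + χ) x := by
  obtain ⟨a, b, w, rfl⟩ := exists_mk x
  rw [zLin_mk, zLin_mk, zLin_mk, mat_add, add_mulVec, add_assoc, add_comm (mat φ *ᵥ b)]

/-- The translation as an isometry. -/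
def zI (φ : Pair (l + 1 + 2) → F) : qAut (QF Q₀ l) :=
  ⟨LinearEquiv.ofLinearMap (zLin φ) (zLin (-φ))
    (LinearMap.ext fun x => by
      rw [LinearMap.comp_apply, zLin_add, add_neg_cancel]
      obtain ⟨a, b, w, rfl⟩ := exists_mk x
      rw [zLin_mk, mat_zero, zero_mulVec, add_zero]
      rfl)
    (LinearMap.ext fun x => by
      rw [LinearMap.comp_apply, zLin_add, neg_add_cancel]
      obtain ⟨a, b, w, rfl⟩ := exists_mk x
      rw [zLin_mk, mat_zero, zero_mulVec, add_zero]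
      rfl),
    fun x => by
      obtain ⟨a, b, w, rfl⟩ := exists_mk x
      show QF Q₀ l (zLin φ (mk a b w)) = _
      rw [zLin_mk, quad_mk, quad_mk, add_dotProduct, mat, sub_mulVec, sub_dotProduct, mulVec_transpose,
        ← dotProduct_mulVec, dotProduct_comm (tri φ *ᵥ b), sub_self, add_zero]⟩

theorem zI_mk (φ : Pair (l + 1 + 2) → F) (a b : Fin (l + 1 + 2) → F) (w : J → F) :
    (zI Q₀ φ).1 (mk a b w) = mk (a + mat φ *ᵥ b) b w := zLin_mk φ a b w

theorem zI_add (φ χ : Pair (l + 1 + 2) → F) : zI Q₀ φ * zI Q₀ χ = zI Q₀ (φ + χ) :=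
  qAut_ext fun x => zLin_add φ χ x

theorem el_eA_eA (u v : Fin (l + 1 + 2) → F) :
    (el Q₀ (eA u) (eA v)).1 = zI Q₀ (upper (wedge v u)) := by
  refine qAut_ext fun x => ?_
  obtain ⟨a, b, w, rfl⟩ := exists_mk x
  show ap Q₀ (el Q₀ (eA u) (eA v)) (mk a b w) = _
  rw [ap_el Q₀ (quad_eA Q₀ u) (polar_eA_eA Q₀ u v), zI_mk, quad_eA, zero_mul, add_zero, mat_upper_wedge,
    wedge, sub_mulVec, vecMulVec_mulVec, vecMulVec_mulVec, op_smul_eq_smul, op_smul_eq_smul]
  simp only [eA, polar_mk, dotProduct_zero, zero_dotProduct, QuadraticMap.polar_zero_right, mk_smul, mk_add, mk_sub,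
    smul_zero, add_zero, sub_zero, zero_add, dotProduct_comm b]
  congr 1
  abel

theorem single_eq_wedge (p : Pair (l + 1 + 2)) (c : F) :
    (Pi.single p c : Pair (l + 1 + 2) → F) = upper (wedge (c • ev p.1.1) (ev p.1.2)) := by
  funext r
  obtain ⟨⟨i, j⟩, hij⟩ := p
  obtain ⟨⟨s, t⟩, hst⟩ := r
  simp only [upper, wedge_apply, Pi.smul_apply, ev, Pi.single_apply, smul_eq_mul, Subtype.mk.injEq, Prod.mk.injEq]
  have : ¬(s = j ∧ t = i) := fun h => by rw [h.1, h.2] at hst; exact lt_asymm hij hst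
  by_cases h1 : s = i <;> by_cases h2 : t = j <;> by_cases h3 : s = j <;> by_cases h4 : t = i <;>
    simp_all

theorem zI_mem (φ : Pair (l + 1 + 2) → F) : zI Q₀ φ ∈ EG Q₀ l := by
  classical
  rw [← Finset.univ_sum_single φ]
  induction (Finset.univ : Finset (Pair (l + 1 + 2))) using Finset.induction with
  | empty =>
    rw [Finset.sum_empty, show zI Q₀ (0 : Pair (l + 1 + 2) → F) = 1 from qAut_ext fun x => by
      obtain ⟨a, b, w, rfl⟩ := exists_mk x
      rw [zI_mk, mat_zero, zero_mulVec, add_zero]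
      rfl]
    exact one_mem _
  | insert p s hp ih =>
    rw [Finset.sum_insert hp, ← zI_add]
    refine mul_mem ?_ ih
    rw [single_eq_wedge, ← el_eA_eA]
    exact (el Q₀ _ _).2

/-- The translations. -/
def zE : Multiplicative (Pair (l + 1 + 2) → F) →* EG Q₀ l where
  toFun φ := ⟨zI Q₀ φ.toAdd, zI_mem Q₀ _⟩
  map_one' := eg_ext Q₀ fun x => by
    obtain ⟨a, b, w, rfl⟩ := exists_mk x
    show (zI Q₀ 0).1 (mk a b w) = mk a b w
    rw [zI_mk, mat_zero, zero_mulVec, add_zero]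
  map_mul' φ χ := Subtype.ext (zI_add Q₀ φ.toAdd χ.toAdd).symm

theorem el_eA_eA' (u v : Fin (l + 1 + 2) → F) :
    el Q₀ (eA u) (eA v) = zE Q₀ (Multiplicative.ofAdd (upper (wedge v u))) :=
  Subtype.ext (el_eA_eA Q₀ u v)

theorem ap_zE (φ : Pair (l + 1 + 2) → F) (a b : Fin (l + 1 + 2) → F) (w : J → F) :
    ap Q₀ (zE Q₀ (Multiplicative.ofAdd φ)) (mk a b w) = mk (a + mat φ *ᵥ b) b w := zI_mk Q₀ φ a b w

/-- The commutator of two radical elements. -/
theorem el_eJ_comm (u u' : Fin (l + 1 + 2) → F) (w v : J → F) :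
    el Q₀ (eA u) (eJ w) * el Q₀ (eA u') (eJ v) =
      zE Q₀ (Multiplicative.ofAdd (upper (wedge ((-QuadraticMap.polar Q₀ v w) • u) u'))) *
        el Q₀ (eA u') (eJ v) * el Q₀ (eA u) (eJ w) := by
  rw [el_conj Q₀ _ (quad_eA Q₀ u') (polar_eA_eJ Q₀ u' v)]
  have e1 : ap Q₀ (el Q₀ (eA u) (eJ w)) (eA u') = eA u' := by
    rw [ap_el Q₀ (quad_eA Q₀ u) (polar_eA_eJ Q₀ u w), polar_eA_eA, polar_eA_eJ]
    simp
  have e2 : ap Q₀ (el Q₀ (eA u) (eJ w)) (eJ v) =
      eA ((-QuadraticMap.polar Q₀ v w) • u) + eJ v := by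
    rw [ap_el Q₀ (quad_eA Q₀ u) (polar_eA_eJ Q₀ u w)]
    simp only [eA, eJ, polar_mk, mk_add, mk_smul, mk_sub]
    simp
  rw [e1, e2, ← el_mul Q₀ (quad_eA Q₀ u') (polar_eA_eA Q₀ _ _) (polar_eA_eJ Q₀ _ _), el_eA_eA']

/-- Products inside the radical modulo translations. -/
theorem el_eJ_add (u u' : Fin (l + 1 + 2) → F) (v : J → F) :
    el Q₀ (eA (u + u')) (eJ v) =
      zE Q₀ (Multiplicative.ofAdd (upper (wedge ((Q₀ v) • u) u'))) * (el Q₀ (eA u) (eJ v) * el Q₀ (eA u') (eJ v)) := by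
  refine eg_ext Q₀ fun x => ?_
  obtain ⟨a, b, w, rfl⟩ := exists_mk x
  have hel : ∀ (s : Fin (l + 1 + 2) → F) (a b : Fin (l + 1 + 2) → F) (w : J → F),
      ap Q₀ (el Q₀ (eA s) (eJ v)) (mk a b w) =
        mk (a - (QuadraticMap.polar Q₀ w v + Q₀ v * (b ⬝ᵥ s)) • s) b (w + (b ⬝ᵥ s) • v) := by
    intro s a b w
    rw [ap_el Q₀ (quad_eA Q₀ s) (polar_eA_eJ Q₀ s v), quad_eJ]
    simp only [eA, eJ, polar_mk, mk_add, mk_smul, mk_sub]
    simp
  rw [ap_mul, ap_mul, hel, hel, hel, ap_zE, mat_upper_wedge, wedge, sub_mulVec, vecMulVec_mulVec, vecMulVec_mulVec,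
    op_smul_eq_smul, op_smul_eq_smul, QuadraticMap.polar_add_left, QuadraticMap.polar_smul_left, quad_polar_self,
    smul_dotProduct, dotProduct_add, dotProduct_comm u' b, dotProduct_comm u b]
  congr 1
  · simp only [smul_eq_mul]
    module
  · module

variable [Fintype F] [DecidableEq F]

/-- The Levi isometries. -/
def levI : SpecialLinearGroup (Fin (l + 1 + 2)) F →* qAut (QF Q₀ l) :=
  MonoidHom.mk'
    (fun A =>
      ⟨{ toFun := fun x => mk (A.1 *ᵥ fun i => x (.inl (.inl i))) ((A⁻¹).1ᵀ *ᵥ fun i => x (.inl (.inr i)))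
            fun j => x (.inr j)
         map_add' := fun x y => by
          rw [mk_add, ← mulVec_add, ← mulVec_add]
          rfl
         map_smul' := fun c x => by
          rw [RingHom.id_apply, mk_smul, ← mulVec_smul, ← mulVec_smul]
          rfl
         invFun := fun x => mk ((A⁻¹).1 *ᵥ fun i => x (.inl (.inl i))) (A.1ᵀ *ᵥ fun i => x (.inl (.inr i)))
            fun j => x (.inr j)
         left_inv := fun x => by
          obtain ⟨a, b, w, rfl⟩ := exists_mk x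
          show mk ((A⁻¹).1 *ᵥ (A.1 *ᵥ a)) (A.1ᵀ *ᵥ ((A⁻¹).1ᵀ *ᵥ b)) w = _
          rw [mulVec_mulVec, mulVec_mulVec, ← transpose_mul,
            show (A⁻¹).1 * A.1 = 1 from congrArg Subtype.val (inv_mul_cancel A), transpose_one, one_mulVec, one_mulVec]
         right_inv := fun x => by
          obtain ⟨a, b, w, rfl⟩ := exists_mk x
          show mk (A.1 *ᵥ ((A⁻¹).1 *ᵥ a)) ((A⁻¹).1ᵀ *ᵥ (A.1ᵀ *ᵥ b)) w = _
          rw [mulVec_mulVec, mulVec_mulVec, ← transpose_mul,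
            show A.1 * (A⁻¹).1 = 1 from congrArg Subtype.val (mul_inv_cancel A), transpose_one, one_mulVec,
            one_mulVec] }, fun x => by
        obtain ⟨a, b, w, rfl⟩ := exists_mk x
        show QF Q₀ l (mk (A.1 *ᵥ a) ((A⁻¹).1ᵀ *ᵥ b) w) = _
        rw [quad_mk, quad_mk, dotProduct_mulVec, vecMul_transpose, mulVec_mulVec,
          show (A⁻¹).1 * A.1 = 1 from congrArg Subtype.val (inv_mul_cancel A), one_mulVec]⟩)
    fun A B => qAut_ext fun x => by
      obtain ⟨a, b, w, rfl⟩ := exists_mk x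
      show mk ((A * B).1 *ᵥ a) (((A * B)⁻¹).1ᵀ *ᵥ b) w = mk (A.1 *ᵥ (B.1 *ᵥ a)) ((A⁻¹).1ᵀ *ᵥ ((B⁻¹).1ᵀ *ᵥ b)) w
      rw [mulVec_mulVec, mulVec_mulVec, ← transpose_mul, _root_.mul_inv_rev]
      rfl

theorem levI_mk (A : SpecialLinearGroup (Fin (l + 1 + 2)) F) (a b : Fin (l + 1 + 2) → F) (w : J → F) :
    (levI Q₀ A).1 (mk a b w) = mk (A.1 *ᵥ a) ((A⁻¹).1ᵀ *ᵥ b) w := rfl

variable [Fintype J]

theorem dim_le : 5 ≤ Module.finrank F (Vc F l J) := by
  rw [Module.finrank_fintype_fun_eq_card, Fintype.card_sum, Fintype.card_sum, Fintype.card_fin]; omega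

variable (h0 : PolarNondeg Q₀)

include h0 in
theorem nondeg (l : ℕ) : PolarNondeg (QF Q₀ l) := polarNondeg_qExt h0 _

include h0 in
theorem levI_mem (A : SpecialLinearGroup (Fin (l + 1 + 2)) F) : levI Q₀ A ∈ EG Q₀ l := by
  rw [show EG Q₀ l = commutator (qAut (QF Q₀ l)) from eichGroup_eq_commutator _ (nondeg Q₀ h0 l) dim_le]
  have h : levI Q₀ A ∈ (commutator (SpecialLinearGroup (Fin (l + 1 + 2)) F)).map (levI Q₀) := by
    rw [SLBound.sl_commutator]
    exact Subgroup.mem_map_of_mem _ (Subgroup.mem_top A)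
  refine SetLike.le_def.1 ?_ h
  rw [commutator_def, Subgroup.map_commutator, commutator_def]
  exact Subgroup.commutator_mono le_top le_top

/-- The Levi elements. -/
def levE : SpecialLinearGroup (Fin (l + 1 + 2)) F →* EG Q₀ l :=
  (levI Q₀).codRestrict _ (levI_mem Q₀ h0)

theorem ap_levE (A : SpecialLinearGroup (Fin (l + 1 + 2)) F) (a b : Fin (l + 1 + 2) → F) (w : J → F) :
    ap Q₀ (levE Q₀ h0 A) (mk a b w) = mk (A.1 *ᵥ a) ((A⁻¹).1ᵀ *ᵥ b) w := rfl

theorem ap_levE_eA (A : SpecialLinearGroup (Fin (l + 1 + 2)) F) (a : Fin (l + 1 + 2) → F) :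
    ap Q₀ (levE Q₀ h0 A) (eA a) = eA (A.1 *ᵥ a) := by
  rw [eA, ap_levE, mulVec_zero]; rfl

theorem ap_levE_eJ (A : SpecialLinearGroup (Fin (l + 1 + 2)) F) (w : J → F) :
    ap Q₀ (levE Q₀ h0 A) (eJ w) = eJ w := by
  rw [eJ, ap_levE, mulVec_zero, mulVec_zero]

theorem levE_tv {v φ : Fin (l + 1 + 2) → F} (h : φ ⬝ᵥ v = 0) :
    levE Q₀ h0 (tv v φ) = el Q₀ (eA v) (fB (-φ)) := by
  have hp : QuadraticMap.polar (QF Q₀ l) (eA v) (fB (-φ)) = 0 := by
    rw [polar_eA_fB, dotProduct_neg, dotProduct_comm, h, neg_zero]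
  refine eg_ext Q₀ fun x => ?_
  obtain ⟨a, b, w, rfl⟩ := exists_mk x
  have hinv : (tv v φ)⁻¹ = tv v (-φ) := inv_eq_of_mul_eq_one_right (by
    rw [tv_mul h (by rw [neg_dotProduct, h, neg_zero]), add_neg_cancel, tv_zero])
  rw [ap_levE, tv_mulVec h, hinv, tv_val (by rw [neg_dotProduct, h, neg_zero]), transpose_add, transpose_one,
    transpose_vecMulVec, add_mulVec, one_mulVec, vecMulVec_mulVec, op_smul_eq_smul, ap_el Q₀ (quad_eA Q₀ v) hp,
    quad_fB, zero_mul, add_zero]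
  simp only [eA, fB, polar_mk, mk_add, mk_smul, mk_sub]
  simp [dotProduct_comm b v, dotProduct_comm φ a]

theorem levE_conj_zE (A : SpecialLinearGroup (Fin (l + 1 + 2)) F) (φ : Pair (l + 1 + 2) → F) :
    levE Q₀ h0 A * zE Q₀ (Multiplicative.ofAdd φ) =
      zE Q₀ (Multiplicative.ofAdd (act A.1ᵀ φ)) * levE Q₀ h0 A := by
  refine eg_ext Q₀ fun x => ?_
  obtain ⟨a, b, w, rfl⟩ := exists_mk x
  rw [ap_mul, ap_mul, ap_zE, ap_levE, ap_levE, ap_zE, mulVec_add, mat_act, transpose_transpose]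
  congr 2
  rw [← mulVec_mulVec, ← mulVec_mulVec, mulVec_mulVec b A.1ᵀ, ← transpose_mul,
    show (A⁻¹).1 * A.1 = 1 from congrArg Subtype.val (inv_mul_cancel A), transpose_one, one_mulVec]

theorem levE_conj_eJ (A : SpecialLinearGroup (Fin (l + 1 + 2)) F) (u : Fin (l + 1 + 2) → F) (w : J → F) :
    levE Q₀ h0 A * el Q₀ (eA u) (eJ w) = el Q₀ (eA (A.1 *ᵥ u)) (eJ w) * levE Q₀ h0 A := by
  rw [el_conj Q₀ _ (quad_eA Q₀ u) (polar_eA_eJ Q₀ u w), ap_levE_eA, ap_levE_eJ]

section Swap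

/-- The exchange of two coordinates. -/
def swI (j : Fin (l + 1 + 2)) : ((Fin (l + 1 + 2) ⊕ Fin (l + 1 + 2)) ⊕ J) ≃ ((Fin (l + 1 + 2) ⊕ Fin (l + 1 + 2)) ⊕ J) :=
  (Equiv.swap (Sum.inl j) (Sum.inr j)).sumCongr (Equiv.refl J)

/-- The exchange as an isometry. -/
def sQ (j : Fin (l + 1 + 2)) : qAut (QF Q₀ l) :=
  ⟨LinearEquiv.funCongrLeft F F (swI j), fun x => by
    rw [qExt_apply, qExt_apply]
    congr 1
    refine Finset.sum_congr rfl fun i _ => ?_
    simp only [LinearEquiv.funCongrLeft_apply, LinearMap.funLeft_apply, swI, Equiv.sumCongr_apply, Sum.map_inl,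
      Equiv.swap_apply_def, reduceCtorEq, Sum.inl.injEq, Sum.inr.injEq, if_false]
    split_ifs with h
    · subst h; exact mul_comm _ _
    · rfl⟩

/-- Conjugation by the exchange. -/
noncomputable def tE (j : Fin (l + 1 + 2)) : EG Q₀ l ≃* EG Q₀ l :=
  haveI := eichGroup_normal (QF Q₀ l)
  MulAut.conjNormal (sQ Q₀ j)

theorem tE_el (j : Fin (l + 1 + 2)) {u w : Vc F l J} (hu : QF Q₀ l u = 0)
    (h : QuadraticMap.polar (QF Q₀ l) u w = 0) :
    tE Q₀ j (el Q₀ u w) = el Q₀ ((sQ Q₀ j).1 u) ((sQ Q₀ j).1 w) := by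
  haveI := eichGroup_normal (QF Q₀ l)
  refine Subtype.ext ?_
  rw [tE, MulAut.conjNormal_apply]
  exact eich_conj _ _ hu h

theorem sQ_mk (j : Fin (l + 1 + 2)) (a b : Fin (l + 1 + 2) → F) (w : J → F) :
    (sQ Q₀ j).1 (mk a b w) = mk (Function.update a j (b j)) (Function.update b j (a j)) w := by
  funext i
  rcases i with (i | i) | i
  all_goals
    simp only [sQ, LinearEquiv.funCongrLeft_apply, LinearMap.funLeft_apply, swI, Equiv.sumCongr_apply, mk,
      Sum.map_inl, Sum.map_inr, Equiv.swap_apply_def, reduceCtorEq, Sum.inl.injEq, Sum.inr.injEq, if_false,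
      Equiv.refl_apply, Sum.elim_inl, Sum.elim_inr, Function.update_apply]
  all_goals split_ifs <;> simp_all

theorem sQ_sQ (j : Fin (l + 1 + 2)) (x : Vc F l J) : (sQ Q₀ j).1 ((sQ Q₀ j).1 x) = x := by
  obtain ⟨a, b, w, rfl⟩ := exists_mk x
  rw [sQ_mk, sQ_mk]
  simp

theorem sQ_eA_off (j : Fin (l + 1 + 2)) {a : Fin (l + 1 + 2) → F} (h : a j = 0) :
    (sQ Q₀ j).1 (eA a) = eA a := by
  simp only [eA, sQ_mk]
  congr 1 <;> funext i <;> simp [Function.update_apply, h]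
  intro hi; rw [hi, h]

theorem sQ_fB_off (j : Fin (l + 1 + 2)) {a : Fin (l + 1 + 2) → F} (h : a j = 0) :
    (sQ Q₀ j).1 (fB a) = fB a := by
  simp only [fB, sQ_mk]
  congr 1 <;> funext i <;> simp [Function.update_apply, h]
  intro hi; rw [hi, h]

theorem sQ_eA_self (j : Fin (l + 1 + 2)) (c : F) :
    (sQ Q₀ j).1 (eA (c • ev j)) = fB (c • ev j) := by
  simp only [eA, fB, sQ_mk]
  congr 1 <;> funext i <;> simp [Function.update_apply, ev, Pi.single_apply] <;> intros <;> simp_all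

theorem sQ_fB_self (j : Fin (l + 1 + 2)) (c : F) :
    (sQ Q₀ j).1 (fB (c • ev j)) = eA (c • ev j) := by
  rw [← sQ_eA_self Q₀ j c, sQ_sQ]

theorem sQ_eJ (j : Fin (l + 1 + 2)) (w : J → F) : (sQ Q₀ j).1 (eJ w) = eJ w := by
  simp [eJ, sQ_mk]

theorem tE_tE (j : Fin (l + 1 + 2)) (g : EG Q₀ l) : tE Q₀ j (tE Q₀ j g) = g := by
  haveI := eichGroup_normal (QF Q₀ l)
  have hinv : (sQ Q₀ j)⁻¹ = sQ Q₀ j := inv_eq_of_mul_eq_one_right (qAut_ext fun x => sQ_sQ Q₀ j x)
  have hsq : sQ Q₀ j * sQ Q₀ j = 1 := qAut_ext fun x => sQ_sQ Q₀ j x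
  refine Subtype.ext ?_
  simp only [tE, MulAut.conjNormal_apply, hinv]
  rw [← mul_assoc, ← mul_assoc, hsq, one_mul, mul_assoc, hsq, mul_one]

end Swap

section Middle

/-- The middle part as vectors. -/
def emb (y : Md F l J) : Vc F l J :=
  mk (Fin.cons 0 fun i => y (.inl (.inl i))) (Fin.cons 0 fun i => y (.inl (.inr i))) fun j => y (.inr j)

/-- The splitting off of the first pair. -/
def spl (l : ℕ) (J : Type) (F : Type u) [Field F] : ((F × F) × Md F l J) ≃ₗ[F] Vc F l J :=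
  extSucc (l + 1 + 1)

theorem spl_quad (x : (F × F) × Md F l J) : QF Q₀ l (spl l J F x) = hypSum (qExt (l + 1 + 1) Q₀) x :=
  qExt_extSucc _ _ _

theorem spl_polar (x y : (F × F) × Md F l J) : QuadraticMap.polar (QF Q₀ l) (spl l J F x) (spl l J F y) =
    QuadraticMap.polar (hypSum (qExt (l + 1 + 1) Q₀)) x y := by
  simp only [QuadraticMap.polar, ← map_add, spl_quad]

theorem spl_eH : spl l J F (HypSum.eH : (F × F) × Md F l J) = eA (ev 0) := by
  funext i
  rcases i with (i | i) | i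
  · refine Fin.cases ?_ (fun j => ?_) i <;> simp [spl, extSucc, HypSum.eH, eA, mk, ev]
  · refine Fin.cases ?_ (fun j => ?_) i <;> simp [spl, extSucc, HypSum.eH, eA, mk]
  · simp [spl, extSucc, HypSum.eH, eA, mk]

theorem spl_fH : spl l J F (HypSum.fH : (F × F) × Md F l J) = fB (ev 0) := by
  funext i
  rcases i with (i | i) | i
  · refine Fin.cases ?_ (fun j => ?_) i <;> simp [spl, extSucc, HypSum.fH, fB, mk]
  · refine Fin.cases ?_ (fun j => ?_) i <;> simp [spl, extSucc, HypSum.fH, fB, mk, ev]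
  · simp [spl, extSucc, HypSum.fH, fB, mk]

theorem spl_iH (y : Md F l J) : spl l J F (HypSum.iH y) = emb y := rfl

theorem spl_eich {u w : (F × F) × Md F l J} (hu : hypSum (qExt (l + 1 + 1) Q₀) u = 0)
    (h : QuadraticMap.polar (hypSum (qExt (l + 1 + 1) Q₀)) u w = 0) :
    qAutCongr (spl l J F) (spl_quad Q₀) (eich (hypSum (qExt (l + 1 + 1) Q₀)) u w) =
      eich (QF Q₀ l) (spl l J F u) (spl l J F w) := by
  refine qAut_ext fun x => ?_
  obtain ⟨y, rfl⟩ := (spl l J F).surjective x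
  show spl l J F ((eich _ u w).1 ((spl l J F).symm (spl l J F y))) = _
  rw [LinearEquiv.symm_apply_apply, eich_apply _ hu h, eich_apply _ (by rw [spl_quad, hu]) (by rw [spl_polar, h]),
    spl_polar, spl_polar, spl_quad, map_sub, map_add, map_smul, map_smul]

include h0 in
/-- The two root groups of the first pair generate the group. -/
theorem eq_top_of_roots {K : Subgroup (EG Q₀ l)} (he : ∀ y : Md F l J, el Q₀ (eA (ev 0)) (emb y) ∈ K)
    (hf : ∀ y : Md F l J, el Q₀ (fB (ev 0)) (emb y) ∈ K) : K = ⊤ := by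
  let θ := qAutCongr (spl l J F) (spl_quad (l := l) Q₀)
  have hle := HypSum.eichGroup_le (qExt (l + 1 + 1) Q₀) (polarNondeg_qExt h0 _)
    (H := (K.map (EG Q₀ l).subtype).comap θ.toMonoidHom) (fun y => ?_) (fun y => ?_)
  · rw [eq_top_iff]
    intro g _
    have hK : EG Q₀ l ≤ K.map (EG Q₀ l).subtype := by
      refine (Subgroup.closure_le _).2 ?_
      rintro _ ⟨u, w, hu, h, rfl⟩
      obtain ⟨u', rfl⟩ := (spl l J F).surjective u
      obtain ⟨w', rfl⟩ := (spl l J F).surjective w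
      rw [spl_quad] at hu
      rw [spl_polar] at h
      have h2 := hle (eich_mem _ hu h)
      rw [Subgroup.mem_comap] at h2
      rw [SetLike.mem_coe, ← spl_eich Q₀ hu h]
      exact h2
    obtain ⟨k, hk, hkg⟩ := hK g.2
    rwa [← Subtype.ext hkg]
  · rw [Subgroup.mem_comap]
    show θ _ ∈ _
    rw [spl_eich Q₀ (HypSum.quad_eH _) (by rw [HypSum.polar_eH]; rfl), spl_eH, spl_iH]
    exact ⟨_, he y, rfl⟩
  · rw [Subgroup.mem_comap]
    show θ _ ∈ _
    rw [spl_eich Q₀ (HypSum.quad_fH _) (by rw [HypSum.polar_fH]; rfl), spl_fH, spl_iH]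
    exact ⟨_, hf y, rfl⟩

/-- The extension of an element of the middle group. -/
noncomputable def midE : eichGroup (qExt (l + 1 + 1) Q₀) →* EG Q₀ l :=
  (((qAutCongr (spl l J F) (spl_quad (l := l) Q₀)).toMonoidHom.comp
      (HypSum.liftHyp (qExt (l + 1 + 1) Q₀))).comp (eichGroup (qExt (l + 1 + 1) Q₀)).subtype).codRestrict _
    fun h => by
      have hle : eichGroup (qExt (l + 1 + 1) Q₀) ≤ (EG Q₀ l).comap
          ((qAutCongr (spl l J F) (spl_quad (l := l) Q₀)).toMonoidHom.comp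
            (HypSum.liftHyp (qExt (l + 1 + 1) Q₀))) := by
        refine (Subgroup.closure_le _).2 ?_
        rintro _ ⟨u, w, hu, hw, rfl⟩
        rw [SetLike.mem_coe, Subgroup.mem_comap]
        show qAutCongr (spl l J F) (spl_quad (l := l) Q₀) (HypSum.liftHyp (qExt (l + 1 + 1) Q₀) _) ∈ _
        rw [HypSum.liftHyp_eich _ hu hw, spl_eich Q₀ (by rw [HypSum.quad_iH, hu]) (by rw [HypSum.polar_iH, hw])]
        exact eich_mem _ (by rw [spl_quad, HypSum.quad_iH, hu]) (by rw [spl_polar, HypSum.polar_iH, hw])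
      exact hle h.2

theorem midE_el {u w : Md F l J} (hu : qExt (l + 1 + 1) Q₀ u = 0)
    (h : QuadraticMap.polar (qExt (l + 1 + 1) Q₀) u w = 0) :
    midE Q₀ ⟨eich (qExt (l + 1 + 1) Q₀) u w, eich_mem _ hu h⟩ = el Q₀ (emb u) (emb w) := by
  refine Subtype.ext ?_
  show qAutCongr (spl l J F) (spl_quad (l := l) Q₀) (HypSum.liftHyp (qExt (l + 1 + 1) Q₀) (eich (qExt (l + 1 + 1) Q₀) u w)) = _
  rw [HypSum.liftHyp_eich _ hu h, spl_eich Q₀ (by rw [HypSum.quad_iH, hu]) (by rw [HypSum.polar_iH, h])]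
  rfl

include h0 in
/-- The elements fixing the first pair come from the middle. -/
theorem exists_midE [Nonempty J] {g : EG Q₀ l} (he : ap Q₀ g (eA (ev 0)) = eA (ev 0)) (hf : ap Q₀ g (fB (ev 0)) = fB (ev 0)) :
    ∃ h, g = midE Q₀ h := by
  let θ := qAutCongr (spl l J F) (spl_quad (l := l) Q₀)
  haveI : Module.Finite F (Md F l J) := inferInstance
  have hgE : θ.symm g.1 ∈ eichGroup (hypSum (qExt (l + 1 + 1) Q₀)) := by
    have hle : EG Q₀ l ≤ (eichGroup (hypSum (qExt (l + 1 + 1) Q₀))).comap θ.symm.toMonoidHom := by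
      refine (Subgroup.closure_le _).2 ?_
      rintro _ ⟨u, w, hu, h, rfl⟩
      obtain ⟨u', rfl⟩ := (spl l J F).surjective u
      obtain ⟨w', rfl⟩ := (spl l J F).surjective w
      rw [spl_quad] at hu
      rw [spl_polar] at h
      rw [SetLike.mem_coe, Subgroup.mem_comap, ← spl_eich Q₀ hu h]
      show θ.symm (θ _) ∈ _
      rw [MulEquiv.symm_apply_apply]
      exact eich_mem _ hu h
    exact hle g.2
  have hfix : ∀ v, ap Q₀ g (spl l J F v) = spl l J F v → (θ.symm g.1).1 v = v := fun v hv => by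
    show (spl l J F).symm (g.1.1 (spl l J F v)) = v
    rw [show g.1.1 (spl l J F v) = spl l J F v from hv, LinearEquiv.symm_apply_apply]
  obtain ⟨h, hh, e⟩ := HypSum.exists_lift_of_fix (qExt (l + 1 + 1) Q₀) (polarNondeg_qExt h0 _)
    (by rw [Module.finrank_fintype_fun_eq_card, Fintype.card_sum, Fintype.card_sum, Fintype.card_fin]
        have := Fintype.card_pos (α := J)
        omega) hgE
    (hfix _ (by rw [spl_eH]; exact he)) (hfix _ (by rw [spl_fH]; exact hf))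
  refine ⟨⟨h, hh⟩, Subtype.ext ?_⟩
  show g.1 = θ (HypSum.liftHyp _ h)
  rw [← e, MulEquiv.apply_symm_apply]

end Middle

end

end CfsgLib.MinDegree.HypFrm
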