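import Mathlib
import Cfsg.Agent.Lib.MinDegree.HypFrame

/-!
Weights of the translations in a small representation of a hyperbolic extension.
-/

namespace CfsgLib.MinDegree.HypWts

open Matrix CfsgLib.Classical SLAvg SLTv SLOps PlusAlt HypFrm
open scoped commutatorElement

universe u w

noncomputable section

variable {F : Type u} [Field F] [Fintype F] [DecidableEq F]

theorem dot_upper_wedge {d : ℕ} (ω : Pair d → F) (u v : Fin d → F) :
    upper (wedge u v) ⬝ᵥ ω = u ⬝ᵥ (mat ω *ᵥ v) := by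
  rw [dotProduct_comm, wedge, ← transpose_vecMulVec u v, ← trace_mat, transpose_vecMulVec, vecMulVec_mul,
    trace_vecMulVec, dotProduct_comm v, dotProduct_mulVec]

theorem zero_not_mem_wedges (d : ℕ) : (0 : Pair d → F) ∉ wedges d F := fun h => (mem_wedges.1 h).1 rfl

theorem mem_wedges_three {w : Pair (0 + 1 + 2) → F} (hw : w ≠ 0) : w ∈ wedges (0 + 1 + 2) F := by
  refine mem_wedges.2 ⟨hw, ?_⟩
  obtain ⟨a, ha⟩ : ∃ a, a = w ⟨(0, 1), by decide⟩ := ⟨_, rfl⟩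
  obtain ⟨b, hb⟩ : ∃ b, b = w ⟨(0, 2), by decide⟩ := ⟨_, rfl⟩
  obtain ⟨c, hc⟩ : ∃ c, c = w ⟨(1, 2), by decide⟩ := ⟨_, rfl⟩
  have key : ∀ u v : Fin (0 + 1 + 2) → F, u 0 * v 1 - v 0 * u 1 = a → u 0 * v 2 - v 0 * u 2 = b →
      u 1 * v 2 - v 1 * u 2 = c → ∃ u v, upper (wedge u v) = w := by
    intro u v h1 h2 h3
    refine ⟨u, v, funext fun p => ?_⟩
    obtain ⟨⟨i, j⟩, hij⟩ := p
    have : (i = 0 ∧ j = 1) ∨ (i = 0 ∧ j = 2) ∨ (i = 1 ∧ j = 2) := by revert hij; revert i j; decide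
    simp only [upper, wedge_apply]
    rcases this with ⟨rfl, rfl⟩ | ⟨rfl, rfl⟩ | ⟨rfl, rfl⟩
    · exact h1.trans ha
    · exact h2.trans hb
    · exact h3.trans hc
  by_cases h : a = 0
  · by_cases h' : b = 0
    · exact key (Pi.single 1 1) (Pi.single 2 c) (by simp [h]) (by simp [h']) (by simp)
    · exact key ![1, c / b, 0] ![0, 0, b] (by simp [h]) (by simp) (by simp; field_simp)
  · exact key ![1, 0, -c / a] ![0, a, b] (by simp) (by simp) (by simp; field_simp)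

/-- A form which is not an exterior product has a large orbit. -/
theorem exists_orbit {k : ℕ} {w : Pair (k + 1 + 1 + 2) → F} (hw0 : w ≠ 0) (hw : w ∉ wedges (k + 1 + 1 + 2) F) :
    ∃ O : Finset (Pair (k + 1 + 1 + 2) → F),
      (Fintype.card F ^ (k + 1 + 2) - 1) * Fintype.card F ^ (k + 1 + 1) ≤ O.card ∧
      (∀ w' ∈ O, ∃ A : SpecialLinearGroup (Fin (k + 1 + 1 + 2)) F, act A.1 w = w') ∧
      ∃ (A : SpecialLinearGroup (Fin (k + 1 + 1 + 2)) F) (i j : Fin (k + 1 + 1)),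
        PlusAlt.row (act A.1 w) = Pi.single 0 1 ∧ mat (act A.1 w) i.succ.succ j.succ.succ ≠ 0 := by
  classical
  obtain ⟨A₀, hA₀⟩ := exists_normal hw0
  obtain ⟨w₁, hw₁⟩ : ∃ w₁, w₁ = act A₀.1 w := ⟨_, rfl⟩
  rw [← hw₁] at hA₀
  have hrow : ∀ j : Fin (k + 1 + 1 + 1), mat w₁ 0 j.succ = (Pi.single (0 : Fin (k + 1 + 2)) (1 : F) : Fin (k + 1 + 2) → F) j := fun j => by
    rw [← row_eq_mat, hA₀]
  obtain ⟨i₀, j₀, hne⟩ : ∃ i j : Fin (k + 1 + 1), mat w₁ i.succ.succ j.succ.succ ≠ 0 := by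
    by_contra! hall
    have hmem : w₁ ∈ wedges (k + 1 + 1 + 2) F := by
      refine mem_wedges.2 ⟨fun h => ?_, fun i => mat w₁ i 1, ev 1, ?_⟩
      · have := hrow 0
        simp [h, mat_zero] at this
      · have hns : ∀ a : Fin (k + 1 + 1), a.succ.succ ≠ (1 : Fin (k + 1 + 1 + 2)) := fun a h => by
          rw [← Fin.succ_zero_eq_one, Fin.succ_inj] at h
          exact Fin.succ_ne_zero a h
        have hm01 : mat w₁ 0 1 = 1 := by
          rw [← Fin.succ_zero_eq_one, hrow, Pi.single_eq_same]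
        have hm0 : ∀ a : Fin (k + 1 + 1), mat w₁ 0 a.succ.succ = 0 := fun a => by
          rw [hrow, Pi.single_eq_of_ne (Fin.succ_ne_zero a)]
        rw [← upper_mat w₁]
        refine congrArg upper (Matrix.ext fun i j => ?_)
        rw [upper_mat, wedge_apply]
        simp only [ev, Pi.single_apply]
        refine Fin.cases ?_ (fun i => Fin.cases ?_ (fun i => ?_) i) i <;>
          refine Fin.cases ?_ (fun j => Fin.cases ?_ (fun j => ?_) j) j <;>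
          (try simp only [Fin.succ_zero_eq_one]) <;>
          simp [hns, hm01, hm0, hall, mat_diag, mat_neg_apply w₁ 0]
        rw [mat_neg_apply w₁ 1, neg_neg]
    refine hw ?_
    rw [← (act_cancel (A := A₀.1) (by rw [A₀.2]; exact one_ne_zero) w).1, ← hw₁]
    exact act_mem_wedges (by rw [det_nonsing_inv, A₀.2, Ring.inverse_one]; exact one_ne_zero) hmem
  choose R hR using fun r : {r : Fin (k + 1 + 2) → F // r ≠ 0} => exists_row_move r.2
  let N : {r : Fin (k + 1 + 2) → F // r ≠ 0} × (Fin (k + 1 + 1) → F) →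
      SpecialLinearGroup (Fin (k + 1 + 1 + 2)) F := fun q => A₀ * tv (ev 0) (p2 q.2) * SLExact.blk (R q.1)
  have hw2 : ∀ q, act (N q).1 w = act (SLExact.blk (R q.1)).1 (act (tv (ev 0) (p2 q.2)).1 w₁) := fun q => by
    rw [hw₁, ← act_mul, ← act_mul, ← Matrix.mul_assoc]
    rfl
  have hcol : ∀ β (j : Fin (k + 1 + 1 + 2)), (tv (ev 0) (p2 β) : SpecialLinearGroup (Fin (k + 1 + 1 + 2)) F).1 *ᵥ ev j = ev j + p2 β j • ev 0 := by
    intro β j
    rw [tv_mulVec (p2_ev0 β), dot_ev]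
  have hrow2 : ∀ q : {r : Fin (k + 1 + 2) → F // r ≠ 0} × (Fin (k + 1 + 1) → F),
      PlusAlt.row (act (tv (ev 0) (p2 q.2)).1 w₁) = Pi.single 0 1 := fun q => funext fun j => by
    rw [row_eq_mat, act_entry, hcol, hcol]
    simp only [mulVec_add, mulVec_smul, dotProduct_add, dotProduct_smul, add_dotProduct, smul_dotProduct, ev_form,
      mat_diag, hrow, smul_eq_mul]
    rw [show p2 q.2 (0 : Fin (k + 1 + 1 + 2)) = 0 from rfl]
    ring
  refine ⟨Finset.univ.image fun q => act (N q).1 w, ?_, fun w' hw' => ?_, A₀, i₀, j₀, hw₁ ▸ hA₀, hw₁ ▸ hne⟩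
  · rw [Finset.card_image_of_injective]
    · rw [Finset.card_univ, Fintype.card_prod, Fintype.card_subtype_compl (fun r : Fin (k + 1 + 2) → F => r = 0),
        Fintype.card_subtype_eq, Fintype.card_fun, Fintype.card_fun, Fintype.card_fin, Fintype.card_fin]
    · intro q q' h
      simp only [hw2] at h
      have hr : q.1 = q'.1 := by
        refine Subtype.ext ?_
        rw [← hR q.1, ← hR q'.1, ← hrow2 q, ← row_act_blk, h, row_act_blk, hrow2 q']
        rw [hrow2 q]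
      obtain ⟨r, β⟩ := q
      obtain ⟨r', β'⟩ := q'
      obtain rfl : r = r' := hr
      have hcan := congrArg (act (SLExact.blk (R r)).1⁻¹) h
      rw [(act_cancel (by rw [(SLExact.blk (R r)).2]; exact one_ne_zero) _).1,
        (act_cancel (by rw [(SLExact.blk (R r)).2]; exact one_ne_zero) _).1] at hcan
      refine Prod.ext rfl (funext fun t => ?_)
      have h2 : mat (act (tv (ev 0) (p2 β)).1 w₁) t.succ.succ (0 : Fin (k + 1 + 2)).succ =
          mat (act (tv (ev 0) (p2 β')).1 w₁) t.succ.succ (0 : Fin (k + 1 + 2)).succ := by rw [hcan]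
      simp only [act_entry, hcol, mulVec_add, mulVec_smul, dotProduct_add, dotProduct_smul, add_dotProduct,
        smul_dotProduct, ev_form, mat_diag, smul_eq_mul] at h2
      rw [hrow, Pi.single_eq_same] at h2
      have h3 : ∀ γ : Fin (k + 1 + 1) → F, p2 γ t.succ.succ = γ t := fun γ => rfl
      have h4 : ∀ γ : Fin (k + 1 + 1) → F, p2 γ (0 : Fin (k + 1 + 2)).succ = 0 := fun γ => rfl
      rw [h4, h4, h3, h3] at h2
      simpa using h2
  · obtain ⟨q, -, rfl⟩ := Finset.mem_image.1 hw'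
    exact ⟨N q, rfl⟩

section Gram

variable {ι : Type} [Fintype ι] [DecidableEq ι]

/-- The functional of a vector. -/
def gram (Q : QuadraticForm F (ι → F)) (x : ι → F) : ι → F := fun i => QuadraticMap.polar Q (Pi.single i 1) x

omit [Fintype F] [DecidableEq F] in
theorem dot_gram (Q : QuadraticForm F (ι → F)) (y x : ι → F) : y ⬝ᵥ gram Q x = QuadraticMap.polar Q y x := by
  conv_rhs => rw [pi_eq_sum_univ' y, ← QuadraticMap.polarBilin_apply_apply, map_sum, LinearMap.sum_apply]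
  refine Finset.sum_congr rfl fun i _ => ?_
  rw [map_smul, LinearMap.smul_apply, smul_eq_mul, QuadraticMap.polarBilin_apply_apply]
  rfl

theorem gram_bijective {Q : QuadraticForm F (ι → F)} (hQ : PolarNondeg Q) : Function.Bijective (gram Q) := by
  refine Finite.injective_iff_bijective.1 fun x y h => sub_eq_zero.1 (hQ _ fun z => ?_)
  rw [QuadraticMap.polar_comm, QuadraticMap.polar_sub_right, ← dot_gram, ← dot_gram, h, sub_self]

end Gram

section Shift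

variable {V : Type w} [AddCommGroup V] [Module ℂ V] [FiniteDimensional ℂ V] {κ : Type} [Fintype κ] [DecidableEq κ]

/-- Projections permuted transitively have the same trace. -/
theorem trace_eq_card_mul (ψ : AddChar F ℂ) (hψ : ψ ≠ 1) (π : Multiplicative (κ → F) →* Module.End ℂ V)
    {p : Module.End ℂ V}
    (hT : ∀ s : κ → F, ∃ T U : Module.End ℂ V, U * T = 1 ∧ T * p = p * T ∧
      ∀ φ, T * (π (Multiplicative.ofAdd φ) * p) = ψ (φ ⬝ᵥ s) • (π (Multiplicative.ofAdd φ) * p * T)) :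
    LinearMap.trace ℂ V p = (Fintype.card (κ → F) : ℂ) * LinearMap.trace ℂ V (av ψ π 0 * p) := by
  have heq : ∀ s, LinearMap.trace ℂ V (av ψ π s * p) = LinearMap.trace ℂ V (av ψ π 0 * p) := by
    intro s
    obtain ⟨T, U, hUT, -, h⟩ := hT s
    refine trace_eq_of_conj hUT ?_
    rw [av_def, av_def, smul_mul_assoc, mul_smul_comm, smul_mul_assoc, smul_mul_assoc, Finset.sum_mul,
      Finset.sum_mul, Finset.mul_sum, Finset.sum_mul]
    congr 1
    refine Finset.sum_congr rfl fun φ _ => ?_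
    rw [smul_mul_assoc, mul_smul_comm, h, smul_smul, smul_mul_assoc, smul_mul_assoc, ← AddChar.map_add_eq_mul,
      neg_add_cancel, AddChar.map_zero_eq_one, dotProduct_zero, neg_zero, AddChar.map_zero_eq_one]
  conv_lhs => rw [← one_mul p, ← sum_av ψ π hψ, Finset.sum_mul, map_sum, Finset.sum_congr rfl fun s _ => heq s,
    Finset.sum_const, Finset.card_univ, nsmul_eq_mul]

end Shift

variable {J : Type} [Fintype J] {l : ℕ} (Q₀ : QuadraticForm F (J → F))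
variable {V : Type w} [AddCommGroup V] [Module ℂ V] [FiniteDimensional ℂ V]
variable (ρ : Representation ℂ (EG Q₀ l) V) (ψ : AddChar F ℂ)

/-- The weight projections. -/
def pr (ω : Pair (l + 1 + 2) → F) : Module.End ℂ V := av ψ (ρ.comp (zE Q₀)) ω

omit [DecidableEq F] [Fintype J] in
theorem inv_ρ (g : EG Q₀ l) : ρ g⁻¹ * ρ g = 1 := by rw [← map_mul, inv_mul_cancel, map_one]

omit [DecidableEq F] [Fintype J] in
theorem zE_comm_el (φ : Pair (l + 1 + 2) → F) (u : Fin (l + 1 + 2) → F) (w : J → F) :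
    zE Q₀ (Multiplicative.ofAdd φ) * el Q₀ (eA u) (eJ w) = el Q₀ (eA u) (eJ w) * zE Q₀ (Multiplicative.ofAdd φ) := by
  rw [el_conj Q₀ _ (quad_eA Q₀ u) (polar_eA_eJ Q₀ u w)]
  have h1 : ap Q₀ (zE Q₀ (Multiplicative.ofAdd φ)) (eA u) = eA u := by
    rw [eA, ap_zE, mulVec_zero, add_zero]
  have h2 : ap Q₀ (zE Q₀ (Multiplicative.ofAdd φ)) (eJ w) = eJ w := by
    rw [eJ, ap_zE, mulVec_zero, add_zero]
  rw [h1, h2]

theorem el_pr (u : Fin (l + 1 + 2) → F) (w : J → F) (ω : Pair (l + 1 + 2) → F) :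
    ρ (el Q₀ (eA u) (eJ w)) * pr Q₀ ρ ψ ω = pr Q₀ ρ ψ ω * ρ (el Q₀ (eA u) (eJ w)) := by
  refine commute_av ψ _ (fun φ => ?_) ω
  show ρ _ * ρ _ = ρ _ * ρ _
  rw [← map_mul, ← map_mul, zE_comm_el]

/-- The commutation of two radical elements on a weight. -/
theorem el_swap_pr (u u' : Fin (l + 1 + 2) → F) (w v : J → F) (ω : Pair (l + 1 + 2) → F) :
    ρ (el Q₀ (eA u) (eJ w)) * (ρ (el Q₀ (eA u') (eJ v)) * pr Q₀ ρ ψ ω) =
      ψ (-(QuadraticMap.polar Q₀ v w * (u ⬝ᵥ (mat ω *ᵥ u')))) •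
        (ρ (el Q₀ (eA u') (eJ v)) * pr Q₀ ρ ψ ω * ρ (el Q₀ (eA u) (eJ w))) := by
  rw [← mul_assoc, ← map_mul, el_eJ_comm, map_mul, map_mul, mul_assoc, el_pr, ← mul_assoc, mul_assoc (ρ (zE Q₀ _)),
    el_pr, ← mul_assoc, show ρ (zE Q₀ (Multiplicative.ofAdd (upper (wedge ((-QuadraticMap.polar Q₀ v w) • u) u')))) *
      pr Q₀ ρ ψ ω = (ρ.comp (zE Q₀)) (Multiplicative.ofAdd (upper (wedge ((-QuadraticMap.polar Q₀ v w) • u) u'))) *
      av ψ (ρ.comp (zE Q₀)) ω from rfl, apply_mul_av, dot_upper_wedge, smul_dotProduct, smul_eq_mul, neg_mul,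
    smul_mul_assoc, smul_mul_assoc]
  rfl

/-- The representation of one family of radical elements. -/
def jRep (u : Fin (l + 1 + 2) → F) : Multiplicative (J → F) →* Module.End ℂ V where
  toFun v := ρ (el Q₀ (eA u) (eJ v.toAdd))
  map_one' := by
    have h : (eJ (1 : Multiplicative (J → F)).toAdd : Vc F l J) = 0 := by
      funext i; rcases i with (i | i) | i <;> rfl
    rw [h, el_zero Q₀ (quad_eA Q₀ u), map_one]
  map_mul' v v' := by
    rw [← map_mul, el_mul Q₀ (quad_eA Q₀ u) (polar_eA_eJ Q₀ _ _) (polar_eA_eJ Q₀ _ _), ← eJ_add]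
    rfl

variable (h0 : PolarNondeg Q₀)

include h0 in
theorem trace_split [DecidableEq J] (hψ : ψ ≠ 1) (ω : Pair (l + 1 + 2) → F) {u u' : Fin (l + 1 + 2) → F}
    (hne : u ⬝ᵥ (mat ω *ᵥ u') ≠ 0) {p : Module.End ℂ V} (hp : p * pr Q₀ ρ ψ ω = p)
    (hp' : pr Q₀ ρ ψ ω * p = p)
    (hpu : ∀ w, ρ (el Q₀ (eA u) (eJ w)) * p = p * ρ (el Q₀ (eA u) (eJ w))) :
    LinearMap.trace ℂ V p = (Fintype.card (J → F) : ℂ) * LinearMap.trace ℂ V (av ψ (jRep Q₀ ρ u') 0 * p) := by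
  refine trace_eq_card_mul ψ hψ _ fun s => ?_
  obtain ⟨w, hw⟩ := (gram_bijective h0).2 ((-(u ⬝ᵥ (mat ω *ᵥ u'))⁻¹) • s)
  refine ⟨ρ (el Q₀ (eA u) (eJ w)), ρ (el Q₀ (eA u) (eJ w))⁻¹, inv_ρ Q₀ ρ _, hpu w, fun v => ?_⟩
  show ρ _ * (ρ (el Q₀ (eA u') (eJ v)) * p) = _ • (ρ (el Q₀ (eA u') (eJ v)) * p * ρ _)
  conv_lhs => rw [← hp', ← mul_assoc (ρ (el Q₀ (eA u') (eJ v))), ← mul_assoc, el_swap_pr, smul_mul_assoc]
  rw [mul_assoc _ (ρ (el Q₀ (eA u) (eJ w))), hpu, ← mul_assoc, mul_assoc _ (pr Q₀ ρ ψ ω), hp']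
  congr 2
  rw [← dot_gram, hw, dotProduct_smul, smul_eq_mul, neg_mul, neg_mul, neg_neg, mul_comm _ (v ⬝ᵥ s), mul_assoc,
    inv_mul_cancel₀ hne, mul_one]

theorem pr_idem (hψ : ψ ≠ 1) (ω : Pair (l + 1 + 2) → F) : pr Q₀ ρ ψ ω * pr Q₀ ρ ψ ω = pr Q₀ ρ ψ ω :=
  av_idem ψ _ hψ ω

include h0 in
/-- Every non-zero weight has multiplicity divisible by the size of the middle space. -/
theorem exists_mult (hψ : ψ ≠ 1) {ω : Pair (l + 1 + 2) → F} (hω : ω ≠ 0) :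
    ∃ e : ℕ, LinearMap.trace ℂ V (pr Q₀ ρ ψ ω) = ((Fintype.card F ^ Fintype.card J * e : ℕ) : ℂ) := by
  classical
  obtain ⟨⟨⟨i, j⟩, hij⟩, hp⟩ := Function.ne_iff.1 hω
  have hne : (ev i : Fin (l + 1 + 2) → F) ⬝ᵥ (mat ω *ᵥ ev j) ≠ 0 := by
    rw [ev_form]
    rw [← upper_mat ω] at hp
    exact hp
  have h := trace_split Q₀ ρ ψ h0 hψ ω hne (p := pr Q₀ ρ ψ ω) (pr_idem Q₀ ρ ψ hψ ω) (pr_idem Q₀ ρ ψ hψ ω)
    fun w => el_pr Q₀ ρ ψ _ w ω
  have hc : av ψ (jRep Q₀ ρ (ev j)) 0 * pr Q₀ ρ ψ ω = pr Q₀ ρ ψ ω * av ψ (jRep Q₀ ρ (ev j)) 0 :=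
    (commute_av ψ _ (fun v => (el_pr Q₀ ρ ψ _ v ω).symm) 0).symm
  obtain ⟨e, he, -⟩ := exists_trace_nat (p := av ψ (jRep Q₀ ρ (ev j)) 0 * pr Q₀ ρ ψ ω) (by
    rw [mul_assoc, ← mul_assoc (pr Q₀ ρ ψ ω), ← hc, mul_assoc, pr_idem Q₀ ρ ψ hψ, ← mul_assoc, av_idem ψ _ hψ])
  exact ⟨e, by rw [h, he, Fintype.card_fun, Nat.cast_mul]⟩

include h0 in
/-- A form of rank at least four in normal position has a multiplicity divisible by the square. -/
theorem exists_mult_sq {k : ℕ} (ρ : Representation ℂ (EG Q₀ (k + 1)) V) (hψ : ψ ≠ 1)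
    {ω : Pair (k + 1 + 1 + 2) → F} (hrow : PlusAlt.row ω = Pi.single 0 1) {i j : Fin (k + 1 + 1)}
    (hne : mat ω i.succ.succ j.succ.succ ≠ 0) :
    ∃ e : ℕ, LinearMap.trace ℂ V (pr Q₀ ρ ψ ω) =
      ((Fintype.card F ^ Fintype.card J * (Fintype.card F ^ Fintype.card J * e) : ℕ) : ℂ) := by
  classical
  obtain ⟨P, hP⟩ : ∃ P, P = pr Q₀ ρ ψ ω := ⟨_, rfl⟩
  have hPP : P * P = P := hP ▸ pr_idem Q₀ ρ ψ hψ ω
  have h0j : ∀ t : Fin (k + 1 + 2), mat ω 0 t.succ = (Pi.single 0 1 : Fin (k + 1 + 2) → F) t := fun t => by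
    rw [← row_eq_mat, hrow]
  have h01 : mat ω 0 1 = 1 := by rw [← Fin.succ_zero_eq_one, h0j, Pi.single_eq_same]
  obtain ⟨u2, hu2⟩ : ∃ u : Fin (k + 1 + 1 + 2) → F, u = ev j.succ.succ + mat ω 1 j.succ.succ • ev 0 := ⟨_, rfl⟩
  obtain ⟨u3, hu3⟩ : ∃ u : Fin (k + 1 + 1 + 2) → F, u = ev i.succ.succ + (-mat ω i.succ.succ 1) • ev 0 := ⟨_, rfl⟩
  have h12 : (ev 1 : Fin (k + 1 + 1 + 2) → F) ⬝ᵥ (mat ω *ᵥ u2) = 0 := by
    rw [hu2, mulVec_add, mulVec_smul, dotProduct_add, dotProduct_smul, ev_form, ev_form, mat_neg_apply ω 0 1, h01]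
    simp
  have h31 : u3 ⬝ᵥ (mat ω *ᵥ ev 1) = 0 := by
    rw [hu3, add_dotProduct, smul_dotProduct, ev_form, ev_form, h01]
    simp
  have h32 : u3 ⬝ᵥ (mat ω *ᵥ u2) ≠ 0 := by
    rw [hu3, hu2, mulVec_add, mulVec_smul, add_dotProduct, smul_dotProduct, dotProduct_add, dotProduct_add,
      dotProduct_smul, dotProduct_smul, ev_form, ev_form, ev_form, ev_form, mat_diag, mat_neg_apply ω 0 i.succ.succ,
      h0j, h0j, Pi.single_eq_of_ne (Fin.succ_ne_zero i), Pi.single_eq_of_ne (Fin.succ_ne_zero j)]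
    simpa using hne
  have hne0 : (ev 0 : Fin (k + 1 + 1 + 2) → F) ⬝ᵥ (mat ω *ᵥ ev 1) ≠ 0 := by
    rw [ev_form, h01]; exact one_ne_zero
  have h := trace_split Q₀ ρ ψ h0 hψ ω hne0 (p := P) (hP ▸ hPP) (hP ▸ hPP) fun w => hP ▸ el_pr Q₀ ρ ψ _ w ω
  obtain ⟨A, hA⟩ : ∃ A, A = av ψ (jRep Q₀ ρ (ev (1 : Fin (k + 1 + 1 + 2)))) 0 := ⟨_, rfl⟩
  rw [← hA] at h
  have hAP : A * P = P * A := by
    rw [hA, hP]
    exact (commute_av ψ _ (fun v => (el_pr Q₀ ρ ψ _ v ω).symm) 0).symm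
  have hcomm : ∀ u : Fin (k + 1 + 1 + 2) → F, u ⬝ᵥ (mat ω *ᵥ ev 1) = 0 → ∀ w,
      ρ (el Q₀ (eA u) (eJ w)) * (A * P) = A * P * ρ (el Q₀ (eA u) (eJ w)) := by
    intro u hu w
    rw [hA, hP, av_def, smul_mul_assoc, mul_smul_comm, smul_mul_assoc, Finset.sum_mul, Finset.mul_sum, Finset.sum_mul]
    congr 1
    refine Finset.sum_congr rfl fun v _ => ?_
    rw [smul_mul_assoc, mul_smul_comm, smul_mul_assoc]
    congr 1
    show ρ _ * (ρ _ * _) = ρ _ * _ * ρ _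
    rw [el_swap_pr, hu, mul_zero, neg_zero, AddChar.map_zero_eq_one, one_smul]
  have hp1 : A * P * pr Q₀ ρ ψ ω = A * P := by rw [← hP, mul_assoc, hPP]
  have hp2 : pr Q₀ ρ ψ ω * (A * P) = A * P := by rw [← hP, ← mul_assoc, ← hAP, mul_assoc, hPP]
  have h' := trace_split Q₀ ρ ψ h0 hψ ω h32 hp1 hp2 (hcomm u3 h31)
  have h21 : u2 ⬝ᵥ (mat ω *ᵥ ev 1) = 0 := by
    rw [dotProduct_mulVec, ← mulVec_transpose, mat_transpose, neg_mulVec, neg_dotProduct, dotProduct_comm, h12,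
      neg_zero]
  have hid : A * P * (A * P) = A * P := by
    rw [mul_assoc, ← mul_assoc P, ← hAP, mul_assoc, hPP, ← mul_assoc, hA, av_idem ψ _ hψ]
  have hB : av ψ (jRep Q₀ ρ u2) 0 * (A * P) = A * P * av ψ (jRep Q₀ ρ u2) 0 :=
    (commute_av ψ _ (fun v => (hcomm u2 h21 v).symm) 0).symm
  obtain ⟨e, he, -⟩ := exists_trace_nat (p := av ψ (jRep Q₀ ρ u2) 0 * (A * P)) (by
    rw [mul_assoc, ← mul_assoc (A * P), ← hB, mul_assoc, hid, ← mul_assoc, av_idem ψ _ hψ])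
  exact ⟨e, by rw [← hP, h, h', he, Fintype.card_fun, Nat.cast_mul, Nat.cast_mul]⟩

include h0 in
theorem move_pr (A : SpecialLinearGroup (Fin (l + 1 + 2)) F) (w w' : Pair (l + 1 + 2) → F)
    (hw : act A.1 w' = w) : ρ (levE Q₀ h0 A) * pr Q₀ ρ ψ w = pr Q₀ ρ ψ w' * ρ (levE Q₀ h0 A) := by
  have hdet : A.1ᵀ.det ≠ 0 := by rw [det_transpose, A.2]; exact one_ne_zero
  refine move_av ψ _ ⟨act A.1ᵀ, act A.1ᵀ⁻¹, fun φ => (act_cancel hdet φ).1, fun φ => (act_cancel hdet φ).2⟩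
    (fun φ => ?_) fun φ => ?_
  · show ρ _ * ρ (zE Q₀ _) = ρ (zE Q₀ _) * ρ _
    rw [← map_mul, ← map_mul, levE_conj_zE]
    rfl
  · show act A.1ᵀ φ ⬝ᵥ w' = φ ⬝ᵥ w
    rw [act_dot, hw]

theorem wedge_trans {w : Pair (l + 1 + 2) → F} (hw : w ∈ wedges (l + 1 + 2) F) :
    ∃ A : SpecialLinearGroup (Fin (l + 1 + 2)) F, act A.1 (upper (wedge (ev 0) (ev 1))) = w :=
  wedges_transitive (k := l) hw

omit [Fintype F] [DecidableEq F] [Fintype J] in
theorem zE_injective : Function.Injective (zE (l := l) Q₀) := by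
  intro φ χ h
  refine Multiplicative.toAdd.injective ?_
  funext p
  have h1 := congrArg (fun g : EG Q₀ l => ap Q₀ g (mk 0 (ev p.1.2) 0)) h
  change ap Q₀ (zE Q₀ (Multiplicative.ofAdd φ.toAdd)) _ = ap Q₀ (zE Q₀ (Multiplicative.ofAdd χ.toAdd)) _ at h1
  rw [ap_zE, ap_zE] at h1
  have h2 := congrFun (mk_inj h1).1 p.1.1
  rw [zero_add, zero_add, ev, mulVec_single_one, mulVec_single_one] at h2
  rw [← upper_mat φ.toAdd, ← upper_mat χ.toAdd]
  exact h2

include h0 in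
/-- The translations act non-trivially in a non-trivial representation. -/
theorem zE_ne_one (hρ : ρ ≠ 1) : ρ.comp (zE Q₀) ≠ 1 := by
  classical
  intro h
  haveI := isSimpleGroup_eichGroup (QF Q₀ l) (nondeg Q₀ h0 l) dim_le
  let N := MonoidHom.ker ρ
  let π := QuotientGroup.mk' (Subgroup.center (EG Q₀ l))
  haveI hNn : (N.map π).Normal := (MonoidHom.normal_ker ρ).map π (QuotientGroup.mk'_surjective _)
  rcases hNn.eq_bot_or_eq_top with hb | ht
  · obtain ⟨u₀, hu₀⟩ : ∃ u₀, u₀ = upper (wedge (ev 0) (ev 1) : Matrix (Fin (l + 1 + 2)) (Fin (l + 1 + 2)) F) :=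
      ⟨_, rfl⟩
    have hm : zE Q₀ (Multiplicative.ofAdd u₀) ∈ N := DFunLike.congr_fun h (Multiplicative.ofAdd u₀)
    have hc : zE Q₀ (Multiplicative.ofAdd u₀) ∈ Subgroup.center (EG Q₀ l) := by
      have := Subgroup.mem_map_of_mem π hm
      rw [hb, Subgroup.mem_bot] at this
      exact (QuotientGroup.eq_one_iff _).1 this
    obtain ⟨t, ht2⟩ : ∃ t : Fin (l + 1 + 2), t = (0 : Fin (l + 1)).succ.succ := ⟨_, rfl⟩
    have ht0 : t ≠ 0 := by rw [ht2]; exact Fin.succ_ne_zero _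
    have ht1 : t ≠ 1 := by
      rw [ht2, ← Fin.succ_zero_eq_one, Ne, Fin.succ_inj]; exact Fin.succ_ne_zero _
    obtain ⟨w, hw⟩ : ∃ w, w = upper (wedge (ev 0) (ev t) : Matrix (Fin (l + 1 + 2)) (Fin (l + 1 + 2)) F) := ⟨_, rfl⟩
    have ht0' : (0 : Fin (l + 1 + 2)) < t := Fin.pos_iff_ne_zero.2 ht0
    have hwm : w ∈ wedges (l + 1 + 2) F := by
      refine mem_wedges.2 ⟨fun h0 => ?_, _, _, hw.symm⟩
      have := congrFun h0 ⟨(0, t), ht0'⟩
      simp [hw, upper, wedge_apply, ev, ht0, ht0.symm] at this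
    obtain ⟨A, hA⟩ := wedge_trans hwm
    obtain ⟨B, hB⟩ : ∃ B : SpecialLinearGroup (Fin (l + 1 + 2)) F, B.1 = A.1ᵀ :=
      ⟨⟨A.1ᵀ, by rw [det_transpose]; exact A.2⟩, rfl⟩
    have hcon := levE_conj_zE Q₀ h0 B u₀
    rw [Subgroup.mem_center_iff.1 hc, hB, transpose_transpose, hu₀, hA, mul_left_inj] at hcon
    have := congrFun (Multiplicative.ofAdd.injective (zE_injective Q₀ hcon)) ⟨(0, t), ht0'⟩
    simp [hw, upper, wedge_apply, ev, ht0, ht0.symm, ht1, ht1.symm] at this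
  · have key : ∀ g, ∃ z ∈ Subgroup.center (EG Q₀ l), ρ g = ρ z := fun g => by
      have hm : π g ∈ N.map π := by rw [ht]; trivial
      obtain ⟨m, hm, hmg⟩ := hm
      refine ⟨m⁻¹ * g, ?_, ?_⟩
      · exact (QuotientGroup.eq (s := Subgroup.center (EG Q₀ l))).1 hmg
      · rw [map_mul, show ρ m⁻¹ = 1 from N.inv_mem hm, one_mul]
    have hperf : commutator (EG Q₀ l) = ⊤ := by
      apply Subgroup.map_injective (EG Q₀ l).subtype_injective
      rw [commutator_def, Subgroup.map_commutator, ← MonoidHom.range_eq_map, Subgroup.range_subtype,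
        eichGroup_perfect (QF Q₀ l) (nondeg Q₀ h0 l) dim_le]
    refine hρ (MonoidHom.ext fun g => ?_)
    have hker : commutator (EG Q₀ l) ≤ N := by
      rw [commutator_def, Subgroup.commutator_le]
      intro a _ b _
      obtain ⟨z, hz, e⟩ := key a
      have hab : ρ a * ρ b = ρ b * ρ a := by rw [e, ← map_mul, ← map_mul, Subgroup.mem_center_iff.1 hz b]
      show ρ ⁅a, b⁆ = 1
      rw [commutatorElement_def, map_mul, map_mul, map_mul, hab, mul_assoc (ρ b) (ρ a), ← map_mul ρ a a⁻¹,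
        mul_inv_cancel, map_one, mul_one, ← map_mul, mul_inv_cancel, map_one]
    exact hker (hperf ▸ Subgroup.mem_top g)

include h0 in
/-- The consequences of a small degree. -/
theorem small_data [Nonempty J] (hψ : ψ ≠ 1) (hρ : ρ ≠ 1)
    (hsmall : ((Fintype.card F : ℤ) ^ 2 - 1) * Module.finrank ℂ V <
      (Fintype.card F : ℤ) ^ Fintype.card J * ((Fintype.card F : ℤ) ^ (l + 1 + 2) - 1) *
          ((Fintype.card F : ℤ) ^ (l + 1 + 1) - 1) +
        ((Fintype.card F : ℤ) + 1) * ((Fintype.card F : ℤ) ^ (l + 1 + 2) - 1)) :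
    (∀ w, w ≠ 0 → w ∉ wedges (l + 1 + 2) F → pr Q₀ ρ ψ w = 0) ∧
      (∀ w ∈ wedges (l + 1 + 2) F,
        Module.finrank ℂ (LinearMap.range (pr Q₀ ρ ψ w)) = Fintype.card F ^ Fintype.card J) ∧
      Fintype.card F ^ Fintype.card J * (wedges (l + 1 + 2) F).card +
        Module.finrank ℂ (LinearMap.range (pr Q₀ ρ ψ 0)) ≤ Module.finrank ℂ V ∧
      ((Fintype.card F : ℤ) - 1) * Module.finrank ℂ (LinearMap.range (pr Q₀ ρ ψ 0)) <
        (Fintype.card F : ℤ) ^ (l + 1 + 2) - 1 := by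
  classical
  have hidem : ∀ w, pr Q₀ ρ ψ w * pr Q₀ ρ ψ w = pr Q₀ ρ ψ w := pr_idem Q₀ ρ ψ hψ
  obtain ⟨d, hd⟩ : ∃ d : (Pair (l + 1 + 2) → F) → ℕ, ∀ w,
      LinearMap.trace ℂ V (pr Q₀ ρ ψ w) = (d w : ℂ) ∧ Module.finrank ℂ (LinearMap.range (pr Q₀ ρ ψ w)) = d w :=
    ⟨fun w => (exists_trace_nat (hidem w)).choose, fun w => (exists_trace_nat (hidem w)).choose_spec⟩
  have hsum : ∑ w, d w = Module.finrank ℂ V := by
    have h : LinearMap.trace ℂ V (∑ w, pr Q₀ ρ ψ w) = LinearMap.trace ℂ V 1 :=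
      congrArg (LinearMap.trace ℂ V) (sum_av ψ (ρ.comp (zE Q₀)) hψ)
    rw [map_sum, LinearMap.trace_one, Finset.sum_congr rfl (fun w _ => (hd w).1), ← Nat.cast_sum, Nat.cast_inj] at h
    exact h
  have hmove : ∀ (A : SpecialLinearGroup (Fin (l + 1 + 2)) F) w, d (act A.1 w) = d w := fun A w => by
    have := trace_eq_of_conj (inv_ρ Q₀ ρ _) (move_pr Q₀ ρ ψ h0 A _ w rfl)
    rw [(hd _).1, (hd _).1, Nat.cast_inj] at this
    exact this
  obtain ⟨Q, hQ⟩ : ∃ Q : ℤ, Q = (Fintype.card F : ℤ) := ⟨_, rfl⟩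
  have hQ2 : 2 ≤ Q := by rw [hQ]; exact_mod_cast Fintype.one_lt_card
  obtain ⟨W, hW⟩ : ∃ W : ℤ, W = Q ^ Fintype.card J := ⟨_, rfl⟩
  have hWQ : Q ≤ W := by rw [hW]; exact le_self_pow₀ (by omega) Fintype.card_ne_zero
  obtain ⟨R, hR⟩ : ∃ R : ℤ, R = Q ^ (l + 1 + 1) := ⟨_, rfl⟩
  rw [← hQ, ← hW, show Q ^ (l + 1 + 2) = Q * R by rw [hR]; ring, ← hR] at hsmall
  rw [← hQ, show Q ^ (l + 1 + 2) = Q * R by rw [hR]; ring]
  have hRQ : Q * Q ≤ R := by
    rw [hR, show Q * Q = Q ^ 2 by ring]; exact pow_le_pow_right₀ (by omega) (by omega)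
  have hbig : ∀ w, w ≠ 0 → w ∉ wedges (l + 1 + 2) F → d w = 0 := by
    intro w hw0 hw
    obtain rfl | ⟨k, rfl⟩ : l = 0 ∨ ∃ k, l = k + 1 := by
      rcases l with - | k
      · exact Or.inl rfl
      · exact Or.inr ⟨k, rfl⟩
    · exact absurd (mem_wedges_three hw0) hw
    by_contra hne
    obtain ⟨O, hO, hOmem, A, i, j, hrow, hij⟩ := exists_orbit hw0 hw
    obtain ⟨e, he⟩ := exists_mult_sq Q₀ ψ h0 ρ hψ hrow hij
    rw [(hd _).1, Nat.cast_inj, hmove] at he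
    have he1 : e ≠ 0 := fun h => hne (by rw [he, h, mul_zero, mul_zero])
    have h1 : O.card * d w ≤ Module.finrank ℂ V := by
      rw [← hsum, ← smul_eq_mul, ← Finset.sum_const]
      refine (Finset.sum_congr rfl fun w' hw' => ?_).le.trans
        (Finset.sum_le_univ_sum_of_nonneg fun _ => Nat.zero_le _)
      obtain ⟨B, rfl⟩ := hOmem w' hw'
      exact (hmove B w).symm
    have hdw : Fintype.card F ^ Fintype.card J * Fintype.card F ^ Fintype.card J ≤ d w := by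
      rw [he]; exact Nat.mul_le_mul_left _ (Nat.le_mul_of_pos_right _ (Nat.pos_of_ne_zero he1))
    have h3 : ((((Fintype.card F ^ (k + 1 + 2) - 1) * Fintype.card F ^ (k + 1 + 1)) *
        (Fintype.card F ^ Fintype.card J * Fintype.card F ^ Fintype.card J) : ℕ) : ℤ) ≤
        (Module.finrank ℂ V : ℤ) := by exact_mod_cast (Nat.mul_le_mul hO hdw).trans h1
    push_cast [Nat.one_le_pow _ _ (Fintype.card_pos (α := F))] at h3
    obtain ⟨P, hP⟩ : ∃ P : ℤ, P = Q ^ (k + 1 + 1) := ⟨_, rfl⟩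
    have hRP : R = Q * P := by rw [hR, hP]; ring
    rw [← hQ, ← hW, ← hP, show Q ^ (k + 1 + 2) = R by rw [hR]] at h3
    have hP4 : Q * Q ≤ P := by
      rw [hP, show Q * Q = Q ^ 2 by ring]; exact pow_le_pow_right₀ (by omega) (by omega)
    have hR8 : 8 ≤ R := by rw [hRP]; nlinarith
    have hq2 : (0 : ℤ) ≤ Q ^ 2 - 1 := by nlinarith
    have h4 := mul_le_mul_of_nonneg_left h3 hq2
    have h5 : Q * P * (W * (Q ^ 2 - 1) * (R - 1)) ≤ P * W * (W * (Q ^ 2 - 1) * (R - 1)) := by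
      refine mul_le_mul_of_nonneg_right ?_ (mul_nonneg (mul_nonneg (by omega) hq2) (by omega))
      rw [mul_comm Q P]
      exact mul_le_mul_of_nonneg_left hWQ (by nlinarith)
    have h6 : (Q + 1) * (Q * R - 1) ≤ W * (R - 1) * (R * (Q ^ 2 - 1) - Q * R + 1) := by
      have e1 : (Q + 1) * (Q * R) ≤ Q * (R - 1) * (R * (Q ^ 2 - Q - 1)) := by
        have : Q + 1 ≤ (R - 1) * (Q ^ 2 - Q - 1) := by
          nlinarith [mul_nonneg (show (0 : ℤ) ≤ R - 8 by omega) (show (0 : ℤ) ≤ Q ^ 2 - Q - 1 by nlinarith)]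
        calc (Q + 1) * (Q * R) ≤ (R - 1) * (Q ^ 2 - Q - 1) * (Q * R) :=
              mul_le_mul_of_nonneg_right this (by nlinarith)
          _ = Q * (R - 1) * (R * (Q ^ 2 - Q - 1)) := by ring
      have e2 : Q * (R - 1) * (R * (Q ^ 2 - Q - 1)) ≤ W * (R - 1) * (R * (Q ^ 2 - 1) - Q * R + 1) := by
        refine mul_le_mul (mul_le_mul_of_nonneg_right hWQ (by omega)) (by nlinarith) ?_ (by nlinarith)
        exact mul_nonneg (by omega) (by nlinarith)
      nlinarith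
    rw [hRP] at h5 h6 hsmall h4
    nlinarith
  obtain ⟨w₀, hw₀, hd₀⟩ : ∃ w₀ ∈ wedges (l + 1 + 2) F, d w₀ ≠ 0 := by
    by_contra hall
    push Not at hall
    refine zE_ne_one Q₀ ρ h0 hρ (MonoidHom.ext fun φ => ?_)
    have hz : ∀ w, w ≠ 0 → pr Q₀ ρ ψ w = 0 := fun w hw => eq_zero_of_trace (hidem w) (by
      rw [(hd w).1, Nat.cast_eq_zero]
      by_cases hm : w ∈ wedges (l + 1 + 2) F
      · exact hall w hm
      · exact hbig w hw hm)
    have h1 : pr Q₀ ρ ψ 0 = 1 := by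
      refine Eq.trans ?_ (sum_av ψ (ρ.comp (zE (l := l) Q₀)) hψ)
      exact (Finset.sum_eq_single 0 (fun w _ hw => hz w hw) (fun h => absurd (Finset.mem_univ _) h)).symm
    have h3 := apply_mul_av ψ (ρ.comp (zE (l := l) Q₀)) φ.toAdd 0
    rw [dotProduct_zero, AddChar.map_zero_eq_one, one_smul, show av ψ _ 0 = pr Q₀ ρ ψ 0 from rfl, h1, mul_one] at h3
    exact h3
  have hd1 : ∀ w ∈ wedges (l + 1 + 2) F, d w = d w₀ := by
    intro w hw
    obtain ⟨A, hA⟩ := wedge_trans hw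
    obtain ⟨B, hB⟩ := wedge_trans hw₀
    rw [← hA, ← hB]
    exact (hmove A _).trans (hmove B _).symm
  have hle : d 0 + d w₀ * (wedges (l + 1 + 2) F).card ≤ Module.finrank ℂ V := by
    rw [← hsum, ← Finset.add_sum_erase _ _ (Finset.mem_univ (0 : Pair (l + 1 + 2) → F)), mul_comm,
      ← smul_eq_mul, ← Finset.sum_const]
    refine Nat.add_le_add_left (le_of_eq_of_le (Finset.sum_congr rfl fun w hw => (hd1 w hw).symm) ?_) _
    exact Finset.sum_le_sum_of_subset fun w hw => Finset.mem_erase.2 ⟨(mem_wedges.1 hw).1, Finset.mem_univ w⟩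
  obtain ⟨e, he⟩ := exists_mult Q₀ ρ ψ h0 hψ (mem_wedges.1 hw₀).1
  rw [(hd _).1, Nat.cast_inj] at he
  have hN := card_wedges (F := F) (l + 1 + 1)
  rw [← hQ, show (wedges (l + 1 + 1 + 1) F).card = (wedges (l + 1 + 2) F).card from rfl, ← hR,
    show Q ^ (l + 1 + 1 + 1) = Q * R by rw [hR]; ring] at hN
  have hle' : (d 0 : ℤ) + W * e * (wedges (l + 1 + 2) F).card ≤ Module.finrank ℂ V := by
    rw [hW, hQ]; rw [he] at hle; exact_mod_cast hle
  have hq2 : (0 : ℤ) ≤ Q ^ 2 - 1 := by nlinarith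
  have hl := mul_le_mul_of_nonneg_left hle' hq2
  have he0 : e ≠ 0 := fun h => hd₀ (by rw [he, h, mul_zero])
  have he1 : e = 1 := by
    by_contra hne
    have h2 : (2 : ℤ) ≤ e := by exact_mod_cast (by omega : 2 ≤ e)
    have e1 : (Q + 1) * (Q * R - 1) ≤ W * ((Q * R - 1) * (R - 1)) := by
      calc (Q + 1) * (Q * R - 1) ≤ W * (R - 1) * (Q * R - 1) :=
            mul_le_mul_of_nonneg_right (by nlinarith) (by nlinarith)
        _ = _ := by ring
    have e2 : W * ((Q * R - 1) * (R - 1)) * 2 ≤ (Q ^ 2 - 1) * (W * e * (wedges (l + 1 + 2) F).card) := by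
      calc W * ((Q * R - 1) * (R - 1)) * 2 ≤ W * ((Q ^ 2 - 1) * (wedges (l + 1 + 2) F).card) * 2 :=
            mul_le_mul_of_nonneg_right (mul_le_mul_of_nonneg_left hN (by omega)) (by omega)
        _ ≤ W * ((Q ^ 2 - 1) * (wedges (l + 1 + 2) F).card) * e :=
            mul_le_mul_of_nonneg_left h2 (mul_nonneg (by omega) (mul_nonneg hq2 (Nat.cast_nonneg _)))
        _ = _ := by ring
    have e3 : 0 ≤ (Q ^ 2 - 1) * (d 0 : ℤ) := mul_nonneg hq2 (Nat.cast_nonneg _)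
    linarith
  rw [he1, mul_one] at he
  refine ⟨fun w h0' h => eq_zero_of_trace (hidem w) (by rw [(hd w).1, hbig w h0' h, Nat.cast_zero]),
    fun w hw => by rw [(hd w).2, hd1 w hw, he], ?_, ?_⟩
  · rw [(hd 0).2, add_comm, ← he]; exact hle
  · rw [(hd 0).2]
    rw [he1, Nat.cast_one, mul_one] at hl
    have h5 : (Q + 1) * ((Q - 1) * d 0) < (Q + 1) * (Q * R - 1) := by nlinarith
    exact lt_of_mul_lt_mul_left h5 (by omega)

end

end CfsgLib.MinDegree.HypWts
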