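import Mathlib
import Cfsg.Agent.Lib.MinDegree.HypWeights
import Cfsg.Agent.Lib.MinDegree.SLExact

/-!
The vectors fixed by the translations in a small representation of a hyperbolic extension.
-/

namespace CfsgLib.MinDegree.HypFix

open Matrix CfsgLib.Classical SLAvg SLTv SLOps PlusAlt HypFrm HypWts

universe u w

noncomputable section

variable {F : Type u} [Field F]

/-- The two root groups of the first pair generate, in any rank. -/
theorem eichGroup_le_ext {J : Type} [Finite J] {Q₀ : QuadraticForm F (J → F)} (h0 : PolarNondeg Q₀) (m : ℕ)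
    {H : Subgroup (qAut (qExt (m + 1) Q₀))}
    (he : ∀ y, eich (qExt (m + 1) Q₀) (extSucc m HypSum.eH) (extSucc m (HypSum.iH y)) ∈ H)
    (hf : ∀ y, eich (qExt (m + 1) Q₀) (extSucc m HypSum.fH) (extSucc m (HypSum.iH y)) ∈ H) :
    eichGroup (qExt (m + 1) Q₀) ≤ H := by
  let e : ((F × F) × ((Fin m ⊕ Fin m) ⊕ J → F)) ≃ₗ[F] ((Fin (m + 1) ⊕ Fin (m + 1)) ⊕ J → F) := extSucc m
  let θ := qAutCongr e (qExt_extSucc m Q₀)
  have hp : ∀ x y, QuadraticMap.polar (qExt (m + 1) Q₀) (e x) (e y) =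
      QuadraticMap.polar (hypSum (qExt m Q₀)) x y := fun x y => by
    simp only [QuadraticMap.polar, ← map_add, e, qExt_extSucc]
  have hθ : ∀ u w, hypSum (qExt m Q₀) u = 0 → QuadraticMap.polar (hypSum (qExt m Q₀)) u w = 0 →
      θ (eich (hypSum (qExt m Q₀)) u w) = eich (qExt (m + 1) Q₀) (e u) (e w) := by
    intro u w hu h
    refine qAut_ext fun x => ?_
    obtain ⟨y, rfl⟩ := e.surjective x
    show e ((eich _ u w).1 (e.symm (e y))) = _
    rw [LinearEquiv.symm_apply_apply, eich_apply _ hu h,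
      eich_apply _ (show qExt (m + 1) Q₀ (e u) = 0 by rw [show e u = extSucc m u from rfl, qExt_extSucc, hu])
        (by rw [hp, h]), hp, hp,
      show qExt (m + 1) Q₀ (e w) = hypSum (qExt m Q₀) w from qExt_extSucc m Q₀ w, map_sub, map_add, map_smul, map_smul]
  have hle := HypSum.eichGroup_le (qExt m Q₀) (polarNondeg_qExt h0 m) (H := H.comap θ.toMonoidHom)
    (fun y => by
      rw [Subgroup.mem_comap]; show θ _ ∈ H
      rw [hθ _ _ (HypSum.quad_eH _) (by rw [HypSum.polar_eH]; rfl)]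
      exact he y)
    (fun y => by
      rw [Subgroup.mem_comap]; show θ _ ∈ H
      rw [hθ _ _ (HypSum.quad_fH _) (by rw [HypSum.polar_fH]; rfl)]
      exact hf y)
  refine (Subgroup.closure_le _).2 ?_
  rintro _ ⟨u, w, hu, h, rfl⟩
  obtain ⟨u', rfl⟩ := e.surjective u
  obtain ⟨w', rfl⟩ := e.surjective w
  rw [show qExt (m + 1) Q₀ (e u') = hypSum (qExt m Q₀) u' from qExt_extSucc m Q₀ u'] at hu
  rw [hp] at h
  rw [SetLike.mem_coe, ← hθ _ _ hu h]
  exact hle (eich_mem _ hu h)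

variable {J : Type} [Fintype J] {l : ℕ} (Q₀ : QuadraticForm F (J → F))
variable {V : Type w} [AddCommGroup V] [Module ℂ V]

omit [Fintype J] in
theorem fB_neg (a : Fin (l + 1 + 2) → F) : (fB (-a) : Vc F l J) = -fB a := by
  rw [← neg_one_smul F a, fB_smul, neg_one_smul]

omit [Fintype J] in
theorem eA_zero : (eA 0 : Vc F l J) = 0 := by
  funext i; rcases i with (i | i) | i <;> rfl

omit [Fintype J] in
theorem el_fB_comm (u u' : Fin (l + 1 + 2) → F) (w v : J → F) :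
    el Q₀ (fB u) (eJ w) * el Q₀ (fB u') (eJ v) =
      el Q₀ (fB u') (fB ((-QuadraticMap.polar Q₀ v w) • u)) *
        el Q₀ (fB u') (eJ v) * el Q₀ (fB u) (eJ w) := by
  rw [el_conj Q₀ _ (quad_fB Q₀ u') (polar_fB_eJ Q₀ u' v)]
  have e1 : ap Q₀ (el Q₀ (fB u) (eJ w)) (fB u') = fB u' := by
    rw [ap_el Q₀ (quad_fB Q₀ u) (polar_fB_eJ Q₀ u w), polar_fB_fB, polar_fB_eJ]
    simp
  have e2 : ap Q₀ (el Q₀ (fB u) (eJ w)) (eJ v) =
      fB ((-QuadraticMap.polar Q₀ v w) • u) + eJ v := by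
    rw [ap_el Q₀ (quad_fB Q₀ u) (polar_fB_eJ Q₀ u w)]
    simp only [fB, eJ, polar_mk, mk_add, mk_smul, mk_sub]
    simp
  rw [e1, e2, ← el_mul Q₀ (quad_fB Q₀ u') (polar_fB_fB Q₀ _ _) (polar_fB_eJ Q₀ _ _)]

variable [Fintype F] [DecidableEq F] [FiniteDimensional ℂ V]
variable (ρ : Representation ℂ (EG Q₀ l) V) (ψ : AddChar F ℂ) (h0 : PolarNondeg Q₀)

/-- Fixed by the translations. -/
def ZFix (v : V) : Prop := ∀ φ : Pair (l + 1 + 2) → F, ρ (zE Q₀ (Multiplicative.ofAdd φ)) v = v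

theorem zfix_iff (hψ : ψ ≠ 1) (v : V) : ZFix Q₀ ρ v ↔ pr Q₀ ρ ψ 0 v = v := by
  constructor
  · intro h
    have h' : ∀ φ, (ρ.comp (zE Q₀)) (Multiplicative.ofAdd φ) v = v := h
    rw [pr, av_zero, LinearMap.smul_apply, LinearMap.sum_apply, Finset.sum_congr rfl (fun φ _ => h' φ),
      Finset.sum_const, Finset.card_univ, ← Nat.cast_smul_eq_nsmul ℂ, smul_smul,
      inv_mul_cancel₀ (Nat.cast_ne_zero.2 Fintype.card_ne_zero), one_smul]
  · intro h φ
    have h1 := apply_mul_av ψ (ρ.comp (zE (l := l) Q₀)) φ 0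
    rw [dotProduct_zero, AddChar.map_zero_eq_one, one_smul] at h1
    have h2 := LinearMap.congr_fun h1 v
    rw [Module.End.mul_apply] at h2
    rw [show av ψ (ρ.comp (zE (l := l) Q₀)) 0 v = v from h] at h2
    exact h2

/-- The fixed space of the translations. -/
def fixC : Submodule ℂ V where
  carrier := {v | ZFix Q₀ ρ v}
  zero_mem' := fun φ => map_zero _
  add_mem' := fun {a b} ha hb φ => by rw [map_add, ha φ, hb φ]
  smul_mem' := fun c {a} ha φ => by rw [map_smul, ha φ]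

theorem finrank_fixC (hψ : ψ ≠ 1) :
    Module.finrank ℂ (fixC Q₀ ρ) = Module.finrank ℂ (LinearMap.range (pr Q₀ ρ ψ 0)) := by
  have e : fixC Q₀ ρ = LinearMap.range (pr Q₀ ρ ψ 0) := Submodule.ext fun v => by
    refine (zfix_iff Q₀ ρ ψ hψ v).trans ⟨fun h => ⟨v, h⟩, ?_⟩
    rintro ⟨x, rfl⟩
    exact LinearMap.congr_fun (pr_idem Q₀ ρ ψ hψ 0) x
  rw [e]

theorem exists_transpose_move {w w' : Fin (l + 1 + 2) → F} (hw : w ≠ 0) (hw' : w' ≠ 0) :
    ∃ A : SpecialLinearGroup (Fin (l + 1 + 2)) F, A.1ᵀ *ᵥ w = w' := by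
  have hext : ∀ x : Fin (l + 1 + 2) → F, x ≠ 0 → ∃ y, LinearIndependent F ![x, y] := by
    intro x hx
    obtain ⟨y, hy⟩ : ∃ y, ∀ s : F, s • x ≠ y := by
      by_contra! hc
      have h := finrank_le_one x hc
      rw [Module.finrank_fintype_fun_eq_card, Fintype.card_fin] at h
      omega
    exact ⟨y, (LinearIndependent.pair_iff' hx).2 hy⟩
  obtain ⟨y, hy⟩ := hext w hw
  obtain ⟨y', hy'⟩ := hext w' hw'
  obtain ⟨g, hg, -⟩ := exists_sl_pair (by simp) hy hy'
  exact ⟨⟨g.1ᵀ, by rw [det_transpose]; exact g.2⟩, by rw [transpose_transpose]; exact hg⟩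

/-- The hypothesis of a small degree. -/
def Small : Prop :=
  ((Fintype.card F : ℤ) ^ 2 - 1) * Module.finrank ℂ V <
    (Fintype.card F : ℤ) ^ Fintype.card J * ((Fintype.card F : ℤ) ^ (l + 1 + 2) - 1) *
        ((Fintype.card F : ℤ) ^ (l + 1 + 1) - 1) +
      ((Fintype.card F : ℤ) + 1) * ((Fintype.card F : ℤ) ^ (l + 1 + 2) - 1)

variable [Nonempty J]

include h0 in
/-- The whole radical fixes what the translations fix. -/
theorem radical_fixed (hρ : ρ ≠ 1) (hsmall : Small (V := V) (F := F) (J := J) (l := l)) {v : V}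
    (hv : ZFix Q₀ ρ v) (u : Fin (l + 1 + 2) → F) (w : J → F) : ρ (el Q₀ (eA u) (eJ w)) v = v := by
  classical
  obtain ⟨ψ, hψ⟩ := CfsgLib.MinDegree.exists_nontrivial_addChar (F := F) (K := ℂ)
    (Nat.cast_ne_zero.2 Fintype.card_ne_zero)
  obtain ⟨-, -, -, hc⟩ := small_data Q₀ ρ ψ h0 hψ hρ hsmall
  rw [← finrank_fixC Q₀ ρ ψ hψ] at hc
  let C := fixC Q₀ ρ
  have hinv : ∀ g : EG Q₀ l, (∀ φ, zE Q₀ (Multiplicative.ofAdd φ) * g = g * zE Q₀ (Multiplicative.ofAdd φ)) →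
      ∀ x ∈ C, ρ g x ∈ C := fun g hg x hx φ => by
    rw [← Module.End.mul_apply, ← map_mul, hg, map_mul, Module.End.mul_apply, hx φ]
  let τ : Multiplicative (Fin (l + 1 + 2) → F) →* Module.End ℂ C :=
    { toFun := fun a => (ρ (el Q₀ (eA a.toAdd) (eJ w))).restrict (hinv _ fun φ => zE_comm_el Q₀ φ _ w)
      map_one' := LinearMap.ext fun x => Subtype.ext (by
        show ρ (el Q₀ (eA 0) (eJ w)) x.1 = x.1
        rw [show (eA 0 : Vc F l J) = (0 : F) • eA (0 : Fin (l + 1 + 2) → F) by rw [zero_smul, eA_zero],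
          el_smul_left Q₀ (quad_eA Q₀ _) (polar_eA_eJ Q₀ _ w), zero_smul, el_zero Q₀ (quad_eA Q₀ _), map_one]
        rfl)
      map_mul' := fun a b => LinearMap.ext fun x => Subtype.ext (by
        show ρ (el Q₀ (eA (a.toAdd + b.toAdd)) (eJ w)) x.1 =
          ρ (el Q₀ (eA a.toAdd) (eJ w)) (ρ (el Q₀ (eA b.toAdd) (eJ w)) x.1)
        rw [el_eJ_add, map_mul, map_mul, Module.End.mul_apply, Module.End.mul_apply]
        exact hinv _ (fun φ => zE_comm_el Q₀ φ _ w) _ (hinv _ (fun φ => zE_comm_el Q₀ φ _ w) _ x.2) _) }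
  have hLC : ∀ A, ∀ x ∈ C, ρ (levE Q₀ h0 A) x ∈ C := fun A x hx φ => by
    have h := levE_conj_zE Q₀ h0 A (act ((A⁻¹).1ᵀ) φ)
    rw [← act_mul, ← transpose_mul, show A.1 * (A⁻¹).1 = 1 from congrArg Subtype.val (mul_inv_cancel A),
      transpose_one, act_one] at h
    rw [← Module.End.mul_apply, ← map_mul, ← h, map_mul, Module.End.mul_apply, hx]
  have hmove : ∀ (A : SpecialLinearGroup (Fin (l + 1 + 2)) F) (ω : Fin (l + 1 + 2) → F),
      LinearMap.trace ℂ C (av ψ τ (A.1ᵀ *ᵥ ω)) = LinearMap.trace ℂ C (av ψ τ ω) := by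
    intro A ω
    let T : Module.End ℂ C := (ρ (levE Q₀ h0 A)).restrict (hLC A)
    let U : Module.End ℂ C := (ρ (levE Q₀ h0 A⁻¹)).restrict (hLC A⁻¹)
    have hUT : U * T = 1 := LinearMap.ext fun x => Subtype.ext (by
      show ρ (levE Q₀ h0 A⁻¹) (ρ (levE Q₀ h0 A) x.1) = x.1
      rw [← Module.End.mul_apply, ← map_mul, ← map_mul, inv_mul_cancel, map_one, map_one, Module.End.one_apply])
    refine trace_eq_of_conj hUT (move_av ψ τ ⟨fun a => A.1 *ᵥ a, fun a => (A⁻¹).1 *ᵥ a, fun a => ?_, fun a => ?_⟩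
      (fun a => LinearMap.ext fun x => Subtype.ext ?_) fun a => ?_)
    · show (A⁻¹).1 *ᵥ (A.1 *ᵥ a) = a
      rw [mulVec_mulVec, show (A⁻¹).1 * A.1 = 1 from congrArg Subtype.val (inv_mul_cancel A), one_mulVec]
    · show A.1 *ᵥ ((A⁻¹).1 *ᵥ a) = a
      rw [mulVec_mulVec, show A.1 * (A⁻¹).1 = 1 from congrArg Subtype.val (mul_inv_cancel A), one_mulVec]
    · show ρ (levE Q₀ h0 A) (ρ (el Q₀ (eA a) (eJ w)) x.1) = ρ (el Q₀ (eA (A.1 *ᵥ a)) (eJ w)) (ρ (levE Q₀ h0 A) x.1)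
      rw [← Module.End.mul_apply, ← map_mul, levE_conj_eJ, map_mul, Module.End.mul_apply]
    · show (A.1 *ᵥ a) ⬝ᵥ ω = a ⬝ᵥ (A.1ᵀ *ᵥ ω)
      rw [dotProduct_mulVec, vecMul_transpose]
  have hall : ∀ ω : Fin (l + 1 + 2) → F, ω ≠ 0 → av ψ τ ω = 0 := by
    intro ω hω
    by_contra hne
    obtain ⟨d, hd, -⟩ := exists_trace_nat (av_idem ψ τ hψ ω)
    have hd0 : d ≠ 0 := fun h => hne (eq_zero_of_trace (av_idem ψ τ hψ ω) (by rw [hd, h, Nat.cast_zero]))
    obtain ⟨d', hd', -⟩ := exists_trace_nat (av_idem ψ τ hψ 0)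
    have hdim : Module.finrank ℂ C = d' + (Finset.univ.erase (0 : Fin (l + 1 + 2) → F)).card * d := by
      refine Nat.cast_injective (R := ℂ) ?_
      rw [← LinearMap.trace_one (R := ℂ) (M := C), ← sum_av ψ τ hψ, map_sum,
        ← Finset.add_sum_erase _ _ (Finset.mem_univ (0 : Fin (l + 1 + 2) → F)), hd',
        Finset.sum_congr rfl (fun x hx => ?_), Finset.sum_const, nsmul_eq_mul, Nat.cast_add, Nat.cast_mul]
      obtain ⟨A, hA⟩ := exists_transpose_move hω (Finset.ne_of_mem_erase hx)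
      rw [← hA, hmove, hd]
    rw [Finset.card_erase_of_mem (Finset.mem_univ _), Finset.card_univ, Fintype.card_fun, Fintype.card_fin] at hdim
    have hle : Fintype.card F ^ (l + 1 + 2) - 1 ≤ Module.finrank ℂ C := by
      rw [hdim]
      have := Nat.pos_of_ne_zero hd0
      nlinarith
    have h' : ((Fintype.card F ^ (l + 1 + 2) - 1 : ℕ) : ℤ) ≤ (Module.finrank ℂ C : ℤ) := by exact_mod_cast hle
    push_cast [Nat.one_le_pow _ _ (Fintype.card_pos (α := F))] at h'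
    have h2 : (2 : ℤ) ≤ Fintype.card F := by exact_mod_cast Fintype.one_lt_card
    nlinarith
  have h1 : av ψ τ 0 = 1 := by
    refine Eq.trans ?_ (sum_av ψ τ hψ)
    exact (Finset.sum_eq_single 0 (fun x _ hx => hall x hx) (fun h => absurd (Finset.mem_univ _) h)).symm
  have h3 := apply_mul_av ψ τ u 0
  rw [dotProduct_zero, AddChar.map_zero_eq_one, one_smul, h1, mul_one] at h3
  exact congrArg Subtype.val (LinearMap.congr_fun h3 ⟨v, hv⟩)

/-- The representation twisted by an exchange. -/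
def twR (j : Fin (l + 1 + 2)) : Representation ℂ (EG Q₀ l) V := ρ.comp (tE Q₀ j).toMonoidHom

theorem twR_ne_one (hρ : ρ ≠ 1) (j : Fin (l + 1 + 2)) : twR Q₀ ρ j ≠ 1 := fun h => hρ (MonoidHom.ext fun g => by
  have := DFunLike.congr_fun h (tE Q₀ j g)
  change ρ (tE Q₀ j (tE Q₀ j g)) = 1 at this
  rwa [tE_tE] at this)

include h0 in
/-- The exchanged radical, from Levi transvections at that coordinate. -/
theorem side_fixed (hρ : ρ ≠ 1) (hsmall : Small (V := V) (F := F) (J := J) (l := l)) {v : V}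
    (hv : ZFix Q₀ ρ v) (j : Fin (l + 1 + 2))
    (hL : ∀ a : Fin (l + 1 + 2) → F, a j = 0 → ρ (levE Q₀ h0 (tv a (ev j))) v = v) (w : J → F) :
    ρ (el Q₀ (fB (ev j)) (eJ w)) v = v := by
  classical
  have hZ : ZFix Q₀ (twR Q₀ ρ j) v := by
    intro φ
    show ρ (tE Q₀ j (zE Q₀ (Multiplicative.ofAdd φ))) v = v
    have hL' : ∀ (a : Fin (l + 1 + 2) → F) (c : F), a j = 0 → ρ (el Q₀ (eA a) (fB (c • ev j))) v = v := by
      intro a c ha
      have h := hL ((-c) • a) (by simp [ha])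
      rw [levE_tv Q₀ h0 (by rw [dotProduct_smul, dotProduct_comm, dot_ev, ha, smul_zero]), eA_smul,
        el_smul_left Q₀ (quad_eA Q₀ a) (by
          rw [polar_eA_fB, dotProduct_neg, dot_ev, ha, neg_zero]), ← fB_smul, smul_neg, neg_smul, neg_neg] at h
      exact h
    rw [← Finset.univ_sum_single φ]
    induction (Finset.univ : Finset (Pair (l + 1 + 2))) using Finset.induction with
    | empty => rw [Finset.sum_empty, ofAdd_zero, map_one, map_one, map_one, Module.End.one_apply]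
    | insert p s hp ih =>
      rw [Finset.sum_insert hp, ofAdd_add, map_mul, map_mul, map_mul, Module.End.mul_apply, ih, single_eq_wedge,
        ← el_eA_eA', tE_el Q₀ j (quad_eA Q₀ _) (polar_eA_eA Q₀ _ _)]
      obtain ⟨⟨i, k⟩, hik⟩ := p
      show ρ (el Q₀ ((sQ Q₀ j).1 (eA (ev k))) ((sQ Q₀ j).1 (eA (φ ⟨(i, k), hik⟩ • ev i)))) v = v
      rcases eq_or_ne k j with rfl | hk
      · rw [show (ev k : Fin (l + 1 + 2) → F) = (1 : F) • ev k from (one_smul F _).symm, sQ_eA_self, one_smul,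
          sQ_eA_off Q₀ k (by simp [ev, hik.ne]),
          el_swap Q₀ (quad_fB Q₀ _) (quad_eA Q₀ _) (by
            rw [QuadraticMap.polar_comm, polar_eA_fB, dot_ev]; simp [ev, hik.ne']),
          ← fB_neg, ← neg_one_smul F (ev k)]
        exact hL' _ _ (by simp [ev, hik.ne'])
      · rw [sQ_eA_off Q₀ j (by simp [ev, hk.symm] : (ev k : Fin (l + 1 + 2) → F) j = 0)]
        rcases eq_or_ne i j with rfl | hi
        · rw [sQ_eA_self]
          exact hL' _ _ (by simp [ev, hk.symm])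
        · rw [sQ_eA_off Q₀ j (by simp [ev, hi.symm] :
            (φ ⟨(i, k), hik⟩ • ev i : Fin (l + 1 + 2) → F) j = 0), el_eA_eA']
          exact hv _
  have h := radical_fixed Q₀ (twR Q₀ ρ j) h0 (twR_ne_one Q₀ ρ hρ j) hsmall hZ ((1 : F) • ev j) w
  change ρ (tE Q₀ j (el Q₀ _ _)) v = v at h
  rw [tE_el Q₀ j (quad_eA Q₀ _) (polar_eA_eJ Q₀ _ _), sQ_eA_self, one_smul, sQ_eJ] at h
  exact h

omit [Fintype F] [DecidableEq F] [FiniteDimensional ℂ V] [Nonempty J] in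
theorem fix_mul {v : V} {g h : EG Q₀ l} (hg : ρ g v = v) (hh : ρ h v = v) : ρ (g * h) v = v := by
  rw [map_mul, Module.End.mul_apply, hh, hg]

/-- The first root group of a coordinate. -/
theorem root_e {v : V} (hv : ZFix Q₀ ρ v) (i : Fin (l + 1 + 2))
    (hU : ∀ w, ρ (el Q₀ (eA (ev i)) (eJ w)) v = v)
    {a b : Fin (l + 1 + 2) → F} {w : J → F} (hb : b i = 0)
    (hL : ρ (levE Q₀ h0 (tv (ev i) (-b))) v = v) : ρ (el Q₀ (eA (ev i)) (mk a b w)) v = v := by
  have hp : QuadraticMap.polar (QF Q₀ l) (eA (ev i)) (fB b) = 0 := by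
    rw [polar_eA_fB, dotProduct_comm, dot_ev, hb]
  have e : mk a b w = eA a + (fB b + eJ w) := by simp [eA, fB, eJ, mk_add]
  have hp2 : QuadraticMap.polar (QF Q₀ l) (eA (ev i)) (fB b + eJ w) = 0 := by
    rw [QuadraticMap.polar_add_right, hp, polar_eA_eJ, add_zero]
  rw [e, ← el_mul Q₀ (quad_eA Q₀ _) (polar_eA_eA Q₀ _ _) hp2, ← el_mul Q₀ (quad_eA Q₀ _) hp (polar_eA_eJ Q₀ _ _)]
  refine fix_mul Q₀ ρ ?_ (fix_mul Q₀ ρ ?_ (hU w))
  · rw [el_eA_eA']; exact hv _
  · rw [levE_tv Q₀ h0 (by rw [neg_dotProduct, dot_ev, hb, neg_zero]), neg_neg] at hL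
    exact hL

include h0 in
/-- The second root group of a coordinate. -/
theorem root_f {v : V} (i : Fin (l + 1 + 2)) {a b : Fin (l + 1 + 2) → F} {w : J → F} (ha : a i = 0)
    (hF : ∀ j, (j = i ∨ b j ≠ 0) → ∀ w, ρ (el Q₀ (fB (ev j)) (eJ w)) v = v)
    (hL : ρ (levE Q₀ h0 (tv a (ev i))) v = v) : ρ (el Q₀ (fB (ev i)) (mk a b w)) v = v := by
  classical
  have hp : QuadraticMap.polar (QF Q₀ l) (fB (ev i)) (eA a) = 0 := by
    rw [QuadraticMap.polar_comm, polar_eA_fB, dot_ev, ha]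
  have hp' : ∀ c, QuadraticMap.polar (QF Q₀ l) (fB (ev i)) (fB c) = 0 := fun c => polar_fB_fB Q₀ _ c
  have hp2 : QuadraticMap.polar (QF Q₀ l) (fB (ev i)) (fB b + eJ w) = 0 := by
    rw [QuadraticMap.polar_add_right, hp', polar_fB_eJ, add_zero]
  have e : mk a b w = eA a + (fB b + eJ w) := by simp [eA, fB, eJ, mk_add]
  rw [e, ← el_mul Q₀ (quad_fB Q₀ _) hp hp2, ← el_mul Q₀ (quad_fB Q₀ _) (hp' b) (polar_fB_eJ Q₀ _ _)]
  refine fix_mul Q₀ ρ ?_ (fix_mul Q₀ ρ ?_ (hF i (Or.inl rfl) w))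
  · rw [el_swap Q₀ (quad_fB Q₀ _) (quad_eA Q₀ _) hp, ← fB_neg]
    rw [levE_tv Q₀ h0 (by rw [dotProduct_comm, dot_ev, ha])] at hL
    exact hL
  obtain ⟨x, y, hxy⟩ : ∃ x y : J → F, QuadraticMap.polar Q₀ x y ≠ 0 := by
    by_contra! hc
    obtain ⟨j⟩ := ‹Nonempty J›
    have h1 := h0 (Pi.single j 1) fun z => hc _ z
    simpa using congrFun h1 j
  suffices ∀ s : Finset (Fin (l + 1 + 2)), ρ (el Q₀ (fB (ev i)) (fB (∑ j ∈ s, b j • ev j))) v = v by
    have hb : b = ∑ j, b j • ev j := pi_eq_sum_univ' b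
    rw [hb]
    exact this _
  intro s
  induction s using Finset.induction with
  | empty =>
    rw [Finset.sum_empty, show (fB 0 : Vc F l J) = 0 from eA_zero, el_zero Q₀ (quad_fB Q₀ _), map_one,
      Module.End.one_apply]
  | insert j s hj ih =>
    rw [Finset.sum_insert hj, fB_add, ← el_mul Q₀ (quad_fB Q₀ _) (hp' _) (hp' _)]
    refine fix_mul Q₀ ρ ?_ ih
    rcases eq_or_ne (b j) 0 with hb | hb
    · rw [hb, zero_smul, show (fB 0 : Vc F l J) = 0 from eA_zero, el_zero Q₀ (quad_fB Q₀ _), map_one,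
        Module.End.one_apply]
    · obtain ⟨t, ht⟩ : ∃ t, t = -b j / QuadraticMap.polar Q₀ x y := ⟨_, rfl⟩
      have h := el_fB_comm Q₀ (ev j) (ev i) (t • y) x
      rw [show (-QuadraticMap.polar Q₀ x (t • y)) • (ev j : Fin (l + 1 + 2) → F) = b j • ev j by
        rw [QuadraticMap.polar_smul_right, smul_eq_mul, ht, div_mul_cancel₀ _ hxy, neg_neg]] at h
      have h1 := congrArg (fun g => ρ g v) h
      simp only [map_mul, Module.End.mul_apply] at h1
      rw [hF i (Or.inl rfl), hF j (Or.inr hb), hF i (Or.inl rfl)] at h1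
      exact h1.symm

include h0 in
/-- No non-zero fixed vector of the translations is fixed by the Levi subgroup. -/
theorem eq_zero_of_levi [ρ.IsIrreducible] (hρ : ρ ≠ 1) (hsmall : Small (V := V) (F := F) (J := J) (l := l)) {v : V}
    (hv : ZFix Q₀ ρ v) (hL : ∀ A, ρ (levE Q₀ h0 A) v = v) : v = 0 := by
  let K : Subgroup (EG Q₀ l) :=
    { carrier := {g | ρ g v = v}
      one_mem' := by simp
      mul_mem' := fun {a b} ha hb => fix_mul Q₀ ρ ha hb
      inv_mem' := fun {a} ha => by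
        show ρ a⁻¹ v = v
        conv_lhs => rw [← (ha : ρ a v = v)]
        rw [← Module.End.mul_apply, ← map_mul, inv_mul_cancel, map_one, Module.End.one_apply] }
  have hK : K = ⊤ := eq_top_of_roots Q₀ h0
    (fun y => root_e Q₀ ρ h0 hv 0 (fun w => radical_fixed Q₀ ρ h0 hρ hsmall hv _ w) (Fin.cons_zero _ _) (hL _))
    (fun y => root_f Q₀ ρ h0 0 (Fin.cons_zero _ _)
      (fun j _ w => side_fixed Q₀ ρ h0 hρ hsmall hv j (fun a _ => hL _) w) (hL _))
  by_contra hne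
  let S : Subrepresentation ρ :=
    { toSubmodule := ℂ ∙ v
      apply_mem_toSubmodule := fun g x hx => by
        obtain ⟨c, rfl⟩ := Submodule.mem_span_singleton.1 hx
        rw [map_smul, show ρ g v = v from (hK ▸ Subgroup.mem_top g : g ∈ K)]
        exact hx }
  rcases IsSimpleOrder.eq_bot_or_eq_top S with hS | hS
  · have hm : v ∈ S.toSubmodule := Submodule.mem_span_singleton_self v
    rw [hS] at hm
    exact hne hm
  · refine hρ (MonoidHom.ext fun g => LinearMap.ext fun x => ?_)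
    have hx : x ∈ S.toSubmodule := by rw [hS]; trivial
    obtain ⟨c, rfl⟩ := Submodule.mem_span_singleton.1 hx
    rw [map_smul, show ρ g v = v from (hK ▸ Subgroup.mem_top g : g ∈ K)]
    rfl

theorem emb_eH : emb (extSucc (l + 1) (HypSum.eH : (F × F) × ((Fin (l + 1) ⊕ Fin (l + 1)) ⊕ J → F))) =
    (eA (ev 1) : Vc F l J) := by
  have hns : ∀ k : Fin (l + 1), k.succ.succ ≠ (1 : Fin (l + 1 + 2)) := fun k h => by
    rw [← Fin.succ_zero_eq_one, Fin.succ_inj] at h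
    exact Fin.succ_ne_zero _ h
  funext i
  rw [← Fin.succ_zero_eq_one]
  rcases i with (i | i) | i
  · refine Fin.cases ?_ (fun j => Fin.cases ?_ (fun k => ?_) j) i <;>
      simp [emb, extSucc, HypSum.eH, eA, mk, ev, Pi.single_apply, Fin.succ_inj, hns]
  · refine Fin.cases ?_ (fun j => Fin.cases ?_ (fun k => ?_) j) i <;>
      simp [emb, extSucc, HypSum.eH, eA, mk]
  · simp [emb, extSucc, HypSum.eH, eA, mk]

theorem emb_fH : emb (extSucc (l + 1) (HypSum.fH : (F × F) × ((Fin (l + 1) ⊕ Fin (l + 1)) ⊕ J → F))) =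
    (fB (ev 1) : Vc F l J) := by
  have hns : ∀ k : Fin (l + 1), k.succ.succ ≠ (1 : Fin (l + 1 + 2)) := fun k h => by
    rw [← Fin.succ_zero_eq_one, Fin.succ_inj] at h
    exact Fin.succ_ne_zero _ h
  funext i
  rw [← Fin.succ_zero_eq_one]
  rcases i with (i | i) | i
  · refine Fin.cases ?_ (fun j => Fin.cases ?_ (fun k => ?_) j) i <;>
      simp [emb, extSucc, HypSum.fH, fB, mk]
  · refine Fin.cases ?_ (fun j => Fin.cases ?_ (fun k => ?_) j) i <;>
      simp [emb, extSucc, HypSum.fH, fB, mk, ev, Pi.single_apply, Fin.succ_inj, hns]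
  · simp [emb, extSucc, HypSum.fH, fB, mk]

include h0 in
/-- A vector fixed by the stabiliser of a vector in the Levi subgroup is fixed by the stabiliser of that vector. -/
theorem fix_vec (hρ : ρ ≠ 1) (hsmall : Small (V := V) (F := F) (J := J) (l := l)) {v : V}
    (hv : ZFix Q₀ ρ v)
    (hL : ∀ A : SpecialLinearGroup (Fin (l + 1 + 2)) F, A.1 *ᵥ ev 0 = ev 0 → ρ (levE Q₀ h0 A) v = v)
    {g : EG Q₀ l} (hg : ap Q₀ g (eA (ev 0)) = eA (ev 0)) : ρ g v = v := by
  classical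
  have hU : ∀ i w, ρ (el Q₀ (eA (ev i)) (eJ w)) v = v := fun i w => radical_fixed Q₀ ρ h0 hρ hsmall hv _ w
  have hLa : ∀ (j : Fin (l + 1 + 2)) (a : Fin (l + 1 + 2) → F), j ≠ 0 → a j = 0 →
      ρ (levE Q₀ h0 (tv a (ev j))) v = v := fun j a hj ha => hL _ (by
    rw [tv_mulVec (by rw [dotProduct_comm, dot_ev, ha]), dot_ev]
    simp [ev, hj.symm])
  have hLb : ∀ (i : Fin (l + 1 + 2)) (b : Fin (l + 1 + 2) → F), b 0 = 0 → b i = 0 →
      ρ (levE Q₀ h0 (tv (ev i) (-b))) v = v := fun i b h00 hi => hL _ (by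
    rw [tv_mulVec (by rw [neg_dotProduct, dot_ev, hi, neg_zero]), dot_ev, Pi.neg_apply, h00, neg_zero, zero_smul,
      add_zero])
  have hS : ∀ j : Fin (l + 1 + 2), j ≠ 0 → ∀ w, ρ (el Q₀ (fB (ev j)) (eJ w)) v = v := fun j hj w =>
    side_fixed Q₀ ρ h0 hρ hsmall hv j (fun a ha => hLa j a hj ha) w
  obtain ⟨x, hxp, hx⟩ := exists_eich_move (QF Q₀ l) (u := fB (ev 0)) (u' := ap Q₀ g (fB (ev 0))) (v := eA (ev 0))
    (quad_fB Q₀ _) (by rw [qAut_map, quad_fB]) (quad_eA Q₀ _)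
    (by
      conv_rhs => rw [← hg]
      exact (qAut_polar g.1 _ _).symm)
    (by
      rw [QuadraticMap.polar_comm, polar_eA_fB, dot_ev]
      simp [ev])
  obtain ⟨a, b, w, rfl⟩ := exists_mk x
  have hb : b 0 = 0 := by
    rw [eA, polar_mk, QuadraticMap.polar_zero_left, zero_dotProduct, add_zero, add_zero, dotProduct_comm, dot_ev] at hxp
    exact hxp
  obtain ⟨e, he⟩ : ∃ e, e = el Q₀ (eA (ev 0)) (mk a b w) := ⟨_, rfl⟩
  have hefix : ρ e v = v := he ▸ root_e Q₀ ρ h0 hv 0 (hU 0) hb (hLb 0 b hb hb)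
  have hee : ap Q₀ e (eA (ev 0)) = eA (ev 0) := he ▸ eich_fix _ (quad_eA Q₀ _) hxp
  have hef : ap Q₀ e (fB (ev 0)) = ap Q₀ g (fB (ev 0)) := he ▸ hx
  have hinv : ∀ y, ap Q₀ e⁻¹ (ap Q₀ e y) = y := fun y => by
    rw [← ap_mul, inv_mul_cancel]; rfl
  obtain ⟨m, hm⟩ := exists_midE Q₀ h0 (g := e⁻¹ * g) (by rw [ap_mul, hg]; nth_rewrite 1 [← hee]; exact hinv _)
    (by rw [ap_mul, ← hef]; exact hinv _)
  have hmid : ∀ m, ρ (midE Q₀ m) v = v := by
    let K : Subgroup (eichGroup (qExt (l + 1 + 1) Q₀)) :=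
      { carrier := {m | ρ (midE Q₀ m) v = v}
        one_mem' := by simp
        mul_mem' := fun {a b} ha hb => by
          show ρ (midE Q₀ (a * b)) v = v
          rw [map_mul]
          exact fix_mul Q₀ ρ ha hb
        inv_mem' := fun {a} ha => by
          show ρ (midE Q₀ a⁻¹) v = v
          conv_lhs => rw [← (ha : ρ (midE Q₀ a) v = v)]
          rw [← Module.End.mul_apply, ← map_mul, ← map_mul, inv_mul_cancel, map_one, map_one, Module.End.one_apply] }
    have hle := eichGroup_le_ext (J := J) h0 (l + 1) (H := K.map (eichGroup (qExt (l + 1 + 1) Q₀)).subtype)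
      (fun y => ?_) (fun y => ?_)
    · intro m
      obtain ⟨k, hk, hkm⟩ := hle m.2
      rwa [← Subtype.ext hkm]
    · have hq : qExt (l + 1 + 1) Q₀ (extSucc (l + 1) HypSum.eH) = 0 :=
        (qExt_extSucc _ _ _).trans (HypSum.quad_eH _)
      have hp : QuadraticMap.polar (qExt (l + 1 + 1) Q₀) (extSucc (l + 1) HypSum.eH)
          (extSucc (l + 1) (HypSum.iH y)) = 0 := by
        simp only [QuadraticMap.polar, ← map_add, qExt_extSucc]
        exact (HypSum.polar_eH (qExt (l + 1) Q₀) (HypSum.iH y)).trans rfl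
      refine ⟨⟨_, eich_mem _ hq hp⟩, ?_, rfl⟩
      show ρ (midE Q₀ _) v = v
      rw [midE_el Q₀ hq hp, emb_eH]
      refine root_e Q₀ ρ h0 hv 1 (hU 1) ?_ (hLb 1 _ (Fin.cons_zero _ _) ?_)
      all_goals
        rw [← Fin.succ_zero_eq_one, Fin.cons_succ]
        simp [extSucc, HypSum.iH]
    · have hq : qExt (l + 1 + 1) Q₀ (extSucc (l + 1) HypSum.fH) = 0 :=
        (qExt_extSucc _ _ _).trans (HypSum.quad_fH _)
      have hp : QuadraticMap.polar (qExt (l + 1 + 1) Q₀) (extSucc (l + 1) HypSum.fH)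
          (extSucc (l + 1) (HypSum.iH y)) = 0 := by
        simp only [QuadraticMap.polar, ← map_add, qExt_extSucc]
        exact (HypSum.polar_fH (qExt (l + 1) Q₀) (HypSum.iH y)).trans rfl
      refine ⟨⟨_, eich_mem _ hq hp⟩, ?_, rfl⟩
      show ρ (midE Q₀ _) v = v
      rw [midE_el Q₀ hq hp, emb_fH]
      have h10 : (1 : Fin (l + 1 + 2)) ≠ 0 := by rw [← Fin.succ_zero_eq_one]; exact Fin.succ_ne_zero _
      refine root_f Q₀ ρ h0 1 ?_ ?_ (hLa 1 _ h10 ?_)
      · rw [← Fin.succ_zero_eq_one, Fin.cons_succ]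
        simp [extSucc, HypSum.iH]
      · intro j hj
        rcases hj with rfl | hj
        · exact hS 1 h10
        · refine hS j fun h => hj ?_
          rw [h]; exact Fin.cons_zero _ _
      · rw [← Fin.succ_zero_eq_one, Fin.cons_succ]
        simp [extSucc, HypSum.iH]
  rw [← mul_inv_cancel_left e g, hm]
  exact fix_mul Q₀ ρ hefix (hmid m)

include h0 in
/-- The same for the stabiliser of a line. -/
theorem fix_line (hρ : ρ ≠ 1) (hsmall : Small (V := V) (F := F) (J := J) (l := l)) {v : V}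
    (hv : ZFix Q₀ ρ v)
    (hL : ∀ (A : SpecialLinearGroup (Fin (l + 1 + 2)) F) (a : F), A.1 *ᵥ ev 0 = a • ev 0 → ρ (levE Q₀ h0 A) v = v)
    {g : EG Q₀ l} {t : F} (hg : ap Q₀ g (eA (ev 0)) = t • eA (ev 0)) : ρ g v = v := by
  have ht : t ≠ 0 := fun h => by
    rw [h, zero_smul] at hg
    have h2 := g.1.1.injective (hg.trans (map_zero g.1.1).symm)
    rw [← eA_zero] at h2
    exact SLWts.ev_ne_zero (0 : Fin (l + 1 + 2)) (mk_inj h2).1
  obtain ⟨A, hA⟩ : ∃ A : SpecialLinearGroup (Fin (l + 1 + 2)) F, A.1 *ᵥ ev 0 = t • ev 0 :=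
    ⟨SLOverlap.hh (Units.mk0 t ht), SLOverlap.hh_ev0 _⟩
  have hAe : ap Q₀ (levE Q₀ h0 A) (eA (ev 0)) = ap Q₀ g (eA (ev 0)) := by
    rw [ap_levE_eA, hA, eA_smul, hg]
  rw [← mul_inv_cancel_left (levE Q₀ h0 A) g]
  refine fix_mul Q₀ ρ (hL A t hA) (fix_vec Q₀ ρ h0 hρ hsmall hv (fun B hB => hL B 1 (by rw [hB, one_smul])) ?_)
  rw [ap_mul, ← hAe, ← ap_mul, inv_mul_cancel]
  rfl

end

end CfsgLib.MinDegree.HypFix
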