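import Mathlib
import Cfsg.Agent.Lib.MinDegree.HypFix

/-!
The root group of a singular vector in a small representation: the translations fix a non-zero vector.
-/

namespace CfsgLib.MinDegree.HypPoint

open Matrix CfsgLib.Classical SLAvg SLTv SLOps PlusAlt HypFrm HypWts HypFix

universe u w

noncomputable section

variable {F : Type u} [Field F] [Fintype F] [DecidableEq F] {J : Type} [Fintype J] {l : ℕ}
variable (Q₀ : QuadraticForm F (J → F))

theorem emb_add (y y' : Md F l J) : (emb (y + y') : Vc F l J) = emb y + emb y' := by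
  funext i
  rcases i with (i | i) | i
  · refine Fin.cases ?_ (fun j => ?_) i <;> simp [emb, mk]
  · refine Fin.cases ?_ (fun j => ?_) i <;> simp [emb, mk]
  · simp [emb, mk]

theorem emb_smul (c : F) (y : Md F l J) : (emb (c • y) : Vc F l J) = c • emb y := by
  funext i
  rcases i with (i | i) | i
  · refine Fin.cases ?_ (fun j => ?_) i <;> simp [emb, mk]
  · refine Fin.cases ?_ (fun j => ?_) i <;> simp [emb, mk]
  · simp [emb, mk]

theorem polar_eA0_emb (y : Md F l J) : QuadraticMap.polar (QF Q₀ l) (eA (ev 0)) (emb y) = 0 := by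
  rw [← spl_eH, ← spl_iH, spl_polar, HypSum.polar_eH]; rfl

/-- The projection to the middle. -/
def proj (z : Vc F l J) : Md F l J := ((spl l J F).symm z).2

theorem proj_emb (y : Md F l J) : proj (emb y : Vc F l J) = y := by
  rw [proj, ← spl_iH, LinearEquiv.symm_apply_apply]; rfl

theorem proj_add (x y : Vc F l J) : proj (x + y) = proj x + proj y := by simp [proj]

theorem proj_smul (c : F) (x : Vc F l J) : proj (c • x) = c • proj x := by simp [proj]

theorem proj_eA0 : proj (eA (ev 0) : Vc F l J) = 0 := by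
  rw [proj, ← spl_eH, LinearEquiv.symm_apply_apply]; rfl

theorem exists_perp_decomp {z : Vc F l J} (hz : QuadraticMap.polar (QF Q₀ l) (eA (ev 0)) z = 0) :
    ∃ s : F, z = emb (proj z) + s • eA (ev 0) := by
  obtain ⟨⟨⟨a, b⟩, y⟩, rfl⟩ := (spl l J F).surjective z
  rw [← spl_eH, spl_polar, HypSum.polar_eH] at hz
  refine ⟨a, ?_⟩
  rw [proj, LinearEquiv.symm_apply_apply, ← spl_iH, ← spl_eH, ← map_smul, ← map_add]
  congr 1
  simp_all [HypSum.iH, HypSum.eH]

theorem polar_emb (y y' : Md F l J) :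
    QuadraticMap.polar (QF Q₀ l) (emb y) (emb y') = QuadraticMap.polar (qExt (l + 1 + 1) Q₀) y y' := by
  rw [← spl_iH, ← spl_iH, spl_polar, HypSum.polar_iH]

theorem quad_emb (y : Md F l J) : QF Q₀ l (emb y) = qExt (l + 1 + 1) Q₀ y := by
  rw [← spl_iH, spl_quad, HypSum.quad_iH]

/-- The map of the middle induced by an element fixing the first line. -/
def sig (g : EG Q₀ l) (y : Md F l J) : Md F l J := proj (ap Q₀ g (emb y))

section Fix

variable {g : EG Q₀ l} {s : F} (hs : s ≠ 0) (hg : ap Q₀ g (eA (ev 0)) = s • eA (ev 0))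

include hs hg in
theorem sig_spec (y : Md F l J) : ∃ t : F, ap Q₀ g (emb y) = emb (sig Q₀ g y) + t • eA (ev 0) := by
  refine exists_perp_decomp Q₀ ?_
  have h := qAut_polar g.1 (eA (ev 0)) (emb y)
  rw [polar_eA0_emb, show g.1.1 (eA (ev 0)) = s • eA (ev 0) from hg, QuadraticMap.polar_smul_left, smul_eq_mul,
    mul_eq_zero] at h
  exact h.resolve_left hs

include hs hg in
theorem polar_sig (y y' : Md F l J) :
    QuadraticMap.polar (qExt (l + 1 + 1) Q₀) (sig Q₀ g y) (sig Q₀ g y') =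
      QuadraticMap.polar (qExt (l + 1 + 1) Q₀) y y' := by
  obtain ⟨t, ht⟩ := sig_spec Q₀ hs hg y
  obtain ⟨t', ht'⟩ := sig_spec Q₀ hs hg y'
  have h := qAut_polar g.1 (emb y) (emb y')
  rw [show g.1.1 (emb y) = _ from ht, show g.1.1 (emb y') = _ from ht'] at h
  rw [QuadraticMap.polar_add_left, QuadraticMap.polar_add_right, QuadraticMap.polar_add_right,
    QuadraticMap.polar_smul_left, QuadraticMap.polar_smul_left, QuadraticMap.polar_smul_right,
    QuadraticMap.polar_smul_right, QuadraticMap.polar_comm _ (emb (sig Q₀ g y)) (eA (ev 0)), polar_eA0_emb,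
    polar_eA0_emb, polar_eA_eA, polar_emb, polar_emb] at h
  simpa using h

include hs hg in
theorem quad_sig (y : Md F l J) : qExt (l + 1 + 1) Q₀ (sig Q₀ g y) = qExt (l + 1 + 1) Q₀ y := by
  obtain ⟨t, ht⟩ := sig_spec Q₀ hs hg y
  have h := qAut_map g.1 (emb y)
  rw [show g.1.1 (emb y) = _ from ht, quad_add, quad_smul, quad_eA, mul_zero, add_zero, QuadraticMap.polar_smul_right,
    QuadraticMap.polar_comm, polar_eA0_emb, smul_zero, add_zero, quad_emb, quad_emb] at h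
  exact h

include hs hg in
theorem sig_inv (y : Md F l J) : sig Q₀ g⁻¹ (sig Q₀ g y) = y := by
  obtain ⟨t, ht⟩ := sig_spec Q₀ hs hg y
  have e : ap Q₀ g⁻¹ (ap Q₀ g (emb y)) = emb y := by rw [← ap_mul, inv_mul_cancel]; rfl
  have e2 : ap Q₀ g⁻¹ (eA (ev 0)) = s⁻¹ • eA (ev 0) := by
    have h : ap Q₀ g⁻¹ (ap Q₀ g (eA (ev 0))) = eA (ev 0) := by rw [← ap_mul, inv_mul_cancel]; rfl
    rw [hg, show ap Q₀ g⁻¹ (s • eA (ev 0)) = s • ap Q₀ g⁻¹ (eA (ev 0)) from map_smul _ _ _] at h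
    exact (eq_inv_smul_iff₀ hs).2 h
  rw [ht, show ap Q₀ g⁻¹ (emb (sig Q₀ g y) + t • eA (ev 0)) = ap Q₀ g⁻¹ (emb (sig Q₀ g y)) +
    t • ap Q₀ g⁻¹ (eA (ev 0)) from (map_add _ _ _).trans (congrArg (_ + ·) (map_smul _ _ _)), e2] at e
  rw [sig]
  have h2 := congrArg proj e
  rw [proj_add, proj_smul, proj_smul, proj_eA0, smul_zero, smul_zero, add_zero, proj_emb] at h2
  exact h2

end Fix

variable (h0 : PolarNondeg Q₀)
variable {V : Type w} [AddCommGroup V] [Module ℂ V] [FiniteDimensional ℂ V]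
variable (ρ : Representation ℂ (EG Q₀ l) V) (ψ : AddChar F ℂ)

/-- The root group of the first vector. -/
def rHom : Multiplicative (Md F l J) →* Module.End ℂ V where
  toFun y := ρ (el Q₀ (eA (ev 0)) (emb y.toAdd))
  map_one' := by
    have h : (emb (1 : Multiplicative (Md F l J)).toAdd : Vc F l J) = 0 := by
      funext i
      rcases i with (i | i) | i
      · refine Fin.cases ?_ (fun j => ?_) i <;> simp [emb, mk]
      · refine Fin.cases ?_ (fun j => ?_) i <;> simp [emb, mk]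
      · simp [emb, mk]
    rw [h, el_zero Q₀ (quad_eA Q₀ _), map_one]
  map_mul' y y' := by
    rw [← map_mul, el_mul Q₀ (quad_eA Q₀ _) (polar_eA0_emb Q₀ _) (polar_eA0_emb Q₀ _), ← emb_add]
    rfl

/-- The weight projection of the root group. -/
def rp (x : Md F l J) : Module.End ℂ V := by
  classical exact av ψ (rHom Q₀ ρ) (gram (qExt (l + 1 + 1) Q₀) x)

theorem rp_move {g : EG Q₀ l} {s : F} (hs : s ≠ 0) (hg : ap Q₀ g (eA (ev 0)) = s • eA (ev 0)) (x : Md F l J) :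
    ρ g * rp Q₀ ρ ψ x = rp Q₀ ρ ψ (s⁻¹ • sig Q₀ g x) * ρ g := by
  classical
  have hinj : Function.Injective fun y : Md F l J => s • sig Q₀ g y := fun a b h => by
    have := congrArg (sig Q₀ g⁻¹) (smul_right_injective (Md F l J) hs h)
    rwa [sig_inv Q₀ hs hg, sig_inv Q₀ hs hg] at this
  refine move_av ψ _ (Equiv.ofBijective _ (Finite.injective_iff_bijective.1 hinj)) (fun φ => ?_) fun φ => ?_
  · show ρ g * ρ (el Q₀ (eA (ev 0)) (emb φ)) = ρ (el Q₀ (eA (ev 0)) (emb (s • sig Q₀ g φ))) * ρ g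
    rw [← map_mul, ← map_mul, el_conj Q₀ _ (quad_eA Q₀ _) (polar_eA0_emb Q₀ _)]
    obtain ⟨t, ht⟩ := sig_spec Q₀ hs hg φ
    have hp : QuadraticMap.polar (QF Q₀ l) (eA (ev 0)) (emb (sig Q₀ g φ) + t • eA (ev 0)) = 0 := by
      rw [QuadraticMap.polar_add_right, QuadraticMap.polar_smul_right, polar_eA0_emb, polar_eA_eA, smul_zero, add_zero]
    rw [hg, ht, el_smul_left Q₀ (quad_eA Q₀ _) hp, smul_add, smul_smul, ← emb_smul]
    congr 2
    exact Subtype.ext (eich_add_self (QF Q₀ l) (quad_eA Q₀ _) (polar_eA0_emb Q₀ _) (s * t))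
  · show (s • sig Q₀ g φ) ⬝ᵥ gram _ (s⁻¹ • sig Q₀ g x) = φ ⬝ᵥ gram _ x
    rw [dot_gram, dot_gram, QuadraticMap.polar_smul_left, QuadraticMap.polar_smul_right, smul_smul,
      mul_inv_cancel₀ hs, one_smul, polar_sig Q₀ hs hg]

theorem rp_idem (hψ : ψ ≠ 1) (x : Md F l J) : rp Q₀ ρ ψ x * rp Q₀ ρ ψ x = rp Q₀ ρ ψ x := by
  classical exact av_idem ψ _ hψ _

theorem rp_ne (hψ : ψ ≠ 1) (h0 : PolarNondeg Q₀) {x y : Md F l J} (h : x ≠ y) :
    rp Q₀ ρ ψ x * rp Q₀ ρ ψ y = 0 := by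
  classical
  rw [rp, rp, av_mul_av ψ _ hψ, if_neg]
  exact fun e => h ((gram_bijective (polarNondeg_qExt h0 _)).1 e)

theorem ap_midE (m : eichGroup (qExt (l + 1 + 1) Q₀)) :
    ap Q₀ (midE Q₀ m) (eA (ev 0)) = eA (ev 0) ∧ ∀ y, sig Q₀ (midE Q₀ m) y = m.1.1 y := by
  have h : ∀ v, ap Q₀ (midE Q₀ m) (spl l J F v) = spl l J F ((HypSum.liftHyp _ m.1).1 v) := fun v => by
    show spl l J F ((HypSum.liftHyp _ m.1).1 ((spl l J F).symm (spl l J F v))) = _
    rw [LinearEquiv.symm_apply_apply]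
  constructor
  · rw [← spl_eH, h, HypSum.liftHyp_apply]
    congr 1
    simp [HypSum.eH]
  · intro y
    rw [sig, ← spl_iH, h, proj, LinearEquiv.symm_apply_apply, HypSum.liftHyp_apply]
    rfl

include h0 in
theorem dim_mid [Nonempty J] : 4 ≤ Module.finrank F (Md F l J) := by
  have := Fintype.card_pos (α := J)
  rw [Module.finrank_fintype_fun_eq_card, Fintype.card_sum, Fintype.card_sum, Fintype.card_fin]; omega

omit [DecidableEq F] in
theorem level_lift {x : Md F l J} (hx : x ≠ 0) (lam : F) :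
    ∀ (b : {b : Fin (l + 1 + 1) → F // b ≠ 0}) (a : Fin (l + 1) → F) (w : J → F), ∃ z : Md F l J,
      (fun i => z (.inl (.inr i))) = b.1 ∧ (fun j => z (.inr j)) = w ∧
      (∀ k, z (.inl (.inl ((Function.ne_iff.1 b.2).choose.succAbove k))) = a k) ∧ qExt (l + 1 + 1) Q₀ z = lam := by
  intro b a w
  have hp := (Function.ne_iff.1 b.2).choose_spec
  set p := (Function.ne_iff.1 b.2).choose
  rw [Pi.zero_apply] at hp
  obtain ⟨c, hc⟩ : ∃ c, c = (lam - Q₀ w - ∑ k, a k * b.1 (p.succAbove k)) / b.1 p := ⟨_, rfl⟩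
  refine ⟨Sum.elim (Sum.elim (p.insertNth c a) b.1) w, rfl, rfl, fun k => by simp, ?_⟩
  rw [qExt_apply, Fin.sum_univ_succAbove _ p]
  simp only [Sum.elim_inl, Sum.elim_inr, Fin.insertNth_apply_same, Fin.insertNth_apply_succAbove]
  rw [hc, div_mul_cancel₀ _ hp]
  ring

omit [DecidableEq F] in
/-- A lower bound for the size of a level set. -/
theorem card_level (lam : F) : (Fintype.card F ^ (l + 1 + 1) - 1) * Fintype.card F ^ (l + 1) *
    Fintype.card F ^ Fintype.card J ≤ Nat.card {x : Md F l J // x ≠ 0 ∧ qExt (l + 1 + 1) Q₀ x = lam} := by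
  classical
  obtain ⟨x0, hx0⟩ := exists_ne (0 : Md F l J)
  choose f hf using fun q : ({b : Fin (l + 1 + 1) → F // b ≠ 0} × (Fin (l + 1) → F)) × (J → F) =>
    level_lift Q₀ hx0 lam q.1.1 q.1.2 q.2
  have hne : ∀ q, f q ≠ 0 := fun q h => q.1.1.2 (by rw [← (hf q).1, h]; rfl)
  let g : ({b : Fin (l + 1 + 1) → F // b ≠ 0} × (Fin (l + 1) → F)) × (J → F) →
      {x : Md F l J // x ≠ 0 ∧ qExt (l + 1 + 1) Q₀ x = lam} := fun q => ⟨f q, hne q, (hf q).2.2.2⟩
  have hg : Function.Injective g := by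
    rintro ⟨⟨b, a⟩, w⟩ ⟨⟨b', a'⟩, w'⟩ h
    have e : f ((b, a), w) = f ((b', a'), w') := congrArg Subtype.val h
    have hb : b = b' := Subtype.ext (by
      have h1 := (hf ((b, a), w)).1
      rw [e, (hf ((b', a'), w')).1] at h1
      exact h1.symm)
    subst hb
    have hw : w = w' := by
      have h1 := (hf ((b, a), w)).2.1
      rw [e, (hf ((b, a'), w')).2.1] at h1
      exact h1.symm
    subst hw
    refine Prod.ext (Prod.ext rfl (funext fun k => ?_)) rfl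
    have h1 := (hf ((b, a), w)).2.2.1 k
    rw [e] at h1
    exact h1.symm.trans ((hf ((b, a'), w)).2.2.1 k)
  have h := Nat.card_le_card_of_injective g hg
  rw [Nat.card_eq_fintype_card, Fintype.card_prod, Fintype.card_prod,
    Fintype.card_subtype_compl (fun r : Fin (l + 1 + 1) → F => r = 0), Fintype.card_subtype_eq, Fintype.card_fun,
    Fintype.card_fun, Fintype.card_fun, Fintype.card_fin, Fintype.card_fin] at h
  exact h

include h0 in
theorem trace_level [Nonempty J] {x y : Md F l J} (hx : x ≠ 0) (hy : y ≠ 0)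
    (h : qExt (l + 1 + 1) Q₀ x = qExt (l + 1 + 1) Q₀ y) :
    LinearMap.trace ℂ V (rp Q₀ ρ ψ x) = LinearMap.trace ℂ V (rp Q₀ ρ ψ y) := by
  have hn := dim_mid (l := l) Q₀ h0
  obtain ⟨m, hm, hmx⟩ : ∃ m ∈ eichGroup (qExt (l + 1 + 1) Q₀), m.1 x = y := by
    by_cases hq : qExt (l + 1 + 1) Q₀ x = 0
    · exact exists_move_eichGroup _ (polarNondeg_qExt h0 _) hn hq (h ▸ hq) hx hy
    · exact exists_move_level _ (polarNondeg_qExt h0 _) hn hq h
  obtain ⟨h1, h2⟩ := ap_midE Q₀ ⟨m, hm⟩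
  have hmv := rp_move Q₀ ρ ψ (g := midE Q₀ ⟨m, hm⟩) one_ne_zero (by rw [h1, one_smul]) x
  rw [inv_one, one_smul, h2, hmx] at hmv
  exact trace_eq_of_conj (inv_ρ Q₀ ρ _) hmv

/-- Two classes of equal traces are at most the degree. -/
theorem card_mul_le (hψ : ψ ≠ 1) (S : Finset (Md F l J)) {d : ℕ}
    (hd : ∀ x ∈ S, LinearMap.trace ℂ V (rp Q₀ ρ ψ x) = d) (h0 : PolarNondeg Q₀) :
    S.card * d ≤ Module.finrank ℂ V := by
  classical
  obtain ⟨e, he⟩ : ∃ e : Md F l J → ℕ, ∀ x, LinearMap.trace ℂ V (rp Q₀ ρ ψ x) = (e x : ℂ) :=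
    ⟨fun x => (exists_trace_nat (rp_idem Q₀ ρ ψ hψ x)).choose,
      fun x => (exists_trace_nat (rp_idem Q₀ ρ ψ hψ x)).choose_spec.1⟩
  have hsum : ∑ x, e x = Module.finrank ℂ V := by
    refine Nat.cast_injective (R := ℂ) ?_
    rw [Nat.cast_sum, ← Finset.sum_congr rfl fun x _ => he x, ← map_sum, ← LinearMap.trace_one (R := ℂ) (M := V)]
    congr 1
    rw [← sum_av ψ (rHom Q₀ ρ) hψ]
    exact Fintype.sum_bijective _ (gram_bijective (polarNondeg_qExt h0 _)) _ _ fun x => rfl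
  rw [← hsum, ← smul_eq_mul, ← Finset.sum_const]
  refine (Finset.sum_congr rfl fun x hx => ?_).le.trans (Finset.sum_le_univ_sum_of_nonneg fun _ => Nat.zero_le _)
  exact Nat.cast_injective (R := ℂ) ((hd x hx).symm.trans (he x))

omit [DecidableEq F] in
theorem two_level_arith (hq : 2 ≤ Fintype.card F) [Nonempty J] {k : ℕ}
    (hsmall : ((Fintype.card F : ℤ) ^ 2 - 1) * k <
      (Fintype.card F : ℤ) ^ Fintype.card J * ((Fintype.card F : ℤ) ^ (l + 1 + 2) - 1) *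
          ((Fintype.card F : ℤ) ^ (l + 1 + 1) - 1) +
        ((Fintype.card F : ℤ) + 1) * ((Fintype.card F : ℤ) ^ (l + 1 + 2) - 1)) :
    k < 2 * ((Fintype.card F ^ (l + 1 + 1) - 1) * Fintype.card F ^ (l + 1) * Fintype.card F ^ Fintype.card J) := by
  by_contra hle
  push Not at hle
  have h : (((2 * ((Fintype.card F ^ (l + 1 + 1) - 1) * Fintype.card F ^ (l + 1) *
      Fintype.card F ^ Fintype.card J)) : ℕ) : ℤ) ≤ (k : ℤ) := by exact_mod_cast hle
  push_cast [Nat.one_le_pow _ _ (Fintype.card_pos (α := F))] at h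
  obtain ⟨Q, hQ⟩ : ∃ Q : ℤ, Q = (Fintype.card F : ℤ) := ⟨_, rfl⟩
  obtain ⟨P, hP⟩ : ∃ P : ℤ, P = Q ^ (l + 1) := ⟨_, rfl⟩
  obtain ⟨W, hW⟩ : ∃ W : ℤ, W = Q ^ Fintype.card J := ⟨_, rfl⟩
  have hQ2 : 2 ≤ Q := by rw [hQ]; exact_mod_cast hq
  have hWQ : Q ≤ W := by rw [hW]; exact le_self_pow₀ (by omega) Fintype.card_ne_zero
  have hPQ : Q ≤ P := by rw [hP]; exact le_self_pow₀ (by omega) (by omega)
  rw [← hQ, ← hW, show Q ^ (l + 1 + 1) = Q * P by rw [hP]; ring, ← hP] at h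
  rw [← hQ, ← hW, show Q ^ (l + 1 + 2) = Q * (Q * P) by rw [hP]; ring,
    show Q ^ (l + 1 + 1) = Q * P by rw [hP]; ring] at hsmall
  have h4 := mul_le_mul_of_nonneg_left h (show (0 : ℤ) ≤ Q ^ 2 - 1 by nlinarith)
  have e1 : Q * (Q + 1) ≤ (Q * P - 1) * (Q ^ 2 - 2) := by
    calc Q * (Q + 1) ≤ (Q * Q - 1) * (Q ^ 2 - 2) := by
          nlinarith [mul_nonneg (show (0 : ℤ) ≤ Q - 2 by omega) (show (0 : ℤ) ≤ Q ^ 3 + 2 * Q ^ 2 - 1 by nlinarith)]
      _ ≤ _ := mul_le_mul_of_nonneg_right (by nlinarith) (by nlinarith)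
  have e2 : (Q + 1) * (Q * (Q * P) - 1) ≤ W * (Q * P - 1) * (P * (Q ^ 2 - 2) + 1) := by
    calc (Q + 1) * (Q * (Q * P) - 1) ≤ (Q + 1) * Q * (Q * P) := by nlinarith
      _ ≤ (Q * P - 1) * (Q ^ 2 - 2) * (Q * P) := mul_le_mul_of_nonneg_right (by linarith) (by nlinarith)
      _ = Q * ((Q * P - 1) * (P * (Q ^ 2 - 2))) := by ring
      _ ≤ W * ((Q * P - 1) * (P * (Q ^ 2 - 2) + 1)) := by
          refine mul_le_mul hWQ ?_ ?_ (by omega)
          · exact mul_le_mul_of_nonneg_left (by omega) (by nlinarith)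
          · exact mul_nonneg (by nlinarith) (mul_nonneg (by omega) (by nlinarith))
      _ = _ := by ring
  nlinarith

include h0 in
/-- Above three elements the non-singular weights do not occur. -/
theorem rp_nonsingular [Nonempty J] (hψ : ψ ≠ 1) (hq : 3 < Fintype.card F)
    (hsmall : Small (V := V) (F := F) (J := J) (l := l)) {x : Md F l J} (hx : qExt (l + 1 + 1) Q₀ x ≠ 0) :
    rp Q₀ ρ ψ x = 0 := by
  classical
  obtain ⟨d, hd, -⟩ := exists_trace_nat (rp_idem Q₀ ρ ψ hψ x)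
  by_contra hne
  have hd0 : d ≠ 0 := fun h => hne (eq_zero_of_trace (rp_idem Q₀ ρ ψ hψ x) (by rw [hd, h, Nat.cast_zero]))
  have hx0 : x ≠ 0 := by rintro rfl; exact hx (map_zero _)
  obtain ⟨t, ht0, ht1⟩ := exists_square_ne_one hq
  obtain ⟨mu, hmu⟩ : ∃ mu, mu = (t⁻¹ * t⁻¹) * qExt (l + 1 + 1) Q₀ x := ⟨_, rfl⟩
  have hmu1 : mu ≠ qExt (l + 1 + 1) Q₀ x := fun h => by
    rw [hmu] at h
    have h1 : t⁻¹ * t⁻¹ = 1 := mul_right_cancel₀ hx (h.trans (one_mul _).symm)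
    exact ht1 (by rw [← inv_inv t, ← mul_inv, h1, inv_one])
  let A : SpecialLinearGroup (Fin (l + 1 + 2)) F := SLOverlap.hh (Units.mk0 t ht0)
  have hA : ap Q₀ (levE Q₀ h0 A) (eA (ev 0)) = t • eA (ev 0) := by
    rw [ap_levE_eA, SLOverlap.hh_ev0, eA_smul]; rfl
  have hmv := rp_move Q₀ ρ ψ ht0 hA x
  obtain ⟨y, hy⟩ : ∃ y, y = t⁻¹ • sig Q₀ (levE Q₀ h0 A) x := ⟨_, rfl⟩
  rw [← hy] at hmv
  have hyq : qExt (l + 1 + 1) Q₀ y = mu := by rw [hy, quad_smul, quad_sig Q₀ ht0 hA, hmu]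
  have hy0 : y ≠ 0 := by
    rintro rfl
    rw [map_zero, hmu, eq_comm, mul_eq_zero] at hyq
    exact hyq.elim (by simp [ht0]) hx
  have hyd : LinearMap.trace ℂ V (rp Q₀ ρ ψ y) = d := (trace_eq_of_conj (inv_ρ Q₀ ρ _) hmv).symm.trans hd
  let L : F → Finset (Md F l J) := fun lam => Finset.univ.filter fun z => z ≠ 0 ∧ qExt (l + 1 + 1) Q₀ z = lam
  have hcard : ∀ lam, (Fintype.card F ^ (l + 1 + 1) - 1) * Fintype.card F ^ (l + 1) *
      Fintype.card F ^ Fintype.card J ≤ (L lam).card := fun lam => by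
    refine (card_level Q₀ lam).trans (le_of_eq ?_)
    rw [Nat.card_eq_fintype_card, Fintype.card_subtype]
  have hS := card_mul_le Q₀ ρ ψ hψ (L (qExt (l + 1 + 1) Q₀ x) ∪ L mu) (d := d) (fun z hz => ?_) h0
  · rw [Finset.card_union_of_disjoint (Finset.disjoint_left.2 fun z h1 h2 =>
      hmu1 ((Finset.mem_filter.1 h2).2.2.symm.trans (Finset.mem_filter.1 h1).2.2))] at hS
    have h1 := two_level_arith (l := l) (J := J) (F := F) (by omega) hsmall
    have h2 := hcard (qExt (l + 1 + 1) Q₀ x)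
    have h3 := hcard mu
    have h4 : (L (qExt (l + 1 + 1) Q₀ x)).card + (L mu).card ≤ Module.finrank ℂ V :=
      (Nat.le_mul_of_pos_right _ (Nat.pos_of_ne_zero hd0)).trans hS
    omega
  · rw [Finset.mem_union] at hz
    rcases hz with hz | hz
    · exact (trace_level Q₀ h0 ρ ψ (Finset.mem_filter.1 hz).2.1 hx0 (Finset.mem_filter.1 hz).2.2).trans hd
    · exact (trace_level Q₀ h0 ρ ψ (Finset.mem_filter.1 hz).2.1 hy0
        ((Finset.mem_filter.1 hz).2.2.trans hyq.symm)).trans hyd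

include h0 in
/-- Without non-singular weights the translations fix a non-zero vector. -/
theorem exists_zfix [Nonempty J] (hψ : ψ ≠ 1) (hρ : ρ ≠ 1) (hsmall : Small (V := V) (F := F) (J := J) (l := l))
    (hns : ∀ x : Md F l J, qExt (l + 1 + 1) Q₀ x ≠ 0 → rp Q₀ ρ ψ x = 0) :
    ∃ v : V, v ≠ 0 ∧ ZFix Q₀ ρ v := by
  classical
  obtain ⟨x₁, hx₁⟩ : ∃ x₁ : Md F l J,
      x₁ = extSucc (l + 1) (HypSum.eH : (F × F) × ((Fin (l + 1) ⊕ Fin (l + 1)) ⊕ J → F)) := ⟨_, rfl⟩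
  have he₁ : emb x₁ = (eA (ev 1) : Vc F l J) := hx₁ ▸ emb_eH
  have hq₁ : qExt (l + 1 + 1) Q₀ x₁ = 0 := by rw [hx₁]; exact (qExt_extSucc _ _ _).trans (HypSum.quad_eH _)
  have hx₁0 : x₁ ≠ 0 := fun h => by
    have h2 := congrFun he₁ (.inl (.inl 1))
    rw [h, ← Fin.succ_zero_eq_one] at h2
    simp [emb, eA, mk, ev] at h2
  obtain ⟨y, hy0, hy⟩ : ∃ y : Md F l J, y ≠ 0 ∧ rp Q₀ ρ ψ y ≠ 0 := by
    by_contra! hall
    have h1 : rp Q₀ ρ ψ 0 = 1 := by
      refine Eq.trans ?_ ((Fintype.sum_bijective _ (gram_bijective (polarNondeg_qExt h0 _)) (rp Q₀ ρ ψ)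
        (av ψ (rHom Q₀ ρ)) fun x => rfl).trans (sum_av ψ (rHom Q₀ ρ) hψ))
      exact (Finset.sum_eq_single 0 (fun z _ hz => hall z hz) (fun h => absurd (Finset.mem_univ _) h)).symm
    have hfix : ∀ φ : Md F l J, ρ (el Q₀ (eA (ev 0)) (emb φ)) = 1 := fun φ => by
      have hz : gram (qExt (l + 1 + 1) Q₀) (0 : Md F l J) = 0 := funext fun i => by
        simp [HypWts.gram, QuadraticMap.polar_zero_right]
      have h3 := apply_mul_av ψ (rHom Q₀ ρ) φ (gram (qExt (l + 1 + 1) Q₀) 0)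
      rw [show av ψ (rHom Q₀ ρ) (gram (qExt (l + 1 + 1) Q₀) 0) = rp Q₀ ρ ψ 0 from rfl, h1, mul_one, hz,
        dotProduct_zero, AddChar.map_zero_eq_one, one_smul] at h3
      exact h3
    obtain ⟨w0, hw0⟩ : ∃ w0, w0 = upper (wedge (ev 0) (ev 1) : Matrix (Fin (l + 1 + 2)) (Fin (l + 1 + 2)) F) :=
      ⟨_, rfl⟩
    have hw0m : w0 ∈ wedges (l + 1 + 2) F := mem_wedges.2 ⟨fun h => by
      have := congrFun h ⟨(0, 1), Fin.zero_lt_one⟩
      simp [hw0, upper, wedge_apply, ev] at this, _, _, hw0.symm⟩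
    obtain ⟨c, hc⟩ : ∃ c, ψ c ≠ 1 := by
      by_contra! h
      exact hψ (DFunLike.ext _ _ fun x => (h x).trans (AddChar.one_apply x).symm)
    have hrk := (small_data Q₀ ρ ψ h0 hψ hρ hsmall).2.1 w0 hw0m
    have hne : pr Q₀ ρ ψ w0 ≠ 0 := fun h => by
      rw [h, LinearMap.range_zero, finrank_bot] at hrk
      exact pow_ne_zero _ Fintype.card_ne_zero hrk.symm
    have h := hfix ((-c) • x₁)
    rw [emb_smul, he₁, ← eA_smul, el_eA_eA'] at h
    have h3 := apply_mul_av ψ (ρ.comp (zE Q₀)) (upper (wedge ((-c) • ev 1) (ev 0))) w0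
    rw [MonoidHom.comp_apply, h, one_mul, dot_upper_wedge, hw0, mat_upper_wedge, smul_dotProduct, ev_form,
      wedge_apply] at h3
    have h4 : ψ c • pr Q₀ ρ ψ w0 = (1 : ℂ) • pr Q₀ ρ ψ w0 := by
      rw [one_smul, hw0]
      refine Eq.trans ?_ h3.symm
      congr 2
      simp [ev]
    exact hc (smul_left_injective ℂ hne h4)
  have hyq : qExt (l + 1 + 1) Q₀ y = 0 := by
    by_contra h
    exact hy (hns y h)
  obtain ⟨d, hd, hdr⟩ := exists_trace_nat (rp_idem Q₀ ρ ψ hψ x₁)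
  have hdy := (trace_level Q₀ h0 ρ ψ hy0 hx₁0 (hyq.trans hq₁.symm)).trans hd
  have hd0 : d ≠ 0 := fun h => hy (eq_zero_of_trace (rp_idem Q₀ ρ ψ hψ y) (by rw [hdy, h, Nat.cast_zero]))
  let L : Finset (Md F l J) := Finset.univ.filter fun z => z ≠ 0 ∧ qExt (l + 1 + 1) Q₀ z = 0
  have hd1 : d ≤ 1 := by
    by_contra hd2
    have hS := card_mul_le Q₀ ρ ψ hψ L (d := d)
      (fun z hz => (trace_level Q₀ h0 ρ ψ (Finset.mem_filter.1 hz).2.1 hx₁0
        ((Finset.mem_filter.1 hz).2.2.trans hq₁.symm)).trans hd) h0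
    have h1 := two_level_arith (l := l) (J := J) (F := F) Fintype.one_lt_card hsmall
    have h2 : (Fintype.card F ^ (l + 1 + 1) - 1) * Fintype.card F ^ (l + 1) *
        Fintype.card F ^ Fintype.card J ≤ L.card := (card_level Q₀ 0).trans (le_of_eq (by
      rw [Nat.card_eq_fintype_card, Fintype.card_subtype]))
    have h3 : L.card * 2 ≤ L.card * d := Nat.mul_le_mul_left _ (by omega)
    omega
  obtain ⟨P, hP⟩ : ∃ P, P = rp Q₀ ρ ψ x₁ := ⟨_, rfl⟩
  have hPP : P * P = P := hP ▸ rp_idem Q₀ ρ ψ hψ x₁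
  have hPne : P ≠ 0 := fun h => hd0 (by rw [hP] at h; rw [h, map_zero] at hd; exact_mod_cast hd.symm)
  have hcomm : ∀ i w, ρ (el Q₀ (eA (ev i)) (eJ w)) * P = P * ρ (el Q₀ (eA (ev i)) (eJ w)) := by
    intro i w
    have hfix : ∀ u, ap Q₀ (el Q₀ (eA (ev i)) (eJ w)) (eA u) = eA u := fun u => by
      rw [ap_el Q₀ (quad_eA Q₀ _) (polar_eA_eJ Q₀ _ _), polar_eA_eA, polar_eA_eJ]
      simp
    have h := rp_move Q₀ ρ ψ (g := el Q₀ (eA (ev i)) (eJ w)) one_ne_zero (by rw [hfix, one_smul]) x₁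
    rw [inv_one, one_smul, sig, he₁, hfix, ← he₁, proj_emb, ← hP] at h
    exact h
  obtain ⟨x, y', hxy⟩ : ∃ x y' : J → F, QuadraticMap.polar Q₀ x y' ≠ 0 := by
    by_contra! hc
    obtain ⟨j⟩ := ‹Nonempty J›
    have h1 := h0 (Pi.single j 1) fun z => hc _ z
    simpa using congrFun h1 j
  have hrk : Module.finrank ℂ (LinearMap.range P) ≤ 1 := hP ▸ hdr ▸ hd1
  have hz : ∀ (p : Pair (l + 1 + 2)) (c : F), ρ (zE Q₀ (Multiplicative.ofAdd (Pi.single p c))) * P = P := by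
    intro p c
    obtain ⟨t, ht⟩ : ∃ t, t = -c / QuadraticMap.polar Q₀ x y' := ⟨_, rfl⟩
    obtain ⟨a, ha⟩ : ∃ a, a = el Q₀ (eA (ev p.1.1)) (eJ (t • y')) := ⟨_, rfl⟩
    obtain ⟨b, hb⟩ : ∃ b, b = el Q₀ (eA (ev p.1.2)) (eJ x) := ⟨_, rfl⟩
    have hc : a * b = zE Q₀ (Multiplicative.ofAdd (Pi.single p c)) * b * a := by
      rw [ha, hb, el_eJ_comm, single_eq_wedge, QuadraticMap.polar_smul_right, smul_eq_mul, ht,
        div_mul_cancel₀ _ hxy, neg_neg]
    have e := rank_one_comm hPP hrk (ha ▸ hcomm p.1.1 _ : ρ a * P = P * ρ a) (hb ▸ hcomm p.1.2 _)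
    rw [← map_mul, hc, map_mul, map_mul] at e
    have hza : ∀ u w, ρ (zE Q₀ (Multiplicative.ofAdd (Pi.single p c))) * ρ (el Q₀ (eA u) (eJ w)) =
        ρ (el Q₀ (eA u) (eJ w)) * ρ (zE Q₀ (Multiplicative.ofAdd (Pi.single p c))) := fun u w => by
      rw [← map_mul, ← map_mul, zE_comm_el]
    have e1 : ρ b * ρ a * (ρ (zE Q₀ (Multiplicative.ofAdd (Pi.single p c))) * P) = ρ b * ρ a * P := by
      rw [← mul_assoc, mul_assoc (ρ b) (ρ a), ha, ← hza, ← mul_assoc, hb, ← hza, ← hb, ← ha]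
      exact e
    have e2 := congrArg (ρ (b * a)⁻¹ * ·) e1
    simp only [← mul_assoc, ← map_mul, inv_mul_cancel, inv_mul_cancel_left, map_one, one_mul] at e2
    simpa using e2
  obtain ⟨u, hu⟩ : ∃ u, P u ≠ 0 := by
    by_contra! h
    exact hPne (LinearMap.ext h)
  refine ⟨P u, hu, fun φ => ?_⟩
  rw [← Finset.univ_sum_single φ]
  induction (Finset.univ : Finset (Pair (l + 1 + 2))) using Finset.induction with
  | empty => rw [Finset.sum_empty, ofAdd_zero, map_one, map_one, Module.End.one_apply]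
  | insert p s hp ih =>
    rw [Finset.sum_insert hp, ofAdd_add, map_mul, map_mul, Module.End.mul_apply, ih]
    exact LinearMap.congr_fun (hz p _) u

end

end CfsgLib.MinDegree.HypPoint
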