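import Mathlib
import Cfsg.Agent.Lib.MinDegree.SLExact

/-!
Spherical sums, and vectors fixed by the stabiliser of a line in an extreme representation of the special linear
group.
-/

namespace CfsgLib.MinDegree.HypSphere

open Matrix SLAvg SLTv SLOps SLWts SLOverlap SLBound SLExact

universe u w

section General

variable {G : Type*} [Group G] [Fintype G] {X : Type*} [DecidableEq X]

/-- A sum along an orbit map. -/
theorem sum_orbit {R : Type*} [AddCommMonoid R] (π : G → X) (a : G → X → X) (hπ : ∀ g h, π (g * h) = a g (π h))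
    (S : Finset X) (hS : ∀ g, π g ∈ S) (hsurj : ∀ x ∈ S, ∃ g, π g = x) (Φ : X → R) :
    ∃ m : ℕ, m * S.card = Fintype.card G ∧ ∑ g, Φ (π g) = m • ∑ x ∈ S, Φ x := by
  classical
  obtain ⟨m, hm⟩ : ∃ m, m = (Finset.univ.filter fun g => π g = π 1).card := ⟨_, rfl⟩
  have hfib : ∀ x ∈ S, (Finset.univ.filter fun g => π g = x).card = m := by
    intro x hx
    obtain ⟨g₀, rfl⟩ := hsurj x hx
    rw [hm]
    refine Finset.card_nbij' (fun h => g₀⁻¹ * h) (fun h => g₀ * h) ?_ ?_ ?_ ?_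
    · intro h hh
      simp only [Finset.coe_filter, Finset.mem_univ, true_and, Set.mem_setOf_eq] at hh ⊢
      rw [hπ, hh, ← hπ, inv_mul_cancel]
    · intro h hh
      simp only [Finset.coe_filter, Finset.mem_univ, true_and, Set.mem_setOf_eq] at hh ⊢
      rw [hπ, hh, ← hπ, mul_one]
    · intro h _; simp
    · intro h _; simp
  have hmaps : ((Finset.univ : Finset G) : Set G).MapsTo π S := fun g _ => hS g
  refine ⟨m, ?_, ?_⟩
  · rw [← Finset.card_univ, Finset.card_eq_sum_card_fiberwise hmaps, Finset.sum_congr rfl hfib, Finset.sum_const,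
      smul_eq_mul, mul_comm]
  · rw [← Finset.sum_fiberwise_of_maps_to (fun g _ => hS g), Finset.smul_sum]
    refine Finset.sum_congr rfl fun x hx => ?_
    rw [Finset.sum_congr rfl fun g hg => by rw [(Finset.mem_filter.1 hg).2], Finset.sum_const, hfib x hx]

variable {V : Type*} [AddCommGroup V] [Module ℂ V] [FiniteDimensional ℂ V] (τ : Representation ℂ G V)

omit [DecidableEq X] in
/-- The spherical identity. -/
theorem spherical [τ.IsIrreducible] {z : V} {e : V →ₗ[ℂ] ℂ} (he : e z = 1) :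
    (Module.finrank ℂ V : ℂ) * ∑ g, e (τ g z) * e (τ g⁻¹ z) = (Fintype.card G : ℂ) := by
  haveI : Nontrivial V := ⟨z, 0, fun h => by rw [h, map_zero] at he; exact zero_ne_one he⟩
  obtain ⟨P, hP⟩ : ∃ P : Module.End ℂ V, P = e.smulRight z := ⟨_, rfl⟩
  obtain ⟨S, hS⟩ : ∃ S : Module.End ℂ V, S = ∑ g, τ g * P * τ g⁻¹ := ⟨_, rfl⟩
  obtain ⟨a, ha⟩ := exists_scalar_of_comm τ (S := S) fun h => by
    rw [hS, Finset.mul_sum, Finset.sum_mul]
    refine Fintype.sum_equiv (Equiv.mulLeft h) _ _ fun g => ?_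
    rw [Equiv.coe_mulLeft, map_mul, _root_.mul_inv_rev, map_mul]
    simp only [mul_assoc]
    rw [← map_mul τ h⁻¹ h, inv_mul_cancel, map_one, mul_one]
  have hPz : LinearMap.trace ℂ V P = 1 := by rw [hP, LinearMap.trace_smulRight, he]
  have htr : a * (Module.finrank ℂ V : ℂ) = (Fintype.card G : ℂ) := by
    have h := congrArg (LinearMap.trace ℂ V) ha
    rw [map_smul, LinearMap.trace_one, smul_eq_mul, hS, map_sum] at h
    rw [← h]
    have h1 : ∀ g, LinearMap.trace ℂ V (τ g * P * τ g⁻¹) = 1 := fun g => by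
      rw [LinearMap.trace_mul_comm, ← mul_assoc, ← map_mul, inv_mul_cancel, map_one, one_mul, hPz]
    rw [Finset.sum_congr rfl fun g _ => h1 g, Finset.sum_const, Finset.card_univ, nsmul_eq_mul, mul_one]
  have h2 := congrArg (fun T : Module.End ℂ V => e (T z)) ha
  simp only [hS, LinearMap.sum_apply, map_sum, LinearMap.smul_apply, Module.End.one_apply, map_smul, he, smul_eq_mul,
    mul_one, Module.End.mul_apply, hP, LinearMap.smulRight_apply] at h2
  rw [← htr, ← h2, mul_comm _ (Module.finrank ℂ V : ℂ)]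
  congr 1
  exact Finset.sum_congr rfl fun g _ => mul_comm _ _

omit [DecidableEq X] [Fintype G] in
/-- An invariant functional at a fixed vector. -/
theorem exists_inv_functional [Finite G] (H : Subgroup G) {z : V} (hz : z ≠ 0) (hfix : ∀ h ∈ H, τ h z = z) :
    ∃ e : V →ₗ[ℂ] ℂ, e z = 1 ∧ ∀ h ∈ H, ∀ v, e (τ h v) = e v := by
  classical
  letI := Fintype.ofFinite H
  obtain ⟨f, hf⟩ := Module.Projective.exists_dual_ne_zero ℂ hz
  refine ⟨((Fintype.card H : ℂ)⁻¹ * (f z)⁻¹) • ∑ h : H, f.comp (τ h.1), ?_, fun g hg v => ?_⟩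
  · simp only [LinearMap.smul_apply, LinearMap.sum_apply, LinearMap.comp_apply]
    rw [Finset.sum_congr rfl fun (h : H) _ => by rw [hfix h.1 h.2], Finset.sum_const, Finset.card_univ, nsmul_eq_mul,
      smul_eq_mul, mul_mul_mul_comm, inv_mul_cancel₀ (Nat.cast_ne_zero.2 Fintype.card_ne_zero), inv_mul_cancel₀ hf,
      one_mul]
  · simp only [LinearMap.smul_apply, LinearMap.sum_apply, LinearMap.comp_apply]
    congr 1
    refine Fintype.sum_equiv (Equiv.mulRight ⟨g, hg⟩) _ _ fun h => ?_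
    rw [← Module.End.mul_apply, ← map_mul]
    rfl

end General

variable {F : Type u} [Field F] [Fintype F] [DecidableEq F] {l : ℕ}
variable {V : Type w} [AddCommGroup V] [Module ℂ V] [FiniteDimensional ℂ V]

/-- From the stabiliser of a vector to the stabiliser of its line. -/
theorem line_of_vec (τ : Representation ℂ (SpecialLinearGroup (Fin (l + 1 + 2)) F) V) [τ.IsIrreducible]
    (hc : ((Fintype.card F : ℤ) - 1) * Module.finrank ℂ V < (Fintype.card F : ℤ) ^ (l + 1 + 2) - 1)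
    {y : V} (hy0 : y ≠ 0)
    (hy : ∀ A : SpecialLinearGroup (Fin (l + 1 + 2)) F, A.1 *ᵥ ev 0 = ev 0 → τ A y = y) :
    ∃ z : V, z ≠ 0 ∧ ∀ (A : SpecialLinearGroup (Fin (l + 1 + 2)) F) (a : F), A.1 *ᵥ ev 0 = a • ev 0 → τ A z = z := by
  classical
  let K : Submodule ℂ V :=
    { carrier := {v | ∀ A : SpecialLinearGroup (Fin (l + 1 + 2)) F, A.1 *ᵥ ev 0 = ev 0 → τ A v = v}
      zero_mem' := fun A _ => map_zero _
      add_mem' := fun {a b} ha hb A hA => by rw [map_add, ha A hA, hb A hA]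
      smul_mem' := fun c {a} ha A hA => by rw [map_smul, ha A hA] }
  obtain ⟨γ, hγ⟩ := IsCyclic.exists_generator (α := Fˣ)
  have hinv : ∀ v ∈ K, τ (hh γ) v ∈ K := fun v hv A hA => by
    have h := hv ((hh γ)⁻¹ * A * hh γ) (by
      rw [sl_mul_mulVec, sl_mul_mulVec, hh_ev0, mulVec_smul, hA, ← hh_ev0, ← sl_mul_mulVec, inv_mul_cancel]
      exact one_mulVec _)
    rw [← Module.End.mul_apply, ← map_mul, show A * hh γ = hh γ * ((hh γ)⁻¹ * A * hh γ) by
      rw [mul_assoc (hh γ)⁻¹, mul_inv_cancel_left], map_mul, Module.End.mul_apply, h]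
  haveI : Nontrivial K := ⟨⟨⟨y, hy⟩, 0, fun h => hy0 (congrArg Subtype.val h)⟩⟩
  obtain ⟨μ, hμ⟩ := Module.End.exists_eigenvalue ((τ (hh γ)).restrict hinv)
  obtain ⟨z, hzmem, hz0⟩ := hμ.exists_hasEigenvector
  have hzE : τ (hh γ) z.1 = μ • z.1 :=
    congrArg Subtype.val (Module.End.mem_eigenspace_iff.1 hzmem)
  have hz0' : z.1 ≠ 0 := fun h => hz0 (Subtype.ext h)
  have hμ0 : μ ≠ 0 := fun h => by
    rw [h, zero_smul] at hzE
    refine hz0' ?_
    have := congrArg (τ (hh γ)⁻¹) hzE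
    rwa [← Module.End.mul_apply, ← map_mul, inv_mul_cancel, map_one, map_zero] at this
  have hpow : ∀ i : ℕ, τ (hh (γ ^ i)) z.1 = μ ^ i • z.1 := fun i => by
    induction i with
    | zero =>
      rw [pow_zero, pow_zero, one_smul]
      exact z.2 _ (by rw [hh_ev0, Units.val_one, one_smul])
    | succ i ih => rw [pow_succ, ← hh_mul, map_mul, Module.End.mul_apply, hzE, map_smul, ih, smul_smul, pow_succ']
  have hχ : ∀ t : Fˣ, ∃ c : ℂ, τ (hh t) z.1 = c • z.1 := fun t => by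
    obtain ⟨i, rfl⟩ := (Submonoid.mem_powers_iff t γ).1
      (mem_powers_iff_mem_zpowers.2 (hγ t))
    exact ⟨_, hpow i⟩
  choose χ hχ using hχ
  have hχmul : ∀ s t, χ (s * t) = χ s * χ t := fun s t => by
    refine smul_left_injective ℂ hz0' (show χ (s * t) • z.1 = (χ s * χ t) • z.1 from ?_)
    rw [← hχ, ← hh_mul, map_mul, Module.End.mul_apply, hχ, map_smul, hχ, smul_smul, mul_comm]
  have hact : ∀ (A : SpecialLinearGroup (Fin (l + 1 + 2)) F) (t : Fˣ), A.1 *ᵥ ev 0 = (t : F) • ev 0 →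
      τ A z.1 = χ t • z.1 := fun A t hA => by
    have h := z.2 ((hh t)⁻¹ * A) (by
      rw [sl_mul_mulVec, hA, ← hh_ev0, ← sl_mul_mulVec, inv_mul_cancel]
      exact one_mulVec _)
    rw [← mul_inv_cancel_left (hh t) A, map_mul, Module.End.mul_apply, h, hχ]
  have hne0 : ∀ (A : SpecialLinearGroup (Fin (l + 1 + 2)) F) (x : Fin (l + 1 + 2) → F), x ≠ 0 → A.1 *ᵥ x ≠ 0 :=
    fun A x hx h => hx (mulVec_injective_of_isUnit (by rw [Matrix.isUnit_iff_isUnit_det, A.2]; exact isUnit_one)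
      (h.trans (mulVec_zero _).symm))
  by_cases h1 : ∀ t, χ t = 1
  · refine ⟨z.1, hz0', fun A a hA => ?_⟩
    have ha : a ≠ 0 := fun h => hne0 A _ (ev_ne_zero 0) (by rw [hA, h, zero_smul])
    rw [hact A (Units.mk0 a ha) hA, h1, one_smul]
  exfalso
  push Not at h1
  obtain ⟨t₀, ht₀⟩ := h1
  let H : Subgroup (SpecialLinearGroup (Fin (l + 1 + 2)) F) :=
    { carrier := {A | A.1 *ᵥ ev 0 = ev 0}
      one_mem' := one_mulVec _
      mul_mem' := fun {A B} hA hB => by
        show (A * B).1 *ᵥ ev 0 = ev 0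
        rw [sl_mul_mulVec, (hB : B.1 *ᵥ ev 0 = ev 0), hA]
      inv_mem' := fun {A} hA => by
        show (A⁻¹).1 *ᵥ ev 0 = ev 0
        conv_lhs => rw [← (hA : A.1 *ᵥ ev 0 = ev 0), ← sl_mul_mulVec, inv_mul_cancel]
        exact one_mulVec _ }
  obtain ⟨e, he, heH⟩ := exists_inv_functional τ H hz0' fun h hh' => z.2 h hh'
  obtain ⟨f, hf⟩ : ∃ f : SpecialLinearGroup (Fin (l + 1 + 2)) F → ℂ, ∀ A, f A = e (τ A z.1) := ⟨_, fun A => rfl⟩
  have hout : ∀ A : SpecialLinearGroup (Fin (l + 1 + 2)) F,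
      (∀ s : F, s • ev 0 ≠ A.1 *ᵥ ev 0) → f A = 0 := by
    intro A hA
    obtain ⟨t, ht⟩ : ∃ t, t = (t₀ : F) := ⟨_, rfl⟩
    have hA' : ∀ s : F, s • ev 0 ≠ (A * hh t₀).1 *ᵥ ev 0 := fun s hs => by
      rw [sl_mul_mulVec, hh_ev0, mulVec_smul] at hs
      refine hA ((t₀ : F)⁻¹ * s) ?_
      rw [mul_smul, hs, smul_smul, inv_mul_cancel₀ t₀.ne_zero, one_smul]
    obtain ⟨h, hh0, hh1⟩ := exists_sl_pair (by simp) ((LinearIndependent.pair_iff' (ev_ne_zero 0)).2 hA)
      ((LinearIndependent.pair_iff' (ev_ne_zero 0)).2 hA')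
    have e1 : f (A * hh t₀) = χ t₀ * f A := by
      rw [hf, hf, map_mul, Module.End.mul_apply, hχ, map_smul, map_smul, smul_eq_mul]
    have e2 : f (A * hh t₀) = f A := by
      have h3 : ((h * A)⁻¹ * (A * hh t₀)).1 *ᵥ ev 0 = ev 0 := by
        rw [sl_mul_mulVec, ← hh1, ← sl_mul_mulVec h A, ← sl_mul_mulVec, inv_mul_cancel]
        exact one_mulVec _
      rw [hf, hf, show A * hh t₀ = h * A * ((h * A)⁻¹ * (A * hh t₀)) by rw [mul_inv_cancel_left],
        map_mul, Module.End.mul_apply, z.2 _ h3, map_mul, Module.End.mul_apply, heH h hh0]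
    have : (χ t₀ - 1) * f A = 0 := by rw [sub_mul, one_mul, ← e1, e2, sub_self]
    exact (mul_eq_zero.1 this).resolve_left (sub_ne_zero.2 ht₀)
  obtain ⟨S, hS⟩ : ∃ S : Finset (Fin (l + 1 + 2) → F), S = Finset.univ.erase 0 := ⟨_, rfl⟩
  obtain ⟨m, hm, hsum⟩ := sum_orbit (fun A : SpecialLinearGroup (Fin (l + 1 + 2)) F => A.1 *ᵥ ev 0)
    (fun A x => A.1 *ᵥ x) (fun A B => sl_mul_mulVec A B _) S
    (fun A => by rw [hS]; exact Finset.mem_erase.2 ⟨hne0 A _ (ev_ne_zero 0), Finset.mem_univ _⟩)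
    (fun x hx => by
      rw [hS] at hx
      obtain ⟨j, hj⟩ : ∃ j, ∀ s : F, s • x ≠ j := by
        by_contra! hc'
        have h := finrank_le_one x hc'
        rw [Module.finrank_fintype_fun_eq_card, Fintype.card_fin] at h
        omega
      obtain ⟨g, hg, -⟩ := exists_sl_pair (by simp) (li_ev (F := F) (i := 0) (j := 1) (Fin.ext_iff.not.2 (by simp)))
        ((LinearIndependent.pair_iff' (Finset.ne_of_mem_erase hx)).2 hj)
      exact ⟨g, hg⟩)
    (fun x => if ∃ s : F, s • ev 0 = x then (1 : ℂ) else 0)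
  have hprod : ∀ A, f A * f A⁻¹ = if ∃ s : F, s • ev 0 = A.1 *ᵥ ev 0 then (1 : ℂ) else 0 := by
    intro A
    split_ifs with h
    · obtain ⟨s, hs⟩ := h
      have hs0 : s ≠ 0 := fun h => hne0 A _ (ev_ne_zero 0) (by rw [← hs, h, zero_smul])
      have hi : (A⁻¹).1 *ᵥ ev 0 = ((Units.mk0 s hs0)⁻¹ : Fˣ) • (ev 0 : Fin (l + 1 + 2) → F) := by
        have h2 : (A⁻¹).1 *ᵥ (A.1 *ᵥ ev 0) = ev 0 := by
          rw [← sl_mul_mulVec, inv_mul_cancel]; exact one_mulVec _
        rw [← hs, mulVec_smul] at h2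
        rw [Units.smul_def, Units.val_inv_eq_inv_val, Units.val_mk0, eq_inv_smul_iff₀ hs0]
        exact h2
      have hχ1 : χ 1 = 1 := smul_left_injective ℂ hz0' (show χ 1 • z.1 = (1 : ℂ) • z.1 by
        rw [← hχ, one_smul]; exact z.2 _ (by rw [hh_ev0, Units.val_one, one_smul]))
      rw [hf, hf, hact A (Units.mk0 s hs0) hs.symm, hact A⁻¹ (Units.mk0 s hs0)⁻¹ hi, map_smul, map_smul, he,
        smul_eq_mul, smul_eq_mul, mul_one, mul_one, ← hχmul, mul_inv_cancel, hχ1]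
    · push Not at h
      rw [hout A h, zero_mul]
  have hsph := spherical τ he
  have hcount : (S.filter fun x => ∃ s : F, s • ev 0 = x).card = Fintype.card F - 1 := by
    rw [← Fintype.card_units, ← Finset.card_univ]
    refine (Finset.card_bij (fun (s : Fˣ) _ => (s : F) • (ev 0 : Fin (l + 1 + 2) → F)) ?_ ?_ ?_).symm
    · intro s _
      rw [hS, Finset.mem_filter]
      exact ⟨Finset.mem_erase.2 ⟨smul_ne_zero s.ne_zero (ev_ne_zero 0), Finset.mem_univ _⟩, s, rfl⟩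
    · intro a _ b _ h
      exact Units.ext (smul_left_injective F (ev_ne_zero 0) h)
    · intro x hx
      rw [hS, Finset.mem_filter, Finset.mem_erase] at hx
      obtain ⟨⟨hx0, -⟩, s, rfl⟩ := hx
      exact ⟨Units.mk0 s (fun h => hx0 (by rw [h, zero_smul])), Finset.mem_univ _, rfl⟩
  rw [Finset.sum_congr rfl fun A _ => by rw [← hf, ← hf, hprod], hsum, Finset.sum_boole, hcount, ← hm,
    nsmul_eq_mul, Nat.cast_mul] at hsph
  have hm0 : m ≠ 0 := fun h => Fintype.card_ne_zero (α := SpecialLinearGroup (Fin (l + 1 + 2)) F) (by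
    rw [← hm, h, zero_mul])
  have h5 : Module.finrank ℂ V * (Fintype.card F - 1) = S.card := by
    refine Nat.cast_injective (R := ℂ) (mul_left_cancel₀ (Nat.cast_ne_zero.2 hm0) ?_)
    rw [← hsph, Nat.cast_mul]
    ring
  rw [hS, Finset.card_erase_of_mem (Finset.mem_univ _), Finset.card_univ, Fintype.card_fun, Fintype.card_fin] at h5
  have h6 : ((Module.finrank ℂ V * (Fintype.card F - 1) : ℕ) : ℤ) = ((Fintype.card F ^ (l + 1 + 2) - 1 : ℕ) : ℤ) := by
    rw [h5]
  push_cast [Nat.one_le_pow _ _ (Fintype.card_pos (α := F)), Fintype.card_pos (α := F),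
    (Fintype.card_pos (α := F) : 1 ≤ Fintype.card F)] at h6
  linarith

/-- In dimension three some vector is fixed by the stabiliser of a row. -/
theorem exists_row_fixed_three (hq : 4 < Fintype.card F)
    (τ : Representation ℂ (SpecialLinearGroup (Fin (0 + 1 + 2)) F) V) [τ.IsIrreducible] (hτ : τ ≠ 1)
    (hk : ((Fintype.card F : ℤ) - 1) * Module.finrank ℂ V =
      (Fintype.card F : ℤ) ^ (0 + 1 + 2) - Fintype.card F) :
    ∃ y : V, y ≠ 0 ∧ ∀ A : SpecialLinearGroup (Fin (0 + 1 + 2)) F,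
      (ev 2 : Fin (0 + 1 + 2) → F) ᵥ* A.1 = ev 2 → τ A y = y := by
  classical
  have hex : (0 = 0 → Fintype.card F ≠ 2 ∧ Fintype.card F ≠ 4) ∧
      (0 = 1 → Fintype.card F ≠ 2 ∧ Fintype.card F ≠ 3) := by omega
  obtain ⟨Q, hQ⟩ : ∃ Q : ℤ, Q = (Fintype.card F : ℤ) := ⟨_, rfl⟩
  have hQ5 : 5 ≤ Q := by rw [hQ]; exact_mod_cast hq
  rcases sl_data_gen_ext τ hτ with h | ⟨c, c', d, f, z, hd, hfz, hzc, hkc, hc, hm, -, -, -, hvec, -⟩
  · have := h.2 (by omega)
    rw [hk] at this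
    omega
  have hd' : (1 : ℤ) ≤ d := by exact_mod_cast hd hex
  rw [← hQ] at hm hk hc hkc
  norm_num at hm hk hc hkc
  have hkval : (Module.finrank ℂ V : ℤ) = Q ^ 2 + Q := mul_left_cancel₀ (show Q - 1 ≠ 0 by omega) (by rw [hk]; ring)
  have hcval : (c : ℤ) = Q + 1 := by linarith
  have hd1 : (d : ℤ) = 1 := by
    have hc0 : (0 : ℤ) ≤ c' := Nat.cast_nonneg _
    nlinarith
  have hc2 : (c' : ℤ) = 2 := by rw [hd1] at hc; linarith
  have hT : (Q + 1) * f - z = Q - 1 := by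
    rw [hkval, hcval, hc2] at hm
    have h1 : (Q ^ 3 - Q) * (Q ^ 2 + Q) * ((Q - 1) * ((Q + 1) * f - z)) =
        (Q ^ 3 - Q) * (Q ^ 2 + Q) * ((Q - 1) * (Q - 1)) := by linear_combination hm
    have hne : (Q ^ 3 - Q) * (Q ^ 2 + Q) ≠ 0 := mul_ne_zero (by nlinarith) (by nlinarith)
    exact mul_left_cancel₀ (show Q - 1 ≠ 0 by omega) (mul_left_cancel₀ hne h1)
  have hf : 0 < f := by
    rcases Nat.eq_zero_or_pos f with h | h
    · exfalso
      rw [h, Nat.cast_zero, mul_zero] at hT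
      have : (0 : ℤ) ≤ z := Nat.cast_nonneg _
      omega
    · exact h
  obtain ⟨y, hy0, hu, hl, hs, hP, hX⟩ := hvec hf
  refine ⟨y, hy0, fun A hA => ?_⟩
  obtain ⟨ψ, hψ⟩ := CfsgLib.MinDegree.exists_nontrivial_addChar (F := F) (K := ℂ)
    (Nat.cast_ne_zero.2 Fintype.card_ne_zero)
  have hPv : ∀ φ : Fin (0 + 1 + 1) → F, τ (tv (ev 0) (p1 φ)) y = y := fun φ => by
    have h := apply_mul_av ψ (qHom τ) φ 0
    rw [dotProduct_zero, AddChar.map_zero_eq_one, one_smul, ← pv_ev0] at h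
    rw [← hP, ← Module.End.mul_apply]
    exact LinearMap.congr_fun h y
  have hrow : ∀ j, A.1 2 j = (ev 2 : Fin (0 + 1 + 2) → F) j := fun j => by
    have h := congrFun hA j
    rwa [ev, single_one_vecMul] at h
  have hdet : A.1 0 0 * A.1 1 1 - A.1 0 1 * A.1 1 0 = 1 := by
    have h := A.2
    rw [det_fin_three] at h
    simp [hrow, ev] at h
    linear_combination h
  -- the block
  obtain ⟨p, r, s, t, hp, hr, hs', ht⟩ : ∃ p r s t : F, p = A.1 0 0 ∧ r = A.1 0 1 ∧ s = A.1 1 0 ∧ t = A.1 1 1 :=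
    ⟨_, _, _, _, rfl, rfl, rfl, rfl⟩
  rw [← hp, ← hr, ← hs', ← ht] at hdet
  have hAx : ∀ x : Fin (0 + 1 + 2) → F, A.1 *ᵥ x =
      ![p * x 0 + r * x 1 + A.1 0 2 * x 2, s * x 0 + t * x 1 + A.1 1 2 * x 2, x 2] := fun x => by
    funext i
    fin_cases i <;> simp [mulVec, dotProduct, Fin.sum_univ_three, hrow, ev, hp, hr, hs', ht]
  have hc2 : ∀ (a b : F) (g : Fin 1 → F), (Fin.cons a (Fin.cons b g) : Fin (0 + 1 + 2) → F) 2 = g 0 :=
    fun a b g => rfl
  have he2 : ((0 : Fin 1).succ.succ : Fin (0 + 1 + 2)) = 2 := rfl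
  by_cases hs0 : s = 0
  · have hp0 : p ≠ 0 := fun h => by rw [h, hs0] at hdet; simp at hdet
    have hA' : A = tv (ev 0) (p1 ![0, A.1 0 2]) * (tv (ev 1) (p2 ![A.1 1 2]) * (hh (Units.mk0 p hp0) * uu (r / p))) := by
      refine sl_ext fun x => ?_
      rw [sl_mul_mulVec, sl_mul_mulVec, sl_mul_mulVec, uu_mulVec, hh_mulVec, tv_mulVec (p2_ev1 _),
        tv_mulVec (p1_ev0 _), hAx]
      funext i
      fin_cases i <;> simp [p1, p2, ev, dotProduct, Fin.sum_univ_three, hs0, hc2, he2] <;> field_simp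
      rw [hs0, mul_zero, sub_zero] at hdet
      exact Or.inl (by linear_combination hdet)
    rw [hA']
    simp only [map_mul, Module.End.mul_apply, hu, hs, hX, hPv]
  · have hA' : A = tv (ev 0) (p1 ![0, A.1 0 2]) *
        (tv (ev 1) (p2 ![A.1 1 2]) * (uu ((p - 1) / s) * (ll s * uu ((t - 1) / s)))) := by
      refine sl_ext fun x => ?_
      rw [sl_mul_mulVec, sl_mul_mulVec, sl_mul_mulVec, sl_mul_mulVec, uu_mulVec, ll_mulVec, uu_mulVec,
        tv_mulVec (p2_ev1 _), tv_mulVec (p1_ev0 _), hAx]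
      funext i
      fin_cases i <;> simp [p1, p2, ev, dotProduct, Fin.sum_univ_three, hc2, he2] <;> field_simp
      · linear_combination (-(x 1)) * hdet
      · ring
    rw [hA']
    simp only [map_mul, Module.End.mul_apply, hu, hl, hX, hPv]

/-- An extreme irreducible representation has a vector fixed by the stabiliser of a line. -/
theorem exists_line_fixed (hq : 4 < Fintype.card F)
    (τ : Representation ℂ (SpecialLinearGroup (Fin (l + 1 + 2)) F) V) [τ.IsIrreducible] (hτ : τ ≠ 1)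
    (hk : ((Fintype.card F : ℤ) - 1) * Module.finrank ℂ V =
      (Fintype.card F : ℤ) ^ (l + 1 + 2) - Fintype.card F) :
    ∃ z : V, z ≠ 0 ∧ ∀ (A : SpecialLinearGroup (Fin (l + 1 + 2)) F) (a : F), A.1 *ᵥ ev 0 = a • ev 0 → τ A z = z := by
  classical
  rcases l with - | k
  swap
  · exact exists_point_fixed (l := k) (by omega) τ hτ hk
  haveI := irreducible_comp τ (dualHom (0 + 1 + 2) F) (dualHom_surjective _)
  have hτ' : τ.comp (dualHom (0 + 1 + 2) F) ≠ 1 := fun h => hτ (MonoidHom.ext fun g => by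
    obtain ⟨g', rfl⟩ := dualHom_surjective _ g
    exact DFunLike.congr_fun h g')
  obtain ⟨y, hy0, hy⟩ := exists_row_fixed_three hq (τ.comp (dualHom (0 + 1 + 2) F)) hτ' hk
  have hyB : ∀ B : SpecialLinearGroup (Fin (0 + 1 + 2)) F, B.1 *ᵥ ev 2 = ev 2 → τ B y = y := by
    intro B hB
    have hdd : dualHom (0 + 1 + 2) F (dualHom (0 + 1 + 2) F B) = B := Subtype.ext (by
      show (Matrix.adjugate (Matrix.adjugate B.1)ᵀ)ᵀ = B.1
      rw [← Matrix.adjugate_transpose, transpose_transpose]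
      exact congrArg Subtype.val (inv_inv B))
    have h := hy (dualHom (0 + 1 + 2) F B) (by
      show (ev 2 : Fin (0 + 1 + 2) → F) ᵥ* ((B⁻¹).1)ᵀ = ev 2
      rw [vecMul_transpose]
      conv_lhs => rw [← hB, ← sl_mul_mulVec, inv_mul_cancel]
      exact one_mulVec _)
    rwa [MonoidHom.comp_apply, hdd] at h
  obtain ⟨P, hP, -⟩ := exists_sl_pair (by simp) (li_ev (F := F) (n := 0 + 1) (i := 2) (j := 1) (by decide))
    (li_ev (F := F) (n := 0 + 1) (i := 0) (j := 1) (by decide))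
  refine line_of_vec τ ?_ (y := τ P y) (fun h => hy0 ?_) fun A hA => ?_
  · rw [hk]
    have : (2 : ℤ) ≤ Fintype.card F := by exact_mod_cast Fintype.one_lt_card
    linarith
  · have h2 := congrArg (τ P⁻¹) h
    rwa [← Module.End.mul_apply, ← map_mul, inv_mul_cancel, map_one, map_zero] at h2
  · have h2 := hyB (P⁻¹ * A * P) (by
      rw [sl_mul_mulVec, sl_mul_mulVec, hP, hA, ← hP, ← sl_mul_mulVec, inv_mul_cancel]
      exact one_mulVec _)
    conv_rhs => rw [← h2]
    rw [← Module.End.mul_apply, ← Module.End.mul_apply, ← map_mul, ← map_mul, mul_assoc P⁻¹, mul_inv_cancel_left]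

end CfsgLib.MinDegree.HypSphere
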