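import Mathlib
import Cfsg.Agent.Lib.MinDegree.HypPoint
import Cfsg.Agent.Lib.MinDegree.HypSphere
import Cfsg.Agent.Lib.Classical.QuadPOmega

/-!
Bounds for the degrees of the commutator groups of hyperbolic extensions.
-/

namespace CfsgLib.MinDegree.HypBd

open Matrix CfsgLib.Classical SLAvg SLTv SLOps SLWts SLBound PlusAlt HypFrm HypWts HypFix HypPoint HypSphere

universe u w

noncomputable section

variable {F : Type u} [Field F] [Fintype F] [DecidableEq F] {J : Type} [Fintype J] [Nonempty J] {l : ℕ}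
variable (Q₀ : QuadraticForm F (J → F)) (h0 : PolarNondeg Q₀)
variable {V : Type w} [AddCommGroup V] [Module ℂ V] [FiniteDimensional ℂ V]
variable (ρ : Representation ℂ (EG Q₀ l) V)

include h0 in
omit [Nonempty J] [FiniteDimensional ℂ V] in
theorem zfix_levE {v : V} (hv : ZFix Q₀ ρ v) (A : SpecialLinearGroup (Fin (l + 1 + 2)) F) :
    ZFix Q₀ ρ (ρ (levE Q₀ h0 A) v) := fun φ => by
  have h := levE_conj_zE Q₀ h0 A (act ((A⁻¹).1ᵀ) φ)
  rw [← act_mul, ← transpose_mul, show A.1 * (A⁻¹).1 = 1 from congrArg Subtype.val (mul_inv_cancel A),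
    transpose_one, act_one] at h
  rw [← Module.End.mul_apply, ← map_mul, ← h, map_mul, Module.End.mul_apply, hv]

/-- The Levi representation on the fixed space. -/
def levC : Representation ℂ (SpecialLinearGroup (Fin (l + 1 + 2)) F) (fixC Q₀ ρ) where
  toFun A := (ρ (levE Q₀ h0 A)).restrict fun v hv => zfix_levE Q₀ h0 ρ hv A
  map_one' := LinearMap.ext fun v => Subtype.ext (by
    show ρ (levE Q₀ h0 1) v.1 = v.1
    rw [map_one, map_one, Module.End.one_apply])
  map_mul' A B := LinearMap.ext fun v => Subtype.ext (by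
    show ρ (levE Q₀ h0 (A * B)) v.1 = ρ (levE Q₀ h0 A) (ρ (levE Q₀ h0 B) v.1)
    rw [map_mul, map_mul, Module.End.mul_apply])

omit [FiniteDimensional ℂ V] in
theorem levC_apply (A : SpecialLinearGroup (Fin (l + 1 + 2)) F) (v : fixC Q₀ ρ) :
    (levC Q₀ h0 ρ A v).1 = ρ (levE Q₀ h0 A) v.1 := rfl

include h0 in
theorem levC_ne_one [ρ.IsIrreducible] (hρ : ρ ≠ 1) (hsmall : Small (V := V) (F := F) (J := J) (l := l))
    {v : V} (hv0 : v ≠ 0) (hv : ZFix Q₀ ρ v) : levC Q₀ h0 ρ ≠ 1 := fun h =>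
  hv0 (eq_zero_of_levi Q₀ ρ h0 hρ hsmall hv fun A =>
    congrArg Subtype.val (LinearMap.congr_fun (DFunLike.congr_fun h A) ⟨v, hv⟩))

include h0 in
/-- The bound when the Levi subgroup has no small representations and the non-singular weights do not occur. -/
theorem bound_of_hex [ρ.IsIrreducible] (hρ : ρ ≠ 1)
    (hex : (l = 0 → Fintype.card F ≠ 2 ∧ Fintype.card F ≠ 4) ∧ (l = 1 → Fintype.card F ≠ 2 ∧ Fintype.card F ≠ 3))
    (hns : Small (V := V) (F := F) (J := J) (l := l) → ∀ ψ : AddChar F ℂ, ψ ≠ 1 →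
      ∀ x : Md F l J, qExt (l + 1 + 1) Q₀ x ≠ 0 → rp Q₀ ρ ψ x = 0) :
    (Fintype.card F : ℤ) ^ Fintype.card J * ((Fintype.card F : ℤ) ^ (l + 1 + 2) - 1) *
        ((Fintype.card F : ℤ) ^ (l + 1 + 1) - 1) +
      ((Fintype.card F : ℤ) + 1) * ((Fintype.card F : ℤ) ^ (l + 1 + 2) - Fintype.card F) ≤
      ((Fintype.card F : ℤ) ^ 2 - 1) * Module.finrank ℂ V := by
  by_contra hlt
  push Not at hlt
  have hQ : (2 : ℤ) ≤ Fintype.card F := by exact_mod_cast Fintype.one_lt_card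
  have hsmall : Small (V := V) (F := F) (J := J) (l := l) := by
    refine lt_of_lt_of_le hlt (add_le_add le_rfl (mul_le_mul_of_nonneg_left ?_ (by omega)))
    linarith
  obtain ⟨ψ, hψ⟩ := CfsgLib.MinDegree.exists_nontrivial_addChar (F := F) (K := ℂ)
    (Nat.cast_ne_zero.2 Fintype.card_ne_zero)
  obtain ⟨v, hv0, hv⟩ := exists_zfix Q₀ h0 ρ ψ hψ hρ hsmall (hns hsmall ψ hψ)
  obtain ⟨-, -, hk, -⟩ := small_data Q₀ ρ ψ h0 hψ hρ hsmall
  rw [← finrank_fixC Q₀ ρ ψ hψ] at hk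
  have hb := sl_bound_of_ne_one hex (levC Q₀ h0 ρ) (levC_ne_one Q₀ h0 ρ hρ hsmall hv0 hv)
  have hk' : (Fintype.card F : ℤ) ^ Fintype.card J * (wedges (l + 1 + 2) F).card +
      Module.finrank ℂ (fixC Q₀ ρ) ≤ Module.finrank ℂ V := by exact_mod_cast hk
  have hN := card_wedges (F := F) (l + 1 + 1)
  rw [show (wedges (l + 1 + 1 + 1) F).card = (wedges (l + 1 + 2) F).card from rfl,
    show (Fintype.card F : ℤ) ^ (l + 1 + 1 + 1) = (Fintype.card F : ℤ) ^ (l + 1 + 2) from rfl] at hN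
  obtain ⟨Q, hQ'⟩ : ∃ Q : ℤ, Q = (Fintype.card F : ℤ) := ⟨_, rfl⟩
  rw [← hQ'] at hN hk' hb hlt hQ
  have h1 := mul_le_mul_of_nonneg_left hk' (show (0 : ℤ) ≤ Q ^ 2 - 1 by nlinarith)
  have h2 := mul_le_mul_of_nonneg_left hN (show (0 : ℤ) ≤ Q ^ Fintype.card J by positivity)
  have h3 := mul_le_mul_of_nonneg_left hb (show (0 : ℤ) ≤ Q + 1 by omega)
  linarith

end

noncomputable section Odd

variable {F : Type u} [Field F] [Fintype F] [DecidableEq F] {l : ℕ}
variable {V : Type w} [AddCommGroup V] [Module ℂ V] [FiniteDimensional ℂ V]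

theorem hh_inv_row {n : ℕ} (s : Fˣ) (c : F) :
    ((SLOverlap.hh s : SpecialLinearGroup (Fin (n + 2)) F)⁻¹).1ᵀ *ᵥ (c • ev 0) = ((s : F)⁻¹ * c) • ev 0 := by
  have h1 : (SLOverlap.hh 1 : SpecialLinearGroup (Fin (n + 2)) F) = 1 := sl_ext fun x => by
    rw [SLOverlap.hh_mulVec]
    show _ = (1 : Matrix (Fin (n + 2)) (Fin (n + 2)) F) *ᵥ x
    rw [one_mulVec]
    funext i
    refine Fin.cases ?_ (fun j => Fin.cases ?_ (fun l => ?_) j) i <;> simp
  rw [inv_eq_of_mul_eq_one_right (show SLOverlap.hh s * SLOverlap.hh s⁻¹ = (1 : SpecialLinearGroup (Fin (n + 2)) F) by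
    rw [SLOverlap.hh_mul, mul_inv_cancel, h1])]
  have hd : ((SLOverlap.hh s⁻¹ : SpecialLinearGroup (Fin (n + 2)) F).1)ᵀ =
      (SLOverlap.hh s⁻¹ : SpecialLinearGroup (Fin (n + 2)) F).1 := diagonal_transpose _
  rw [hd, mulVec_smul, SLOverlap.hh_ev0, smul_smul, Units.val_inv_eq_inv_val, mul_comm]

/-- The bound in odd dimension. -/
theorem odd_bound (h2 : (2 : F) ≠ 0) (hq : 4 < Fintype.card F)
    (ρ : Representation ℂ (EG (qLine F) l) V) [ρ.IsIrreducible] (hρ : ρ ≠ 1) :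
    (Fintype.card F : ℤ) * ((Fintype.card F : ℤ) ^ (l + 1 + 2) - 1) * ((Fintype.card F : ℤ) ^ (l + 1 + 1) - 1) +
      ((Fintype.card F : ℤ) + 1) * ((Fintype.card F : ℤ) ^ (l + 1 + 2) - 1) ≤
      ((Fintype.card F : ℤ) ^ 2 - 1) * Module.finrank ℂ V := by
  classical
  by_contra hlt
  push Not at hlt
  have h0 := polarNondeg_qLine (F := F) h2
  haveI := finite_qAut (QF (qLine F) l)
  letI : Fintype (EG (qLine F) l) := Fintype.ofFinite _
  have hsmall : HypFix.Small (V := V) (F := F) (J := Unit) (l := l) := by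
    rw [HypFix.Small, Fintype.card_unit, pow_one]; exact hlt
  obtain ⟨ψ, hψ⟩ := CfsgLib.MinDegree.exists_nontrivial_addChar (F := F) (K := ℂ)
    (Nat.cast_ne_zero.2 Fintype.card_ne_zero)
  obtain ⟨v, hv0, hv⟩ := exists_zfix (qLine F) h0 ρ ψ hψ hρ hsmall fun x =>
    rp_nonsingular (qLine F) h0 ρ ψ hψ (by omega) hsmall
  obtain ⟨-, -, -, hc⟩ := small_data (qLine F) ρ ψ h0 hψ hρ hsmall
  rw [← finrank_fixC (qLine F) ρ ψ hψ] at hc
  -- the Levi representation has the extreme degree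
  obtain ⟨C, hC⟩ : ∃ C : Representation ℂ (SpecialLinearGroup (Fin (l + 1 + 2)) F) (fixC (qLine F) ρ),
      C = levC (qLine F) h0 ρ := ⟨_, rfl⟩
  have hC1 : C ≠ 1 := hC ▸ levC_ne_one (qLine F) h0 ρ hρ hsmall hv0 hv
  have hex : (l = 0 → Fintype.card F ≠ 2 ∧ Fintype.card F ≠ 4) ∧ (l = 1 → Fintype.card F ≠ 2 ∧ Fintype.card F ≠ 3) := by
    omega
  obtain ⟨Q, hQ⟩ : ∃ Q : ℤ, Q = (Fintype.card F : ℤ) := ⟨_, rfl⟩
  have hQ5 : 5 ≤ Q := by rw [hQ]; exact_mod_cast hq
  rw [← hQ] at hc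
  obtain ⟨N, hN⟩ : Q - 1 ∣ Q ^ (l + 1 + 2) - Q := by
    have := sub_one_dvd_pow_sub_one Q (l + 1 + 2)
    rw [show Q ^ (l + 1 + 2) - Q = (Q ^ (l + 1 + 2) - 1) - (Q - 1) by ring]
    exact dvd_sub this dvd_rfl
  have hlow : ∀ {W : Type w} [AddCommGroup W] [Module ℂ W] [FiniteDimensional ℂ W]
      (σ : Representation ℂ (SpecialLinearGroup (Fin (l + 1 + 2)) F) W), σ ≠ 1 →
      N ≤ (Module.finrank ℂ W : ℤ) := by
    intro W _ _ _ σ hσ
    have h := sl_bound_of_ne_one hex σ hσ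
    rw [← hQ, hN] at h
    exact le_of_mul_le_mul_left h (by omega)
  have hcN : (Module.finrank ℂ (fixC (qLine F) ρ) : ℤ) ≤ N := by
    by_contra hgt
    push Not at hgt
    have h5 : (Q - 1) * (N + 1) ≤ (Q - 1) * Module.finrank ℂ (fixC (qLine F) ρ) :=
      mul_le_mul_of_nonneg_left (by omega) (by omega)
    linarith
  haveI : C.IsIrreducible := irreducible_of_minimal (sl_commutator l F) C hC1
    (fun U σ hσ => by exact_mod_cast hcN.trans (hlow σ hσ)) (fun U σ hσ => by exact_mod_cast hcN.trans (hlow σ hσ))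
  obtain ⟨z, hz0, hz⟩ := exists_line_fixed hq C hC1 (by rw [← hQ, hN, le_antisymm hcN (hlow C hC1)])
  have hzL : ∀ (A : SpecialLinearGroup (Fin (l + 1 + 2)) F) (a : F), A.1 *ᵥ ev 0 = a • ev 0 →
      ρ (levE (qLine F) h0 A) z.1 = z.1 := fun A a hA => by
    rw [← levC_apply, ← hC, hz A a hA]
  have hzne : z.1 ≠ 0 := fun h => hz0 (Subtype.ext h)
  obtain ⟨e0, he0⟩ : ∃ e0 : Vc F l Unit, e0 = eA (ev 0) := ⟨_, rfl⟩
  have he00 : e0 ≠ 0 := fun h => by
    rw [he0, ← eA_zero] at h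
    exact ev_ne_zero (0 : Fin (l + 1 + 2)) (mk_inj h).1
  have hapne : ∀ (g : EG (qLine F) l) (x : Vc F l Unit), x ≠ 0 → ap (qLine F) g x ≠ 0 := fun g x hx =>
    qAut_ne_zero (QF (qLine F) l) g.1 hx
  let H : Subgroup (EG (qLine F) l) :=
    { carrier := {g | ∃ t : F, ap (qLine F) g e0 = t • e0}
      one_mem' := ⟨1, by rw [one_smul]; rfl⟩
      mul_mem' := by
        rintro g h ⟨a, ha⟩ ⟨b, hb⟩
        exact ⟨b * a, by rw [ap_mul, hb, mul_smul, ← ha]; exact map_smul _ _ _⟩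
      inv_mem' := by
        rintro g ⟨a, ha⟩
        have ha0 : a ≠ 0 := fun h => hapne g e0 he00 (by rw [ha, h, zero_smul])
        refine ⟨a⁻¹, ?_⟩
        have h1 : ap (qLine F) g⁻¹ (ap (qLine F) g e0) = e0 := by rw [← ap_mul, inv_mul_cancel]; rfl
        rw [ha, show ap (qLine F) g⁻¹ (a • e0) = a • ap (qLine F) g⁻¹ e0 from map_smul _ _ _] at h1
        exact (eq_inv_smul_iff₀ ha0).2 h1 }
  have hH : ∀ h ∈ H, ρ h z.1 = z.1 := fun h ⟨t, ht⟩ => fix_line (qLine F) ρ h0 hρ hsmall z.2 hzL (he0 ▸ ht)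
  obtain ⟨e, he, heH⟩ := exists_inv_functional ρ H hzne hH
  obtain ⟨f, hf⟩ : ∃ f : EG (qLine F) l → ℂ, ∀ g, f g = e (ρ g z.1) := ⟨_, fun g => rfl⟩
  -- equal classes
  have hsame : ∀ g g' : EG (qLine F) l, (∃ h ∈ H, ap (qLine F) h (ap (qLine F) g e0) = ap (qLine F) g' e0) →
      f g = f g' := by
    rintro g g' ⟨h, hh, hgg⟩
    have h1 : (g'⁻¹ * (h * g)) ∈ H := ⟨1, by
      rw [one_smul, ap_mul, ap_mul, hgg, ← ap_mul, inv_mul_cancel]; rfl⟩
    rw [hf, hf, ← heH h hh, ← Module.End.mul_apply, ← map_mul, ← mul_inv_cancel_left g' (h * g), map_mul,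
      Module.End.mul_apply, hH _ h1]
  have hn4 : 4 ≤ Module.finrank F (Vc F l Unit) := le_trans (by omega) (dim_le (F := F) (J := Unit) (l := l))
  have hbeta : ∀ x : Vc F l Unit, QuadraticMap.polar (QF (qLine F) l) e0 x = x (.inl (.inr 0)) := fun x => by
    obtain ⟨a, b, w, rfl⟩ := exists_mk x
    rw [he0, eA, polar_mk, QuadraticMap.polar_zero_left, zero_dotProduct, add_zero, add_zero, dotProduct_comm, dot_ev]
    rfl
  -- the two moves
  have hcls1 : ∀ x : Vc F l Unit, QF (qLine F) l x = 0 → x (.inl (.inr 0)) = 0 → (¬ ∃ t : F, t • e0 = x) →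
      ∃ h ∈ H, ap (qLine F) h x = eA (ev 1) := by
    intro x hx hb hline
    obtain ⟨s, hs⟩ := exists_perp_decomp (qLine F) (z := x) (by rw [← he0, hbeta, hb])
    obtain ⟨y, hy⟩ : ∃ y, y = proj x := ⟨_, rfl⟩
    rw [← hy] at hs
    have hy0 : y ≠ 0 := fun h => hline ⟨s, by
      rw [hs, h, he0]
      rw [show (emb (0 : Md F l Unit) : Vc F l Unit) = 0 by
        rw [← zero_smul F (0 : Md F l Unit), emb_smul, zero_smul], zero_add]⟩
    have hyq : qExt (l + 1 + 1) (qLine F) y = 0 := by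
      rw [← hx, hs, quad_add, quad_smul, quad_eA, QuadraticMap.polar_smul_right, QuadraticMap.polar_comm,
        polar_eA0_emb, quad_emb, smul_zero, mul_zero, add_zero, add_zero]
    obtain ⟨x₁, hx₁⟩ : ∃ x₁ : Md F l Unit,
        x₁ = extSucc (l + 1) (HypSum.eH : (F × F) × ((Fin (l + 1) ⊕ Fin (l + 1)) ⊕ Unit → F)) := ⟨_, rfl⟩
    have he₁ : emb x₁ = (eA (ev 1) : Vc F l Unit) := hx₁ ▸ emb_eH
    have hq₁ : qExt (l + 1 + 1) (qLine F) x₁ = 0 := by
      rw [hx₁]; exact (qExt_extSucc _ _ _).trans (HypSum.quad_eH _)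
    have hx₁0 : x₁ ≠ 0 := fun h => by
      have h2 := congrFun he₁ (.inl (.inl 1))
      rw [h, ← Fin.succ_zero_eq_one] at h2
      simp [emb, eA, mk, ev] at h2
    obtain ⟨m, hm, hmy⟩ := exists_move_eichGroup _ (polarNondeg_qExt h0 _) (dim_mid (l := l) (qLine F) h0)
      hyq hq₁ hy0 hx₁0
    obtain ⟨hme, hms⟩ := ap_midE (qLine F) ⟨m, hm⟩
    obtain ⟨t, ht⟩ := sig_spec (qLine F) (s := (1 : F)) one_ne_zero (by rw [one_smul]; exact hme) y
    rw [hms, hmy, he₁] at ht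
    have hval : ap (qLine F) (midE (qLine F) ⟨m, hm⟩) x = eA (ev 1) + (t + s) • eA (ev 0) := by
      rw [hs, show ap (qLine F) (midE (qLine F) ⟨m, hm⟩) (emb y + s • eA (ev 0)) =
        ap (qLine F) (midE (qLine F) ⟨m, hm⟩) (emb y) + s • ap (qLine F) (midE (qLine F) ⟨m, hm⟩) (eA (ev 0)) from
        (map_add _ _ _).trans (congrArg (_ + ·) (map_smul _ _ _)), ht, hme, add_smul, add_assoc]
    have hd : ((-(t + s)) • ev 1 : Fin (l + 1 + 2) → F) ⬝ᵥ ev 0 = 0 := by
      rw [dot_ev]; simp [ev]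
    refine ⟨levE (qLine F) h0 (tv (ev 0) ((-(t + s)) • ev 1)) * midE (qLine F) ⟨m, hm⟩, H.mul_mem
      ⟨1, by rw [he0, ap_levE_eA, tv_mulVec hd, hd, zero_smul, add_zero, one_smul]⟩
      ⟨1, by rw [he0, hme, one_smul]⟩, ?_⟩
    rw [ap_mul, hval, ← eA_smul, ← eA_add, ap_levE_eA, mulVec_add, mulVec_smul, tv_mulVec hd, tv_mulVec hd, hd]
    congr 1
    simp [dot_ev, ev]
    module
  have hcls2 : ∀ x : Vc F l Unit, QF (qLine F) l x = 0 → x (.inl (.inr 0)) ≠ 0 →
      ∃ h ∈ H, ap (qLine F) h x = fB (ev 0) := by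
    intro x hx hb
    obtain ⟨β, hβ⟩ : ∃ β, β = x (.inl (.inr 0)) := ⟨_, rfl⟩
    rw [← hβ] at hb
    have hpf : QuadraticMap.polar (QF (qLine F) l) e0 (fB (β • ev 0)) = β := by
      rw [hbeta]; simp [fB, mk, ev]
    obtain ⟨w, hw, hwx⟩ := exists_eich_move (QF (qLine F) l) (u := x) (u' := fB (β • ev 0)) (v := e0) hx
      (quad_fB _ _) (he0 ▸ quad_eA _ _)
      (by rw [QuadraticMap.polar_comm, hbeta, ← hβ, QuadraticMap.polar_comm, hpf])
      (by rw [QuadraticMap.polar_comm, hbeta, ← hβ]; exact hb)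
    have hfix : ap (qLine F) (el (qLine F) e0 w) e0 = e0 := eich_fix _ (he0 ▸ quad_eA _ _) hw
    refine ⟨levE (qLine F) h0 (SLOverlap.hh (Units.mk0 β hb)) * el (qLine F) e0 w, H.mul_mem
      ⟨β, by rw [he0, ap_levE_eA, SLOverlap.hh_ev0, eA_smul]; rfl⟩ ⟨1, by rw [hfix, one_smul]⟩, ?_⟩
    rw [ap_mul, show ap (qLine F) (el (qLine F) e0 w) x = fB (β • ev 0) from hwx, fB, ap_levE, hh_inv_row,
      mulVec_zero, Units.val_mk0, inv_mul_cancel₀ hb, one_smul]
    rfl
  have he1ne : (eA (ev 1) : Vc F l Unit) ≠ 0 := fun h => by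
    rw [← eA_zero] at h; exact ev_ne_zero (1 : Fin (l + 1 + 2)) (mk_inj h).1
  have hf0ne : (fB (ev 0) : Vc F l Unit) ≠ 0 := fun h => by
    rw [show (0 : Vc F l Unit) = fB 0 from eA_zero.symm] at h; exact ev_ne_zero (0 : Fin (l + 1 + 2)) (mk_inj h).2.1
  obtain ⟨g₁, hg₁, hg₁e⟩ := exists_move_eichGroup (QF (qLine F) l) (nondeg (qLine F) h0 l) hn4
    (he0 ▸ quad_eA _ _) (quad_eA _ (ev 1)) he00 he1ne
  obtain ⟨g₂, hg₂, hg₂e⟩ := exists_move_eichGroup (QF (qLine F) l) (nondeg (qLine F) h0 l) hn4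
    (he0 ▸ quad_eA _ _) (quad_fB _ (ev 0)) he00 hf0ne
  obtain ⟨a₁, ha₁⟩ : ∃ a₁, a₁ = f ⟨g₁, hg₁⟩ := ⟨_, rfl⟩
  obtain ⟨a₂, ha₂⟩ : ∃ a₂, a₂ = f ⟨g₂, hg₂⟩ := ⟨_, rfl⟩
  let line : Vc F l Unit → Prop := fun x => ∃ t : F, t • e0 = x
  let Φ : Vc F l Unit → ℂ := fun x => if line x then 1 else if x (.inl (.inr 0)) = 0 then a₁ else a₂
  have hsing : ∀ g, QF (qLine F) l (ap (qLine F) g e0) = 0 := fun g => by
    show QF (qLine F) l (g.1.1 e0) = 0
    rw [qAut_map, he0, quad_eA]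
  have hΦ : ∀ g, f g = Φ (ap (qLine F) g e0) := by
    intro g
    simp only [Φ]
    split_ifs with hl hb
    · obtain ⟨t, ht⟩ := hl
      rw [hf, hH g ⟨t, ht.symm⟩, he]
    · obtain ⟨h, hh, hx⟩ := hcls1 _ (hsing g) hb hl
      exact ha₁ ▸ hsame g ⟨g₁, hg₁⟩ ⟨h, hh, hx.trans hg₁e.symm⟩
    · obtain ⟨h, hh, hx⟩ := hcls2 _ (hsing g) hb
      exact ha₂ ▸ hsame g ⟨g₂, hg₂⟩ ⟨h, hh, hx.trans hg₂e.symm⟩
  have hlineb : ∀ x, line x → x (.inl (.inr 0)) = 0 := by
    rintro x ⟨t, rfl⟩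
    simp [he0, eA, mk]
  have hinv : ∀ g, Φ (ap (qLine F) g⁻¹ e0) = Φ (ap (qLine F) g e0) := by
    intro g
    have e1 : line (ap (qLine F) g⁻¹ e0) ↔ line (ap (qLine F) g e0) := by
      constructor
      · rintro ⟨t, ht⟩
        obtain ⟨s, hs⟩ := H.inv_mem (show g⁻¹ ∈ H from ⟨t, ht.symm⟩)
        rw [inv_inv] at hs
        exact ⟨s, hs.symm⟩
      · rintro ⟨t, ht⟩
        obtain ⟨s, hs⟩ := H.inv_mem (show g ∈ H from ⟨t, ht.symm⟩)
        exact ⟨s, hs.symm⟩
    have e2 : ap (qLine F) g⁻¹ e0 (.inl (.inr 0)) = ap (qLine F) g e0 (.inl (.inr 0)) := by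
      rw [← hbeta (ap (qLine F) g⁻¹ e0), ← hbeta (ap (qLine F) g e0), ← qAut_polar g.1 e0 (ap (qLine F) g⁻¹ e0), QuadraticMap.polar_comm]
      show QuadraticMap.polar _ (ap (qLine F) g (ap (qLine F) g⁻¹ e0)) _ = _
      rw [← ap_mul, mul_inv_cancel]
      rfl
    simp only [Φ, e1, e2]
  -- sums over totally singular subspaces
  obtain ⟨T, hT⟩ : ∃ T : Finset (Fin (l + 1 + 2) → F), T = Finset.univ.erase 0 := ⟨_, rfl⟩
  have hzero : ∀ g : EG (qLine F) l, ∑ a ∈ T, Φ (ap (qLine F) g (eA a)) = 0 := by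
    intro g
    have hsum0 : ∑ A, ρ (levE (qLine F) h0 A) z.1 = 0 := by
      refine eq_zero_of_levi (qLine F) ρ h0 hρ hsmall ((fixC (qLine F) ρ).sum_mem fun A _ => zfix_levE _ h0 ρ z.2 A)
        fun B => ?_
      rw [map_sum]
      exact Fintype.sum_equiv (Equiv.mulLeft B) _ _ fun A => by
        rw [← Module.End.mul_apply, ← map_mul, ← map_mul]; rfl
    obtain ⟨m, hm, hsum⟩ := sum_orbit (fun A : SpecialLinearGroup (Fin (l + 1 + 2)) F => A.1 *ᵥ ev 0)
      (fun A x => A.1 *ᵥ x) (fun A B => sl_mul_mulVec A B _) T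
      (fun A => by
        rw [hT]
        refine Finset.mem_erase.2 ⟨fun h => ev_ne_zero (0 : Fin (l + 1 + 2)) (mulVec_injective_of_isUnit
          (by rw [Matrix.isUnit_iff_isUnit_det, A.2]; exact isUnit_one) (h.trans (mulVec_zero _).symm)),
          Finset.mem_univ _⟩)
      (fun x hx => by
        rw [hT] at hx
        obtain ⟨A, hA⟩ := exists_transpose_move (ev_ne_zero (0 : Fin (l + 1 + 2))) (Finset.ne_of_mem_erase hx)
        exact ⟨⟨A.1ᵀ, by rw [det_transpose]; exact A.2⟩, hA⟩)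
      (fun a => Φ (ap (qLine F) g (eA a)))
    have h1 : ∑ A : SpecialLinearGroup (Fin (l + 1 + 2)) F, Φ (ap (qLine F) g (eA (A.1 *ᵥ ev 0))) = 0 := by
      have h2 : ∀ A : SpecialLinearGroup (Fin (l + 1 + 2)) F,
          Φ (ap (qLine F) g (eA (A.1 *ᵥ ev 0))) = e (ρ g (ρ (levE (qLine F) h0 A) z.1)) := fun A => by
        rw [← ap_levE_eA (qLine F) h0, ← he0, ← ap_mul, ← hΦ, hf, map_mul, Module.End.mul_apply]
      rw [Finset.sum_congr rfl fun A _ => h2 A, ← map_sum, ← map_sum, hsum0, map_zero, map_zero]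
    rw [h1] at hsum
    have hm0 : m ≠ 0 := fun h => Fintype.card_ne_zero (α := SpecialLinearGroup (Fin (l + 1 + 2)) F) (by
      rw [← hm, h, zero_mul])
    rw [nsmul_eq_mul, eq_comm, mul_eq_zero] at hsum
    exact hsum.resolve_left (Nat.cast_ne_zero.2 hm0)
  obtain ⟨q, hq'⟩ : ∃ q : ℂ, q = (Fintype.card F : ℂ) := ⟨_, rfl⟩
  obtain ⟨R, hR⟩ : ∃ R : ℂ, R = q ^ (l + 1 + 1) := ⟨_, rfl⟩
  have hTc : (T.card : ℂ) = q * R - 1 := by
    rw [hT, Finset.card_erase_of_mem (Finset.mem_univ _), Finset.card_univ, Fintype.card_fun, Fintype.card_fin,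
      Nat.cast_sub (Nat.one_le_pow _ _ Fintype.card_pos), Nat.cast_pow, Nat.cast_one, ← hq', hR]
    ring
  have hlineT : ((T.filter fun a => line (eA a)).card : ℂ) = q - 1 := by
    rw [hq', ← Nat.cast_one (R := ℂ), ← Nat.cast_sub Fintype.card_pos, ← Fintype.card_units, ← Finset.card_univ]
    congr 1
    refine (Finset.card_bij (fun (s : Fˣ) _ => (s : F) • (ev 0 : Fin (l + 1 + 2) → F)) ?_ ?_ ?_).symm
    · intro s _
      rw [hT, Finset.mem_filter]
      exact ⟨Finset.mem_erase.2 ⟨smul_ne_zero s.ne_zero (ev_ne_zero 0), Finset.mem_univ _⟩, s,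
        by rw [he0, eA_smul]⟩
    · intro a _ b _ h
      exact Units.ext (smul_left_injective F (ev_ne_zero 0) h)
    · intro x hx
      rw [hT, Finset.mem_filter, Finset.mem_erase] at hx
      obtain ⟨⟨hx0, -⟩, s, hs⟩ := hx
      rw [he0, ← eA_smul] at hs
      have hxs : s • ev 0 = x := (mk_inj hs).1
      exact ⟨Units.mk0 s (fun h => hx0 (by rw [← hxs, h, zero_smul])), Finset.mem_univ _, hxs⟩
  have hE1 : (q - 1) + (q * R - q) * a₁ = 0 := by
    have h := hzero 1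
    have h1 : ∀ a, Φ (ap (qLine F) 1 (eA a)) = if line (eA a) then (1 : ℂ) else a₁ := fun a => by
      show Φ (eA a) = _
      simp only [Φ]
      split_ifs with hl hb
      · rfl
      · rfl
      · exact absurd (show (eA a : Vc F l Unit) (.inl (.inr 0)) = 0 from rfl) hb
    rw [Finset.sum_congr rfl fun a _ => h1 a, Finset.sum_ite, Finset.sum_const, Finset.sum_const, nsmul_eq_mul,
      nsmul_eq_mul, mul_one] at h
    have hc2 : ((T.filter fun a => ¬line (eA a)).card : ℂ) = (q * R - 1) - (q - 1) := by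
      rw [← hTc, ← hlineT, ← Finset.card_filter_add_card_filter_not (s := T) fun a => line (eA a)]
      push_cast
      ring
    rw [hlineT, hc2] at h
    linear_combination h
  have hE2 : (R - 1) * a₁ + (q * R - R) * a₂ = 0 := by
    have hpol : QuadraticMap.polar (QF (qLine F) l) (fB (ev 0)) (fB (ev 1)) = 0 := polar_fB_fB _ _ _
    have hgx : ∀ a : Fin (l + 1 + 2) → F, ap (qLine F) (el (qLine F) (fB (ev 0)) (fB (ev 1))) (eA a) =
        mk a (a 0 • ev 1 - a 1 • ev 0) 0 := fun a => by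
      rw [ap_el (qLine F) (quad_fB _ _) hpol, quad_fB, zero_mul, add_zero, polar_eA_fB, polar_eA_fB, dot_ev, dot_ev,
        eA, fB, fB, mk_smul, mk_smul, mk_add, mk_sub]
      congr 1 <;> simp
    have h := hzero (el (qLine F) (fB (ev 0)) (fB (ev 1)))
    have h1 : ∀ a ∈ T, Φ (ap (qLine F) (el (qLine F) (fB (ev 0)) (fB (ev 1))) (eA a)) =
        if a 1 = 0 then a₁ else a₂ := by
      intro a ha
      rw [hgx]
      have hb : (mk a (a 0 • ev 1 - a 1 • ev 0) 0 : Vc F l Unit) (.inl (.inr 0)) = -a 1 := by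
        simp [mk, ev]
      have hnl : ¬ line (mk a (a 0 • ev 1 - a 1 • ev 0) 0) := by
        rintro ⟨t, ht⟩
        rw [he0, eA, mk_smul, smul_zero, smul_zero] at ht
        obtain ⟨ha', hb', -⟩ := mk_inj ht
        have h1 := congrFun hb' 1
        have h2 : a 0 = 0 := by simpa [ev] using h1.symm
        refine Finset.ne_of_mem_erase (hT ▸ ha) ?_
        rw [← ha'] at h2 ⊢
        simp [ev] at h2
        rw [h2, zero_smul]
      simp only [Φ, hnl, hb, if_false, neg_eq_zero]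
    rw [Finset.sum_congr rfl h1, Finset.sum_ite, Finset.sum_const, Finset.sum_const, nsmul_eq_mul,
      nsmul_eq_mul] at h
    have hc1 : ((T.filter fun a => a 1 = 0).card : ℂ) = R - 1 := by
      have e : T.filter (fun a => a 1 = 0) = (Finset.univ.filter fun a : Fin (l + 1 + 2) → F => a 1 = 0).erase 0 := by
        rw [hT]; ext a; simp [and_comm]
      rw [e, Finset.card_erase_of_mem (by simp)]
      have hcard : (Finset.univ.filter fun a : Fin (l + 1 + 2) → F => a 1 = 0).card =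
          Fintype.card F ^ (l + 1 + 1) := by
        rw [← Fintype.card_fin (l + 1 + 1), ← Fintype.card_fun, ← Finset.card_univ]
        refine Finset.card_nbij' (fun a => fun i => a ((1 : Fin (l + 1 + 2)).succAbove i))
          (fun b => (1 : Fin (l + 1 + 2)).insertNth (0 : F) b) (fun a _ => by simp) (fun b _ => by simp) ?_ ?_
        · intro a ha
          simp only [Finset.coe_filter, Finset.mem_univ, true_and, Set.mem_setOf_eq] at ha
          refine funext fun i => ?_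
          refine Fin.succAboveCases (1 : Fin (l + 1 + 2)) ?_ ?_ i
          · simp [ha]
          · intro j; simp
        · intro b _
          funext i
          simp
      rw [hcard, Nat.cast_sub (Nat.one_le_pow _ _ Fintype.card_pos), Nat.cast_pow, Nat.cast_one, ← hq', hR]
    have hc2 : ((T.filter fun a => ¬a 1 = 0).card : ℂ) = (q * R - 1) - (R - 1) := by
      rw [← hTc, ← hc1, ← Finset.card_filter_add_card_filter_not (s := T) fun a => a 1 = 0]
      push_cast
      ring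
    rw [hc1, hc2] at h
    linear_combination h
  -- the total
  obtain ⟨X, hX⟩ : ∃ X : Finset (Vc F l Unit), X = (Finset.univ.filter fun x => QF (qLine F) l x = 0).erase 0 :=
    ⟨_, rfl⟩
  obtain ⟨m, hm, hsum⟩ := sum_orbit (fun g => ap (qLine F) g e0) (ap (qLine F)) (fun g h => ap_mul _ g h _) X
    (fun g => by
      rw [hX]
      exact Finset.mem_erase.2 ⟨hapne g e0 he00, Finset.mem_filter.2 ⟨Finset.mem_univ _, hsing g⟩⟩)
    (fun x hx => by
      rw [hX] at hx
      obtain ⟨g, hg, hge⟩ := exists_move_eichGroup (QF (qLine F) l) (nondeg (qLine F) h0 l) hn4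
        (he0 ▸ quad_eA _ _) (Finset.mem_filter.1 (Finset.mem_of_mem_erase hx)).2 he00 (Finset.ne_of_mem_erase hx)
      exact ⟨⟨g, hg⟩, hge⟩)
    (fun x => Φ x * Φ x)
  have hsph := spherical ρ he
  have hprod : ∀ g, e (ρ g z.1) * e (ρ g⁻¹ z.1) = Φ (ap (qLine F) g e0) * Φ (ap (qLine F) g e0) := fun g => by
    rw [← hf, ← hf, hΦ, hΦ, hinv]
  rw [Finset.sum_congr rfl fun g _ => hprod g, hsum, ← hm, nsmul_eq_mul, Nat.cast_mul] at hsph
  have hm0 : m ≠ 0 := fun h => Fintype.card_ne_zero (α := EG (qLine F) l) (by rw [← hm, h, zero_mul])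
  have hkey : (Module.finrank ℂ V : ℂ) * ∑ x ∈ X, Φ x * Φ x = (X.card : ℂ) :=
    mul_left_cancel₀ (Nat.cast_ne_zero.2 hm0) (by linear_combination hsph)
  -- the counts
  have hall : (Finset.univ.filter fun x : Vc F l Unit => QF (qLine F) l x = 0).card =
      Fintype.card F ^ (2 * (l + 1 + 2)) := by
    rw [← zeros_line (F := F) (l + 1 + 2), zeros, Nat.card_eq_fintype_card, Fintype.card_subtype]
  have hperp : (Finset.univ.filter fun x : Vc F l Unit => QF (qLine F) l x = 0 ∧ x (.inl (.inr 0)) = 0).card =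
      Fintype.card F * Fintype.card F ^ (2 * (l + 1 + 1)) := by
    rw [← zeros_line (F := F) (l + 1 + 1), zeros, Nat.card_eq_fintype_card, Fintype.card_subtype,
      ← Finset.card_univ (α := F), ← Finset.card_product]
    refine Finset.card_nbij' (fun x => (((spl l Unit F).symm x).1.1, ((spl l Unit F).symm x).2))
      (fun p => spl l Unit F ((p.1, 0), p.2)) ?_ ?_ ?_ ?_
    · intro x hx
      simp only [Finset.coe_filter, Finset.mem_univ, true_and, Set.mem_setOf_eq, Finset.coe_product, Set.mem_prod,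
        Finset.coe_univ, Set.mem_univ] at hx ⊢
      obtain ⟨p, rfl⟩ := (spl l Unit F).surjective x
      rw [← hbeta (spl l Unit F p), he0, ← spl_eH, spl_polar, HypSum.polar_eH, spl_quad, hypSum_apply] at hx
      rw [LinearEquiv.symm_apply_apply]
      rw [hx.2, mul_zero, zero_add] at hx
      exact hx.1
    · intro p hp
      simp only [Finset.coe_filter, Finset.mem_univ, true_and, Set.mem_setOf_eq, Finset.coe_product, Set.mem_prod,
        Finset.coe_univ, Set.mem_univ] at hp ⊢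
      rw [← hbeta (spl l Unit F ((p.1, 0), p.2)), he0, ← spl_eH, spl_polar, HypSum.polar_eH, spl_quad, hypSum_apply]
      exact ⟨by rw [mul_zero, zero_add]; exact hp, rfl⟩
    · intro x hx
      simp only [Finset.coe_filter, Finset.mem_univ, true_and, Set.mem_setOf_eq] at hx
      obtain ⟨p, rfl⟩ := (spl l Unit F).surjective x
      rw [← hbeta (spl l Unit F p), he0, ← spl_eH, spl_polar, HypSum.polar_eH] at hx
      show spl l Unit F ((((spl l Unit F).symm (spl l Unit F p)).1.1, 0), ((spl l Unit F).symm (spl l Unit F p)).2) = _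
      rw [LinearEquiv.symm_apply_apply]
      congr 1
      exact Prod.ext (Prod.ext rfl hx.2.symm) rfl
    · intro p _
      simp
  have hXline : X.filter line = (Finset.univ : Finset Fˣ).image fun s : Fˣ => (s : F) • e0 := by
    rw [hX]
    ext x
    simp only [Finset.mem_filter, Finset.mem_erase, Finset.mem_image, Finset.mem_univ, true_and]
    constructor
    · rintro ⟨⟨hx0, -⟩, t, rfl⟩
      exact ⟨Units.mk0 t fun h => hx0 (by rw [h, zero_smul]), rfl⟩
    · rintro ⟨s, rfl⟩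
      exact ⟨⟨smul_ne_zero s.ne_zero he00, by rw [quad_smul, he0, quad_eA, mul_zero]⟩, _, rfl⟩
  have hlc : ((X.filter line).card : ℂ) = q - 1 := by
    rw [hXline, Finset.card_image_of_injective _ fun a b h => Units.ext (smul_left_injective F he00 h),
      Finset.card_univ, Fintype.card_units, Nat.cast_sub Fintype.card_pos, Nat.cast_one, hq']
  have hXc : (X.card : ℂ) = (q * R) ^ 2 - 1 := by
    rw [hX, Finset.card_erase_of_mem (by simp), hall, Nat.cast_sub (Nat.one_le_pow _ _ Fintype.card_pos),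
      Nat.cast_pow, Nat.cast_one, ← hq', hR]
    ring
  have hXb : ((X.filter fun x => x (.inl (.inr 0)) = 0).card : ℂ) = q * R ^ 2 - 1 := by
    have e : X.filter (fun x => x (.inl (.inr 0)) = 0) =
        (Finset.univ.filter fun x : Vc F l Unit => QF (qLine F) l x = 0 ∧ x (.inl (.inr 0)) = 0).erase 0 := by
      rw [hX]
      ext x
      simp [and_assoc]
    rw [e, Finset.card_erase_of_mem (by simp), hperp, Nat.cast_sub (Nat.one_le_iff_ne_zero.2 (by positivity)),
      Nat.cast_mul, Nat.cast_pow, Nat.cast_one, ← hq', hR]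
    ring
  have hXsum : ∑ x ∈ X, Φ x * Φ x =
      (q - 1) + (q * R ^ 2 - q) * a₁ ^ 2 + ((q * R) ^ 2 - q * R ^ 2) * a₂ ^ 2 := by
    rw [← Finset.sum_filter_add_sum_filter_not X fun x => x (.inl (.inr 0)) = 0,
      ← Finset.sum_filter_add_sum_filter_not (X.filter fun x => x (.inl (.inr 0)) = 0) line]
    have ha : ∀ x ∈ (X.filter fun x => x (.inl (.inr 0)) = 0).filter line, Φ x * Φ x = 1 := fun x hx => by
      simp only [Φ, (Finset.mem_filter.1 hx).2, if_true, mul_one]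
    have hb : ∀ x ∈ (X.filter fun x => x (.inl (.inr 0)) = 0).filter (fun x => ¬ line x), Φ x * Φ x = a₁ ^ 2 :=
      fun x hx => by
      simp only [Finset.mem_filter] at hx
      simp only [Φ, hx.2, hx.1.2, if_false, if_true, sq]
    have hc : ∀ x ∈ X.filter (fun x => ¬x (.inl (.inr 0)) = 0), Φ x * Φ x = a₂ ^ 2 := fun x hx => by
      simp only [Finset.mem_filter] at hx
      simp only [Φ, hx.2, if_false, sq, show ¬ line x from fun h => hx.2 (hlineb x h)]
    rw [Finset.sum_congr rfl ha, Finset.sum_congr rfl hb, Finset.sum_congr rfl hc, Finset.sum_const, Finset.sum_const,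
      Finset.sum_const, nsmul_eq_mul, nsmul_eq_mul, nsmul_eq_mul, mul_one]
    have e1 : (X.filter fun x => x (.inl (.inr 0)) = 0).filter line = X.filter line := by
      ext x
      simp only [Finset.mem_filter]
      exact ⟨fun h => ⟨h.1.1, h.2⟩, fun h => ⟨⟨h.1, hlineb x h.2⟩, h.2⟩⟩
    have n1 : (((X.filter fun x => x (.inl (.inr 0)) = 0).filter fun x => ¬ line x).card : ℂ) = q * R ^ 2 - q := by
      have h := congrArg (Nat.cast (R := ℂ)) (Finset.card_filter_add_card_filter_not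
        (s := X.filter fun x => x (.inl (.inr 0)) = 0) line)
      push_cast at h
      rw [e1, hlc, hXb] at h
      linear_combination h
    have n2 : ((X.filter fun x => ¬x (.inl (.inr 0)) = 0).card : ℂ) = (q * R) ^ 2 - q * R ^ 2 := by
      have h := congrArg (Nat.cast (R := ℂ)) (Finset.card_filter_add_card_filter_not
        (s := X) fun x => x (.inl (.inr 0)) = 0)
      push_cast at h
      rw [hXb, hXc] at h
      linear_combination h
    rw [e1, hlc, n1, n2]
  rw [hXsum, hXc] at hkey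
  have hqne : q ≠ 0 := hq' ▸ Nat.cast_ne_zero.2 Fintype.card_ne_zero
  have hR0 : R ≠ 0 := hR ▸ pow_ne_zero _ hqne
  have hq1 : q - 1 ≠ 0 := by
    rw [hq', sub_ne_zero, ← Nat.cast_one (R := ℂ), Ne, Nat.cast_inj]; omega
  have hnat : 2 ≤ Fintype.card F ^ (l + 1 + 1) := le_trans (by omega) (Nat.le_self_pow (by omega) _)
  have hR1 : R - 1 ≠ 0 := by
    rw [hR, hq', sub_ne_zero, ← Nat.cast_pow, ← Nat.cast_one (R := ℂ), Ne, Nat.cast_inj]; omega
  have hqR1 : q * R - 1 ≠ 0 := by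
    rw [hR, hq', sub_ne_zero, ← Nat.cast_pow, ← Nat.cast_mul, ← Nat.cast_one (R := ℂ), Ne, Nat.cast_inj]
    nlinarith
  have hA1 : a₁ = -(q - 1) / (q * (R - 1)) := by
    rw [eq_div_iff (mul_ne_zero hqne hR1)]
    linear_combination hE1
  have hA2 : a₂ = 1 / (q * R) := by
    rw [eq_div_iff (mul_ne_zero hqne hR0)]
    have h : (q - 1) * (a₂ * (q * R) - 1) = 0 := by linear_combination q * hE2 - hE1
    exact sub_eq_zero.1 ((mul_eq_zero.1 h).resolve_left hq1)
  have hsumval : ((q - 1) + (q * R ^ 2 - q) * a₁ ^ 2 + ((q * R) ^ 2 - q * R ^ 2) * a₂ ^ 2) * (q * (R - 1)) =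
      2 * (q - 1) * (q * R - 1) := by
    rw [hA1, hA2]
    field_simp
    ring
  have hint : 2 * (q - 1) * (Module.finrank ℂ V : ℂ) = q * (R - 1) * (q * R + 1) := by
    refine mul_left_cancel₀ hqR1 ?_
    linear_combination q * (R - 1) * hkey - (Module.finrank ℂ V : ℂ) * hsumval
  obtain ⟨S, hS⟩ : ∃ S : ℤ, S = Q ^ (l + 1 + 1) := ⟨_, rfl⟩
  have hintZ : 2 * (Q - 1) * (Module.finrank ℂ V : ℤ) = Q * (S - 1) * (Q * S + 1) := by
    rw [hS, hQ]
    rw [hR, hq'] at hint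
    exact_mod_cast hint
  rw [← hQ, ← hS, show Q ^ (l + 1 + 2) = Q * S by rw [hS]; ring] at hlt
  have hS5 : Q ≤ S := by rw [hS]; exact le_self_pow₀ (by omega) (by omega)
  have h1 : (Q + 1) * (Q * (S - 1) * (Q * S + 1)) < 2 * ((Q * S - 1) * (Q * S + 1)) := by
    rw [← hintZ]; nlinarith
  have h3 : 2 * (Q * S - 1) ≤ (Q + 1) * (Q * (S - 1)) := by
    nlinarith [mul_nonneg (show (0 : ℤ) ≤ S - Q by omega) (show (0 : ℤ) ≤ Q * (Q - 1) by nlinarith)]
  have h4 := mul_le_mul_of_nonneg_right h3 (show (0 : ℤ) ≤ Q * S + 1 by nlinarith)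
  linarith

end Odd

section Transfer

variable {F : Type u} [Field F] [Fintype F] [DecidableEq F] {J : Type} [Fintype J] {l : ℕ}

/-- A group isomorphic to the isometry group of a hyperbolic extension has its commutator group equal to EG. -/
theorem exists_omega_equiv (Q₀ : QuadraticForm F (J → F)) (h0 : PolarNondeg Q₀) {ι : Type} [Fintype ι]
    [DecidableEq ι] (Q : QuadraticForm F (ι → F)) (e : ∃ L : Vc F l J ≃ₗ[F] (ι → F), ∀ v, Q (L v) = QF Q₀ l v) :
    Nonempty (EG Q₀ l ≃* Cfsg.Omega F ⇑Q) := by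
  obtain ⟨L, hL⟩ := e
  have h := eichGroup_eq_commutator (QF Q₀ l) (nondeg Q₀ h0 l) dim_le
  exact ⟨(MulEquiv.subgroupCongr h).trans ((MulEquiv.subgroupMap ((qAutCongr L hL).trans (isoEquiv Q).symm)
    (commutator (qAut (QF Q₀ l)))).trans (MulEquiv.subgroupCongr (map_commutator_equiv _)))⟩

theorem ne_one_of_irreducible {G : Type*} [Group G] {V : Type*} [AddCommGroup V] [Module ℂ V]
    (ρ : Representation ℂ G V) [ρ.IsIrreducible] (h2 : 2 ≤ Module.finrank ℂ V) : ρ ≠ 1 := by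
  rintro rfl
  obtain ⟨v, hv⟩ : ∃ v : V, v ≠ 0 := by
    haveI : Nontrivial V := Module.nontrivial_of_finrank_pos (R := ℂ) (by omega)
    exact exists_ne 0
  let T : Subrepresentation (1 : Representation ℂ G V) :=
    { toSubmodule := Submodule.span ℂ {v}
      apply_mem_toSubmodule := fun g w hw => by simpa using hw }
  rcases IsSimpleOrder.eq_bot_or_eq_top T with h | h
  · exact hv (Submodule.span_singleton_eq_bot.1 (congrArg Subrepresentation.toSubmodule h :))
  · have h1 := finrank_span_singleton (K := ℂ) hv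
    rw [show Submodule.span ℂ {v} = ⊤ from (congrArg Subrepresentation.toSubmodule h :), finrank_top] at h1
    omega

end Transfer

end CfsgLib.MinDegree.HypBd
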