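import Mathlib
import Cfsg.Agent.Lib.MinDegree.HypPoint

/-!
Weights of the root group of a singular vector when the middle space is an anisotropic plane: the non-singular
weights do not occur, over any finite field, and the fixed space of the root group carries the translation
weights which vanish on the first vector.
-/

namespace CfsgLib.MinDegree.HypMinus

open Matrix CfsgLib.Classical SLAvg SLTv SLOps PlusAlt HypFrm HypWts HypFix HypPoint

universe u w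

noncomputable section

variable {F : Type u} [Field F] [Fintype F] [DecidableEq F] {J : Type} [Fintype J] {l : ℕ}

/-- Every non-zero value is taken at two vectors on different lines. -/
def TwoLines (Q₀ : QuadraticForm F (J → F)) : Prop :=
  ∀ lam : F, lam ≠ 0 → ∃ w₁ w₂ : J → F, Q₀ w₁ = lam ∧ Q₀ w₂ = lam ∧ ∀ t : F, t • w₁ ≠ w₂

/-- A point of the first half of the middle. -/
def mdA (a : Fin (l + 1 + 1) → F) : Md F l J := Sum.elim (Sum.elim a 0) 0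

/-- A point of the anisotropic part of the middle. -/
def mdJ (w : J → F) : Md F l J := Sum.elim (Sum.elim 0 0) w

theorem cons_zero_zero : (Fin.cons 0 0 : Fin (l + 1 + 2) → F) = 0 := by
  funext i; refine Fin.cases ?_ (fun j => ?_) i <;> rfl

theorem emb_mdA (a : Fin (l + 1 + 1) → F) : (emb (mdA a) : Vc F l J) = eA (Fin.cons 0 a) := by
  show mk (Fin.cons 0 a) (Fin.cons 0 0) 0 = eA _
  rw [cons_zero_zero]; rfl

theorem emb_mdJ (w : J → F) : (emb (mdJ w) : Vc F l J) = eJ w := by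
  show mk (Fin.cons 0 0) (Fin.cons 0 0) w = eJ w
  rw [cons_zero_zero]; rfl

theorem emb_flat {x : Md F l J} (hb : ∀ i, x (.inl (.inr i)) = 0) :
    emb x = (mk (Fin.cons 0 fun i => x (.inl (.inl i))) 0 fun j => x (.inr j) : Vc F l J) := by
  rw [emb, show (fun i => x (.inl (.inr i))) = (0 : Fin (l + 1 + 1) → F) from funext hb, cons_zero_zero]

variable (Q₀ : QuadraticForm F (J → F))

theorem quad_mdA (a : Fin (l + 1 + 1) → F) : qExt (l + 1 + 1) Q₀ (mdA a) = 0 := by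
  rw [← quad_emb, emb_mdA, quad_eA]

theorem quad_mdJ (w : J → F) : qExt (l + 1 + 1) Q₀ (mdJ w) = Q₀ w := by
  rw [← quad_emb, emb_mdJ, quad_eJ]

theorem polar_mdA (a : Fin (l + 1 + 1) → F) (y : Md F l J) :
    QuadraticMap.polar (qExt (l + 1 + 1) Q₀) (mdA a) y = a ⬝ᵥ fun i => y (.inl (.inr i)) := by
  rw [← polar_emb, emb_mdA, eA, emb, polar_mk]
  simp [dotProduct, Fin.sum_univ_succ]

theorem polar_mdJ (v w : J → F) :
    QuadraticMap.polar (qExt (l + 1 + 1) Q₀) (mdJ v) (mdJ w) = QuadraticMap.polar Q₀ v w := by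
  rw [← polar_emb, emb_mdJ, emb_mdJ, eJ, eJ, polar_mk]
  simp

theorem cons_form (ω : Pair (l + 1 + 2) → F) (a : Fin (l + 1 + 1) → F) :
    (Fin.cons 0 a : Fin (l + 1 + 2) → F) ⬝ᵥ (mat ω *ᵥ ev 0) = -(a ⬝ᵥ PlusAlt.row ω) := by
  rw [ev, mulVec_single_one]
  simp only [dotProduct, Fin.sum_univ_succ (n := l + 1 + 1), Fin.cons_zero, Fin.cons_succ, zero_mul, zero_add, Matrix.col_apply]
  rw [← Finset.sum_neg_distrib]
  exact Finset.sum_congr rfl fun j _ => by rw [mat_neg_apply, ← row_eq_mat, mul_neg]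

variable (h0 : PolarNondeg Q₀)
variable {V : Type w} [AddCommGroup V] [Module ℂ V] [FiniteDimensional ℂ V]
variable (ρ : Representation ℂ (EG Q₀ l) V) (ψ : AddChar F ℂ)

theorem el_mul_rp (y x : Md F l J) :
    ρ (el Q₀ (eA (ev 0)) (emb y)) * rp Q₀ ρ ψ x =
      ψ (QuadraticMap.polar (qExt (l + 1 + 1) Q₀) y x) • rp Q₀ ρ ψ x := by
  classical
  have h := apply_mul_av ψ (rHom Q₀ ρ) y (HypWts.gram (qExt (l + 1 + 1) Q₀) x)
  rwa [dot_gram] at h

theorem rp_mul_el (y x : Md F l J) :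
    rp Q₀ ρ ψ x * ρ (el Q₀ (eA (ev 0)) (emb y)) =
      ψ (QuadraticMap.polar (qExt (l + 1 + 1) Q₀) y x) • rp Q₀ ρ ψ x := by
  classical
  have h := av_mul_apply ψ (rHom Q₀ ρ) y (HypWts.gram (qExt (l + 1 + 1) Q₀) x)
  rwa [dot_gram] at h

theorem el_mdA_pr (a : Fin (l + 1 + 1) → F) (ω : Pair (l + 1 + 2) → F) :
    ρ (el Q₀ (eA (ev 0)) (emb (mdA a))) * pr Q₀ ρ ψ ω = ψ (-(a ⬝ᵥ PlusAlt.row ω)) • pr Q₀ ρ ψ ω := by
  rw [emb_mdA, el_eA_eA']
  have h := apply_mul_av ψ (ρ.comp (zE Q₀)) (upper (wedge (Fin.cons 0 a) (ev 0))) ω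
  rw [dot_upper_wedge, cons_form] at h
  exact h

/-- A root weight without second coordinates commutes with the translation weights. -/
theorem rp_pr_comm {x : Md F l J} (hb : ∀ i, x (.inl (.inr i)) = 0) (ω : Pair (l + 1 + 2) → F) :
    rp Q₀ ρ ψ x * pr Q₀ ρ ψ ω = pr Q₀ ρ ψ ω * rp Q₀ ρ ψ x := by
  refine commute_av ψ _ (fun φ => ?_) ω
  have hg : ap Q₀ (zE Q₀ (Multiplicative.ofAdd φ)) (eA (ev 0)) = (1 : F) • eA (ev 0) := by
    rw [eA, ap_zE, mulVec_zero, add_zero, one_smul]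
  have h := rp_move Q₀ ρ ψ one_ne_zero hg x
  rw [inv_one, one_smul, sig, emb_flat hb, ap_zE, mulVec_zero, add_zero, ← emb_flat hb, proj_emb] at h
  exact h.symm

/-- The weight of the middle radical at the first vector. -/
def avJ (g : J → F) : Module.End ℂ V := by
  classical exact av ψ (jRep Q₀ ρ (ev (0 : Fin (l + 1 + 2)))) g

theorem avJ_pr_comm (g : J → F) (ω : Pair (l + 1 + 2) → F) :
    avJ Q₀ ρ ψ g * pr Q₀ ρ ψ ω = pr Q₀ ρ ψ ω * avJ Q₀ ρ ψ g := by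
  classical
  exact (commute_av ψ _ (fun v => (el_pr Q₀ ρ ψ (ev 0) v ω).symm) g).symm

open Classical in
theorem avJ_mul_rp {x : Md F l J} (hψ : ψ ≠ 1) {w : J → F} (hx : x = mdJ w) :
    avJ Q₀ ρ ψ (@HypWts.gram F _ J (Classical.decEq J) Q₀ w) * rp Q₀ ρ ψ x = rp Q₀ ρ ψ x := by
  classical
  have h : ∀ v, jRep Q₀ ρ (ev (0 : Fin (l + 1 + 2))) (Multiplicative.ofAdd v) * rp Q₀ ρ ψ x =
      ψ (v ⬝ᵥ HypWts.gram Q₀ w) • rp Q₀ ρ ψ x := fun v => by
    show ρ (el Q₀ (eA (ev 0)) (eJ v)) * _ = _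
    rw [← emb_mdJ, el_mul_rp, hx, polar_mdJ, dot_gram]
  rw [avJ, av_def, smul_mul_assoc, Finset.sum_mul,
    Finset.sum_congr rfl fun v _ => by rw [smul_mul_assoc, h, smul_smul], ← Finset.sum_smul, smul_smul]
  have hs : ∀ v : J → F, ψ (-(v ⬝ᵥ HypWts.gram Q₀ w)) * ψ (v ⬝ᵥ HypWts.gram Q₀ w) = 1 := fun v => by
    rw [← AddChar.map_add_eq_mul, neg_add_cancel, AddChar.map_zero_eq_one]
  rw [Finset.sum_congr rfl fun v _ => hs v, Finset.sum_const, Finset.card_univ, nsmul_eq_mul, mul_one,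
    inv_mul_cancel₀ (Nat.cast_ne_zero.2 Fintype.card_ne_zero), one_smul]

include h0 in
/-- A translation weight vanishing on the first vector carries one weight of the middle radical at that vector. -/
theorem avJ_unique [Nonempty J] (hψ : ψ ≠ 1) (hρ : ρ ≠ 1) (hsmall : Small (V := V) (F := F) (J := J) (l := l))
    {ω : Pair (l + 1 + 2) → F} (hω : ω ∈ wedges (l + 1 + 2) F) (hrow : PlusAlt.row ω = 0) {g g' : J → F}
    (hg : pr Q₀ ρ ψ ω * avJ Q₀ ρ ψ g ≠ 0) (hg' : pr Q₀ ρ ψ ω * avJ Q₀ ρ ψ g' ≠ 0) : g = g' := by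
  classical
  by_contra hne
  obtain ⟨-, hrk, -, -⟩ := small_data Q₀ ρ ψ h0 hψ hρ hsmall
  obtain ⟨⟨⟨i, j⟩, hij⟩, hp⟩ := Function.ne_iff.1 (mem_wedges.1 hω).1
  have hne' : (ev i : Fin (l + 1 + 2) → F) ⬝ᵥ (mat ω *ᵥ ev j) ≠ 0 := by
    rw [ev_form]
    rw [← upper_mat ω] at hp
    exact hp
  have hcen : ∀ u : Fin (l + 1 + 2) → F, u ⬝ᵥ (mat ω *ᵥ ev 0) = 0 := fun u => by
    have e : mat ω *ᵥ ev 0 = 0 := funext fun r => by
      rw [ev, mulVec_single_one]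
      refine Fin.cases ?_ (fun r' => ?_) r
      · exact mat_diag ω 0
      · show mat ω r'.succ 0 = 0
        rw [mat_neg_apply, ← row_eq_mat, hrow]; simp
    rw [e, dotProduct_zero]
  have hidem : ∀ g, pr Q₀ ρ ψ ω * avJ Q₀ ρ ψ g * (pr Q₀ ρ ψ ω * avJ Q₀ ρ ψ g) =
      pr Q₀ ρ ψ ω * avJ Q₀ ρ ψ g := fun g => by
    rw [mul_assoc, ← mul_assoc (avJ Q₀ ρ ψ g), avJ_pr_comm, mul_assoc, avJ, av_idem ψ _ hψ, ← mul_assoc,
      pr_idem Q₀ ρ ψ hψ]
  have hcomm : ∀ g u w, ρ (el Q₀ (eA u) (eJ w)) * (pr Q₀ ρ ψ ω * avJ Q₀ ρ ψ g) =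
      pr Q₀ ρ ψ ω * avJ Q₀ ρ ψ g * ρ (el Q₀ (eA u) (eJ w)) := by
    intro g u w
    rw [← avJ_pr_comm, avJ, av_def, smul_mul_assoc, mul_smul_comm, smul_mul_assoc, Finset.sum_mul, Finset.mul_sum,
      Finset.sum_mul]
    congr 1
    refine Finset.sum_congr rfl fun v _ => ?_
    rw [smul_mul_assoc, mul_smul_comm, smul_mul_assoc]
    congr 1
    show ρ _ * (ρ _ * _) = ρ _ * _ * ρ _
    rw [el_swap_pr, hcen, mul_zero, neg_zero, AddChar.map_zero_eq_one, one_smul]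
  have hdiv : ∀ g, ∃ e : ℕ, LinearMap.trace ℂ V (pr Q₀ ρ ψ ω * avJ Q₀ ρ ψ g) =
      ((Fintype.card F ^ Fintype.card J * e : ℕ) : ℂ) := by
    intro g
    obtain ⟨p, hp'⟩ : ∃ p, p = pr Q₀ ρ ψ ω * avJ Q₀ ρ ψ g := ⟨_, rfl⟩
    rw [← hp']
    have h1 : p * pr Q₀ ρ ψ ω = p := by rw [hp', mul_assoc, avJ_pr_comm, ← mul_assoc, pr_idem Q₀ ρ ψ hψ]
    have h2 : pr Q₀ ρ ψ ω * p = p := by rw [hp', ← mul_assoc, pr_idem Q₀ ρ ψ hψ]
    have h := trace_split Q₀ ρ ψ h0 hψ ω hne' h1 h2 fun w => hp' ▸ hcomm g _ w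
    have hc : av ψ (jRep Q₀ ρ (ev j)) 0 * p = p * av ψ (jRep Q₀ ρ (ev j)) 0 :=
      (commute_av ψ _ (fun v => (hp' ▸ hcomm g _ v : _ * p = p * _).symm) 0).symm
    obtain ⟨e, he, -⟩ := exists_trace_nat (p := av ψ (jRep Q₀ ρ (ev j)) 0 * p) (by
      rw [mul_assoc, ← mul_assoc p, ← hc, mul_assoc, show p * p = p from hp' ▸ hidem g, ← mul_assoc,
        av_idem ψ _ hψ])
    exact ⟨e, by rw [h, he, Fintype.card_fun, Nat.cast_mul]⟩
  choose e he using hdiv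
  have he1 : ∀ g, pr Q₀ ρ ψ ω * avJ Q₀ ρ ψ g ≠ 0 → 1 ≤ e g := fun g hg => Nat.one_le_iff_ne_zero.2 fun h =>
    hg (eq_zero_of_trace (hidem g) (by rw [he, h, mul_zero, Nat.cast_zero]))
  obtain ⟨d, hd, hdr⟩ := exists_trace_nat (pr_idem Q₀ ρ ψ hψ ω)
  rw [hrk ω hω] at hdr
  have hsum : ∑ g, Fintype.card F ^ Fintype.card J * e g = d := by
    refine Nat.cast_injective (R := ℂ) ?_
    rw [Nat.cast_sum, ← Finset.sum_congr rfl fun g _ => he g, ← map_sum, ← Finset.mul_sum, ← hd]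
    congr 1
    conv_rhs => rw [← mul_one (pr Q₀ ρ ψ ω), ← sum_av ψ (jRep Q₀ ρ (ev (0 : Fin (l + 1 + 2)))) hψ]
    rfl
  rw [← Finset.mul_sum, ← hdr] at hsum
  have hqJ : 0 < Fintype.card F ^ Fintype.card J := pow_pos Fintype.card_pos _
  have h2 : ∑ g, e g = 1 := mul_left_cancel₀ hqJ.ne' (hsum.trans (mul_one _).symm)
  have h3 : e g + e g' ≤ ∑ g, e g := by
    rw [← Finset.sum_pair (f := e) hne]
    exact Finset.sum_le_sum_of_subset (Finset.subset_univ _)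
  have := he1 g hg
  have := he1 g' hg'
  omega

include h0 in
/-- The Levi element carries the weights of the middle radical along. -/
theorem move_avJ (A : SpecialLinearGroup (Fin (l + 1 + 2)) F) {t : F} (ht : t ≠ 0)
    (hA : A.1 *ᵥ ev 0 = t • ev 0) (g : J → F) :
    ρ (levE Q₀ h0 A) * avJ Q₀ ρ ψ g = avJ Q₀ ρ ψ (t⁻¹ • g) * ρ (levE Q₀ h0 A) := by
  classical
  refine move_av ψ _ ⟨fun v => t • v, fun v => t⁻¹ • v, fun v => inv_smul_smul₀ ht v, fun v => smul_inv_smul₀ ht v⟩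
    (fun v => ?_) fun v => ?_
  · show ρ _ * ρ (el Q₀ _ (eJ v)) = ρ (el Q₀ _ (eJ (t • v))) * ρ _
    rw [← map_mul, ← map_mul, levE_conj_eJ, hA, eA_smul, el_smul_left Q₀ (quad_eA Q₀ _) (polar_eA_eJ Q₀ _ _)]
    congr 3
    rw [eJ, eJ, mk_smul, smul_zero]
  · show (t • v) ⬝ᵥ (t⁻¹ • g) = v ⬝ᵥ g
    rw [smul_dotProduct, dotProduct_smul, smul_smul, mul_inv_cancel₀ ht, one_smul]

/-- The weights vanishing on the first vector are congruent by elements fixing its line. -/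
theorem exists_row_zero_move {ω ω' : Pair (l + 1 + 2) → F} (hω : ω ∈ wedges (l + 1 + 2) F)
    (hω' : ω' ∈ wedges (l + 1 + 2) F) (hr : PlusAlt.row ω = 0) (hr' : PlusAlt.row ω' = 0) :
    ∃ (A : SpecialLinearGroup (Fin (l + 1 + 2)) F) (t : F), t ≠ 0 ∧ A.1 *ᵥ ev 0 = t • ev 0 ∧ act A.1 ω' = ω := by
  have split : ∀ {w : Pair (l + 1 + 2) → F}, w ∈ wedges (l + 1 + 2) F → PlusAlt.row w = 0 →
      ∃ p q : Fin (l + 1 + 1) → F, LinearIndependent F ![p, q] ∧ upper (wedge (Fin.cons 0 p) (Fin.cons 0 q)) = w := by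
    intro w hw hr
    obtain ⟨hw0, p, q, rfl⟩ := mem_wedges.1 hw
    have hli := indep_of_wedge hw0
    have h0e : q 0 • p + (-p 0) • q = 0 := funext fun i => by
      simp only [Pi.add_apply, Pi.smul_apply, smul_eq_mul, Pi.zero_apply]
      refine Fin.cases ?_ (fun j => ?_) i
      · ring
      · have h := congrFun hr j
        simp only [PlusAlt.row, upper, wedge_apply, Pi.zero_apply] at h
        linear_combination -h
    obtain ⟨hq0, hp0⟩ := LinearIndependent.pair_iff.1 hli _ _ h0e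
    rw [neg_eq_zero] at hp0
    refine ⟨Fin.tail p, Fin.tail q, ?_, by
      rw [show Fin.cons 0 (Fin.tail p) = p by rw [← hp0, Fin.cons_self_tail],
        show Fin.cons 0 (Fin.tail q) = q by rw [← hq0, Fin.cons_self_tail]]⟩
    rw [LinearIndependent.pair_iff]
    intro s t hst
    refine LinearIndependent.pair_iff.1 hli s t (funext fun i => ?_)
    refine Fin.cases ?_ (fun j => ?_) i
    · simp [hp0, hq0]
    · exact congrFun hst j
  obtain ⟨p, q, hpq, rfl⟩ := split hω hr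
  obtain ⟨p', q', hpq', rfl⟩ := split hω' hr'
  obtain ⟨g, hg⟩ := exists_gl_map hpq' hpq
  have hd : (g : Matrix (Fin (l + 1 + 1)) (Fin (l + 1 + 1)) F).det ≠ 0 :=
    (g.isUnit.map Matrix.detMonoidHom).ne_zero
  obtain ⟨t, ht⟩ : ∃ t, t = (g : Matrix (Fin (l + 1 + 1)) (Fin (l + 1 + 1)) F).det⁻¹ := ⟨_, rfl⟩
  obtain ⟨B, hB⟩ : ∃ B : Matrix (Fin (l + 1 + 2)) (Fin (l + 1 + 2)) F,
      B = Matrix.of (Fin.cons (Fin.cons t 0) fun i => Fin.cons 0 ((g : Matrix (Fin (l + 1 + 1)) (Fin (l + 1 + 1)) F) i)) :=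
    ⟨_, rfl⟩
  have hdet : B.det = 1 := by
    rw [hB, det_succ_column_zero, Finset.sum_eq_single (0 : Fin (l + 1 + 2))]
    · simp only [Fin.val_zero, pow_zero, one_mul, Matrix.of_apply, Fin.cons_zero]
      rw [ht]
      exact inv_mul_cancel₀ hd
    · intro i _ hi
      obtain ⟨j, rfl⟩ := Fin.exists_succ_eq.2 hi
      simp
    · simp
  have hmul : ∀ (a : F) (x : Fin (l + 1 + 1) → F), B *ᵥ (Fin.cons a x) =
      Fin.cons (t * a) ((g : Matrix (Fin (l + 1 + 1)) (Fin (l + 1 + 1)) F) *ᵥ x) := fun a x => by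
    rw [hB]
    funext i
    refine Fin.cases ?_ (fun j => ?_) i <;> simp [mulVec, dotProduct, Fin.sum_univ_succ (n := l + 1 + 1)]
  refine ⟨⟨Bᵀ, by rw [det_transpose]; exact hdet⟩, t, ht ▸ inv_ne_zero hd, ?_, ?_⟩
  · funext i
    show (Bᵀ *ᵥ ev 0) i = _
    rw [ev, mulVec_single_one, hB]
    refine Fin.cases ?_ (fun j => ?_) i <;> simp
  · show act Bᵀ _ = _
    rw [act_wedge, transpose_transpose, hmul, hmul, mul_zero]
    have e1 := hg 0
    have e2 := hg 1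
    simp only [Matrix.cons_val_zero, Matrix.cons_val_one] at e1 e2
    rw [e1, e2]

include h0 in
/-- The non-singular weights of the root group do not occur. -/
theorem rp_nonsingular_of_two [Nonempty J] (h2 : TwoLines Q₀) (hψ : ψ ≠ 1) (hρ : ρ ≠ 1)
    (hsmall : Small (V := V) (F := F) (J := J) (l := l)) {x : Md F l J} (hx : qExt (l + 1 + 1) Q₀ x ≠ 0) :
    rp Q₀ ρ ψ x = 0 := by
  classical
  by_contra hne
  obtain ⟨w₁, w₂, hw₁, hw₂, hline⟩ := h2 _ hx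
  obtain ⟨hbig, -, -, -⟩ := small_data Q₀ ρ ψ h0 hψ hρ hsmall
  obtain ⟨c, hc⟩ : ∃ c, ψ c ≠ 1 := by
    by_contra! h
    exact hψ (DFunLike.ext _ _ fun x => (h x).trans (AddChar.one_apply x).symm)
  have key : ∀ w : J → F, Q₀ w = qExt (l + 1 + 1) Q₀ x → ∃ ω ∈ wedges (l + 1 + 2) F, PlusAlt.row ω = 0 ∧
      pr Q₀ ρ ψ ω * avJ Q₀ ρ ψ (HypWts.gram Q₀ w) ≠ 0 := by
    intro w hw
    have hxw : (mdJ w : Md F l J) ≠ 0 := fun h => hx (by rw [← hw, ← quad_mdJ (l := l) Q₀ w, h, map_zero])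
    have hx0 : x ≠ 0 := fun h => hx (by rw [h, map_zero])
    obtain ⟨P, hP⟩ : ∃ P, P = rp Q₀ ρ ψ (mdJ w) := ⟨_, rfl⟩
    have hPne : P ≠ 0 := fun h => hne (eq_zero_of_trace (rp_idem Q₀ ρ ψ hψ x) (by
      rw [trace_level Q₀ h0 ρ ψ hx0 hxw (by rw [quad_mdJ, hw]), ← hP, h, map_zero]))
    obtain ⟨ω, hω⟩ : ∃ ω, pr Q₀ ρ ψ ω * P ≠ 0 := by
      by_contra! h
      refine hPne ?_
      rw [← one_mul P, ← sum_av ψ (ρ.comp (zE Q₀)) hψ, Finset.sum_mul]
      exact Finset.sum_eq_zero fun ω _ => h ω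
    have hcomm := rp_pr_comm Q₀ ρ ψ (x := mdJ (l := l) w) (fun i => rfl) ω
    rw [← hP] at hcomm
    have hrow : PlusAlt.row ω = 0 := by
      funext j
      by_contra hj
      obtain ⟨a, ha⟩ : ∃ a : Fin (l + 1 + 1) → F, a = (-c / PlusAlt.row ω j) • Pi.single j 1 := ⟨_, rfl⟩
      have h1 := el_mul_rp Q₀ ρ ψ (mdA a) (mdJ w)
      rw [polar_mdA, show (fun i => (mdJ w : Md F l J) (.inl (.inr i))) = 0 from rfl, dotProduct_zero,
        AddChar.map_zero_eq_one, one_smul, ← hP] at h1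
      have h2 : ψ (-(a ⬝ᵥ PlusAlt.row ω)) • (pr Q₀ ρ ψ ω * P) = (1 : ℂ) • (pr Q₀ ρ ψ ω * P) := by
        rw [one_smul, ← smul_mul_assoc, ← el_mdA_pr, mul_assoc, ← hcomm, ← mul_assoc, h1, hcomm]
      refine hc (Eq.trans ?_ (smul_left_injective ℂ hω h2))
      rw [ha, smul_dotProduct, single_dotProduct, one_mul, smul_eq_mul, div_mul_cancel₀ _ hj, neg_neg]
    have hω0 : ω ≠ 0 := by
      rintro rfl
      refine hω (LinearMap.ext fun u => ?_)
      obtain ⟨v, hv⟩ : ∃ v, v = (pr Q₀ ρ ψ 0 * P) u := ⟨_, rfl⟩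
      rw [← hv, LinearMap.zero_apply]
      have hvz : ZFix Q₀ ρ v := (zfix_iff Q₀ ρ ψ hψ v).2 (by
        rw [hv, ← Module.End.mul_apply, ← mul_assoc, pr_idem Q₀ ρ ψ hψ])
      have hvP : rp Q₀ ρ ψ (mdJ w) v = v := by
        rw [hv, ← hP, ← Module.End.mul_apply, ← mul_assoc, hcomm, mul_assoc, show P * P = P from hP ▸ rp_idem Q₀ ρ ψ hψ _]
      have hw0 : w ≠ 0 := fun h => hx (by rw [← hw, h, map_zero])
      obtain ⟨y, hy⟩ : ∃ y, QuadraticMap.polar Q₀ y w ≠ 0 := by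
        by_contra! h
        exact hw0 (h0 w fun z => by rw [QuadraticMap.polar_comm]; exact h z)
      have h1 := LinearMap.congr_fun
        (el_mul_rp Q₀ ρ ψ (mdJ ((c / QuadraticMap.polar Q₀ y w) • y)) (mdJ w)) v
      rw [Module.End.mul_apply, hvP, emb_mdJ, radical_fixed Q₀ ρ h0 hρ hsmall hvz, LinearMap.smul_apply, hvP,
        polar_mdJ, QuadraticMap.polar_smul_left, smul_eq_mul, div_mul_cancel₀ _ hy] at h1
      by_contra hv0
      exact hc (smul_left_injective ℂ hv0 (show ψ c • v = (1 : ℂ) • v by rw [one_smul, ← h1]))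
    have hmem : ω ∈ wedges (l + 1 + 2) F := by
      by_contra h
      exact hω (by rw [hbig ω hω0 h, zero_mul])
    refine ⟨ω, hmem, hrow, fun h => hω ?_⟩
    rw [← avJ_mul_rp Q₀ ρ ψ hψ (x := mdJ (l := l) w) rfl] at hP
    rw [hP, ← mul_assoc, h, zero_mul]
  obtain ⟨ω₁, hω₁, hr₁, hn₁⟩ := key w₁ hw₁
  obtain ⟨ω₂, hω₂, hr₂, hn₂⟩ := key w₂ hw₂
  obtain ⟨A, t, ht, hA, hact⟩ := exists_row_zero_move hω₁ hω₂ hr₁ hr₂
  have hm := move_pr Q₀ ρ ψ h0 A ω₁ ω₂ hact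
  have hj := move_avJ Q₀ h0 ρ ψ A ht hA (HypWts.gram Q₀ w₁)
  have hne2 : pr Q₀ ρ ψ ω₂ * avJ Q₀ ρ ψ (t⁻¹ • HypWts.gram Q₀ w₁) ≠ 0 := fun h => hn₁ (by
    have e : ρ (levE Q₀ h0 A) * (pr Q₀ ρ ψ ω₁ * avJ Q₀ ρ ψ (HypWts.gram Q₀ w₁)) = 0 := by
      rw [← mul_assoc, hm, mul_assoc, hj, ← mul_assoc, h, zero_mul]
    have e2 := congrArg (ρ (levE Q₀ h0 A)⁻¹ * ·) e
    simp only [← mul_assoc, inv_ρ, one_mul, mul_zero] at e2
    exact e2)
  have hu := avJ_unique Q₀ h0 ρ ψ hψ hρ hsmall hω₂ hr₂ hne2 hn₂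
  refine hline t⁻¹ ((gram_bijective h0).1 ?_)
  rw [← hu]
  funext i
  simp [HypWts.gram, QuadraticMap.polar_smul_right]

include h0 in
/-- The singular weights have multiplicity at most one. -/
theorem rp_singular_rank [Nonempty J] (hψ : ψ ≠ 1) (hsmall : Small (V := V) (F := F) (J := J) (l := l))
    {x : Md F l J} (hx0 : x ≠ 0) (hxq : qExt (l + 1 + 1) Q₀ x = 0) :
    Module.finrank ℂ (LinearMap.range (rp Q₀ ρ ψ x)) ≤ 1 := by
  classical
  obtain ⟨d, hd, hdr⟩ := exists_trace_nat (rp_idem Q₀ ρ ψ hψ x)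
  rw [hdr]
  by_contra hd2
  let L : Finset (Md F l J) := Finset.univ.filter fun z => z ≠ 0 ∧ qExt (l + 1 + 1) Q₀ z = 0
  have hS := card_mul_le Q₀ ρ ψ hψ L (d := d)
    (fun z hz => (trace_level Q₀ h0 ρ ψ (Finset.mem_filter.1 hz).2.1 hx0
      ((Finset.mem_filter.1 hz).2.2.trans hxq.symm)).trans hd) h0
  have h1 := two_level_arith (l := l) (J := J) (F := F) Fintype.one_lt_card hsmall
  have h2 : (Fintype.card F ^ (l + 1 + 1) - 1) * Fintype.card F ^ (l + 1) *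
      Fintype.card F ^ Fintype.card J ≤ L.card := (card_level Q₀ 0).trans (le_of_eq (by
    rw [Nat.card_eq_fintype_card, Fintype.card_subtype]))
  have h3 : L.card * 2 ≤ L.card * d := Nat.mul_le_mul_left _ (by omega)
  omega

include h0 in
/-- A translation weight vanishing on the first vector lies in the fixed space of the root group. -/
theorem rp_zero_pr [Nonempty J] (hψ : ψ ≠ 1) (hρ : ρ ≠ 1) (hsmall : Small (V := V) (F := F) (J := J) (l := l))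
    (hns : ∀ x : Md F l J, qExt (l + 1 + 1) Q₀ x ≠ 0 → rp Q₀ ρ ψ x = 0) (haniso : ∀ w, Q₀ w = 0 → w = 0)
    {ω : Pair (l + 1 + 2) → F} (hω : ω ∈ wedges (l + 1 + 2) F) (hrow : PlusAlt.row ω = 0) :
    rp Q₀ ρ ψ 0 * pr Q₀ ρ ψ ω = pr Q₀ ρ ψ ω := by
  classical
  obtain ⟨c, hc⟩ : ∃ c, ψ c ≠ 1 := by
    by_contra! h
    exact hψ (DFunLike.ext _ _ fun x => (h x).trans (AddChar.one_apply x).symm)
  have hall : ∀ x : Md F l J, x ≠ 0 → rp Q₀ ρ ψ x * pr Q₀ ρ ψ ω = 0 := by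
    intro x hx0
    by_cases hb : ∀ i, x (.inl (.inr i)) = 0
    swap
    · push Not at hb
      obtain ⟨i, hi⟩ := hb
      obtain ⟨a, ha⟩ : ∃ a : Fin (l + 1 + 1) → F, a = (c / x (.inl (.inr i))) • Pi.single i 1 := ⟨_, rfl⟩
      have h := congrArg (rp Q₀ ρ ψ x * ·) (el_mdA_pr Q₀ ρ ψ a ω)
      simp only [← mul_assoc, rp_mul_el, hrow, dotProduct_zero, neg_zero, AddChar.map_zero_eq_one, one_smul,
        smul_mul_assoc] at h
      rw [polar_mdA, ha, smul_dotProduct, single_dotProduct, one_mul, smul_eq_mul, div_mul_cancel₀ _ hi] at h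
      by_contra hne
      exact hc (smul_left_injective ℂ hne (h.trans (one_smul ℂ _).symm))
    by_cases hq : qExt (l + 1 + 1) Q₀ x = 0
    swap
    · rw [hns x hq, zero_mul]
    have hemb : emb x = (eA (Fin.cons 0 fun i => x (.inl (.inl i))) : Vc F l J) := by
      rw [emb_flat hb, eA]
      congr 1
      refine haniso _ ?_
      have h := quad_emb Q₀ x
      rw [hq, emb_flat hb, quad_mk, dotProduct_zero, zero_add] at h
      exact h
    obtain ⟨P, hP⟩ : ∃ P, P = rp Q₀ ρ ψ x := ⟨_, rfl⟩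
    have hfix : ∀ u w, ρ (el Q₀ (eA u) (eJ w)) * P = P * ρ (el Q₀ (eA u) (eJ w)) := by
      intro u w
      have hfixA : ∀ r, ap Q₀ (el Q₀ (eA u) (eJ w)) (eA r) = eA r := fun r => by
        rw [ap_el Q₀ (quad_eA Q₀ _) (polar_eA_eJ Q₀ _ _), polar_eA_eA, polar_eA_eJ]
        simp
      have h := rp_move Q₀ ρ ψ (g := el Q₀ (eA u) (eJ w)) one_ne_zero (by rw [hfixA, one_smul]) x
      rw [inv_one, one_smul, sig, hemb, hfixA, ← hemb, proj_emb, ← hP] at h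
      exact h
    have hcomm := rp_pr_comm Q₀ ρ ψ hb ω
    rw [← hP] at hcomm ⊢
    obtain ⟨p, hp⟩ : ∃ p, p = P * pr Q₀ ρ ψ ω := ⟨_, rfl⟩
    rw [← hp]
    have hPP : P * P = P := hP ▸ rp_idem Q₀ ρ ψ hψ x
    have h1 : p * pr Q₀ ρ ψ ω = p := by rw [hp, mul_assoc, pr_idem Q₀ ρ ψ hψ]
    have h2 : pr Q₀ ρ ψ ω * p = p := by rw [hp, ← mul_assoc, ← hcomm, mul_assoc, pr_idem Q₀ ρ ψ hψ]
    have hpp : p * p = p := by
      conv_lhs => arg 2; rw [hp, hcomm]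
      rw [← mul_assoc, h1, hp, mul_assoc, ← hcomm, ← mul_assoc, hPP]
    have hpu : ∀ u w, ρ (el Q₀ (eA u) (eJ w)) * p = p * ρ (el Q₀ (eA u) (eJ w)) := fun u w => by
      rw [hp, ← mul_assoc, hfix, mul_assoc, el_pr, ← mul_assoc]
    obtain ⟨⟨⟨i, j⟩, hij⟩, hne⟩ := Function.ne_iff.1 (mem_wedges.1 hω).1
    have hne' : (ev i : Fin (l + 1 + 2) → F) ⬝ᵥ (mat ω *ᵥ ev j) ≠ 0 := by
      rw [ev_form]
      rw [← upper_mat ω] at hne
      exact hne
    have ht := trace_split Q₀ ρ ψ h0 hψ ω hne' h1 h2 fun w => hpu _ w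
    have hcj : av ψ (jRep Q₀ ρ (ev j)) 0 * p = p * av ψ (jRep Q₀ ρ (ev j)) 0 :=
      (commute_av ψ _ (fun v => (hpu _ v).symm) 0).symm
    obtain ⟨e, he, -⟩ := exists_trace_nat (p := av ψ (jRep Q₀ ρ (ev j)) 0 * p) (by
      rw [mul_assoc, ← mul_assoc p, ← hcj, mul_assoc, hpp, ← mul_assoc, av_idem ψ _ hψ])
    obtain ⟨d, hd, hdr⟩ := exists_trace_nat hpp
    rw [he, hd, Fintype.card_fun, ← Nat.cast_mul, Nat.cast_inj] at ht
    have hd1 : d ≤ 1 := by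
      rw [← hdr]
      refine le_trans (Submodule.finrank_mono ?_) (hP ▸ rp_singular_rank Q₀ h0 ρ ψ hψ hsmall hx0 hq)
      rintro _ ⟨v, rfl⟩
      exact ⟨pr Q₀ ρ ψ ω v, by rw [hp]; rfl⟩
    have hbig : 2 ≤ Fintype.card F ^ Fintype.card J :=
      le_trans Fintype.one_lt_card (Nat.le_self_pow Fintype.card_ne_zero _)
    refine eq_zero_of_trace hpp ?_
    rcases Nat.eq_zero_or_pos e with h | h
    · rw [hd, ht, h, mul_zero, Nat.cast_zero]
    · have : 2 ≤ d := by rw [ht]; exact le_trans hbig (Nat.le_mul_of_pos_right _ h)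
      omega
  have hs : ∑ x, rp Q₀ ρ ψ x = 1 :=
    (Fintype.sum_bijective _ (gram_bijective (polarNondeg_qExt h0 _)) _ _ fun x => rfl).trans
      (sum_av ψ (rHom Q₀ ρ) hψ)
  conv_rhs => rw [← one_mul (pr Q₀ ρ ψ ω), ← hs, Finset.sum_mul]
  exact (Finset.sum_eq_single 0 (fun x _ hx => hall x hx) (fun h => absurd (Finset.mem_univ _) h)).symm

end

end CfsgLib.MinDegree.HypMinus
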