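import Mathlib
import Cfsg.Agent.Lib.MinDegree.HypMinus
import Cfsg.Agent.Lib.Classical.QuadBinary

/-!
An anisotropic plane takes every non-zero value on two different lines.
-/

namespace CfsgLib.MinDegree.HypPlane

open Matrix CfsgLib.Classical

universe u

variable {F : Type u} [Field F] [Fintype F]

theorem exists_qBin_eq {a b : F} (h : BinAniso a b) (c : F) : ∃ w : Fin 2 → F, qBin a b w = c := by
  by_cases h2 : (2 : F) = 0
  · have : CharP F 2 := CharTwo.of_one_ne_zero_of_two_eq_zero one_ne_zero h2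
    obtain ⟨r, hr⟩ := FiniteField.isSquare_of_char_two (ringChar.eq F 2) c
    exact ⟨![r, 0], by rw [qBin_apply]; simp [hr]; ring⟩
  · have hd : b - a * a / 4 ≠ 0 := fun hd => binAniso_disc h (by
      have h4 : (4 : F) ≠ 0 := by rw [show (4 : F) = 2 * 2 by norm_num]; exact mul_ne_zero h2 h2
      field_simp at hd
      linear_combination hd)
    obtain ⟨u, v, huv⟩ := exists_mul_sq_add_mul_sq h2 (one_ne_zero (α := F)) hd c
    refine ⟨![u - a / 2 * v, v], ?_⟩
    rw [qBin_apply]
    have h4 : (4 : F) ≠ 0 := by rw [show (4 : F) = 2 * 2 by norm_num]; exact mul_ne_zero h2 h2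
    simp only [Matrix.cons_val_zero, Matrix.cons_val_one]
    linear_combination (norm := skip) huv
    field_simp
    ring

theorem twoLines_qBin [DecidableEq F] {a b : F} (h : BinAniso a b) : HypMinus.TwoLines (qBin a b) := by
  intro lam hlam
  obtain ⟨t, ht⟩ : ∃ t : F, 2 * t + a ≠ 0 := by
    by_cases ha : a = 0
    · refine ⟨1, fun h2 => binAniso_disc h ?_⟩
      rw [ha, add_zero, mul_one] at h2
      rw [ha]
      linear_combination 2 * b * h2
    · exact ⟨0, by simpa using ha⟩
  obtain ⟨d, hd⟩ : ∃ d, d = t ^ 2 + a * t + b := ⟨_, rfl⟩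
  have hd0 : d ≠ 0 := fun hz => one_ne_zero (h t 1 (by rw [hd] at hz; linear_combination hz)).2
  obtain ⟨s, hs⟩ : ∃ s, s = -(2 * t + a) / d := ⟨_, rfl⟩
  have hs0 : s ≠ 0 := by rw [hs]; exact div_ne_zero (neg_ne_zero.2 ht) hd0
  have hsd : s * d = -(2 * t + a) := by rw [hs, div_mul_cancel₀ _ hd0]
  obtain ⟨w, hw⟩ := exists_qBin_eq h lam
  rw [qBin_apply] at hw
  refine ⟨w, ![(1 + t * s) * w 0 - b * (s * w 1), (1 + t * s) * w 1 + s * w 0 + a * (s * w 1)], by rw [qBin_apply, hw],
    ?_, fun r hr => ?_⟩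
  · rw [qBin_apply]
    simp only [Matrix.cons_val_zero, Matrix.cons_val_one]
    rw [hd] at hsd
    linear_combination (1 + (s * (2 * t + a) + s ^ 2 * (t ^ 2 + a * t + b))) * hw + lam * s * hsd
  · have e0 := congrFun hr 0
    have e1 := congrFun hr 1
    simp only [Pi.smul_apply, smul_eq_mul, Matrix.cons_val_zero, Matrix.cons_val_one] at e0 e1
    obtain ⟨-, hz⟩ : 1 + t * s - r = 0 ∧ s = 0 := h _ _ (by
      refine (mul_eq_zero.1 (?_ : ((1 + t * s - r) ^ 2 + a * (1 + t * s - r) * s + b * s ^ 2) * lam = 0)).resolve_right hlam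
      rw [← hw]
      linear_combination ((1 + t * s - r) * w 0 - b * s * w 1 + a * ((1 + t * s - r) * w 1 + s * w 0 + a * s * w 1)) * (-e0) +
        b * ((1 + t * s - r) * w 1 + s * w 0 + a * s * w 1) * (-e1))
    exact hs0 hz

end CfsgLib.MinDegree.HypPlane
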