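import Mathlib
import Cfsg.Agent.Lib.MinDegree.HypSphere
import Cfsg.Agent.Lib.MinDegree.SLPerm
import Cfsg.Agent.Lib.Transvec.Basic

/-!
Representations of the special linear group below the degree of the permutation module: the transvections
of one centre fix no non-zero vector. There is no restriction on the field.
-/

namespace CfsgLib.MinDegree.SLSmall

open Matrix SLAvg SLTv SLOps SLWts SLOverlap SLBound SLExact HypSphere

universe u w

noncomputable section

variable {F : Type u} [Field F] [Fintype F] [DecidableEq F] {l : ℕ}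
variable {V : Type w} [AddCommGroup V] [Module ℂ V] [FiniteDimensional ℂ V]

omit [Fintype F] [DecidableEq F] in
/-- The block embedding fixing the first vector. -/
def blk1 {n : ℕ} : SpecialLinearGroup (Fin n) F →* SpecialLinearGroup (Fin (n + 1)) F where
  toFun A := ⟨Matrix.of (Fin.cons (Fin.cons 1 0) fun i => Fin.cons 0 (A.1 i)), by
    rw [det_succ_column_zero, Finset.sum_eq_single (0 : Fin (n + 1))]
    · simp only [Fin.val_zero, pow_zero, one_mul, Matrix.of_apply, Fin.cons_zero]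
      exact A.2
    · intro i _ hi
      obtain ⟨j, rfl⟩ := Fin.exists_succ_eq.2 hi
      simp
    · simp⟩
  map_one' := Subtype.ext (by
    show (Matrix.of (Fin.cons (Fin.cons 1 0) fun i => Fin.cons 0 ((1 : Matrix (Fin n) (Fin n) F) i)) :
      Matrix (Fin (n + 1)) (Fin (n + 1)) F) = 1
    ext i j
    refine Fin.cases ?_ (fun i' => ?_) i <;> refine Fin.cases ?_ (fun j' => ?_) j <;>
      simp [Matrix.one_apply, Fin.succ_inj, (Fin.succ_ne_zero _).symm])
  map_mul' A B := Subtype.ext (by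
    show (Matrix.of (Fin.cons (Fin.cons 1 0) fun i => Fin.cons 0 ((A.1 * B.1) i)) : Matrix (Fin (n + 1)) (Fin (n + 1)) F) =
      Matrix.of (Fin.cons (Fin.cons 1 0) fun i => Fin.cons 0 (A.1 i)) *
        Matrix.of (Fin.cons (Fin.cons 1 0) fun i => Fin.cons 0 (B.1 i))
    ext i j
    refine Fin.cases ?_ (fun i' => ?_) i <;> refine Fin.cases ?_ (fun j' => ?_) j <;>
      simp [Matrix.mul_apply, Fin.sum_univ_succ])

omit [Fintype F] [DecidableEq F] in
theorem blk1_transvection {n : ℕ} {i j : Fin n} (hij : i ≠ j) (c : F) :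
    blk1 (SpecialLinearGroup.transvection hij c) =
      tv (Pi.single i.succ (1 : F)) (Pi.single j.succ c) := by
  have hd : (Pi.single j.succ c : Fin (n + 1) → F) ⬝ᵥ Pi.single i.succ 1 = 0 := by simp [hij.symm]
  refine sl_ext fun x => ?_
  rw [tv_mulVec hd, single_dotProduct]
  funext k
  show ∑ m, (Matrix.of (Fin.cons (Fin.cons 1 0) fun a => Fin.cons 0
    ((Matrix.transvection i j c : Matrix (Fin n) (Fin n) F) a)) : Matrix (Fin (n + 1)) (Fin (n + 1)) F) k m * x m = _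
  rw [Fin.sum_univ_succ]
  refine Fin.cases ?_ (fun k' => ?_) k
  · simp [(Fin.succ_ne_zero _).symm]
  · simp only [Matrix.of_apply, Fin.cons_succ, Fin.cons_zero, zero_mul, zero_add, Matrix.transvection, Matrix.add_apply,
      add_mul, Finset.sum_add_distrib, Matrix.one_apply, ite_mul, one_mul, Finset.sum_ite_eq, Finset.mem_univ, if_true,
      Pi.add_apply, Pi.smul_apply, smul_eq_mul]
    congr 1
    rcases eq_or_ne k' i with rfl | hk
    · rw [Pi.single_eq_same, mul_one, Finset.sum_eq_single j] <;> simp +contextual [Matrix.single_apply, eq_comm]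
    · rw [Pi.single_eq_of_ne (fun h => hk (Fin.succ_inj.1 h)), mul_zero]
      exact Finset.sum_eq_zero fun m _ => by simp [Matrix.single_apply, Ne.symm hk]

/-- The transvections of the stabiliser of a vector generate it. -/
theorem stab_le {K : Subgroup (SpecialLinearGroup (Fin (l + 1 + 2)) F)}
    (hK : ∀ a φ : Fin (l + 1 + 2) → F, φ ⬝ᵥ a = 0 → φ ⬝ᵥ ev 0 = 0 → tv a φ ∈ K)
    {A : SpecialLinearGroup (Fin (l + 1 + 2)) F} (hA : A.1 *ᵥ ev 0 = ev 0) : A ∈ K := by
  have hblk : ∀ B : SpecialLinearGroup (Fin (l + 1 + 1)) F, B ∈ K.comap blk1 := by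
    intro B
    have ht : ∀ (i j : Fin (l + 1 + 1)) (hij : i ≠ j) (c : F),
        SpecialLinearGroup.transvection hij c ∈ K.comap blk1 := fun i j hij c => by
      rw [Subgroup.mem_comap, blk1_transvection]
      exact hK _ _ (by simp [hij.symm]) (by simp [ev])
    refine SpecialLinearGroup.diagonal_transvection_induction' (fun s => s ∈ K.comap blk1) B
      (fun i j hij c hc => ?_) ht (fun A B => mul_mem)
    rw [CfsgLib.Transvec.diag2n_eq hij hc]
    exact mul_mem (mul_mem (mul_mem (ht _ _ hij _) (ht _ _ hij.symm _)) (ht _ _ hij _))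
      (mul_mem (mul_mem (ht _ _ hij _) (ht _ _ hij.symm _)) (ht _ _ hij _))
  obtain ⟨ψ, hψ⟩ : ∃ ψ : Fin (l + 1 + 2) → F, ψ = A.1 0 - ev 0 := ⟨_, rfl⟩
  obtain ⟨χ, hχ⟩ := exists_adjoint A (-ψ)
  have hcol : ∀ i, A.1 i 0 = (ev 0 : Fin (l + 1 + 2) → F) i := fun i => by
    have h := congrFun hA i
    rwa [ev, mulVec_single_one] at h
  have hψ0 : ψ ⬝ᵥ ev 0 = 0 := by
    rw [dot_ev, hψ, Pi.sub_apply, hcol]; simp
  have hχ0 : χ ⬝ᵥ ev 0 = 0 := by
    have h := hχ (ev 0)
    rwa [hA, neg_dotProduct, hψ0, neg_zero] at h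
  obtain ⟨A', hA'⟩ : ∃ A', A' = tv (ev 0) χ * A := ⟨_, rfl⟩
  have hx : ∀ x, A'.1 *ᵥ x = A.1 *ᵥ x - (ψ ⬝ᵥ x) • ev 0 := fun x => by
    rw [hA', sl_mul_mulVec, tv_mulVec hχ0, hχ, neg_dotProduct, neg_smul, sub_eq_add_neg]
  have hrow : ∀ x, (A'.1 *ᵥ x) 0 = x 0 := fun x => by
    rw [hx, Pi.sub_apply, Pi.smul_apply, hψ, sub_dotProduct]
    simp [mulVec, ev]
  have h00 : ∀ j, A'.1 0 j = (Pi.single 0 1 : Fin (l + 1 + 2) → F) j := fun j => by
    have h := hrow (Pi.single j 1)
    rw [mulVec_single_one] at h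
    simpa [Pi.single_apply, eq_comm] using h
  have hc0 : ∀ i, A'.1 i 0 = (ev 0 : Fin (l + 1 + 2) → F) i := fun i => by
    have h := congrFun (hx (ev 0)) i
    rw [hA, hψ0, zero_smul, sub_zero] at h
    rwa [ev, mulVec_single_one] at h
  have hform : A'.1 = Matrix.of (Fin.cons (Fin.cons 1 0) fun i => Fin.cons 0
      ((A'.1.submatrix Fin.succ Fin.succ) i)) := by
    ext i j
    refine Fin.cases ?_ (fun i' => ?_) i <;> refine Fin.cases ?_ (fun j' => ?_) j
    · rw [h00]; simp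
    · rw [h00]; simp
    · rw [hc0]; simp [ev]
    · rfl
  have hdet : (A'.1.submatrix Fin.succ Fin.succ).det = 1 := by
    have h := A'.2
    rw [det_succ_column_zero, Finset.sum_eq_single (0 : Fin (l + 1 + 2))] at h
    · rw [hc0] at h
      simpa [ev] using h
    · intro i _ hi
      rw [hc0]
      simp [ev, hi]
    · simp
  have hmem : A' ∈ K := by
    have h := hblk ⟨A'.1.submatrix Fin.succ Fin.succ, hdet⟩
    replace h := Subgroup.mem_comap.1 h
    convert h using 1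
    exact Subtype.ext hform
  have h1 : tv (ev 0) χ ∈ K := hK _ _ hχ0 hχ0
  rw [hA', K.mul_mem_cancel_left h1] at hmem
  exact hmem

/-- A vector fixed by the stabiliser of a line determines the degree. -/
theorem line_fixed_degree (τ : Representation ℂ (SpecialLinearGroup (Fin (l + 1 + 2)) F) V) [τ.IsIrreducible]
    (hτ : τ ≠ 1) {z : V} (hz0 : z ≠ 0)
    (hz : ∀ (A : SpecialLinearGroup (Fin (l + 1 + 2)) F) (a : F), A.1 *ᵥ ev 0 = a • ev 0 → τ A z = z) :
    ((Fintype.card F : ℤ) - 1) * Module.finrank ℂ V = (Fintype.card F : ℤ) ^ (l + 1 + 2) - Fintype.card F := by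
  classical
  have hne0 : ∀ (A : SpecialLinearGroup (Fin (l + 1 + 2)) F) (x : Fin (l + 1 + 2) → F), x ≠ 0 → A.1 *ᵥ x ≠ 0 :=
    fun A x hx h => hx (mulVec_injective_of_isUnit (by rw [Matrix.isUnit_iff_isUnit_det, A.2]; exact isUnit_one)
      (h.trans (mulVec_zero _).symm))
  have hcancel : ∀ (A : SpecialLinearGroup (Fin (l + 1 + 2)) F) (x : Fin (l + 1 + 2) → F),
      (A⁻¹).1 *ᵥ (A.1 *ᵥ x) = x := fun A x => by
    rw [← sl_mul_mulVec, inv_mul_cancel]; exact one_mulVec _
  let H : Subgroup (SpecialLinearGroup (Fin (l + 1 + 2)) F) :=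
    { carrier := {A | ∃ a : F, A.1 *ᵥ ev 0 = a • ev 0}
      one_mem' := ⟨1, by rw [one_smul]; exact one_mulVec _⟩
      mul_mem' := by
        rintro A B ⟨a, ha⟩ ⟨b, hb⟩
        exact ⟨b * a, by rw [sl_mul_mulVec, hb, mulVec_smul, ha, smul_smul]⟩
      inv_mem' := by
        rintro A ⟨a, ha⟩
        have ha0 : a ≠ 0 := fun h => hne0 A _ (ev_ne_zero 0) (by rw [ha, h, zero_smul])
        refine ⟨a⁻¹, ?_⟩
        have h := hcancel A (ev 0)
        rw [ha, mulVec_smul] at h
        exact (eq_inv_smul_iff₀ ha0).2 h }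
  have hH : ∀ h ∈ H, τ h z = z := fun h ⟨a, ha⟩ => hz h a ha
  obtain ⟨e, he, heH⟩ := exists_inv_functional τ H hz0 hH
  obtain ⟨A₀, hA₀⟩ : ∃ A₀ : SpecialLinearGroup (Fin (l + 1 + 2)) F, A₀ = ww := ⟨_, rfl⟩
  have hA₀l : ∀ s : F, s • ev 0 ≠ A₀.1 *ᵥ ev 0 := fun s hs => by
    rw [hA₀, ww_ev0] at hs
    have h := congrFun hs 1
    simp [ev] at h
  obtain ⟨a₁, ha₁⟩ : ∃ a₁, a₁ = e (τ A₀ z) := ⟨_, rfl⟩
  obtain ⟨Φ, hΦ⟩ : ∃ Φ : (Fin (l + 1 + 2) → F) → ℂ, ∀ x, Φ x = if ∃ s : F, s • ev 0 = x then 1 else a₁ :=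
    ⟨_, fun x => rfl⟩
  have hf : ∀ A : SpecialLinearGroup (Fin (l + 1 + 2)) F, e (τ A z) = Φ (A.1 *ᵥ ev 0) := by
    intro A
    rw [hΦ]
    split_ifs with h
    · obtain ⟨s, hs⟩ := h
      rw [hH A ⟨s, hs.symm⟩, he]
    · push Not at h
      obtain ⟨g, hg0, hg1⟩ := exists_sl_pair (by simp) ((LinearIndependent.pair_iff' (ev_ne_zero 0)).2 hA₀l)
        ((LinearIndependent.pair_iff' (ev_ne_zero 0)).2 h)
      have hmem : A⁻¹ * (g * A₀) ∈ H := ⟨1, by
        rw [one_smul, sl_mul_mulVec, sl_mul_mulVec, hg1, hcancel]⟩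
      rw [ha₁, ← heH g ⟨1, by rw [one_smul, hg0]⟩ (τ A₀ z), ← Module.End.mul_apply (τ g), ← map_mul,
        ← mul_inv_cancel_left A (g * A₀), map_mul, Module.End.mul_apply, hH _ hmem]
  have hinv : ∀ A : SpecialLinearGroup (Fin (l + 1 + 2)) F, Φ ((A⁻¹).1 *ᵥ ev 0) = Φ (A.1 *ᵥ ev 0) := by
    intro A
    have key : ∀ B : SpecialLinearGroup (Fin (l + 1 + 2)) F, (∃ s : F, s • ev 0 = B.1 *ᵥ ev 0) →
        ∃ s : F, s • ev 0 = (B⁻¹).1 *ᵥ ev 0 := fun B ⟨s, hs⟩ => by
      obtain ⟨t, ht⟩ := H.inv_mem (show B ∈ H from ⟨s, hs.symm⟩)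
      exact ⟨t, ht.symm⟩
    have hiff : (∃ s : F, s • ev 0 = (A⁻¹).1 *ᵥ ev 0) ↔ ∃ s : F, s • ev 0 = A.1 *ᵥ ev 0 :=
      ⟨fun h => by simpa using key _ h, key A⟩
    simp only [hΦ, hiff]
  obtain ⟨S, hS⟩ : ∃ S : Finset (Fin (l + 1 + 2) → F), S = Finset.univ.erase 0 := ⟨_, rfl⟩
  have horb := sum_orbit (R := ℂ) (fun A : SpecialLinearGroup (Fin (l + 1 + 2)) F => A.1 *ᵥ ev 0)
    (fun A x => A.1 *ᵥ x) (fun A B => sl_mul_mulVec A B _) S
    (fun A => by rw [hS]; exact Finset.mem_erase.2 ⟨hne0 A _ (ev_ne_zero 0), Finset.mem_univ _⟩)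
    (fun x hx => by
      rw [hS] at hx
      obtain ⟨j, hj⟩ : ∃ j, ∀ s : F, s • x ≠ j := by
        by_contra! hc'
        have h := finrank_le_one x hc'
        rw [Module.finrank_fintype_fun_eq_card, Fintype.card_fin] at h
        omega
      obtain ⟨g, hg, -⟩ := exists_sl_pair (by simp) (li_ev (F := F) (i := 0) (j := 1) (Fin.ext_iff.not.2 (by simp)))
        ((LinearIndependent.pair_iff' (Finset.ne_of_mem_erase hx)).2 hj)
      exact ⟨g, hg⟩)
  obtain ⟨q, hq⟩ : ∃ q : ℂ, q = (Fintype.card F : ℂ) := ⟨_, rfl⟩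
  obtain ⟨P, hP⟩ : ∃ P : ℂ, P = q ^ (l + 1 + 2) := ⟨_, rfl⟩
  have hSc : (S.card : ℂ) = P - 1 := by
    rw [hS, Finset.card_erase_of_mem (Finset.mem_univ _), Finset.card_univ, Fintype.card_fun, Fintype.card_fin,
      Nat.cast_sub (Nat.one_le_pow _ _ Fintype.card_pos), Nat.cast_pow, Nat.cast_one, ← hq, hP]
  have hline : ((S.filter fun x => ∃ s : F, s • ev 0 = x).card : ℂ) = q - 1 := by
    rw [hq, ← Nat.cast_one (R := ℂ), ← Nat.cast_sub Fintype.card_pos, ← Fintype.card_units, ← Finset.card_univ]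
    congr 1
    refine (Finset.card_bij (fun (s : Fˣ) _ => (s : F) • (ev 0 : Fin (l + 1 + 2) → F)) ?_ ?_ ?_).symm
    · intro s _
      rw [hS, Finset.mem_filter]
      exact ⟨Finset.mem_erase.2 ⟨smul_ne_zero s.ne_zero (ev_ne_zero 0), Finset.mem_univ _⟩, s, rfl⟩
    · intro a _ b _ h
      exact Units.ext (smul_left_injective F (ev_ne_zero 0) h)
    · intro x hx
      rw [hS, Finset.mem_filter, Finset.mem_erase] at hx
      obtain ⟨⟨hx0, -⟩, s, rfl⟩ := hx
      exact ⟨Units.mk0 s (fun h => hx0 (by rw [h, zero_smul])), Finset.mem_univ _, rfl⟩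
  have hoff : ((S.filter fun x => ¬∃ s : F, s • ev 0 = x).card : ℂ) = P - q := by
    have h := congrArg (Nat.cast (R := ℂ)) (Finset.card_filter_add_card_filter_not
      (s := S) fun x => ∃ s : F, s • ev 0 = x)
    push_cast at h
    rw [hline, hSc] at h
    linear_combination h
  have hsum : ∀ g : ℂ → ℂ, ∑ x ∈ S, g (Φ x) = (q - 1) * g 1 + (P - q) * g a₁ := fun g => by
    rw [← Finset.sum_filter_add_sum_filter_not S fun x => ∃ s : F, s • ev 0 = x,
      Finset.sum_congr rfl (fun x hx => by rw [hΦ, if_pos (Finset.mem_filter.1 hx).2]),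
      Finset.sum_congr (s₁ := S.filter fun x => ¬∃ s : F, s • ev 0 = x) rfl
        (fun x hx => by rw [hΦ, if_neg (Finset.mem_filter.1 hx).2]),
      Finset.sum_const, Finset.sum_const, nsmul_eq_mul, nsmul_eq_mul, hline, hoff]
  obtain ⟨m, hm, hsum1⟩ := horb Φ
  obtain ⟨m', hm', hsum2⟩ := horb fun x => Φ x * Φ x
  have hcard0 : (Fintype.card (SpecialLinearGroup (Fin (l + 1 + 2)) F)) ≠ 0 := Fintype.card_ne_zero
  have hm0 : (m : ℂ) ≠ 0 := Nat.cast_ne_zero.2 fun h => hcard0 (by rw [← hm, h, zero_mul])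
  have hm0' : (m' : ℂ) ≠ 0 := Nat.cast_ne_zero.2 fun h => hcard0 (by rw [← hm', h, zero_mul])
  have hzero : ∑ A : SpecialLinearGroup (Fin (l + 1 + 2)) F, τ A z = 0 := by
    obtain ⟨v, hv⟩ : ∃ v, v = ∑ A : SpecialLinearGroup (Fin (l + 1 + 2)) F, τ A z := ⟨_, rfl⟩
    rw [← hv]
    have hfix : ∀ g, τ g v = v := fun g => by
      rw [hv, map_sum]
      exact Fintype.sum_equiv (Equiv.mulLeft g) _ _ fun A => by rw [← Module.End.mul_apply, ← map_mul]; rfl
    by_contra hne
    let T : Subrepresentation τ :=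
      { toSubmodule := ℂ ∙ v
        apply_mem_toSubmodule := fun g x hx => by
          obtain ⟨c, rfl⟩ := Submodule.mem_span_singleton.1 hx
          rw [map_smul, hfix]
          exact hx }
    rcases IsSimpleOrder.eq_bot_or_eq_top T with hT | hT
    · have hmem : v ∈ T.toSubmodule := Submodule.mem_span_singleton_self v
      rw [hT] at hmem
      exact hne hmem
    · refine hτ (MonoidHom.ext fun g => LinearMap.ext fun x => ?_)
      have hx : x ∈ T.toSubmodule := by rw [hT]; trivial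
      obtain ⟨c, rfl⟩ := Submodule.mem_span_singleton.1 hx
      rw [map_smul, hfix]
      rfl
  have h1 : (q - 1) + (P - q) * a₁ = 0 := by
    have h := congrArg e hzero
    rw [map_sum, map_zero, Finset.sum_congr rfl (fun A _ => hf A), hsum1, hsum fun t => t, nsmul_eq_mul,
      mul_eq_zero] at h
    linear_combination h.resolve_left hm0
  have h2 : (Module.finrank ℂ V : ℂ) * ((q - 1) + (P - q) * (a₁ * a₁)) = P - 1 := by
    have h := spherical τ he
    rw [Finset.sum_congr rfl (fun A _ => show e (τ A z) * e (τ A⁻¹ z) = Φ (A.1 *ᵥ ev 0) * Φ (A.1 *ᵥ ev 0) by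
      rw [hf, hf, hinv]), hsum2, hsum fun t => t * t, ← hm', nsmul_eq_mul, Nat.cast_mul, hSc, mul_left_comm] at h
    have h' := mul_left_cancel₀ hm0' h
    linear_combination h'
  obtain ⟨Q, hQ⟩ : ∃ Q : ℤ, Q = (Fintype.card F : ℤ) := ⟨_, rfl⟩
  have hQ2 : 2 ≤ Q := by rw [hQ]; exact_mod_cast Fintype.one_lt_card
  have hkey : (Module.finrank ℂ V : ℂ) * (q - 1) * (P - 1) = (P - q) * (P - 1) := by
    linear_combination (P - q) * h2 -
      (Module.finrank ℂ V : ℂ) * ((P - q) * a₁ - (q - 1)) * h1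
  have hkeyZ : (Module.finrank ℂ V : ℤ) * (Q - 1) * (Q ^ (l + 1 + 2) - 1) =
      (Q ^ (l + 1 + 2) - Q) * (Q ^ (l + 1 + 2) - 1) := by
    rw [hQ]
    rw [hP, hq] at hkey
    exact_mod_cast hkey
  have hP1 : Q ^ (l + 1 + 2) - 1 ≠ 0 := by
    have : Q ≤ Q ^ (l + 1 + 2) := le_self_pow₀ (by omega) (by omega)
    omega
  rw [← hQ]
  linear_combination mul_right_cancel₀ hP1 hkeyZ

/-- Below the degree of the permutation module the transvections of one centre fix no non-zero vector. -/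
theorem pv_eq_zero (τ : Representation ℂ (SpecialLinearGroup (Fin (l + 1 + 2)) F) V) [τ.IsIrreducible]
    (hτ : τ ≠ 1) (hk : ((Fintype.card F : ℤ) - 1) * Module.finrank ℂ V <
      (Fintype.card F : ℤ) ^ (l + 1 + 2) - Fintype.card F) :
    pv τ (ev (0 : Fin (l + 1 + 2))) = 0 := by
  classical
  obtain ⟨ψ, hψ⟩ := CfsgLib.MinDegree.exists_nontrivial_addChar (F := F) (K := ℂ)
    (Nat.cast_ne_zero.2 Fintype.card_ne_zero)
  rcases sl_data_gen_ext τ hτ with h | ⟨c, c', d, f, z, -, hfz, hzc, hkc, hc, hm, -, -, -, -, hd0⟩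
  · exact absurd h.1 (not_le.2 hk)
  have hd : d = 0 := by
    by_contra hne
    exact absurd (SLArith.sl_arith (d := d) (c := c) (c' := c') (f := f) (z := z) (m := l + 1) Fintype.one_lt_card
      (by omega) (Nat.one_le_iff_ne_zero.2 hne) hfz hzc hkc hc hm) (not_le.2 hk)
  have hX := hd0 hd
  refine LinearMap.ext fun x => ?_
  rw [LinearMap.zero_apply]
  by_contra hy0
  obtain ⟨y, hy⟩ : ∃ y, y = pv τ (ev (0 : Fin (l + 1 + 2))) x := ⟨_, rfl⟩
  rw [← hy] at hy0
  have hP0 : pv τ (ev (0 : Fin (l + 1 + 2))) = av ψ (qHom τ) 0 := pv_ev0 τ ψ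
  have hy1 : pv τ (ev (0 : Fin (l + 1 + 2))) y = y := by
    rw [hy, ← Module.End.mul_apply, hP0, av_idem ψ _ hψ]
  have hQ : ∀ φ, φ ⬝ᵥ ev 0 = 0 → ∀ v, pv τ (ev (0 : Fin (l + 1 + 2))) v = v → τ (tv (ev 0) φ) v = v := by
    intro φ hφ v hv
    have h := apply_mul_av ψ (qHom τ) (Fin.tail φ) 0
    rw [dotProduct_zero, AddChar.map_zero_eq_one, one_smul, ← hP0] at h
    have e : p1 (Fin.tail φ) = φ := by
      rw [dot_ev] at hφ
      exact funext fun i => Fin.cases hφ.symm (fun j => rfl) i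
    have h' := LinearMap.congr_fun h v
    rw [Module.End.mul_apply, hv] at h'
    rw [← e]
    exact h'
  have hinvar : ∀ g : SpecialLinearGroup (Fin (l + 1 + 2)) F, g.1 *ᵥ ev 0 = ev 0 → ∀ v,
      pv τ (ev (0 : Fin (l + 1 + 2))) v = v → pv τ (ev (0 : Fin (l + 1 + 2))) (τ g v) = τ g v := by
    intro g hg v hv
    have h := conj_pv τ g (ev 0)
    rw [hg] at h
    rw [← Module.End.mul_apply, ← h, Module.End.mul_apply, hv]
  have hT : ∀ a φ : Fin (l + 1 + 2) → F, φ ⬝ᵥ a = 0 → φ ⬝ᵥ ev 0 = 0 → τ (tv a φ) y = y := by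
    intro a φ ha h0
    by_cases hs : ∃ s : F, s • ev 0 = a
    · obtain ⟨s, rfl⟩ := hs
      rw [show tv (s • ev 0) φ = tv (ev 0) (s • φ) from sl_ext fun x => by
        rw [tv_mulVec ha, tv_mulVec (by rw [smul_dotProduct, h0, smul_zero]), smul_dotProduct, smul_eq_mul, smul_smul,
          mul_comm]]
      exact hQ _ (by rw [smul_dotProduct, h0, smul_zero]) y hy1
    push Not at hs
    obtain ⟨g, hg0, hg1⟩ := exists_sl_pair (by simp) (li_ev (F := F) (i := 0) (j := 1) (Fin.ext_iff.not.2 (by simp)))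
      ((LinearIndependent.pair_iff' (ev_ne_zero 0)).2 hs)
    have hgi : (g⁻¹).1 *ᵥ ev 0 = ev 0 := by
      conv_lhs => rw [← hg0, ← sl_mul_mulVec, inv_mul_cancel]
      exact one_mulVec _
    obtain ⟨φ', hφ'⟩ := exists_adjoint g⁻¹ φ
    have hφx : ∀ x, φ' ⬝ᵥ x = φ ⬝ᵥ (g.1 *ᵥ x) := fun x => by
      rw [← hφ', ← sl_mul_mulVec, inv_mul_cancel]
      exact congrArg (φ' ⬝ᵥ ·) (one_mulVec x).symm
    have e : p2 (Fin.tail (Fin.tail φ')) = φ' := by
      have e0 : φ' 0 = 0 := by rw [← dot_ev φ' 0, hφx, hg0, h0]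
      have e1 : φ' 1 = 0 := by rw [← dot_ev φ' 1, hφx, hg1, ha]
      exact funext fun i => Fin.cases e0.symm (fun j => Fin.cases e1.symm (fun k => rfl) j) i
    have hconj : g * tv (ev 1) φ' = tv a φ * g := mul_tv g (by rw [hφx, hg1, ha]) ha fun x => by rw [hφx, hg1]
    have hw := hX (τ g⁻¹ y) (hinvar _ hgi _ hy1) (Fin.tail (Fin.tail φ'))
    rw [e] at hw
    have h' := congrArg (τ g) hw
    rwa [← Module.End.mul_apply, ← map_mul, hconj, map_mul, Module.End.mul_apply, ← Module.End.mul_apply (τ g),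
      ← map_mul, mul_inv_cancel, map_one, Module.End.one_apply] at h'
  have hS : ∀ A : SpecialLinearGroup (Fin (l + 1 + 2)) F, A.1 *ᵥ ev 0 = ev 0 → τ A y = y := by
    intro A hA
    let K : Subgroup (SpecialLinearGroup (Fin (l + 1 + 2)) F) :=
      { carrier := {g | τ g y = y}
        one_mem' := by simp
        mul_mem' := fun {a b} (ha : τ a y = y) (hb : τ b y = y) => by
          show τ (a * b) y = y
          rw [map_mul, Module.End.mul_apply, hb, ha]
        inv_mem' := fun {a} (ha : τ a y = y) => by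
          show τ a⁻¹ y = y
          conv_lhs => rw [← ha, ← Module.End.mul_apply, ← map_mul, inv_mul_cancel, map_one, Module.End.one_apply] }
    exact stab_le (K := K) hT hA
  have hq : (2 : ℤ) ≤ Fintype.card F := by exact_mod_cast Fintype.one_lt_card
  obtain ⟨v, hv0, hv⟩ := line_of_vec τ (by linarith) hy0 hS
  linarith [line_fixed_degree τ hτ hv0 hv]

/-- Without invariant vectors a representation below twice the weight bound is irreducible. -/
theorem irreducible_of_no_invariant (τ : Representation ℂ (SpecialLinearGroup (Fin (l + 1 + 2)) F) V)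
    (hinv : ∀ v, (∀ A, τ A v = v) → v = 0) (hτ : τ ≠ 1)
    (hk : (Module.finrank ℂ V : ℤ) < 2 * ((Fintype.card F : ℤ) ^ (l + 1 + 1) - 1)) : τ.IsIrreducible := by
  classical
  haveI : Nontrivial V := by
    by_contra h
    rw [not_nontrivial_iff_subsingleton] at h
    exact hτ (MonoidHom.ext fun g => LinearMap.ext fun v => Subsingleton.elim _ _)
  haveI : Nontrivial (Subrepresentation τ) := ⟨⊥, ⊤, fun h => bot_ne_top (α := Submodule ℂ V)
    (congrArg Subrepresentation.toSubmodule h)⟩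
  refine IsSimpleOrder.mk fun S => ?_
  set U := S.toSubmodule
  by_cases hb : U = ⊥
  · exact Or.inl (Subrepresentation.toSubmodule_injective hb)
  refine Or.inr (Subrepresentation.toSubmodule_injective ?_)
  show U = ⊤
  have hle : ∀ g, U ≤ U.comap (τ g) := fun g v hv => S.apply_mem_toSubmodule g hv
  let σ : Representation ℂ (SpecialLinearGroup (Fin (l + 1 + 2)) F) U :=
    { toFun := fun g => (τ g).restrict (hle g)
      map_one' := LinearMap.ext fun v => Subtype.ext (by simp)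
      map_mul' := fun g h => LinearMap.ext fun v => Subtype.ext (by simp) }
  let σq : Representation ℂ (SpecialLinearGroup (Fin (l + 1 + 2)) F) (V ⧸ U) :=
    { toFun := fun g => U.mapQ U (τ g) (hle g)
      map_one' := LinearMap.ext fun v => by
        induction v using Submodule.Quotient.induction_on with | _ v => simp
      map_mul' := fun g h => LinearMap.ext fun v => by
        induction v using Submodule.Quotient.induction_on with | _ v => simp }
  have hU1 : σ ≠ 1 := fun h => hb ((Submodule.eq_bot_iff _).2 fun v hv => hinv v fun A =>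
    congrArg Subtype.val (LinearMap.congr_fun (DFunLike.congr_fun h A) ⟨v, hv⟩))
  have h1 := weight_bound σ hU1
  have hq1 : σq = 1 := by
    by_contra h
    have h2 := weight_bound σq h
    have h3 : (Module.finrank ℂ (V ⧸ U) : ℤ) + Module.finrank ℂ U = Module.finrank ℂ V := by
      exact_mod_cast U.finrank_quotient_add_finrank
    linarith
  refine eq_top_iff.2 fun v _ => ?_
  obtain ⟨G, hG⟩ : ∃ G : ℕ, G = Fintype.card (SpecialLinearGroup (Fin (l + 1 + 2)) F) := ⟨_, rfl⟩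
  have hzero : ∑ A : SpecialLinearGroup (Fin (l + 1 + 2)) F, τ A v = 0 := hinv _ fun g => by
    rw [map_sum]
    exact Fintype.sum_equiv (Equiv.mulLeft g) _ _ fun A => by rw [← Module.End.mul_apply, ← map_mul]; rfl
  have hmem : ∑ A : SpecialLinearGroup (Fin (l + 1 + 2)) F, (τ A v - v) ∈ U := U.sum_mem fun A _ =>
    (Submodule.Quotient.eq U).1 (LinearMap.congr_fun (DFunLike.congr_fun hq1 A) (Submodule.Quotient.mk v))
  rw [Finset.sum_sub_distrib, hzero, zero_sub, Finset.sum_const, Finset.card_univ, ← hG,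
    Submodule.neg_mem_iff, ← Nat.cast_smul_eq_nsmul ℂ, U.smul_mem_iff (Nat.cast_ne_zero.2 (hG ▸ Fintype.card_ne_zero))] at hmem
  exact hmem

end

end CfsgLib.MinDegree.SLSmall
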