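import Mathlib
import Cfsg.Agent.Lib.MinDegree.HypBound
import Cfsg.Agent.Lib.MinDegree.HypMinus
import Cfsg.Agent.Lib.MinDegree.SLSmall

/-!
The bound for the commutator groups of hyperbolic extensions of an anisotropic plane, over any finite field:
the two smallest ranks are settled through the root group of a singular vector.
-/

namespace CfsgLib.MinDegree.HypSmall

open Matrix CfsgLib.Classical SLAvg SLTv SLOps SLWts SLBound PlusAlt HypFrm HypWts HypFix HypPoint HypMinus HypBd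

universe u w

noncomputable section

variable {F : Type u} [Field F] [Fintype F] [DecidableEq F] {J : Type} [Fintype J]

section Common

variable {l : ℕ} (Q₀ : QuadraticForm F (J → F)) (h0 : PolarNondeg Q₀)
variable {V : Type w} [AddCommGroup V] [Module ℂ V] [FiniteDimensional ℂ V]
variable (ρ : Representation ℂ (EG Q₀ l) V) (ψ : AddChar F ℂ)

theorem emb_zero : (emb (0 : Md F l J) : Vc F l J) = 0 := by
  rw [← zero_smul F (0 : Md F l J), emb_smul, zero_smul]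

theorem fix_of_rp0 {v : V} (hv : rp Q₀ ρ ψ 0 v = v) (y : Md F l J) :
    ρ (el Q₀ (eA (ev 0)) (emb y)) v = v := by
  have h := LinearMap.congr_fun (el_mul_rp Q₀ ρ ψ y 0) v
  rwa [Module.End.mul_apply, hv, QuadraticMap.polar_zero_right, AddChar.map_zero_eq_one, one_smul, hv] at h

theorem rp0_comm {g : EG Q₀ l} (hg : ap Q₀ g (eA (ev 0)) = eA (ev 0)) :
    ρ g * rp Q₀ ρ ψ 0 = rp Q₀ ρ ψ 0 * ρ g := by
  have h := rp_move Q₀ ρ ψ one_ne_zero (show ap Q₀ g (eA (ev 0)) = (1 : F) • eA (ev 0) by rw [one_smul, hg]) 0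
  rw [inv_one, one_smul, sig, emb_zero, show ap Q₀ g 0 = 0 from map_zero _, ← emb_zero, proj_emb] at h
  exact h

theorem wedge_smul_swap {d : ℕ} (c : F) (x y : Fin d → F) : wedge (c • x) y = wedge ((-c) • y) x := by
  ext i j
  simp only [wedge_apply, Pi.smul_apply, smul_eq_mul]
  ring

/-- A vector fixed by the root group is fixed by the translations once it is fixed by those off the first vector. -/
theorem zfix_of_rp0 {v : V} (hv : rp Q₀ ρ ψ 0 v = v)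
    (hoff : ∀ (p : Pair (l + 1 + 2)) (c : F), p.1.1 ≠ 0 → ρ (zE Q₀ (Multiplicative.ofAdd (Pi.single p c))) v = v) :
    ZFix Q₀ ρ v := by
  classical
  have hall : ∀ (p : Pair (l + 1 + 2)) (c : F), ρ (zE Q₀ (Multiplicative.ofAdd (Pi.single p c))) v = v := by
    intro p c
    by_cases h : p.1.1 = 0
    swap
    · exact hoff p c h
    obtain ⟨⟨i, j⟩, hij⟩ := p
    simp only at h
    subst h
    obtain ⟨j', rfl⟩ := Fin.exists_succ_eq.2 (ne_of_gt hij)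
    rw [single_eq_wedge, wedge_smul_swap, ← el_eA_eA']
    have e : ((-c) • ev j'.succ : Fin (l + 1 + 2) → F) = Fin.cons 0 ((-c) • Pi.single j' 1) := funext fun i => by
      refine Fin.cases ?_ (fun i' => ?_) i
      · simp [ev, (Fin.succ_ne_zero j').symm]
      · simp [ev, Pi.single_apply, Fin.succ_inj]
        split_ifs <;> simp
    rw [e, ← emb_mdA]
    exact fix_of_rp0 Q₀ ρ ψ hv _
  intro φ
  rw [← Finset.univ_sum_single φ]
  induction (Finset.univ : Finset (Pair (l + 1 + 2))) using Finset.induction with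
  | empty => rw [Finset.sum_empty, ofAdd_zero, map_one, map_one, Module.End.one_apply]
  | insert p s hp ih => rw [Finset.sum_insert hp, ofAdd_add, map_mul, map_mul, Module.End.mul_apply, ih, hall]

include h0 in
/-- Below the bound the root group fixes none of the vectors fixed by the translations. -/
theorem rp0_zfix_eq_zero [Nonempty J] [ρ.IsIrreducible] (hρ : ρ ≠ 1) (hψ : ψ ≠ 1)
    (hsmall : Small (V := V) (F := F) (J := J) (l := l))
    (hlt : ((Fintype.card F : ℤ) ^ 2 - 1) * Module.finrank ℂ V <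
      (Fintype.card F : ℤ) ^ Fintype.card J * ((Fintype.card F : ℤ) ^ (l + 1 + 2) - 1) *
          ((Fintype.card F : ℤ) ^ (l + 1 + 1) - 1) +
        ((Fintype.card F : ℤ) + 1) * ((Fintype.card F : ℤ) ^ (l + 1 + 2) - Fintype.card F))
    {v : V} (hv : ZFix Q₀ ρ v) (hvR : rp Q₀ ρ ψ 0 v = v) : v = 0 := by
  classical
  by_contra hv0
  obtain ⟨-, -, hk, -⟩ := small_data Q₀ ρ ψ h0 hψ hρ hsmall
  rw [← finrank_fixC Q₀ ρ ψ hψ] at hk
  have hk' : (Fintype.card F : ℤ) ^ Fintype.card J * (wedges (l + 1 + 2) F).card +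
      Module.finrank ℂ (fixC Q₀ ρ) ≤ Module.finrank ℂ V := by exact_mod_cast hk
  have hN := card_wedges (F := F) (l + 1 + 1)
  rw [show (wedges (l + 1 + 1 + 1) F).card = (wedges (l + 1 + 2) F).card from rfl,
    show (Fintype.card F : ℤ) ^ (l + 1 + 1 + 1) = (Fintype.card F : ℤ) ^ (l + 1 + 2) from rfl] at hN
  obtain ⟨Q, hQ⟩ : ∃ Q : ℤ, Q = (Fintype.card F : ℤ) := ⟨_, rfl⟩
  have hQ2 : 2 ≤ Q := by rw [hQ]; exact_mod_cast Fintype.one_lt_card
  obtain ⟨W, hW⟩ : ∃ W : ℤ, W = Q ^ Fintype.card J := ⟨_, rfl⟩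
  have hW0 : 0 ≤ W := by rw [hW]; exact pow_nonneg (by omega) _
  rw [← hQ] at hN hk' hlt
  rw [← hW] at hk' hlt
  have hC : (Q - 1) * Module.finrank ℂ (fixC Q₀ ρ) < Q ^ (l + 1 + 2) - Q := by
    have h1 := mul_le_mul_of_nonneg_left hk' (show (0 : ℤ) ≤ Q ^ 2 - 1 by nlinarith)
    have h2 := mul_le_mul_of_nonneg_left hN hW0
    refine lt_of_mul_lt_mul_left (a := Q + 1) ?_ (by omega)
    linarith
  obtain ⟨C, hCdef⟩ : ∃ C, C = levC Q₀ h0 ρ := ⟨_, rfl⟩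
  have hC1 : C ≠ 1 := hCdef ▸ levC_ne_one Q₀ h0 ρ hρ hsmall hv0 hv
  have hinv : ∀ x, (∀ A, C A x = x) → x = 0 := fun x hx =>
    Subtype.ext (eq_zero_of_levi Q₀ ρ h0 hρ hsmall x.2 fun A => by rw [← levC_apply, ← hCdef, hx])
  obtain ⟨P, hP⟩ : ∃ P : ℤ, P = Q ^ (l + 1 + 1) := ⟨_, rfl⟩
  have hPQ : Q ≤ P := by rw [hP]; exact le_self_pow₀ (by omega) (by omega)
  haveI := SLSmall.irreducible_of_no_invariant C hinv hC1 (by
    rw [← hQ, ← hP]
    rw [show Q ^ (l + 1 + 2) = Q * P by rw [hP]; ring] at hC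
    refine lt_of_mul_lt_mul_left (a := Q - 1) ?_ (by omega)
    nlinarith [mul_nonneg (show (0 : ℤ) ≤ Q - 2 by omega) (show (0 : ℤ) ≤ P - 1 by omega)])
  have hz := SLSmall.pv_eq_zero C hC1 (by rw [← hQ]; exact hC)
  rw [pv_ev0 C ψ] at hz
  have hfix : ∀ φ, qHom C (Multiplicative.ofAdd φ) (⟨v, hv⟩ : fixC Q₀ ρ) = ⟨v, hv⟩ := fun φ => Subtype.ext (by
    show (C (tv (ev 0) (p1 φ)) ⟨v, hv⟩).1 = v
    rw [hCdef, levC_apply, levE_tv Q₀ h0 (p1_ev0 φ)]
    have e : (fB (-p1 φ) : Vc F l J) = emb (Sum.elim (Sum.elim 0 (-φ)) 0) := by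
      show mk 0 (-p1 φ) 0 = mk (Fin.cons 0 0) (Fin.cons 0 (-φ)) 0
      rw [HypMinus.cons_zero_zero]
      congr 1
      funext i
      refine Fin.cases ?_ (fun j => ?_) i <;> simp [p1]
    rw [e]
    exact fix_of_rp0 Q₀ ρ ψ hvR _)
  have h := LinearMap.congr_fun hz (⟨v, hv⟩ : fixC Q₀ ρ)
  rw [av_zero, LinearMap.smul_apply, LinearMap.sum_apply, Finset.sum_congr rfl (fun φ _ => hfix φ), Finset.sum_const,
    Finset.card_univ, ← Nat.cast_smul_eq_nsmul ℂ, smul_smul,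
    inv_mul_cancel₀ (Nat.cast_ne_zero.2 Fintype.card_ne_zero), one_smul, LinearMap.zero_apply] at h
  exact hv0 (congrArg Subtype.val h)

end Common

section RankThree

/-- The coordinates of the third pair. -/
def emb2 (y : (Fin 1 ⊕ Fin 1) ⊕ J → F) : Vc F 0 J :=
  mk (y (.inl (.inl 0)) • ev 2) (y (.inl (.inr 0)) • ev 2) fun j => y (.inr j)

theorem emb2_add (y y' : (Fin 1 ⊕ Fin 1) ⊕ J → F) : emb2 (y + y') = emb2 y + emb2 y' := by
  rw [emb2, emb2, emb2, mk_add]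
  congr 1 <;> simp [add_smul] <;> rfl

theorem emb2_smul (c : F) (y : (Fin 1 ⊕ Fin 1) ⊕ J → F) : emb2 (c • y) = c • emb2 y := by
  rw [emb2, emb2, mk_smul]
  congr 1 <;> simp [smul_smul] <;> rfl

theorem emb2_sub (y y' : (Fin 1 ⊕ Fin 1) ⊕ J → F) : emb2 (y - y') = emb2 y - emb2 y' := by
  rw [eq_sub_iff_add_eq, ← emb2_add, sub_add_cancel]

variable (Q₀ : QuadraticForm F (J → F))

theorem quad_emb2 (y : (Fin 1 ⊕ Fin 1) ⊕ J → F) : QF Q₀ 0 (emb2 y) = qExt 1 Q₀ y := by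
  rw [emb2, quad_mk, qExt_apply]
  simp [ev, mul_comm]

theorem polar_emb2 (y y' : (Fin 1 ⊕ Fin 1) ⊕ J → F) :
    QuadraticMap.polar (QF Q₀ 0) (emb2 y) (emb2 y') = QuadraticMap.polar (qExt 1 Q₀) y y' := by
  simp only [QuadraticMap.polar, ← emb2_add, quad_emb2]

theorem polar_ev_emb2 {i : Fin (0 + 1 + 2)} (hi : i ≠ 2) (y : (Fin 1 ⊕ Fin 1) ⊕ J → F) :
    QuadraticMap.polar (QF Q₀ 0) (eA (ev i)) (emb2 y) = 0 := by
  rw [eA, emb2, polar_mk]
  simp [ev, hi]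

variable (h0 : PolarNondeg Q₀)
variable {V : Type w} [AddCommGroup V] [Module ℂ V] [FiniteDimensional ℂ V]
variable (ρ : Representation ℂ (EG Q₀ 0) V) (ψ : AddChar F ℂ)

/-- The part of the root group of the second vector off the first pair. -/
def tHom : Multiplicative ((Fin 1 ⊕ Fin 1) ⊕ J → F) →* Module.End ℂ V where
  toFun y := ρ (el Q₀ (eA (ev 1)) (emb2 y.toAdd))
  map_one' := by
    rw [show (emb2 (1 : Multiplicative ((Fin 1 ⊕ Fin 1) ⊕ J → F)).toAdd : Vc F 0 J) = 0 by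
      rw [toAdd_one, ← zero_smul F (0 : (Fin 1 ⊕ Fin 1) ⊕ J → F), emb2_smul, zero_smul], el_zero Q₀ (quad_eA Q₀ _),
      map_one]
  map_mul' y y' := by
    rw [← map_mul, el_mul Q₀ (quad_eA Q₀ _) (polar_ev_emb2 Q₀ (by decide) _) (polar_ev_emb2 Q₀ (by decide) _),
      ← emb2_add]
    rfl

theorem exists_mover {m : qAut (qExt 1 Q₀)} (hm : m ∈ eichGroup (qExt 1 Q₀)) :
    ∃ g : EG Q₀ 0, ap Q₀ g (eA (ev 0)) = eA (ev 0) ∧ ap Q₀ g (eA (ev 1)) = eA (ev 1) ∧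
      ∀ y, ap Q₀ g (emb2 y) = emb2 (m.1 y) := by
  let K : Subgroup (qAut (qExt 1 Q₀)) :=
    { carrier := {m | ∃ g : EG Q₀ 0, ap Q₀ g (eA (ev 0)) = eA (ev 0) ∧ ap Q₀ g (eA (ev 1)) = eA (ev 1) ∧
        ∀ y, ap Q₀ g (emb2 y) = emb2 (m.1 y)}
      one_mem' := ⟨1, rfl, rfl, fun y => rfl⟩
      mul_mem' := by
        rintro a b ⟨g, g1, g2, g3⟩ ⟨g', g1', g2', g3'⟩
        exact ⟨g * g', by rw [ap_mul, g1', g1], by rw [ap_mul, g2', g2], fun y => by rw [ap_mul, g3', g3]; rfl⟩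
      inv_mem' := by
        rintro a ⟨g, g1, g2, g3⟩
        have hinv : ∀ x z, ap Q₀ g x = z → ap Q₀ g⁻¹ z = x := fun x z h => by
          rw [← h, ← ap_mul, inv_mul_cancel]; rfl
        refine ⟨g⁻¹, hinv _ _ g1, hinv _ _ g2, fun y => hinv _ _ ?_⟩
        rw [g3]
        congr 1
        show (a * a⁻¹).1 y = y
        rw [mul_inv_cancel]
        rfl }
  have hle : eichGroup (qExt 1 Q₀) ≤ K := by
    refine (Subgroup.closure_le _).2 ?_
    rintro _ ⟨u, w, hu, hw, rfl⟩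
    have hu' : QF Q₀ 0 (emb2 u) = 0 := by rw [quad_emb2, hu]
    have hw' : QuadraticMap.polar (QF Q₀ 0) (emb2 u) (emb2 w) = 0 := by rw [polar_emb2, hw]
    have hfix : ∀ i : Fin (0 + 1 + 2), i ≠ 2 → ap Q₀ (el Q₀ (emb2 u) (emb2 w)) (eA (ev i)) = eA (ev i) := by
      intro i hi
      rw [ap_el Q₀ hu' hw', polar_ev_emb2 Q₀ hi, polar_ev_emb2 Q₀ hi]
      simp
    refine ⟨el Q₀ (emb2 u) (emb2 w), hfix 0 (by decide), hfix 1 (by decide), fun y => ?_⟩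
    rw [ap_el Q₀ hu' hw', eich_apply _ hu hw, polar_emb2, polar_emb2, quad_emb2, emb2_sub, emb2_add, emb2_smul,
      emb2_smul]
  exact hle hm

include h0 in
theorem false_rank_three [Nonempty J] (hJ : 2 ≤ Fintype.card J) (h2 : TwoLines Q₀)
    (haniso : ∀ w, Q₀ w = 0 → w = 0) (hρ : ρ ≠ 1) (hψ : ψ ≠ 1)
    (hsmall : Small (V := V) (F := F) (J := J) (l := 0))
    (hC0 : ∀ v, ZFix Q₀ ρ v → rp Q₀ ρ ψ 0 v = v → v = 0) : False := by
  classical
  obtain ⟨P, hP⟩ : ∃ P, P = rp Q₀ ρ ψ 0 := ⟨_, rfl⟩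
  have hPP : P * P = P := hP ▸ rp_idem Q₀ ρ ψ hψ 0
  have hPne : P ≠ 0 := by
    obtain ⟨ω, hω⟩ : ∃ ω, ω = upper (wedge (ev 1) (ev 2) : Matrix (Fin (0 + 1 + 2)) (Fin (0 + 1 + 2)) F) := ⟨_, rfl⟩
    have hωm : ω ∈ wedges (0 + 1 + 2) F := mem_wedges.2 ⟨fun h => by
      have := congrFun h ⟨((1 : Fin (0 + 1 + 2)), (2 : Fin (0 + 1 + 2))), by decide⟩
      simp [hω, upper, wedge_apply, ev] at this, _, _, hω.symm⟩
    have hrow : PlusAlt.row ω = 0 := funext fun j => by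
      simp [hω, PlusAlt.row, upper, wedge_apply, ev]
    have h := rp_zero_pr Q₀ h0 ρ ψ hψ hρ hsmall
      (fun x hx => rp_nonsingular_of_two Q₀ h0 ρ ψ h2 hψ hρ hsmall hx) haniso hωm hrow
    have hrk := (small_data Q₀ ρ ψ h0 hψ hρ hsmall).2.1 ω hωm
    intro hz
    rw [← hP, hz, zero_mul] at h
    rw [← h, LinearMap.range_zero, finrank_bot] at hrk
    exact pow_ne_zero _ Fintype.card_ne_zero hrk.symm
  have hPt : ∀ y, P * tHom Q₀ ρ y = tHom Q₀ ρ y * P := fun y => by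
    rw [hP]
    refine (rp0_comm Q₀ ρ ψ ?_).symm
    rw [ap_el Q₀ (quad_eA Q₀ _) (polar_ev_emb2 Q₀ (by decide) _), polar_eA_eA, polar_ev_emb2 Q₀ (by decide)]
    simp
  obtain ⟨Pw, hPw⟩ : ∃ Pw : ((Fin 1 ⊕ Fin 1) ⊕ J → F) → Module.End ℂ V,
      ∀ x, Pw x = av ψ (tHom Q₀ ρ) (HypWts.gram (qExt 1 Q₀) x) := ⟨_, fun x => rfl⟩
  have hgb := gram_bijective (polarNondeg_qExt h0 1)
  obtain ⟨x, hx⟩ : ∃ x, P * Pw x ≠ 0 := by
    by_contra! h
    refine hPne ?_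
    rw [← mul_one P, ← sum_av ψ (tHom Q₀ ρ) hψ, Finset.mul_sum]
    refine Finset.sum_eq_zero fun w _ => ?_
    obtain ⟨x, rfl⟩ := hgb.2 w
    rw [← hPw, h]
  obtain ⟨x', hx', hb'⟩ : ∃ x', P * Pw x' ≠ 0 ∧ x' (.inl (.inr 0)) = 0 := by
    by_cases hb : x (.inl (.inr 0)) = 0
    · exact ⟨x, hx, hb⟩
    have hx0 : x ≠ 0 := fun h => hb (by rw [h]; rfl)
    have hn : 4 ≤ Module.finrank F ((Fin 1 ⊕ Fin 1) ⊕ J → F) := by
      rw [Module.finrank_fintype_fun_eq_card, Fintype.card_sum, Fintype.card_sum, Fintype.card_fin]; omega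
    obtain ⟨x', m, hm, hmx, hb'⟩ : ∃ x' : (Fin 1 ⊕ Fin 1) ⊕ J → F, ∃ m ∈ eichGroup (qExt 1 Q₀),
        m.1 x = x' ∧ x' (.inl (.inr 0)) = 0 := by
      by_cases hq : qExt 1 Q₀ x = 0
      · obtain ⟨m, hm, hmx⟩ := exists_move_eichGroup _ (polarNondeg_qExt h0 1) hn (u := x)
          (u' := Sum.elim (Sum.elim 1 0) 0) hq (by rw [qExt_apply]; simp [show (fun _ => (0 : F)) = (0 : J → F) from rfl])
          hx0 (fun h => by simpa using congrFun h (.inl (.inl 0)))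
        exact ⟨_, m, hm, hmx, rfl⟩
      · obtain ⟨w, -, hw, -, -⟩ := h2 _ hq
        obtain ⟨m, hm, hmx⟩ := exists_move_level _ (polarNondeg_qExt h0 1) hn (v := x)
          (v' := Sum.elim (Sum.elim 0 0) w) hq (by rw [← hw, qExt_apply _ _ (Sum.elim _ _)]; simp)
        exact ⟨_, m, hm, hmx, rfl⟩
    refine ⟨x', fun h => hx ?_, hb'⟩
    obtain ⟨g, g0, g1, g2⟩ := exists_mover Q₀ hm
    have hinj : Function.Injective fun y => m.1 y := m.1.injective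
    have hmv : ρ g * Pw x = Pw x' * ρ g := by
      rw [hPw, hPw]
      refine move_av ψ _ (Equiv.ofBijective _ (Finite.injective_iff_bijective.1 hinj)) (fun φ => ?_) fun φ => ?_
      · show ρ g * ρ (el Q₀ (eA (ev 1)) (emb2 φ)) = ρ (el Q₀ (eA (ev 1)) (emb2 (m.1 φ))) * ρ g
        rw [← map_mul, ← map_mul, el_conj Q₀ _ (quad_eA Q₀ _) (polar_ev_emb2 Q₀ (by decide) _), g1, g2]
      · show m.1 φ ⬝ᵥ HypWts.gram _ x' = φ ⬝ᵥ HypWts.gram _ x
        rw [dot_gram, dot_gram, ← hmx, qAut_polar]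
    have e : ρ g * (P * Pw x) = 0 := by
      rw [← mul_assoc, hP, rp0_comm Q₀ ρ ψ g0, mul_assoc, hmv, ← mul_assoc, ← hP, h, zero_mul]
    have e2 := congrArg (ρ g⁻¹ * ·) e
    simp only [← mul_assoc, inv_ρ, one_mul, mul_zero] at e2
    exact e2
  obtain ⟨u, hu⟩ : ∃ u, (P * Pw x') u ≠ 0 := by
    by_contra! h
    exact hx' (LinearMap.ext h)
  obtain ⟨v, hv⟩ : ∃ v, v = (P * Pw x') u := ⟨_, rfl⟩
  have hvP : rp Q₀ ρ ψ 0 v = v := by rw [hv, ← hP, ← Module.End.mul_apply, ← mul_assoc, hPP]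
  refine hu (hv ▸ hC0 v (zfix_of_rp0 Q₀ ρ ψ hvP fun p c hp => ?_) hvP)
  obtain ⟨y, hy⟩ : ∃ y : (Fin 1 ⊕ Fin 1) ⊕ J → F, y = Sum.elim (Sum.elim (fun _ => -c) 0) 0 := ⟨_, rfl⟩
  obtain ⟨⟨i, j⟩, hij⟩ := p
  simp only at hp
  have hiv : i.1 ≠ 0 := fun h => hp (Fin.ext h)
  have hij' : i.1 < j.1 := hij
  have hjlt := j.2
  have hi : i = 1 := Fin.ext (show i.1 = 1 by omega)
  have hj : j = 2 := Fin.ext (show j.1 = 2 by omega)
  subst hi hj
  rw [single_eq_wedge, ← el_eA_eA', el_swap Q₀ (quad_eA Q₀ _) (quad_eA Q₀ _) (polar_eA_eA Q₀ _ _), eA_smul,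
    el_smul_left Q₀ (quad_eA Q₀ _) (by rw [QuadraticMap.polar_neg_right, polar_eA_eA, neg_zero]),
    show c • -eA (ev 2 : Fin (0 + 1 + 2) → F) = (emb2 y : Vc F 0 J) by
      rw [hy, emb2, eA, ← neg_one_smul F, smul_smul, mk_smul]
      congr 1 <;> simp
      funext i; rfl]
  show tHom Q₀ ρ (Multiplicative.ofAdd y) v = v
  rw [hv, ← Module.End.mul_apply, ← mul_assoc, ← hPt, mul_assoc, hPw, apply_mul_av, dot_gram,
    show QuadraticMap.polar (qExt 1 Q₀) y x' = 0 by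
      rw [← polar_emb2, hy, emb2, emb2, polar_mk]
      simp [hb', show (fun _ => (0 : F)) = (0 : J → F) from rfl],
    AddChar.map_zero_eq_one, one_smul]

end RankThree

section RankFour

variable (Q₀ : QuadraticForm F (J → F)) (h0 : PolarNondeg Q₀)
variable {V : Type w} [AddCommGroup V] [Module ℂ V] [FiniteDimensional ℂ V]
variable (ρ : Representation ℂ (EG Q₀ 1) V) (ψ : AddChar F ℂ)

include h0 in
theorem false_rank_four [Nonempty J] (h2 : TwoLines Q₀) (haniso : ∀ w, Q₀ w = 0 → w = 0) (hρ : ρ ≠ 1) (hψ : ψ ≠ 1)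
    (hsmall : Small (V := V) (F := F) (J := J) (l := 1))
    (hC0 : ∀ v, ZFix Q₀ ρ v → rp Q₀ ρ ψ 0 v = v → v = 0) : False := by
  classical
  obtain ⟨hbig, hrk, -, -⟩ := small_data Q₀ ρ ψ h0 hψ hρ hsmall
  obtain ⟨P, hP⟩ : ∃ P, P = rp Q₀ ρ ψ 0 := ⟨_, rfl⟩
  have hPP : P * P = P := hP ▸ rp_idem Q₀ ρ ψ hψ 0
  have hcomm : ∀ ω, P * pr Q₀ ρ ψ ω = pr Q₀ ρ ψ ω * P := fun ω =>
    hP ▸ rp_pr_comm Q₀ ρ ψ (x := (0 : Md F 1 J)) (fun i => rfl) ω
  let U : Submodule ℂ V := LinearMap.range P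
  have hmemU : ∀ v : V, v ∈ U ↔ P v = v := fun v => ⟨by
    rintro ⟨x, rfl⟩; exact LinearMap.congr_fun hPP x, fun h => ⟨v, h⟩⟩
  have hmid : ∀ g : EG Q₀ 0, ρ (midE (l := 1) Q₀ g) * P = P * ρ (midE (l := 1) Q₀ g) := fun g =>
    hP ▸ rp0_comm Q₀ ρ ψ (ap_midE (l := 1) Q₀ g).1
  let σ : Representation ℂ (EG Q₀ 0) U :=
    { toFun := fun g => (ρ (midE (l := 1) Q₀ g)).restrict (fun v hv => by
        rw [hmemU] at hv ⊢
        rw [← Module.End.mul_apply, ← hmid, Module.End.mul_apply, hv])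
      map_one' := LinearMap.ext fun v => Subtype.ext (by
        show ρ (midE (l := 1) Q₀ 1) v.1 = v.1
        rw [map_one, map_one, Module.End.one_apply])
      map_mul' := fun g h => LinearMap.ext fun v => Subtype.ext (by
        show ρ (midE (l := 1) Q₀ (g * h)) v.1 = ρ (midE (l := 1) Q₀ g) (ρ (midE (l := 1) Q₀ h) v.1)
        rw [map_mul, map_mul, Module.End.mul_apply]) }
  have hout : ∀ v : U, ZFix Q₀ σ v → v = 0 := by
    intro v hv
    refine Subtype.ext (hC0 v.1 (zfix_of_rp0 Q₀ ρ ψ (hP ▸ (hmemU _).1 v.2) fun p c hp => ?_) (hP ▸ (hmemU _).1 v.2))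
    obtain ⟨⟨i, j⟩, hij⟩ := p
    simp only at hp
    obtain ⟨i', rfl⟩ := Fin.exists_succ_eq.2 hp
    obtain ⟨j', rfl⟩ := Fin.exists_succ_eq.2 (ne_of_gt (lt_of_le_of_lt (Fin.zero_le _) hij))
    have hij' : i' < j' := Fin.succ_lt_succ_iff.1 hij
    have h := congrArg Subtype.val (hv (Pi.single ⟨(i', j'), hij'⟩ c))
    change ρ (midE (l := 1) Q₀ (zE (l := 0) Q₀ (Multiplicative.ofAdd (Pi.single (⟨(i', j'), hij'⟩ : Pair (0 + 1 + 2)) c))))
      v.1 = v.1 at h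
    rw [single_eq_wedge, ← el_eA_eA'] at h
    have e : ∀ a : Fin (1 + 1 + 1) → F, (emb (mdA a) : Vc F 1 J) = eA (Fin.cons 0 a) := emb_mdA
    have hel : midE (l := 1) Q₀ (el (l := 0) Q₀ (eA (ev j')) (eA (c • ev i'))) =
        el Q₀ (emb (mdA (ev j'))) (emb (mdA (c • ev i'))) := by
      have hq : qExt (1 + 1 + 1) Q₀ (mdA (ev j')) = 0 := quad_mdA (l := 1) Q₀ _
      have hp : QuadraticMap.polar (qExt (1 + 1 + 1) Q₀) (mdA (ev j')) (mdA (c • ev i')) = 0 := by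
        rw [polar_mdA (l := 1)]
        exact dotProduct_zero _
      exact midE_el (l := 1) Q₀ hq hp
    have hc : ∀ k : Fin (1 + 1 + 1), (Fin.cons 0 (ev k) : Fin (1 + 1 + 2) → F) = ev k.succ := fun k => by
      funext r
      refine Fin.cases ?_ (fun r' => ?_) r
      · simp [ev, (Fin.succ_ne_zero k).symm]
      · simp [ev, Pi.single_apply, Fin.succ_inj]
    have hcs : (Fin.cons 0 (c • ev i') : Fin (1 + 1 + 2) → F) = c • ev i'.succ := by
      rw [← hc i']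
      funext r
      refine Fin.cases ?_ (fun r' => ?_) r <;> simp
    rw [hel, e, e, hc, hcs] at h
    rw [single_eq_wedge, ← el_eA_eA']
    exact h
  obtain ⟨c₀, hc₀⟩ : ∃ c, ψ c ≠ 1 := by
    by_contra! h
    exact hψ (DFunLike.ext _ _ fun x => (h x).trans (AddChar.one_apply x).symm)
  have hns : ∀ x : Md F 1 J, qExt (1 + 1 + 1) Q₀ x ≠ 0 → rp Q₀ ρ ψ x = 0 := fun x hx =>
    rp_nonsingular_of_two Q₀ h0 ρ ψ h2 hψ hρ hsmall hx
  obtain ⟨S, hS⟩ : ∃ S, S = (wedges (1 + 1 + 2) F).filter fun ω => PlusAlt.row ω = 0 := ⟨_, rfl⟩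
  have hzero : ∀ ω, ω ∉ S → P * pr Q₀ ρ ψ ω = 0 := by
    intro ω hω
    by_cases hω0 : ω = 0
    · subst hω0
      refine LinearMap.ext fun u => ?_
      rw [LinearMap.zero_apply]
      refine hC0 _ ((zfix_iff Q₀ ρ ψ hψ _).2 ?_) ?_
      · rw [← Module.End.mul_apply, ← mul_assoc, ← hcomm, mul_assoc, pr_idem Q₀ ρ ψ hψ]
      · rw [← hP, ← Module.End.mul_apply, ← mul_assoc, hPP]
    by_cases hm : ω ∈ wedges (1 + 1 + 2) F
    swap
    · rw [hbig ω hω0 hm, mul_zero]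
    have hr : PlusAlt.row ω ≠ 0 := fun h => hω (hS ▸ Finset.mem_filter.2 ⟨hm, h⟩)
    obtain ⟨j, hj⟩ := Function.ne_iff.1 hr
    obtain ⟨a, ha⟩ : ∃ a : Fin (1 + 1 + 1) → F, a = (-c₀ / PlusAlt.row ω j) • Pi.single j 1 := ⟨_, rfl⟩
    have h := congrArg (P * ·) (el_mdA_pr Q₀ ρ ψ a ω)
    simp only [← mul_assoc, hP, rp_mul_el, QuadraticMap.polar_zero_right, AddChar.map_zero_eq_one, one_smul,
      mul_smul_comm] at h
    rw [← hP, ha, smul_dotProduct, single_dotProduct, one_mul, smul_eq_mul, div_mul_cancel₀ _ hj, neg_neg] at h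
    by_contra hne
    exact hc₀ (smul_left_injective ℂ hne (h.symm.trans (one_smul ℂ _).symm))
  have hidem : ∀ ω, P * pr Q₀ ρ ψ ω * (P * pr Q₀ ρ ψ ω) = P * pr Q₀ ρ ψ ω := fun ω => by
    rw [mul_assoc, ← mul_assoc (pr Q₀ ρ ψ ω), ← hcomm, mul_assoc, pr_idem Q₀ ρ ψ hψ, ← mul_assoc, hPP]
  choose d hd using fun ω => exists_trace_nat (hidem ω)
  have hdim : Module.finrank ℂ U = ∑ ω ∈ S, d ω := by
    obtain ⟨e, he, her⟩ := exists_trace_nat hPP
    rw [show Module.finrank ℂ U = e from her]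
    refine Nat.cast_injective (R := ℂ) ?_
    rw [← he, Nat.cast_sum, ← Finset.sum_congr rfl fun ω _ => (hd ω).1, ← map_sum,
      Finset.sum_subset (Finset.subset_univ S) fun ω _ h => hzero ω h, ← Finset.mul_sum]
    exact congrArg _ ((mul_one P).symm.trans (congrArg (P * ·) (sum_av ψ (ρ.comp (zE Q₀)) hψ).symm))
  have hdle : ∀ ω ∈ S, d ω ≤ Fintype.card F ^ Fintype.card J := fun ω hω => by
    rw [hS, Finset.mem_filter] at hω
    rw [← (hd ω).2, ← hrk ω hω.1]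
    refine Submodule.finrank_mono ?_
    rintro _ ⟨v, rfl⟩
    exact ⟨P v, by rw [hcomm]; rfl⟩
  have hScard : S.card ≤ Fintype.card F ^ 3 - 1 := by
    let r : (Pair (1 + 1 + 2) → F) → (Pair (0 + 1 + 2) → F) := fun ω p =>
      ω ⟨(p.1.1.succ, p.1.2.succ), Fin.succ_lt_succ_iff.2 p.2⟩
    have hinj : ∀ ω ω' : Pair (1 + 1 + 2) → F, PlusAlt.row ω = 0 → PlusAlt.row ω' = 0 → r ω = r ω' → ω = ω' := by
      intro ω ω' hω hω' h
      funext p
      obtain ⟨⟨i, j⟩, hij⟩ := p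
      obtain ⟨j', rfl⟩ := Fin.exists_succ_eq.2 (ne_of_gt (lt_of_le_of_lt (Fin.zero_le i) hij))
      revert hij
      refine Fin.cases ?_ (fun i' => ?_) i <;> intro hij
      · exact (congrFun hω j').trans (congrFun hω' j').symm
      · exact congrFun h ⟨(i', j'), Fin.succ_lt_succ_iff.1 hij⟩
    refine le_trans (Finset.card_le_card_of_injOn r (t := Finset.univ.erase 0) (fun ω hω => ?_) ?_) ?_
    · rw [hS, Finset.mem_coe, Finset.mem_filter] at hω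
      exact Finset.mem_erase.2 ⟨fun h => (mem_wedges.1 hω.1).1 (hinj ω 0 hω.2 rfl h), Finset.mem_univ _⟩
    · intro ω hω ω' hω' h
      rw [hS, Finset.mem_coe, Finset.mem_filter] at hω hω'
      exact hinj ω ω' hω.2 hω'.2 h
    · rw [Finset.card_erase_of_mem (Finset.mem_univ _), Finset.card_univ, Fintype.card_fun,
        show Fintype.card (Pair (0 + 1 + 2)) = 3 by decide]
  have hUle : Module.finrank ℂ U ≤ Fintype.card F ^ Fintype.card J * (Fintype.card F ^ 3 - 1) := by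
    rw [hdim]
    exact le_trans (Finset.sum_le_card_nsmul S d _ hdle) (by rw [smul_eq_mul, mul_comm]; exact Nat.mul_le_mul_left _ hScard)
  have hsmall' : Small (V := U) (F := F) (J := J) (l := 0) := by
    have h : (Module.finrank ℂ U : ℤ) ≤
        ((Fintype.card F ^ Fintype.card J * (Fintype.card F ^ 3 - 1) : ℕ) : ℤ) := by exact_mod_cast hUle
    push_cast [Nat.one_le_pow _ _ (Fintype.card_pos (α := F))] at h
    obtain ⟨Q, hQ⟩ : ∃ Q : ℤ, Q = (Fintype.card F : ℤ) := ⟨_, rfl⟩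
    have hQ2 : 2 ≤ Q := by rw [hQ]; exact_mod_cast Fintype.one_lt_card
    rw [← hQ] at h
    show _ < _
    rw [← hQ, show Q ^ (0 + 1 + 2) = Q ^ 3 from rfl, show Q ^ (0 + 1 + 1) = Q ^ 2 from rfl]
    have h1 := mul_le_mul_of_nonneg_left h (show (0 : ℤ) ≤ Q ^ 2 - 1 by nlinarith)
    have h3 : (1 : ℤ) < Q ^ 3 := by nlinarith
    nlinarith [mul_pos (show (0 : ℤ) < Q + 1 by omega) (show (0 : ℤ) < Q ^ 3 - 1 by omega)]
  have hUne : ∃ v : U, v ≠ 0 := by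
    obtain ⟨ω, hω⟩ : ∃ ω, ω = upper (wedge (ev 1) (ev 2) : Matrix (Fin (1 + 1 + 2)) (Fin (1 + 1 + 2)) F) := ⟨_, rfl⟩
    have hωm : ω ∈ wedges (1 + 1 + 2) F := mem_wedges.2 ⟨fun h => by
      have := congrFun h ⟨((1 : Fin (1 + 1 + 2)), (2 : Fin (1 + 1 + 2))), by decide⟩
      simp [hω, upper, wedge_apply, ev] at this, _, _, hω.symm⟩
    have hrow : PlusAlt.row ω = 0 := funext fun j => by
      simp [hω, PlusAlt.row, upper, wedge_apply, ev]
    have h := rp_zero_pr Q₀ h0 ρ ψ hψ hρ hsmall hns haniso hωm hrow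
    have hrk' := hrk ω hωm
    obtain ⟨v, hv⟩ : ∃ v, pr Q₀ ρ ψ ω v ≠ 0 := by
      by_contra! hz
      rw [show pr Q₀ ρ ψ ω = 0 from LinearMap.ext hz, LinearMap.range_zero, finrank_bot] at hrk'
      exact pow_ne_zero _ Fintype.card_ne_zero hrk'.symm
    exact ⟨⟨pr Q₀ ρ ψ ω v, (hmemU _).2 (by rw [hP, ← Module.End.mul_apply, h])⟩,
      fun hz => hv (congrArg Subtype.val hz)⟩
  have hσ : σ ≠ 1 := fun h => by
    obtain ⟨v, hv⟩ := hUne
    exact hv (hout v fun φ => by rw [h]; rfl)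
  obtain ⟨v, hv0, hv⟩ := exists_zfix Q₀ h0 σ ψ hψ hσ hsmall'
    fun x hx => rp_nonsingular_of_two Q₀ h0 σ ψ h2 hψ hσ hsmall' hx
  exact hv0 (hout v hv)

end RankFour

/-- The bound over an anisotropic plane. -/
theorem minus_bound {l : ℕ} (Q₀ : QuadraticForm F (J → F)) (h0 : PolarNondeg Q₀) (hJ : Fintype.card J = 2)
    (h2 : TwoLines Q₀) (haniso : ∀ w, Q₀ w = 0 → w = 0)
    {V : Type w} [AddCommGroup V] [Module ℂ V] [FiniteDimensional ℂ V]
    (ρ : Representation ℂ (EG Q₀ l) V) [ρ.IsIrreducible] (hρ : ρ ≠ 1) :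
    (Fintype.card F : ℤ) ^ 2 * ((Fintype.card F : ℤ) ^ (l + 1 + 2) - 1) *
        ((Fintype.card F : ℤ) ^ (l + 1 + 1) - 1) +
      ((Fintype.card F : ℤ) + 1) * ((Fintype.card F : ℤ) ^ (l + 1 + 2) - Fintype.card F) ≤
      ((Fintype.card F : ℤ) ^ 2 - 1) * Module.finrank ℂ V := by
  classical
  haveI : Nonempty J := Fintype.card_pos_iff.1 (by omega)
  rcases Nat.lt_or_ge l 2 with hl | hl
  swap
  · have h := bound_of_hex Q₀ h0 ρ hρ (by omega) fun hs ψ hψ x hx =>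
      rp_nonsingular_of_two Q₀ h0 ρ ψ h2 hψ hρ hs hx
    rwa [hJ] at h
  by_contra hlt
  push Not at hlt
  conv_rhs at hlt => arg 1; arg 1; arg 1; rw [← hJ]
  have hQ : (2 : ℤ) ≤ Fintype.card F := by exact_mod_cast Fintype.one_lt_card
  have hsmall : Small (V := V) (F := F) (J := J) (l := l) := by
    refine lt_of_lt_of_le hlt (add_le_add le_rfl (mul_le_mul_of_nonneg_left ?_ (by omega)))
    linarith
  obtain ⟨ψ, hψ⟩ := CfsgLib.MinDegree.exists_nontrivial_addChar (F := F) (K := ℂ)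
    (Nat.cast_ne_zero.2 Fintype.card_ne_zero)
  have hC0 := fun v (hv : ZFix Q₀ ρ v) (hvR : rp Q₀ ρ ψ 0 v = v) =>
    rp0_zfix_eq_zero Q₀ h0 ρ ψ hρ hψ hsmall hlt hv hvR
  obtain rfl | rfl : l = 0 ∨ l = 1 := by omega
  · exact false_rank_three Q₀ h0 ρ ψ (by omega) h2 haniso hρ hψ hsmall hC0
  · exact false_rank_four Q₀ h0 ρ ψ h2 haniso hρ hψ hsmall hC0

end

end CfsgLib.MinDegree.HypSmall
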