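import Mathlib
import Cfsg.Agent.Lib.MinDegree.PlusAlt
import Cfsg.Agent.Lib.MinDegree.SLExact

/-!
An irreducible representation of the special linear group with a vector fixed by the stabiliser of a row.
-/

namespace CfsgLib.MinDegree.PlusPoint

open Matrix SLTv SLOps SLWts SLExact

universe u w

variable {F : Type u} [Field F] [Fintype F] [DecidableEq F] {k : ℕ}

/-- The elements whose first row is the first unit row, up to a scalar. -/
def Row0 (k : ℕ) (F : Type u) [Field F] [Fintype F] [DecidableEq F] :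
    Subgroup (SpecialLinearGroup (Fin (k + 1 + 1 + 2)) F) where
  carrier := {g | ∃ a : F, (ev 0 : Fin (k + 1 + 1 + 2) → F) ᵥ* g.1 = a • ev 0}
  mul_mem' := by
    rintro g h ⟨a, ha⟩ ⟨b, hb⟩
    refine ⟨a * b, ?_⟩
    show _ ᵥ* (g.1 * h.1) = _
    rw [← vecMul_vecMul, ha, smul_vecMul, hb, smul_smul]
  one_mem' := ⟨1, by rw [one_smul]; exact vecMul_one _⟩
  inv_mem' := by
    rintro g ⟨a, ha⟩
    have h := congrArg (· ᵥ* ((g⁻¹ : SpecialLinearGroup (Fin (k + 1 + 1 + 2)) F)).1) ha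
    simp only [vecMul_vecMul, smul_vecMul] at h
    rw [show g.1 * ((g⁻¹ : SpecialLinearGroup (Fin (k + 1 + 1 + 2)) F)).1 = 1 from
      congrArg Subtype.val (mul_inv_cancel g), vecMul_one] at h
    refine ⟨a⁻¹, ?_⟩
    have ha0 : a ≠ 0 := fun h0 => by
      rw [h0, zero_smul] at h
      simpa [ev] using congrFun h 0
    show _ ᵥ* ((g⁻¹ : SpecialLinearGroup (Fin (k + 1 + 1 + 2)) F)).1 = _
    conv_rhs => rw [h]
    rw [smul_smul, inv_mul_cancel₀ ha0, one_smul]

/-- The elements fixing the first row. -/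
def Row0F (k : ℕ) (F : Type u) [Field F] [Fintype F] [DecidableEq F] :
    Subgroup (SpecialLinearGroup (Fin (k + 1 + 1 + 2)) F) where
  carrier := {g | (ev 0 : Fin (k + 1 + 1 + 2) → F) ᵥ* g.1 = ev 0}
  mul_mem' := by
    intro g h hg hh
    show _ ᵥ* (g.1 * h.1) = _
    rw [← vecMul_vecMul, hg, hh]
  one_mem' := vecMul_one _
  inv_mem' := by
    intro g hg
    show _ ᵥ* ((g⁻¹ : SpecialLinearGroup (Fin (k + 1 + 1 + 2)) F)).1 = _
    conv_lhs => rw [← show _ ᵥ* g.1 = ev 0 from hg]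
    rw [vecMul_vecMul, show g.1 * ((g⁻¹ : SpecialLinearGroup (Fin (k + 1 + 1 + 2)) F)).1 = 1 from
      congrArg Subtype.val (mul_inv_cancel g), vecMul_one]

/-- The elements fixing the first two rows. -/
def Row01 (k : ℕ) (F : Type u) [Field F] [Fintype F] [DecidableEq F] :
    Subgroup (SpecialLinearGroup (Fin (k + 1 + 1 + 2)) F) where
  carrier := {g | (ev 0 : Fin (k + 1 + 1 + 2) → F) ᵥ* g.1 = ev 0 ∧ (ev 1 : Fin (k + 1 + 1 + 2) → F) ᵥ* g.1 = ev 1}
  mul_mem' := by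
    rintro g h ⟨hg, hg'⟩ ⟨hh, hh'⟩
    show _ ᵥ* (g.1 * h.1) = _ ∧ _ ᵥ* (g.1 * h.1) = _
    rw [← vecMul_vecMul, ← vecMul_vecMul, hg, hg', hh, hh']
    exact ⟨rfl, rfl⟩
  one_mem' := ⟨vecMul_one _, vecMul_one _⟩
  inv_mem' := by
    rintro g ⟨hg, hg'⟩
    show _ ᵥ* ((g⁻¹ : SpecialLinearGroup (Fin (k + 1 + 1 + 2)) F)).1 = _ ∧
      _ ᵥ* ((g⁻¹ : SpecialLinearGroup (Fin (k + 1 + 1 + 2)) F)).1 = _
    constructor
    · conv_lhs => rw [← hg]
      rw [vecMul_vecMul, show g.1 * ((g⁻¹ : SpecialLinearGroup (Fin (k + 1 + 1 + 2)) F)).1 = 1 from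
        congrArg Subtype.val (mul_inv_cancel g), vecMul_one]
    · conv_lhs => rw [← hg']
      rw [vecMul_vecMul, show g.1 * ((g⁻¹ : SpecialLinearGroup (Fin (k + 1 + 1 + 2)) F)).1 = 1 from
        congrArg Subtype.val (mul_inv_cancel g), vecMul_one]

theorem row01_le : Row01 k F ≤ Row0F k F := fun _ h => h.1

theorem row0F_le : Row0F k F ≤ Row0 k F := fun _ h => ⟨1, h.trans (one_smul F _).symm⟩

theorem det_ne (g : SpecialLinearGroup (Fin (k + 1 + 1 + 2)) F) : IsUnit g.1 := by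
  rw [isUnit_iff_isUnit_det, g.2]; exact isUnit_one

/-- The block on the first two coordinates. -/
def Xa (k : ℕ) (F : Type u) [Field F] [Fintype F] [DecidableEq F] :
    Subgroup (SpecialLinearGroup (Fin (k + 1 + 1 + 2)) F) :=
  Subgroup.closure (Set.range (fun c : F => tv (ev 0) (c • ev 1)) ∪ Set.range fun c : F => tv (ev 1) (c • ev 0))

theorem ev_dot_ne {i j : Fin (k + 1 + 1 + 2)} (h : i ≠ j) (c : F) :
    (c • ev i : Fin (k + 1 + 1 + 2) → F) ⬝ᵥ ev j = 0 := by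
  rw [dot_ev]; simp [ev, Ne.symm h]

theorem vecMul_tv {v φ : Fin (k + 1 + 1 + 2) → F} (h : φ ⬝ᵥ v = 0) (x : Fin (k + 1 + 1 + 2) → F) :
    x ᵥ* (tv v φ).1 = x + (x ⬝ᵥ v) • φ := by
  rw [tv_val h, vecMul_add, vecMul_one, vecMul_vecMulVec]

theorem tv0_mem (c : F) : tv (ev 0) (c • ev 1) ∈ Xa k F :=
  Subgroup.subset_closure (Or.inl ⟨c, rfl⟩)

theorem tv1_mem (c : F) : tv (ev 1) (c • ev 0) ∈ Xa k F :=
  Subgroup.subset_closure (Or.inr ⟨c, rfl⟩)

theorem row_tv0 (c α β : F) :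
    (α • ev 0 + β • ev 1 : Fin (k + 1 + 1 + 2) → F) ᵥ* (tv (ev 0) (c • ev 1)).1 = α • ev 0 + (β + α * c) • ev 1 := by
  rw [vecMul_tv (ev_dot_ne (by simp) c), dot_ev]
  simp [ev, add_smul, smul_smul, add_assoc]

theorem row_tv1 (c α β : F) :
    (α • ev 0 + β • ev 1 : Fin (k + 1 + 1 + 2) → F) ᵥ* (tv (ev 1) (c • ev 0)).1 = (α + β * c) • ev 0 + β • ev 1 := by
  rw [vecMul_tv (ev_dot_ne (by simp) c), dot_ev]
  simp [ev, add_smul, smul_smul]
  abel

theorem xa_normalise {x : SpecialLinearGroup (Fin (k + 1 + 1 + 2)) F} (hx : x ∈ Xa k F) :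
    ∀ g ∈ Row01 k F, x⁻¹ * g * x ∈ Row01 k F := by
  induction hx using Subgroup.closure_induction with
  | mem x hx =>
    intro g hg
    have hpres : ∀ α β : F, ∃ α' β' : F,
        (α • ev 0 + β • ev 1 : Fin (k + 1 + 1 + 2) → F) ᵥ* (x⁻¹).1 = α' • ev 0 + β' • ev 1 := by
      rcases hx with ⟨c, rfl⟩ | ⟨c, rfl⟩
      · intro α β
        refine ⟨α, β + α * -c, ?_⟩
        rw [show (tv (ev 0) (c • ev 1) : SpecialLinearGroup (Fin (k + 1 + 1 + 2)) F)⁻¹ = tv (ev 0) ((-c) • ev 1) from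
          inv_eq_of_mul_eq_one_right (by rw [tv_mul (ev_dot_ne (by simp) _) (ev_dot_ne (by simp) _), ← add_smul,
            add_neg_cancel, zero_smul, tv_zero]), row_tv0]
      · intro α β
        refine ⟨α + β * -c, β, ?_⟩
        rw [show (tv (ev 1) (c • ev 0) : SpecialLinearGroup (Fin (k + 1 + 1 + 2)) F)⁻¹ = tv (ev 1) ((-c) • ev 0) from
          inv_eq_of_mul_eq_one_right (by rw [tv_mul (ev_dot_ne (by simp) _) (ev_dot_ne (by simp) _), ← add_smul,
            add_neg_cancel, zero_smul, tv_zero]), row_tv1]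
    have hfix : ∀ v : Fin (k + 1 + 1 + 2) → F, (∃ α β : F, v = α • ev 0 + β • ev 1) → v ᵥ* g.1 = v := by
      rintro v ⟨α, β, rfl⟩
      rw [add_vecMul, smul_vecMul, smul_vecMul, hg.1, hg.2]
    have hkey : ∀ α β : F, (α • ev 0 + β • ev 1 : Fin (k + 1 + 1 + 2) → F) ᵥ* (x⁻¹ * g * x).1 = α • ev 0 + β • ev 1 := by
      intro α β
      obtain ⟨α', β', h⟩ := hpres α β
      show _ ᵥ* ((x⁻¹).1 * g.1 * x.1) = _
      rw [← vecMul_vecMul, ← vecMul_vecMul, h, hfix _ ⟨α', β', rfl⟩, ← h, vecMul_vecMul,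
        show (x⁻¹).1 * x.1 = 1 from congrArg Subtype.val (inv_mul_cancel x), vecMul_one]
    exact ⟨by simpa using hkey 1 0, by simpa using hkey 0 1⟩
  | one => intro g hg; simpa using hg
  | mul x y _ _ hx hy =>
    intro g hg
    have := hy _ (hx g hg)
    simpa [mul_assoc] using this
  | inv x _ hx =>
    intro g hg
    let c : SpecialLinearGroup (Fin (k + 1 + 1 + 2)) F → SpecialLinearGroup (Fin (k + 1 + 1 + 2)) F := fun a => x⁻¹ * a * x
    have hc : Function.Injective c := fun a b e => mul_left_cancel (mul_right_cancel e)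
    have hmaps : Set.MapsTo c (Row01 k F : Set _) (Row01 k F : Set _) := fun a ha => hx a ha
    obtain ⟨a, ha, hag⟩ := ((Set.toFinite _).injOn_iff_bijOn_of_mapsTo hmaps).1 hc.injOn |>.surjOn hg
    rw [← hag]
    simpa [c, mul_assoc] using ha

/-- The outside class: elements whose first row lies in the orbit of the second unit row. -/
theorem exists_outside {φ : Fin (k + 1 + 1 + 2) → F} (hφ : LinearIndependent F ![(ev 0 : Fin (k + 1 + 1 + 2) → F), φ]) :
    ∃ g ∈ Row0F k F, (ev 1 : Fin (k + 1 + 1 + 2) → F) ᵥ* g.1 = φ := by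
  have h1 : LinearIndependent F ![(ev 0 : Fin (k + 1 + 1 + 2) → F), ev 1] := by
    rw [LinearIndependent.pair_iff]
    intro s t h
    have ha := congrFun h 0
    have hb := congrFun h 1
    simp [ev, Pi.single_apply] at ha hb
    exact ⟨ha, hb⟩
  obtain ⟨g, hg0, hg1⟩ := exists_sl_pair (by simp) h1 hφ
  refine ⟨⟨g.1ᵀ, by rw [det_transpose]; exact g.2⟩, ?_, ?_⟩
  · show _ ᵥ* g.1ᵀ = _
    rw [vecMul_transpose, hg0]
  · show _ ᵥ* g.1ᵀ = _
    rw [vecMul_transpose, hg1]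

theorem exists_outside01 {φ : Fin (k + 1 + 1 + 2) → F}
    (hφ : ∀ α β : F, φ ≠ α • ev 0 + β • ev 1) :
    ∃ g ∈ Row01 k F, ∃ s : F, s ≠ 0 ∧ (ev (0 : Fin (k + 1 + 1)).succ.succ : Fin (k + 1 + 1 + 2) → F) ᵥ* g.1 = s • φ := by
  have h1 : LinearIndependent F ![(ev 0 : Fin (k + 1 + 1 + 2) → F), ev 1, ev (0 : Fin (k + 1 + 1)).succ.succ] := by
    rw [Fintype.linearIndependent_iff]
    intro g hg
    simp only [Fin.sum_univ_three, Matrix.cons_val_zero, Matrix.cons_val_one, Matrix.cons_val_two, Matrix.tail_cons,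
      Matrix.head_cons] at hg
    have h21 : (0 : Fin (k + 1 + 1)).succ.succ ≠ (1 : Fin (k + 1 + 1 + 2)) := fun h => by
      rw [← Fin.succ_zero_eq_one, Fin.succ_inj] at h; exact Fin.succ_ne_zero _ h
    have h20 : (0 : Fin (k + 1 + 1)).succ.succ ≠ (0 : Fin (k + 1 + 1 + 2)) := Fin.succ_ne_zero _
    generalize (0 : Fin (k + 1 + 1)).succ.succ = t at hg h21 h20
    have ha := congrFun hg 0
    have hb := congrFun hg 1
    have hc := congrFun hg t
    simp [ev, h21, h21.symm, h20, h20.symm] at ha hb hc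
    intro i
    fin_cases i <;> assumption
  have h2 : LinearIndependent F ![(ev 0 : Fin (k + 1 + 1 + 2) → F), ev 1, φ] := by
    rw [Fintype.linearIndependent_iff]
    intro g hg
    simp only [Fin.sum_univ_three, Matrix.cons_val_zero, Matrix.cons_val_one, Matrix.cons_val_two, Matrix.tail_cons,
      Matrix.head_cons] at hg
    have h3 : g 2 = 0 := by
      by_contra h
      refine hφ (-(g 2)⁻¹ * g 0) (-(g 2)⁻¹ * g 1) ?_
      have h' : g 2 • φ = -(g 0 • ev 0 + g 1 • ev 1) := eq_neg_of_add_eq_zero_right hg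
      rw [← inv_smul_smul₀ h φ, h', smul_neg, smul_add, smul_smul, smul_smul, neg_mul, neg_mul, neg_smul, neg_smul,
        neg_add]
    have ha := congrFun hg 0
    have hb := congrFun hg 1
    simp [h3, ev, Pi.single_apply] at ha hb
    intro i
    fin_cases i <;> assumption
  obtain ⟨g, s, hs, hg2, hg⟩ := exists_sl_map h1 h2 (2 : Fin 3)
  refine ⟨⟨g.1ᵀ, by rw [det_transpose]; exact g.2⟩, ⟨?_, ?_⟩, s, hs, ?_⟩
  · show _ ᵥ* g.1ᵀ = _
    rw [vecMul_transpose]
    exact hg 0 (by decide)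
  · show _ ᵥ* g.1ᵀ = _
    rw [vecMul_transpose]
    exact hg 1 (by decide)
  · show _ ᵥ* g.1ᵀ = _
    rw [vecMul_transpose]
    exact hg2

section Rep

variable {V : Type w} [AddCommGroup V] [Module ℂ V] [FiniteDimensional ℂ V]
variable (τ : Representation ℂ (SpecialLinearGroup (Fin (k + 1 + 1 + 2)) F) V)

/-- The sum over a subgroup. -/
noncomputable def sumK (K : Subgroup (SpecialLinearGroup (Fin (k + 1 + 1 + 2)) F)) : Module.End ℂ V :=
  letI := Fintype.ofFinite K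
  ∑ g : K, τ g.1

theorem sumK_apply_mem (K : Subgroup (SpecialLinearGroup (Fin (k + 1 + 1 + 2)) F)) {h : _} (hh : h ∈ K) (v : V) :
    sumK τ K (τ h v) = sumK τ K v ∧ τ h (sumK τ K v) = sumK τ K v := by
  letI := Fintype.ofFinite K
  constructor
  · simp only [sumK, LinearMap.sum_apply]
    refine Fintype.sum_equiv (Equiv.mulRight ⟨h, hh⟩) _ _ fun g => ?_
    rw [← Module.End.mul_apply, ← map_mul]; rfl
  · simp only [sumK, LinearMap.sum_apply, map_sum]
    refine Fintype.sum_equiv (Equiv.mulLeft ⟨h, hh⟩) _ _ fun g => ?_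
    rw [← Module.End.mul_apply, ← map_mul]; rfl

theorem sumK_fixed (K : Subgroup (SpecialLinearGroup (Fin (k + 1 + 1 + 2)) F)) {v : V} (hv : ∀ g ∈ K, τ g v = v) :
    sumK τ K v = (Nat.card K : ℂ) • v := by
  letI := Fintype.ofFinite K
  simp only [sumK, LinearMap.sum_apply]
  rw [Finset.sum_congr rfl (fun g _ => hv g.1 g.2), Finset.sum_const, Finset.card_univ, Nat.card_eq_fintype_card,
    Nat.cast_smul_eq_nsmul]

variable [τ.IsIrreducible]

theorem sum_all_eq_zero (hτ : τ ≠ 1) (y : V) : ∑ g : SpecialLinearGroup (Fin (k + 1 + 1 + 2)) F, τ g y = 0 := by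
  obtain ⟨z, hz⟩ : ∃ z, z = ∑ g : SpecialLinearGroup (Fin (k + 1 + 1 + 2)) F, τ g y := ⟨_, rfl⟩
  have hfix : ∀ h, τ h z = z := fun h => by
    rw [hz, map_sum]
    exact Fintype.sum_equiv (Equiv.mulLeft h) _ _ fun g => by rw [← Module.End.mul_apply, ← map_mul]; rfl
  rw [← hz]
  by_contra hz0
  let S : Subrepresentation τ :=
    { toSubmodule :=
        { carrier := {v | ∀ h, τ h v = v}
          zero_mem' := fun h => map_zero _
          add_mem' := fun {a b} ha hb h => by rw [map_add, ha h, hb h]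
          smul_mem' := fun c {a} ha h => by rw [map_smul, ha h] }
      apply_mem_toSubmodule := fun g v hv h => by rw [hv g, hv h] }
  rcases IsSimpleOrder.eq_bot_or_eq_top S with h | h
  · have : z ∈ S.toSubmodule := hfix
    rw [h] at this
    exact hz0 this
  · refine hτ (MonoidHom.ext fun g => LinearMap.ext fun v => ?_)
    have : v ∈ S.toSubmodule := by rw [h]; trivial
    exact this g

theorem span_eq_top {y : V} (hy : y ≠ 0) :
    Submodule.span ℂ (Set.range fun g : SpecialLinearGroup (Fin (k + 1 + 1 + 2)) F => τ g y) = ⊤ := by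
  let S : Subrepresentation τ :=
    { toSubmodule := Submodule.span ℂ (Set.range fun g : SpecialLinearGroup (Fin (k + 1 + 1 + 2)) F => τ g y)
      apply_mem_toSubmodule := fun g v hv => by
        induction hv using Submodule.span_induction with
        | mem x hx =>
          obtain ⟨a, rfl⟩ := hx
          exact Submodule.subset_span ⟨g * a, by simp⟩
        | zero => rw [map_zero]; exact Submodule.zero_mem _
        | add a b _ _ ha hb => rw [map_add]; exact Submodule.add_mem _ ha hb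
        | smul c a _ ha => rw [map_smul]; exact Submodule.smul_mem _ c ha }
  rcases IsSimpleOrder.eq_bot_or_eq_top S with h | h
  · have : y ∈ S.toSubmodule := Submodule.subset_span ⟨1, by simp⟩
    rw [h] at this
    exact absurd this hy
  · exact congrArg Subrepresentation.toSubmodule h

/-- Two classes of translates: sums over a subgroup are multiples of one value. -/
theorem two_class (hτ : τ ≠ 1) {y : V} (hy : y ≠ 0) (K : Subgroup (SpecialLinearGroup (Fin (k + 1 + 1 + 2)) F))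
    (S : Finset (SpecialLinearGroup (Fin (k + 1 + 1 + 2)) F)) (hS : S ≠ Finset.univ) (hS1 : 1 ∈ S) (b : V)
    (hin : ∀ g ∈ S, sumK τ K (τ g y) = sumK τ K y) (hout : ∀ g ∉ S, sumK τ K (τ g y) = b) :
    b = (-((S.card : ℂ) / ((Finset.univ \ S).card : ℂ))) • sumK τ K y ∧
      ∀ v, ∃ c : ℂ, sumK τ K v = c • sumK τ K y := by
  classical
  have hN : ((Finset.univ \ S).card : ℂ) ≠ 0 := by
    rw [Nat.cast_ne_zero, Finset.card_ne_zero, Finset.sdiff_nonempty]
    exact fun h => hS (Finset.univ_subset_iff.1 h)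
  have h0 := congrArg (sumK τ K) (sum_all_eq_zero τ hτ y)
  rw [map_sum, map_zero, ← Finset.sum_sdiff (Finset.subset_univ S),
    Finset.sum_congr rfl (fun g hg => hout g (Finset.mem_sdiff.1 hg).2), Finset.sum_congr rfl hin, Finset.sum_const,
    Finset.sum_const, ← Nat.cast_smul_eq_nsmul ℂ, ← Nat.cast_smul_eq_nsmul ℂ] at h0
  have hb : b = (-((S.card : ℂ) / ((Finset.univ \ S).card : ℂ))) • sumK τ K y := by
    rw [neg_smul, ← inv_smul_smul₀ hN b, eq_neg_of_add_eq_zero_left h0, smul_neg, smul_smul, div_eq_inv_mul]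
  refine ⟨hb, fun v => ?_⟩
  have hv : v ∈ Submodule.span ℂ (Set.range fun g : SpecialLinearGroup (Fin (k + 1 + 1 + 2)) F => τ g y) := by
    rw [span_eq_top τ hy]; trivial
  induction hv using Submodule.span_induction with
  | mem x hx =>
    obtain ⟨g, rfl⟩ := hx
    by_cases hg : g ∈ S
    · exact ⟨1, by rw [hin g hg, one_smul]⟩
    · exact ⟨_, by rw [hout g hg]; exact hb⟩
  | zero => exact ⟨0, by rw [map_zero, zero_smul]⟩
  | add a b _ _ ha hb =>
    obtain ⟨c, hc⟩ := ha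
    obtain ⟨d, hd⟩ := hb
    exact ⟨c + d, by rw [map_add, hc, hd, add_smul]⟩
  | smul e a _ ha =>
    obtain ⟨c, hc⟩ := ha
    exact ⟨e * c, by rw [map_smul, hc, smul_smul]⟩

variable (hτ : τ ≠ 1) {y : V} (hy : y ≠ 0) (hfix : ∀ g ∈ Row0 k F, τ g y = y)

include hfix in
omit [τ.IsIrreducible] in
theorem translate_eq {g g' : SpecialLinearGroup (Fin (k + 1 + 1 + 2)) F} {a : F}
    (h : (ev 0 : Fin (k + 1 + 1 + 2) → F) ᵥ* (g⁻¹).1 = a • ((ev 0 : Fin (k + 1 + 1 + 2) → F) ᵥ* (g'⁻¹).1)) :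
    τ g y = τ g' y := by
  have hm : g⁻¹ * g' ∈ Row0 k F := by
    refine ⟨a, ?_⟩
    show _ ᵥ* ((g⁻¹).1 * g'.1) = _
    rw [← vecMul_vecMul, h, smul_vecMul, vecMul_vecMul,
      show (g'⁻¹).1 * g'.1 = 1 from congrArg Subtype.val (inv_mul_cancel g'), vecMul_one]
  conv_lhs => rw [← hfix _ hm]
  rw [← Module.End.mul_apply, ← map_mul, mul_inv_cancel_left]

/-- The counts inside and outside the stabiliser. -/
noncomputable def inS (k : ℕ) (F : Type u) [Field F] [Fintype F] [DecidableEq F] :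
    Finset (SpecialLinearGroup (Fin (k + 1 + 1 + 2)) F) :=
  haveI := Classical.decPred (· ∈ Row0 k F)
  Finset.univ.filter (· ∈ Row0 k F)

theorem tv0_not_row0 : tv (ev 0) ((1 : F) • ev 1) ∉ Row0 k F := by
  rintro ⟨a, ha⟩
  have h := row_tv0 (k := k) (1 : F) 1 0
  simp only [one_smul, zero_smul, add_zero, zero_add, one_mul] at h ha
  rw [h] at ha
  simpa [ev] using congrFun ha 1

include hτ hy hfix in
/-- The vectors fixed by the first row stabiliser, and the sums of translates over it. -/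
theorem row0F_data :
    (∀ g ∈ inS k F, sumK τ (Row0F k F) (τ g y) = (Nat.card (Row0F k F) : ℂ) • y) ∧
    (∀ g ∉ inS k F, sumK τ (Row0F k F) (τ g y) =
      (-(((inS k F).card : ℂ) / ((Finset.univ \ inS k F).card : ℂ))) • ((Nat.card (Row0F k F) : ℂ) • y)) ∧
    ∀ v, (∀ g ∈ Row0F k F, τ g v = v) → ∃ c : ℂ, v = c • y := by
  classical
  have hy0 : sumK τ (Row0F k F) y = (Nat.card (Row0F k F) : ℂ) • y :=
    sumK_fixed τ _ fun g hg => hfix g (row0F_le hg)
  have hin : ∀ g ∈ inS k F, sumK τ (Row0F k F) (τ g y) = sumK τ (Row0F k F) y := fun g hg => by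
    rw [hfix g (Finset.mem_filter.1 hg).2]
  obtain ⟨g₀, hg₀⟩ : ∃ g₀ : SpecialLinearGroup (Fin (k + 1 + 1 + 2)) F, g₀ = (tv (ev 0) ((1 : F) • ev 1))⁻¹ := ⟨_, rfl⟩
  have hS : inS k F ≠ Finset.univ := fun h => tv0_not_row0 (k := k) (F := F) (by
    have := h ▸ Finset.mem_univ (tv (ev 0) ((1 : F) • ev 1) : SpecialLinearGroup (Fin (k + 1 + 1 + 2)) F)
    exact (Finset.mem_filter.1 this).2)
  obtain ⟨g₁, hg₁⟩ : ∃ g₁ : SpecialLinearGroup (Fin (k + 1 + 1 + 2)) F,
      (ev 0 : Fin (k + 1 + 1 + 2) → F) ᵥ* (g₁⁻¹).1 = ev 1 := by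
    have h1 : LinearIndependent F ![(ev 0 : Fin (k + 1 + 1 + 2) → F), ev 1] := by
      rw [LinearIndependent.pair_iff]
      intro s t h
      have ha := congrFun h 0
      have hb := congrFun h 1
      simp [ev, Pi.single_apply] at ha hb
      exact ⟨ha, hb⟩
    obtain ⟨g, hg, -⟩ := exists_sl_pair (by simp) h1 (LinearIndependent.pair_symm_iff.1 h1)
    obtain ⟨g', hg'⟩ : ∃ g' : SpecialLinearGroup (Fin (k + 1 + 1 + 2)) F, g'.1 = g.1ᵀ :=
      ⟨⟨g.1ᵀ, by rw [det_transpose]; exact g.2⟩, rfl⟩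
    refine ⟨g'⁻¹, ?_⟩
    rw [inv_inv, hg']
    rw [vecMul_transpose, hg]
  have hout : ∀ g ∉ inS k F, sumK τ (Row0F k F) (τ g y) = sumK τ (Row0F k F) (τ g₁ y) := by
    intro g hg
    obtain ⟨φ, hφ⟩ : ∃ φ, φ = (ev 0 : Fin (k + 1 + 1 + 2) → F) ᵥ* (g⁻¹).1 := ⟨_, rfl⟩
    have hli : LinearIndependent F ![(ev 0 : Fin (k + 1 + 1 + 2) → F), φ] := by
      refine (LinearIndependent.pair_iff' (ev_ne_zero (F := F) 0)).2 fun a ha => hg ?_
      refine Finset.mem_filter.2 ⟨Finset.mem_univ _, ?_⟩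
      rw [← inv_inv g]
      exact (Row0 k F).inv_mem ⟨a, hφ.symm.trans ha.symm⟩
    obtain ⟨h, hh, hh1⟩ := exists_outside hli
    have he : τ (h * g) y = τ g₁ y := by
      refine translate_eq τ hfix (a := 1) ?_
      rw [one_smul, hg₁, _root_.mul_inv_rev]
      show _ ᵥ* ((g⁻¹).1 * (h⁻¹).1) = _
      rw [← vecMul_vecMul, ← hφ, ← hh1, vecMul_vecMul,
        show h.1 * (h⁻¹).1 = 1 from congrArg Subtype.val (mul_inv_cancel h), vecMul_one]
    rw [← he, map_mul, Module.End.mul_apply, (sumK_apply_mem τ _ hh _).1]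
  obtain ⟨hb, hall⟩ := two_class τ hτ hy (Row0F k F) (inS k F) hS
    (Finset.mem_filter.2 ⟨Finset.mem_univ _, (Row0 k F).one_mem⟩) _ hin hout
  refine ⟨fun g hg => (hin g hg).trans hy0, fun g hg => ?_, fun v hv => ?_⟩
  · rw [hout g hg, hb, hy0]
  · obtain ⟨c, hc⟩ := hall v
    rw [sumK_fixed τ _ hv, hy0, smul_smul] at hc
    refine ⟨(Nat.card (Row0F k F) : ℂ)⁻¹ * (c * (Nat.card (Row0F k F) : ℂ)), ?_⟩
    rw [mul_smul, ← hc, smul_smul, inv_mul_cancel₀ (Nat.cast_ne_zero.2 Nat.card_pos.ne'), one_smul]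

include hτ hy hfix in
/-- Vectors fixed by the stabiliser of the line of the first two rows. -/
theorem line_fixed {p : V} (hp : p = sumK τ (Xa k F) y) {v : V} (hpR : ∀ g ∈ Row01 k F, τ g p = p)
    (hvR : ∀ g ∈ Row01 k F, τ g v = v) (hvX : ∀ g ∈ Xa k F, τ g v = v) : ∃ c : ℂ, v = c • p := by
  classical
  have hpX : ∀ g ∈ Xa k F, τ g p = p := fun g hg => by rw [hp, (sumK_apply_mem τ _ hg y).2]
  let K : Subgroup (SpecialLinearGroup (Fin (k + 1 + 1 + 2)) F) :=
    { carrier := {g | τ g p = p ∧ τ g v = v}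
      mul_mem' := fun {a b} ha hb => by
        show τ (a * b) p = p ∧ τ (a * b) v = v
        rw [map_mul, Module.End.mul_apply, Module.End.mul_apply, hb.1, hb.2]
        exact ha
      one_mem' := by simp
      inv_mem' := fun {a} ha => by
        show τ a⁻¹ p = p ∧ τ a⁻¹ v = v
        constructor
        · conv_lhs => rw [← ha.1]
          rw [← Module.End.mul_apply, ← map_mul, inv_mul_cancel, map_one, Module.End.one_apply]
        · conv_lhs => rw [← ha.2]
          rw [← Module.End.mul_apply, ← map_mul, inv_mul_cancel, map_one, Module.End.one_apply] }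
  have hXK : Xa k F ≤ K := fun g hg => ⟨hpX g hg, hvX g hg⟩
  have hRK : Row01 k F ≤ K := fun g hg => ⟨hpR g hg, hvR g hg⟩
  let In : SpecialLinearGroup (Fin (k + 1 + 1 + 2)) F → Prop := fun g =>
    ∃ α β : F, (ev 0 : Fin (k + 1 + 1 + 2) → F) ᵥ* (g⁻¹).1 = α • ev 0 + β • ev 1
  have hin : ∀ g ∈ Finset.univ.filter In, sumK τ K (τ g y) = sumK τ K y := by
    intro g hg
    obtain ⟨α, β, hαβ⟩ := (Finset.mem_filter.1 hg).2
    obtain ⟨x, hx, a, ha⟩ : ∃ x ∈ Xa k F, ∃ a : F,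
        (α • ev 0 + β • ev 1 : Fin (k + 1 + 1 + 2) → F) = a • ((ev 0 : Fin (k + 1 + 1 + 2) → F) ᵥ* x.1) := by
      rcases eq_or_ne β 0 with hβ | hβ
      · exact ⟨1, (Xa k F).one_mem, α, by rw [hβ, zero_smul, add_zero]; congr 1; exact (vecMul_one _).symm⟩
      · refine ⟨tv (ev 0) (β • ev 1) * tv (ev 1) ((β⁻¹ * (α - 1)) • ev 0),
          (Xa k F).mul_mem (tv0_mem _) (tv1_mem _), 1, ?_⟩
        show _ = (1 : F) • (_ ᵥ* (_ * _))
        rw [one_smul, ← vecMul_vecMul]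
        have h0 : (ev 0 : Fin (k + 1 + 1 + 2) → F) ᵥ* (tv (ev 0) (β • ev 1)).1 = (1 : F) • ev 0 + β • ev 1 := by
          simpa using row_tv0 (k := k) β 1 0
        rw [h0, row_tv1]
        congr 2 <;> field_simp <;> ring
    have he : τ g y = τ x⁻¹ y := translate_eq τ hfix (a := a) (by rw [inv_inv, hαβ, ha])
    rw [he, (sumK_apply_mem τ K (hXK ((Xa k F).inv_mem hx)) y).1]
  obtain ⟨g₁, hg₁⟩ : ∃ g₁ : SpecialLinearGroup (Fin (k + 1 + 1 + 2)) F,
      (ev 0 : Fin (k + 1 + 1 + 2) → F) ᵥ* (g₁⁻¹).1 = ev (0 : Fin (k + 1 + 1)).succ.succ := by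
    have h1 : ∀ i : Fin (k + 1 + 1 + 2), i ≠ 1 → LinearIndependent F ![(ev i : Fin (k + 1 + 1 + 2) → F), ev 1] := by
      intro i hi
      rw [LinearIndependent.pair_iff]
      intro s t h
      have ha := congrFun h i
      have hb := congrFun h 1
      simp [ev, Pi.single_apply, hi, hi.symm] at ha hb
      exact ⟨ha, hb⟩
    obtain ⟨g, hg, -⟩ := exists_sl_pair (by simp) (h1 0 (by simp)) (h1 (0 : Fin (k + 1 + 1)).succ.succ
      (fun h => by rw [← Fin.succ_zero_eq_one, Fin.succ_inj] at h; exact Fin.succ_ne_zero _ h))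
    obtain ⟨g', hg'⟩ : ∃ g' : SpecialLinearGroup (Fin (k + 1 + 1 + 2)) F, g'.1 = g.1ᵀ :=
      ⟨⟨g.1ᵀ, by rw [det_transpose]; exact g.2⟩, rfl⟩
    refine ⟨g'⁻¹, ?_⟩
    rw [inv_inv, hg']
    rw [vecMul_transpose, hg]
  have hout : ∀ g ∉ Finset.univ.filter In, sumK τ K (τ g y) = sumK τ K (τ g₁ y) := by
    intro g hg
    obtain ⟨φ, hφ⟩ : ∃ φ, φ = (ev 0 : Fin (k + 1 + 1 + 2) → F) ᵥ* (g⁻¹).1 := ⟨_, rfl⟩
    obtain ⟨h, hh, s, hs, hh1⟩ := exists_outside01 (φ := φ) fun α β e =>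
      hg (Finset.mem_filter.2 ⟨Finset.mem_univ _, α, β, hφ ▸ e⟩)
    have he : τ (h * g) y = τ g₁ y := by
      refine translate_eq τ hfix (a := s⁻¹) ?_
      rw [hg₁, _root_.mul_inv_rev]
      show _ ᵥ* ((g⁻¹).1 * (h⁻¹).1) = _
      rw [← vecMul_vecMul, ← hφ, eq_inv_smul_iff₀ hs, ← smul_vecMul, ← hh1, vecMul_vecMul,
        show h.1 * (h⁻¹).1 = 1 from congrArg Subtype.val (mul_inv_cancel h), vecMul_one]
    rw [← he, map_mul, Module.End.mul_apply, (sumK_apply_mem τ _ (hRK hh) _).1]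
  have hS : Finset.univ.filter In ≠ Finset.univ := fun h => by
    have hm : g₁ ∈ Finset.univ.filter In := Finset.eq_univ_iff_forall.1 h g₁
    obtain ⟨α, β, e⟩ := (Finset.mem_filter.1 hm).2
    rw [hg₁] at e
    have h21 : (0 : Fin (k + 1 + 1)).succ.succ ≠ (1 : Fin (k + 1 + 1 + 2)) := fun h' => by
      rw [← Fin.succ_zero_eq_one, Fin.succ_inj] at h'; exact Fin.succ_ne_zero _ h'
    have h20 : (0 : Fin (k + 1 + 1)).succ.succ ≠ (0 : Fin (k + 1 + 1 + 2)) := Fin.succ_ne_zero _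
    generalize (0 : Fin (k + 1 + 1)).succ.succ = t at e h21 h20
    have h2 := congrFun e t
    simp [ev, h21, h20] at h2
  obtain ⟨-, hall⟩ := two_class τ hτ hy K _ hS
    (Finset.mem_filter.2 ⟨Finset.mem_univ _, 1, 0, by rw [inv_one]; simp⟩) _ hin hout
  obtain ⟨c, hc⟩ := hall v
  obtain ⟨d, hd⟩ : ∃ d : ℂ, sumK τ K y = d • p := by
    letI := Fintype.ofFinite (Xa k F)
    refine ⟨(Nat.card (Xa k F) : ℂ)⁻¹ * Nat.card K, ?_⟩
    rw [mul_smul, ← sumK_fixed τ K (v := p) (fun g hg => hg.1), hp, sumK.eq_1 τ (Xa k F), LinearMap.sum_apply, map_sum,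
      Finset.sum_congr rfl (fun (g : Xa k F) _ => (sumK_apply_mem τ K (hXK g.2) y).1), Finset.sum_const,
      Finset.card_univ, Nat.card_eq_fintype_card, ← Nat.cast_smul_eq_nsmul ℂ, smul_smul,
      inv_mul_cancel₀ (Nat.cast_ne_zero.2 Fintype.card_ne_zero), one_smul]
  rw [sumK_fixed τ K (fun g hg => hg.2), hd, smul_smul] at hc
  refine ⟨(Nat.card K : ℂ)⁻¹ * (c * d), ?_⟩
  rw [mul_smul, ← hc, smul_smul, inv_mul_cancel₀ (Nat.cast_ne_zero.2 Nat.card_pos.ne'), one_smul]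

end Rep

end CfsgLib.MinDegree.PlusPoint
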