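import Mathlib
import Cfsg.Agent.Lib.MinDegree.PlusAlt
import Cfsg.Agent.Lib.Classical.SpinorPlus

/-!
Levi, Siegel and reflection elements of the plus type orthogonal commutator group.
-/

namespace CfsgLib.MinDegree.PlusSiegel

open Matrix Cfsg CfsgLib.Classical CfsgLib.Classical.Spin PlusAlt SLTv SLOps SLExact
open scoped commutatorElement

universe u

variable {F : Type u} [Field F] [Fintype F] [DecidableEq F] {n : ℕ}

/-- The isometry group. -/
abbrev Iso (F : Type u) [Field F] (n : ℕ) : Subgroup (GL (Fin n ⊕ Fin n) F) := isometryGroup F ⇑(qPlus n F)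

/-- The commutator group. -/
abbrev OG (F : Type u) [Field F] (n : ℕ) : Subgroup (Iso F n) := Omega F ⇑(qPlus n F)

/-- The action of an isometry on vectors. -/
def iv (g : Iso F n) (x : Fin n ⊕ Fin n → F) : Fin n ⊕ Fin n → F :=
  ((g : GL (Fin n ⊕ Fin n) F) : Matrix (Fin n ⊕ Fin n) (Fin n ⊕ Fin n) F) *ᵥ x

theorem iv_mul (g h : Iso F n) (x : Fin n ⊕ Fin n → F) : iv (g * h) x = iv g (iv h x) := by
  rw [iv, iv, iv, mulVec_mulVec]; rfl

theorem iv_one (x : Fin n ⊕ Fin n → F) : iv (1 : Iso F n) x = x := one_mulVec x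

theorem iso_ext {g h : Iso F n} (H : ∀ x, iv g x = iv h x) : g = h :=
  Subtype.ext (Units.ext (Matrix.ext_of_mulVec_single fun _ => H _))

theorem og_ext {g h : OG F n} (H : ∀ x, iv g.1 x = iv h.1 x) : g = h := Subtype.ext (iso_ext H)

/-- The isometry of a matrix. -/
noncomputable def isoOf (M : Matrix (Fin n ⊕ Fin n) (Fin n ⊕ Fin n) F)
    (hM : ∀ x, qPlus n F (M *ᵥ x) = qPlus n F x) : Iso F n :=
  (exists_isometry_of_matrix _ (polarNondeg_qPlus n) M hM).choose

theorem iv_isoOf (M : Matrix (Fin n ⊕ Fin n) (Fin n ⊕ Fin n) F) (hM : ∀ x, qPlus n F (M *ᵥ x) = qPlus n F x)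
    (x : Fin n ⊕ Fin n → F) : iv (isoOf M hM) x = M *ᵥ x :=
  congrArg (· *ᵥ x) (exists_isometry_of_matrix _ (polarNondeg_qPlus n) M hM).choose_spec

theorem iv_blocks (A B C D : Matrix (Fin n) (Fin n) F) (x : Fin n ⊕ Fin n → F) :
    fromBlocks A B C D *ᵥ x =
      Sum.elim (A *ᵥ (x ∘ Sum.inl) + B *ᵥ (x ∘ Sum.inr)) (C *ᵥ (x ∘ Sum.inl) + D *ᵥ (x ∘ Sum.inr)) :=
  fromBlocks_mulVec _ _ _ _ _

/-- The Levi isometry. -/
noncomputable def lev : GL (Fin n) F →* Iso F n where
  toFun A := isoOf _ (levi_map A)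
  map_one' := iso_ext fun x => by
    rw [iv_isoOf, iv_one, Units.val_one, inv_one, transpose_one, fromBlocks_one, one_mulVec]
  map_mul' A B := iso_ext fun x => by
    rw [iv_mul, iv_isoOf, iv_isoOf, iv_isoOf, mulVec_mulVec, fromBlocks_multiply, Units.val_mul, Matrix.mul_inv_rev,
      transpose_mul]
    simp

theorem iv_lev (A : GL (Fin n) F) (x : Fin n ⊕ Fin n → F) : iv (lev A) x =
    Sum.elim ((A : Matrix (Fin n) (Fin n) F) *ᵥ (x ∘ Sum.inl))
      (((A : Matrix (Fin n) (Fin n) F)⁻¹)ᵀ *ᵥ (x ∘ Sum.inr)) := by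
  rw [show lev A = isoOf _ (levi_map A) from rfl, iv_isoOf, iv_blocks]
  simp

theorem mat_quad (φ : Pair n → F) (y : Fin n → F) : y ⬝ᵥ (mat φ *ᵥ y) = 0 := by
  rw [mat, sub_mulVec, dotProduct_sub, mulVec_transpose, dotProduct_mulVec, dotProduct_comm (y ᵥ* tri φ), sub_self]

theorem sieg_map (φ : Pair n → F) (x : Fin n ⊕ Fin n → F) :
    qPlus n F (fromBlocks 1 (mat φ) 0 1 *ᵥ x) = qPlus n F x := by
  rw [iv_blocks, qPlus_eq_dot, qPlus_eq_dot, Sum.elim_comp_inl, Sum.elim_comp_inr]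
  simp only [one_mulVec, zero_mulVec, zero_add, add_dotProduct]
  rw [dotProduct_comm (mat φ *ᵥ _), mat_quad, add_zero]

theorem sieg'_map (φ : Pair n → F) (x : Fin n ⊕ Fin n → F) :
    qPlus n F (fromBlocks 1 0 (mat φ) 1 *ᵥ x) = qPlus n F x := by
  rw [iv_blocks, qPlus_eq_dot, qPlus_eq_dot, Sum.elim_comp_inl, Sum.elim_comp_inr]
  simp only [one_mulVec, zero_mulVec, add_zero, dotProduct_add]
  rw [mat_quad, zero_add]

/-- The Siegel isometries. -/
noncomputable def siegI : Multiplicative (Pair n → F) →* Iso F n where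
  toFun φ := isoOf _ (sieg_map φ.toAdd)
  map_one' := iso_ext fun x => by
    rw [iv_isoOf, iv_one, toAdd_one, mat_zero, fromBlocks_one, one_mulVec]
  map_mul' φ χ := iso_ext fun x => by
    rw [iv_mul, iv_isoOf, iv_isoOf, iv_isoOf, mulVec_mulVec, fromBlocks_multiply, toAdd_mul, mat_add]
    simp [add_comm]

theorem iv_siegI (φ : Pair n → F) (x : Fin n ⊕ Fin n → F) : iv (siegI (Multiplicative.ofAdd φ)) x =
    Sum.elim (x ∘ Sum.inl + mat φ *ᵥ (x ∘ Sum.inr)) (x ∘ Sum.inr) := by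
  rw [show siegI (Multiplicative.ofAdd φ) = isoOf _ (sieg_map φ) from rfl, iv_isoOf, iv_blocks]
  simp

/-- The lower Siegel isometries. -/
noncomputable def sieg'I : Multiplicative (Pair n → F) →* Iso F n where
  toFun φ := isoOf _ (sieg'_map φ.toAdd)
  map_one' := iso_ext fun x => by
    rw [iv_isoOf, iv_one, toAdd_one, mat_zero, fromBlocks_one, one_mulVec]
  map_mul' φ χ := iso_ext fun x => by
    rw [iv_mul, iv_isoOf, iv_isoOf, iv_isoOf, mulVec_mulVec, fromBlocks_multiply, toAdd_mul, mat_add]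
    simp [add_comm]

theorem iv_sieg'I (φ : Pair n → F) (x : Fin n ⊕ Fin n → F) : iv (sieg'I (Multiplicative.ofAdd φ)) x =
    Sum.elim (x ∘ Sum.inl) (mat φ *ᵥ (x ∘ Sum.inl) + x ∘ Sum.inr) := by
  rw [show sieg'I (Multiplicative.ofAdd φ) = isoOf _ (sieg'_map φ) from rfl, iv_isoOf, iv_blocks]
  simp

theorem lev_conj_siegI (A : GL (Fin n) F) (φ : Pair n → F) :
    lev A * siegI (Multiplicative.ofAdd φ) =
      siegI (Multiplicative.ofAdd (act (A : Matrix (Fin n) (Fin n) F)ᵀ φ)) * lev A := by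
  refine iso_ext fun x => ?_
  rw [iv_mul, iv_mul, iv_siegI, iv_lev, iv_lev, iv_siegI]
  simp only [Sum.elim_comp_inl, Sum.elim_comp_inr, mulVec_add, mat_act, transpose_transpose, mulVec_mulVec]
  rw [Matrix.mul_assoc _ ((A : Matrix (Fin n) (Fin n) F)ᵀ), ← transpose_mul,
    nonsing_inv_mul _ ((Matrix.isUnit_iff_isUnit_det _).1 A.isUnit), transpose_one, Matrix.mul_one]

theorem lev_conj_sieg'I (A : GL (Fin n) F) (φ : Pair n → F) :
    lev A * sieg'I (Multiplicative.ofAdd φ) =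
      sieg'I (Multiplicative.ofAdd (act (A : Matrix (Fin n) (Fin n) F)⁻¹ φ)) * lev A := by
  refine iso_ext fun x => ?_
  rw [iv_mul, iv_mul, iv_sieg'I, iv_lev, iv_lev, iv_sieg'I]
  simp only [Sum.elim_comp_inl, Sum.elim_comp_inr, mulVec_add, mat_act, mulVec_mulVec]
  rw [Matrix.mul_assoc _ (A : Matrix (Fin n) (Fin n) F)⁻¹,
    nonsing_inv_mul _ ((Matrix.isUnit_iff_isUnit_det _).1 A.isUnit), Matrix.mul_one]

theorem exists_scalar_act (hq : 3 < Fintype.card F) : ∃ (A B : GL (Fin n) F) (c : F), c ≠ 0 ∧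
    ∀ φ : Pair n → F, act (A : Matrix (Fin n) (Fin n) F)ᵀ φ = (c + 1) • φ ∧
      act (B : Matrix (Fin n) (Fin n) F)⁻¹ φ = (c + 1) • φ := by
  obtain ⟨s, hs0, hs1⟩ := exists_square_ne_one hq
  have hd : ∀ a : F, a ≠ 0 → (a • (1 : Matrix (Fin n) (Fin n) F)).det ≠ 0 := fun a ha => by
    rw [det_smul, det_one, mul_one]; exact pow_ne_zero _ ha
  have hinv : (s⁻¹ • (1 : Matrix (Fin n) (Fin n) F))⁻¹ = s • 1 := inv_eq_right_inv (by
    rw [smul_mul_smul_comm, inv_mul_cancel₀ hs0, one_smul, Matrix.one_mul])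
  refine ⟨GeneralLinearGroup.mkOfDetNeZero _ (hd s hs0), GeneralLinearGroup.mkOfDetNeZero _ (hd s⁻¹ (inv_ne_zero hs0)),
    s * s - 1, sub_ne_zero.2 hs1, fun φ => ?_⟩
  have hact : act (s • (1 : Matrix (Fin n) (Fin n) F)) φ = (s * s - 1 + 1) • φ := by
    rw [act, transpose_smul, transpose_one, smul_mul_assoc, Matrix.one_mul, mul_smul_comm, Matrix.mul_one,
      smul_smul, ← mat_smul, upper_mat, sub_add_cancel]
  show act (s • (1 : Matrix (Fin n) (Fin n) F))ᵀ φ = _ ∧ act (s⁻¹ • (1 : Matrix (Fin n) (Fin n) F))⁻¹ φ = _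
  rw [transpose_smul, transpose_one, hinv]
  exact ⟨hact, hact⟩

theorem siegI_mem (hq : 3 < Fintype.card F) (φ : Multiplicative (Pair n → F)) : siegI φ ∈ OG F n := by
  obtain ⟨A, _, c, hc, h⟩ := exists_scalar_act (F := F) (n := n) hq
  obtain ⟨ψ, hψ⟩ : ∃ ψ, ψ = c⁻¹ • φ.toAdd := ⟨_, rfl⟩
  have : siegI φ = ⁅lev A, siegI (Multiplicative.ofAdd ψ)⁆ := by
    rw [commutatorElement_def, lev_conj_siegI, mul_inv_cancel_right, ← map_inv, ← map_mul]
    congr 1
    show φ.toAdd = act _ ψ + -ψ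
    rw [(h ψ).1, hψ, add_smul, one_smul, add_neg_cancel_right, smul_smul, mul_inv_cancel₀ hc, one_smul]
  rw [this]
  exact Subgroup.commutator_mem_commutator (Subgroup.mem_top _) (Subgroup.mem_top _)

theorem sieg'I_mem (hq : 3 < Fintype.card F) (φ : Multiplicative (Pair n → F)) : sieg'I φ ∈ OG F n := by
  obtain ⟨_, A, c, hc, h⟩ := exists_scalar_act (F := F) (n := n) hq
  obtain ⟨ψ, hψ⟩ : ∃ ψ, ψ = c⁻¹ • φ.toAdd := ⟨_, rfl⟩
  have : sieg'I φ = ⁅lev A, sieg'I (Multiplicative.ofAdd ψ)⁆ := by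
    rw [commutatorElement_def, lev_conj_sieg'I, mul_inv_cancel_right, ← map_inv, ← map_mul]
    congr 1
    show φ.toAdd = act _ ψ + -ψ
    rw [(h ψ).2, hψ, add_smul, one_smul, add_neg_cancel_right, smul_smul, mul_inv_cancel₀ hc, one_smul]
  rw [this]
  exact Subgroup.commutator_mem_commutator (Subgroup.mem_top _) (Subgroup.mem_top _)

/-- The Siegel subgroup. -/
noncomputable def sieg (hq : 3 < Fintype.card F) : Multiplicative (Pair n → F) →* OG F n :=
  siegI.codRestrict _ (siegI_mem hq)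

/-- The lower Siegel subgroup. -/
noncomputable def sieg' (hq : 3 < Fintype.card F) : Multiplicative (Pair n → F) →* OG F n :=
  sieg'I.codRestrict _ (sieg'I_mem hq)

theorem lev_mem (hq : 3 < Fintype.card F) (A : GL (Fin n) F)
    (h : IsSquare (A : Matrix (Fin n) (Fin n) F).det) : lev A ∈ OG F n :=
  (levi_mem_Omega_iff (Or.inl (by omega)) A (lev A)
    (exists_isometry_of_matrix _ (polarNondeg_qPlus n) _ (levi_map A)).choose_spec).2 h

/-- The Levi element of a square determinant. -/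
noncomputable def levG (hq : 3 < Fintype.card F) (A : GL (Fin n) F)
    (h : IsSquare (A : Matrix (Fin n) (Fin n) F).det) : OG F n := ⟨lev A, lev_mem hq A h⟩

/-- The special linear Levi subgroup. -/
noncomputable def levS (hq : 3 < Fintype.card F) : SpecialLinearGroup (Fin n) F →* OG F n :=
  (lev.comp SpecialLinearGroup.toGL).codRestrict _ fun g => lev_mem hq _ (by
    show IsSquare (g : Matrix (Fin n) (Fin n) F).det
    rw [g.2]; exact IsSquare.one)

theorem iv_levS (hq : 3 < Fintype.card F) (g : SpecialLinearGroup (Fin n) F) (x : Fin n ⊕ Fin n → F) :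
    iv (levS hq g).1 x = Sum.elim ((g : Matrix (Fin n) (Fin n) F) *ᵥ (x ∘ Sum.inl))
      (((g : Matrix (Fin n) (Fin n) F)⁻¹)ᵀ *ᵥ (x ∘ Sum.inr)) :=
  iv_lev _ x

theorem levG_conj_sieg (hq : 3 < Fintype.card F) (A : GL (Fin n) F)
    (h : IsSquare (A : Matrix (Fin n) (Fin n) F).det) (φ : Pair n → F) :
    levG hq A h * sieg hq (Multiplicative.ofAdd φ) =
      sieg hq (Multiplicative.ofAdd (act (A : Matrix (Fin n) (Fin n) F)ᵀ φ)) * levG hq A h :=
  Subtype.ext (lev_conj_siegI A φ)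

theorem levS_conj_sieg (hq : 3 < Fintype.card F) (A : SpecialLinearGroup (Fin n) F) (φ : Pair n → F) :
    levS hq A * sieg hq (Multiplicative.ofAdd φ) =
      sieg hq (Multiplicative.ofAdd (act (A : Matrix (Fin n) (Fin n) F)ᵀ φ)) * levS hq A :=
  Subtype.ext (lev_conj_siegI (SpecialLinearGroup.toGL A) φ)

theorem levS_conj_sieg' (hq : 3 < Fintype.card F) (A : SpecialLinearGroup (Fin n) F) (φ : Pair n → F) :
    levS hq A * sieg' hq (Multiplicative.ofAdd φ) =
      sieg' hq (Multiplicative.ofAdd (act (A : Matrix (Fin n) (Fin n) F)⁻¹ φ)) * levS hq A :=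
  Subtype.ext (lev_conj_sieg'I (SpecialLinearGroup.toGL A) φ)

/-- The exchange of the two vectors of one hyperbolic pair. -/
def swp (j : Fin n) : Equiv.Perm (Fin n ⊕ Fin n) := Equiv.swap (Sum.inl j) (Sum.inr j)

theorem swp_inl (j i : Fin n) : swp j (Sum.inl i) = if i = j then Sum.inr j else Sum.inl i := by
  simp [swp, Equiv.swap_apply_def]

theorem swp_inr (j i : Fin n) : swp j (Sum.inr i) = if i = j then Sum.inl j else Sum.inr i := by
  simp [swp, Equiv.swap_apply_def]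

theorem permMat_mulVec (e : Fin n ⊕ Fin n → Fin n ⊕ Fin n) (x : Fin n ⊕ Fin n → F) :
    (1 : Matrix (Fin n ⊕ Fin n) (Fin n ⊕ Fin n) F).submatrix e id *ᵥ x = x ∘ e := by
  funext i
  simp [mulVec, dotProduct, Matrix.one_apply]

theorem swp_map (j : Fin n) (x : Fin n ⊕ Fin n → F) :
    qPlus n F ((1 : Matrix (Fin n ⊕ Fin n) (Fin n ⊕ Fin n) F).submatrix (swp j) id *ᵥ x) = qPlus n F x := by
  rw [permMat_mulVec, qPlus_eq_dot, qPlus_eq_dot]
  refine Finset.sum_congr rfl fun i _ => ?_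
  simp only [Function.comp_apply, swp_inl, swp_inr]
  split_ifs with h
  · subst h; exact mul_comm _ _
  · rfl

/-- The reflection exchanging one hyperbolic pair. -/
noncomputable def sI (j : Fin n) : Iso F n := isoOf _ (swp_map j)

theorem iv_sI (j : Fin n) (x : Fin n ⊕ Fin n → F) : iv (sI j) x = x ∘ swp j :=
  (iv_isoOf _ _ x).trans (permMat_mulVec _ _)

theorem sI_inv (j : Fin n) : (sI j : Iso F n)⁻¹ = sI j :=
  inv_eq_of_mul_eq_one_right (iso_ext fun x => by
    rw [iv_mul, iv_sI, iv_sI, iv_one]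
    funext i
    simp [swp])

/-- Conjugation by a reflection. -/
noncomputable def tw (j : Fin n) : OG F n ≃* OG F n := MulAut.conjNormal (sI j : Iso F n)

theorem tw_val (j : Fin n) (g : OG F n) : (tw j g).1 = sI j * g.1 * sI j := by
  rw [tw, MulAut.conjNormal_apply, sI_inv]

theorem iv_tw (j : Fin n) (g : OG F n) (x : Fin n ⊕ Fin n → F) :
    iv (tw j g).1 x = iv g.1 (x ∘ swp j) ∘ swp j := by
  rw [tw_val, iv_mul, iv_mul, iv_sI, iv_sI]

theorem tw_tw (j : Fin n) (g : OG F n) : tw j (tw j g) = g := og_ext fun x => by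
  rw [iv_tw, iv_tw]
  funext i
  simp [swp, Function.comp_def]

theorem wedge_mulVec (u v y : Fin n → F) : wedge u v *ᵥ y = (v ⬝ᵥ y) • u - (u ⬝ᵥ y) • v := by
  rw [wedge, sub_mulVec, vecMulVec_mulVec, vecMulVec_mulVec, op_smul_eq_smul, op_smul_eq_smul]

theorem tv_inv {v φ : Fin n → F} (h : φ ⬝ᵥ v = 0) :
    ((tv v φ : Matrix (Fin n) (Fin n) F))⁻¹ = (tv v (-φ) : Matrix (Fin n) (Fin n) F) := by
  refine inv_eq_right_inv ?_
  show ((tv v φ * tv v (-φ) : SpecialLinearGroup (Fin n) F)).1 = 1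
  rw [tv_mul h (by rw [neg_dotProduct, h, neg_zero]), add_neg_cancel, tv_zero]
  rfl

theorem iv_levS_tv (hq : 3 < Fintype.card F) {v φ : Fin n → F} (h : φ ⬝ᵥ v = 0) (x : Fin n ⊕ Fin n → F) :
    iv (levS hq (tv v φ)).1 x = Sum.elim (x ∘ Sum.inl + (φ ⬝ᵥ (x ∘ Sum.inl)) • v)
      (x ∘ Sum.inr - (v ⬝ᵥ (x ∘ Sum.inr)) • φ) := by
  rw [iv_levS, tv_mulVec h, tv_inv h, tv_val (by rw [neg_dotProduct, h, neg_zero]), transpose_add, transpose_one,
    transpose_vecMulVec, add_mulVec, one_mulVec, vecMulVec_mulVec, op_smul_eq_smul, smul_neg, sub_eq_add_neg]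

theorem dot_congr_off {v y z : Fin n → F} (j : Fin n) (hv : v j = 0) (h : ∀ i, i ≠ j → y i = z i) :
    v ⬝ᵥ y = v ⬝ᵥ z := by
  refine Finset.sum_congr rfl fun i _ => ?_
  rcases eq_or_ne i j with rfl | hi
  · rw [hv, zero_mul, zero_mul]
  · rw [h i hi]

/-- The reflection turns a transvection with axis at its pair into a Siegel element. -/
theorem tw_levS_axis (hq : 3 < Fintype.card F) (j : Fin n) {v : Fin n → F} (hv : v j = 0) :
    tw j (levS hq (tv v (Pi.single j 1))) = sieg hq (Multiplicative.ofAdd (upper (wedge v (Pi.single j 1)))) := by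
  have h : (Pi.single j (1 : F) : Fin n → F) ⬝ᵥ v = 0 := by rw [single_dotProduct, one_mul, hv]
  refine og_ext fun x => ?_
  rw [iv_tw, iv_levS_tv hq h]
  rw [show (sieg hq (Multiplicative.ofAdd (upper (wedge v (Pi.single j 1))))).1 =
    siegI (Multiplicative.ofAdd (upper (wedge v (Pi.single j 1)))) from rfl, iv_siegI, mat_upper_wedge, wedge_mulVec]
  have hd : v ⬝ᵥ ((x ∘ swp j) ∘ Sum.inr) = v ⬝ᵥ (x ∘ Sum.inr) :=
    dot_congr_off j hv fun i hi => by simp [swp_inr, hi]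
  rw [hd]
  funext i
  rcases i with i | i <;> rcases eq_or_ne i j with rfl | hi <;>
    simp [swp_inl, swp_inr, hv, sub_eq_add_neg, *]

/-- The reflection turns a transvection with centre at its pair into a lower Siegel element. -/
theorem tw_levS_centre (hq : 3 < Fintype.card F) (j : Fin n) {φ : Fin n → F} (hφ : φ j = 0) :
    tw j (levS hq (tv (Pi.single j 1) φ)) = sieg' hq (Multiplicative.ofAdd (upper (wedge (Pi.single j 1) φ))) := by
  have h : φ ⬝ᵥ (Pi.single j (1 : F) : Fin n → F) = 0 := by rw [dotProduct_single, mul_one, hφ]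
  refine og_ext fun x => ?_
  rw [iv_tw, iv_levS_tv hq h]
  rw [show (sieg' hq (Multiplicative.ofAdd (upper (wedge (Pi.single j 1) φ)))).1 =
    sieg'I (Multiplicative.ofAdd (upper (wedge (Pi.single j 1) φ))) from rfl, iv_sieg'I, mat_upper_wedge, wedge_mulVec]
  have hd : φ ⬝ᵥ ((x ∘ swp j) ∘ Sum.inl) = φ ⬝ᵥ (x ∘ Sum.inl) :=
    dot_congr_off j hφ fun i hi => by simp [swp_inl, hi]
  rw [hd]
  funext i
  rcases i with i | i <;> rcases eq_or_ne i j with rfl | hi <;>
    simp [swp_inl, swp_inr, hφ, *] <;> ring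

/-- The reflection fixes the Siegel elements away from its pair. -/
theorem tw_sieg_off (hq : 3 < Fintype.card F) (j : Fin n) {φ : Pair n → F} (hφ : ∀ i, mat φ j i = 0) :
    tw j (sieg hq (Multiplicative.ofAdd φ)) = sieg hq (Multiplicative.ofAdd φ) := by
  refine og_ext fun x => ?_
  rw [iv_tw]
  show iv (siegI (Multiplicative.ofAdd φ)) _ ∘ _ = iv (siegI (Multiplicative.ofAdd φ)) x
  rw [iv_siegI, iv_siegI]
  have hy : mat φ *ᵥ ((x ∘ swp j) ∘ Sum.inr) = mat φ *ᵥ (x ∘ Sum.inr) := funext fun i => by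
    refine dot_congr_off j (by rw [mat_neg_apply, hφ, neg_zero]) fun a ha => ?_
    simp [swp_inr, ha]
  have hj : (mat φ *ᵥ (x ∘ Sum.inr)) j = 0 := by
    simp [mulVec, dotProduct, hφ]
  rw [hy]
  funext i
  rcases i with i | i <;> rcases eq_or_ne i j with rfl | hi <;>
    simp [swp_inl, swp_inr, *]

/-- The reflection fixes the Levi elements away from its pair. -/
theorem tw_levS_off (hq : 3 < Fintype.card F) (j : Fin n) {g : SpecialLinearGroup (Fin n) F}
    (hr : ∀ i, g.1 j i = (1 : Matrix (Fin n) (Fin n) F) j i) (hc : ∀ i, g.1 i j = (1 : Matrix (Fin n) (Fin n) F) i j) :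
    tw j (levS hq g) = levS hq g := by
  have hinv : g.1⁻¹ * g.1 = 1 ∧ g.1 * g.1⁻¹ = 1 :=
    ⟨nonsing_inv_mul _ (by rw [g.2]; exact isUnit_one), mul_nonsing_inv _ (by rw [g.2]; exact isUnit_one)⟩
  have hr' : ∀ i, g.1⁻¹ j i = (1 : Matrix (Fin n) (Fin n) F) j i := fun i => by
    have h : (g.1 * g.1⁻¹) j i = (1 : Matrix (Fin n) (Fin n) F) j i := by rw [hinv.2]
    rw [mul_apply, Finset.sum_congr rfl (fun a _ => by rw [hr a]), ← mul_apply, Matrix.one_mul] at h
    exact h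
  have hc' : ∀ i, g.1⁻¹ i j = (1 : Matrix (Fin n) (Fin n) F) i j := fun i => by
    have h : (g.1⁻¹ * g.1) i j = (1 : Matrix (Fin n) (Fin n) F) i j := by rw [hinv.1]
    rw [mul_apply, Finset.sum_congr rfl (fun a _ => by rw [hc a]), ← mul_apply, Matrix.mul_one] at h
    exact h
  have hl : ∀ (M : Matrix (Fin n) (Fin n) F), (∀ i, M j i = (1 : Matrix (Fin n) (Fin n) F) j i) →
      ∀ y : Fin n → F, (M *ᵥ y) j = y j := fun M hM y => by
    simp [mulVec, dotProduct, hM, Matrix.one_apply]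
  have ho : ∀ (M : Matrix (Fin n) (Fin n) F), (∀ i, M i j = (1 : Matrix (Fin n) (Fin n) F) i j) →
      ∀ (y z : Fin n → F) (i : Fin n), i ≠ j → (∀ a, a ≠ j → y a = z a) → (M *ᵥ y) i = (M *ᵥ z) i :=
    fun M hM y z i hi hyz => dot_congr_off j (by rw [hM, Matrix.one_apply_ne hi]) hyz
  refine og_ext fun x => ?_
  rw [iv_tw, iv_levS, iv_levS]
  funext i
  rcases i with i | i <;> rcases eq_or_ne i j with rfl | hi
  · simp [swp_inl, hl _ hr, hl _ (fun a => by rw [transpose_apply, hc']; simp [Matrix.one_apply, eq_comm] :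
      ∀ a, (g.1⁻¹)ᵀ i a = (1 : Matrix (Fin n) (Fin n) F) i a), swp_inr]
  · simp only [Function.comp_apply, swp_inl, if_neg hi, Sum.elim_inl]
    exact ho _ hc _ _ i hi fun a ha => by simp [swp_inl, ha]
  · simp [swp_inr, hl _ hr, hl _ (fun a => by rw [transpose_apply, hc']; simp [Matrix.one_apply, eq_comm] :
      ∀ a, (g.1⁻¹)ᵀ i a = (1 : Matrix (Fin n) (Fin n) F) i a), swp_inl]
  · simp only [Function.comp_apply, swp_inr, if_neg hi, Sum.elim_inr]
    exact ho _ (fun a => by rw [transpose_apply, hr']; simp [Matrix.one_apply, eq_comm]) _ _ i hi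
      fun a ha => by simp [swp_inr, ha]

/-- The product of two reflections lies in the commutator group. -/
theorem sI_pair_mem (i j : Fin n) : sI j * sI i ∈ OG F n := by
  let P : GL (Fin n) F := GeneralLinearGroup.mkOfDetNeZero ((1 : Matrix (Fin n) (Fin n) F).submatrix (Equiv.swap i j) id)
    (by rw [det_permute, det_one, mul_one]; rcases Int.units_eq_one_or (Equiv.Perm.sign (Equiv.swap i j)) with h | h <;> simp [h])
  have hP : ∀ y : Fin n → F, (P : Matrix (Fin n) (Fin n) F) *ᵥ y = y ∘ Equiv.swap i j := fun y => by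
    funext a
    show ((1 : Matrix (Fin n) (Fin n) F).submatrix (Equiv.swap i j) id *ᵥ y) a = _
    simp [mulVec, dotProduct, Matrix.one_apply]
  have hP' : ∀ y : Fin n → F, ((P : Matrix (Fin n) (Fin n) F)⁻¹)ᵀ *ᵥ y = y ∘ Equiv.swap i j := fun y => by
    have hsq : (P : Matrix (Fin n) (Fin n) F)⁻¹ = (P : Matrix (Fin n) (Fin n) F) := inv_eq_right_inv (by
      refine Matrix.ext_of_mulVec_single fun a => ?_
      rw [← mulVec_mulVec, hP, hP, one_mulVec]
      funext b
      simp)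
    rw [hsq, ← hP]
    congr 1
    ext a b
    show (1 : Matrix (Fin n) (Fin n) F) (Equiv.swap i j b) a = (1 : Matrix (Fin n) (Fin n) F) (Equiv.swap i j a) b
    simp only [Matrix.one_apply, Equiv.swap_apply_eq_iff, eq_comm]
    exact if_congr ⟨fun h => by simp [h], fun h => by simp [h]⟩ rfl rfl
  have h : ⁅lev P, (sI i : Iso F n)⁆ = sI j * sI i := by
    rw [commutatorElement_def, sI_inv, mul_left_inj, mul_inv_eq_iff_eq_mul]
    refine iso_ext fun x => ?_
    rw [iv_mul, iv_mul, iv_sI, iv_lev, iv_lev, iv_sI, hP, hP', hP, hP']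
    funext a
    rcases a with a | a <;>
      simp only [Sum.elim_inl, Sum.elim_inr, Function.comp_apply, swp_inl, swp_inr] <;>
      rcases eq_or_ne a j with rfl | ha
    all_goals first
      | (simp [Equiv.swap_apply_right]; done)
      | (have : Equiv.swap i j a ≠ i := fun h => ha (by simpa using congrArg (Equiv.swap i j) h)
         simp [ha, this])
  rw [← h]
  exact Subgroup.commutator_mem_commutator (Subgroup.mem_top _) (Subgroup.mem_top _)

end CfsgLib.MinDegree.PlusSiegel
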