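import Mathlib
import Cfsg.Agent.Lib.MinDegree.PlusPoint
import Cfsg.Agent.Lib.MinDegree.PlusSiegel
import Cfsg.Agent.Lib.MinDegree.Minimal
import Cfsg.Agent.Lib.Classical.QuadSiegel

/-!
Siegel weights of a small representation of the plus type orthogonal commutator group.
-/

namespace CfsgLib.MinDegree.PlusWts

open Matrix Cfsg SLAvg SLTv SLOps SLWts SLOverlap SLBound SLExact PlusAlt PlusSiegel PlusPoint

universe u w

variable {F : Type u} [Field F] [Fintype F] [DecidableEq F] {k : ℕ}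

theorem ev01_row : PlusAlt.row (upper (wedge (ev 0) (ev 1)) : Pair (k + 1 + 1 + 2) → F) = Pi.single 0 1 := funext fun j => by
  simp only [PlusAlt.row, upper, wedge_apply, ev, Pi.single_apply, Fin.succ_ne_zero, if_false]
  simp only [← Fin.succ_zero_eq_one, Fin.succ_inj]
  simp

theorem wedge_ev01 : upper (wedge (ev 0) (ev 1) : Matrix (Fin (k + 1 + 1 + 2)) (Fin (k + 1 + 1 + 2)) F) =
    Pi.single ⟨(0, (0 : Fin (k + 1 + 2)).succ), Fin.succ_pos _⟩ 1 := by
  funext p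
  obtain ⟨⟨i, j⟩, hij⟩ := p
  obtain ⟨b, rfl⟩ := Fin.exists_succ_eq.2 (ne_of_gt (lt_of_le_of_lt (Fin.zero_le i) hij))
  simp only [upper, wedge_apply, ev, Pi.single_apply, ← Fin.succ_zero_eq_one, Subtype.mk.injEq, Prod.mk.injEq,
    Fin.succ_inj, Fin.succ_ne_zero, if_false]
  by_cases hi : i = 0 <;> by_cases hb : b = 0 <;> simp [hi, hb]

section Fld

theorem fixed_torus (hq : 3 < Fintype.card F) {w : Pair (k + 1 + 1 + 2) → F} (hw : w ∈ wedges (k + 1 + 1 + 2) F)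
    (hfix : act (tv (ev (0 : Fin (k + 1 + 1 + 2))) (ev 1)).1 w = w) :
    ∃ (A : GL (Fin (k + 1 + 1 + 2)) F) (t : F), t ≠ 1 ∧ IsSquare A.1.det ∧ act A.1 w = w ∧ ∀ c : F,
      A.1 * (tv (ev 0) (c • ev 1) : SpecialLinearGroup (Fin (k + 1 + 1 + 2)) F).1 =
        (tv (ev 0) ((t * c) • ev 1) : SpecialLinearGroup (Fin (k + 1 + 1 + 2)) F).1 * A.1 := by
  classical
  obtain ⟨s, hs0, hs1⟩ := exists_square_ne_one hq
  have hrow := (act_tv_fixed_iff w).1 hfix
  obtain ⟨hw0, u, v, huv⟩ := mem_wedges.1 hw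
  have hmat : ∀ i j, mat w i j = u i * v j - v i * u j := fun i j => by
    rw [← huv, mat_upper_wedge, wedge_apply]
  suffices ∃ (A : GL (Fin (k + 1 + 1 + 2)) F) (a b : F), a ≠ b ∧ b ≠ 0 ∧ IsSquare A.1.det ∧ act A.1 w = w ∧
      A.1 *ᵥ ev 0 = a • ev 0 ∧ ∀ x, (A.1 *ᵥ x) 1 = b * x 1 by
    obtain ⟨A, a, b, hab, hb, hsq, hA, h0, h1⟩ := this
    refine ⟨A, a / b, fun h => hab ?_, hsq, hA, fun c => ?_⟩
    · rw [div_eq_one_iff_eq hb] at h; exact h
    · refine Matrix.ext_of_mulVec_single fun i => ?_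
      rw [← mulVec_mulVec, ← mulVec_mulVec, tv_mulVec (ev_dot_ne (by simp) c), tv_mulVec (ev_dot_ne (by simp) _),
        mulVec_add, mulVec_smul, h0]
      simp only [smul_dotProduct, smul_smul]
      congr 2
      have e : ∀ y : Fin (k + 1 + 1 + 2) → F, (ev 1 : Fin (k + 1 + 1 + 2) → F) ⬝ᵥ y = y 1 := fun y => by
        rw [dotProduct_comm, dot_ev]
      rw [e, e, h1, smul_eq_mul, smul_eq_mul]
      field_simp
  rcases eq_or_ne (PlusAlt.row w 0) 0 with ha | ha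
  · -- the first vector lies in the radical
    have hz : ∀ j, mat w 0 j = 0 := fun j => by
      refine Fin.cases (mat_diag w 0) (fun j => ?_) j
      rw [← row_eq_mat]
      rcases eq_or_ne j 0 with rfl | hj
      · exact ha
      · exact hrow j hj
    obtain ⟨D, hD⟩ : ∃ D : Matrix (Fin (k + 1 + 1 + 2)) (Fin (k + 1 + 1 + 2)) F,
        D = diagonal (Fin.cons (s * s) 1) := ⟨_, rfl⟩
    have hdet : D.det = s * s := by rw [hD, det_diagonal, Fin.prod_univ_succ]; simp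
    refine ⟨GeneralLinearGroup.mkOfDetNeZero D (by rw [hdet]; exact mul_ne_zero hs0 hs0), s * s, 1, hs1, one_ne_zero,
      ⟨s, hdet⟩, ?_, ?_, fun x => ?_⟩
    · show act D w = w
      rw [← upper_mat w]
      funext p
      show upper _ p = upper _ p
      simp only [upper, hD, diagonal_transpose, diagonal_mul, mul_diagonal, upper_mat]
      obtain ⟨⟨i, j⟩, hij⟩ := p
      obtain ⟨b, rfl⟩ := Fin.exists_succ_eq.2 (ne_of_gt (lt_of_le_of_lt (Fin.zero_le i) hij))
      revert hij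
      refine Fin.cases ?_ (fun i => ?_) i <;> intro hij <;> simp [hz]
    · show D *ᵥ ev 0 = _
      rw [hD]
      funext i
      rw [mulVec_diagonal]
      refine Fin.cases ?_ (fun i => ?_) i <;> simp [ev]
    · show (D *ᵥ x) 1 = _
      rw [hD, mulVec_diagonal, ← Fin.succ_zero_eq_one, Fin.cons_succ]
      rfl
  · -- a hyperbolic line
    obtain ⟨β, hβ⟩ : ∃ β : Fin (k + 1 + 1) → F, ∀ j, β j = (1 - s) / s * mat w 1 j.succ.succ / PlusAlt.row w 0 :=
      ⟨_, fun j => rfl⟩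
    let A : SpecialLinearGroup (Fin (k + 1 + 1 + 2)) F := hh (Units.mk0 s hs0) * tv (ev 0) (p2 β)
    have h01 : mat w 0 1 = PlusAlt.row w 0 := by rw [row_eq_mat, Fin.succ_zero_eq_one]
    have h0s : ∀ j : Fin (k + 1 + 1), mat w 0 j.succ.succ = 0 := fun j => by
      rw [← row_eq_mat]; exact hrow _ (Fin.succ_ne_zero j)
    have hss : ∀ i j : Fin (k + 1 + 1), mat w i.succ.succ j.succ.succ = 0 := fun i j => by
      refine (mul_eq_zero.1 (?_ : PlusAlt.row w 0 * _ = 0)).resolve_left ha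
      have e1 := h0s i
      have e2 := h0s j
      rw [hmat] at e1 e2
      rw [← h01, hmat, hmat]
      linear_combination (u 1 * v j.succ.succ - v 1 * u j.succ.succ) * e1 - (u 1 * v i.succ.succ - v 1 * u i.succ.succ) * e2
    have hAx : ∀ x, A.1 *ᵥ x = Fin.cons (s * (x 0 + p2 β ⬝ᵥ x)) (Fin.cons (s⁻¹ * x 1) fun i => x i.succ.succ) := by
      intro x
      show (hh (Units.mk0 s hs0) * tv (ev 0) (p2 β) : SpecialLinearGroup (Fin (k + 1 + 1 + 2)) F).1 *ᵥ x = _
      rw [sl_mul_mulVec, tv_mulVec (p2_ev0 β), hh_mulVec]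
      funext i
      refine Fin.cases ?_ (fun i => Fin.cases ?_ (fun i => ?_) i) i
      · simp [ev]
      · simp [ev, Pi.single_apply]
      · simp [ev, Pi.single_apply, Fin.succ_ne_zero]
    have hA0 : A.1 *ᵥ ev 0 = s • ev 0 := by
      rw [hAx, p2_ev0]
      funext i
      refine Fin.cases ?_ (fun i => Fin.cases ?_ (fun i => ?_) i) i <;> simp [ev, Fin.succ_ne_zero]
    have hA1 : A.1 *ᵥ ev 1 = s⁻¹ • ev 1 := by
      rw [hAx, p2_ev1]
      funext i
      refine Fin.cases ?_ (fun i => Fin.cases ?_ (fun i => ?_) i) i <;>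
        simp [ev, Pi.single_apply, Fin.succ_ne_zero, ← Fin.succ_zero_eq_one, Fin.succ_inj, -Fin.succ_zero_eq_one]
      rw [if_neg, if_neg] <;> rw [← Fin.succ_zero_eq_one, Fin.succ_inj] <;> exact Fin.succ_ne_zero _
    have hAj : ∀ j : Fin (k + 1 + 1), A.1 *ᵥ ev j.succ.succ = (s * β j) • ev 0 + ev j.succ.succ := by
      intro j
      have hj : j.succ.succ ≠ (1 : Fin (k + 1 + 1 + 2)) := fun h => by
        rw [← Fin.succ_zero_eq_one, Fin.succ_inj] at h; exact Fin.succ_ne_zero _ h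
      rw [hAx, dot_ev]
      funext i
      refine Fin.cases ?_ (fun i => Fin.cases ?_ (fun i => ?_) i) i <;>
        simp [ev, p2, Pi.single_apply, Fin.succ_ne_zero, hj.symm]
    refine ⟨SpecialLinearGroup.toGL A, s, s⁻¹, ?_, inv_ne_zero hs0, by show IsSquare A.1.det; rw [A.2]; exact IsSquare.one,
      ?_, hA0, fun x => ?_⟩
    · intro h
      exact hs1 (by nth_rewrite 2 [h]; exact mul_inv_cancel₀ hs0)
    · show act A.1 w = w
      funext p
      rw [← congrFun (upper_mat (act A.1 w)) p, ← congrFun (upper_mat w) p]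
      obtain ⟨⟨i, j⟩, hij⟩ := p
      show mat _ i j = mat w i j
      have hns : ∀ a : Fin (k + 1 + 1), a.succ.succ ≠ (1 : Fin (k + 1 + 1 + 2)) := fun a h => by
        rw [← Fin.succ_zero_eq_one, Fin.succ_inj] at h
        exact Fin.succ_ne_zero a h
      rw [act_entry]
      clear hij
      refine Fin.cases ?_ (fun i => Fin.cases ?_ (fun i => ?_) i) i <;>
        refine Fin.cases ?_ (fun j => Fin.cases ?_ (fun j => ?_) j) j <;>
        simp only [Fin.succ_zero_eq_one, hA0, hA1, hAj, mulVec_add, mulVec_smul, dotProduct_add, dotProduct_smul,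
          add_dotProduct, smul_dotProduct, ev_form, mat_diag, h01, h0s, hss, mat_neg_apply w 0,
          smul_eq_mul, hβ, mul_zero, add_zero, zero_add, neg_zero, sub_self] <;>
        first
          | rfl
          | (field_simp; done)
          | (field_simp; ring; done)
          | (rw [mat_neg_apply w 1]; field_simp; ring)
    · show (A.1 *ᵥ x) 1 = _
      rw [hAx, ← Fin.succ_zero_eq_one, Fin.cons_succ, Fin.cons_zero]

end Fld

section Rep

variable {V : Type w} [AddCommGroup V] [Module ℂ V] [FiniteDimensional ℂ V]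
variable (hq : 3 < Fintype.card F) (ρ : Representation ℂ (OG F (k + 1 + 1 + 2)) V) (ψ : AddChar F ℂ)

/-- The weight projection. -/
noncomputable def pr (w : Pair (k + 1 + 1 + 2) → F) : Module.End ℂ V := av ψ (ρ.comp (sieg hq)) w

/-- The Levi representation. -/
noncomputable def lrep : Representation ℂ (SpecialLinearGroup (Fin (k + 1 + 1 + 2)) F) V := ρ.comp (levS hq)

theorem sieg_ne_one [ρ.IsIrreducible] (h2 : 2 ≤ Module.finrank ℂ V) : ρ.comp (sieg hq) ≠ 1 := by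
  classical
  intro h
  haveI : Nontrivial V := Module.nontrivial_of_finrank_pos (R := ℂ) (by omega)
  let N := (MonoidHom.ker ρ)
  have hN : ∀ φ, sieg hq (Multiplicative.ofAdd φ) ∈ N := fun φ => DFunLike.congr_fun h (Multiplicative.ofAdd φ)
  have hcomm : ∀ a b : OG F (k + 1 + 1 + 2), ρ a * ρ b = ρ b * ρ a := by
    haveI := CfsgLib.Classical.isSimpleGroup_POmega (CfsgLib.Classical.qPlus (k + 1 + 1 + 2) F)
      (CfsgLib.Classical.polarNondeg_qPlus _) (by rw [Fintype.card_sum, Fintype.card_fin]; omega)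
    let π := QuotientGroup.mk' (Subgroup.center (OG F (k + 1 + 1 + 2)))
    haveI hNn : (N.map π).Normal := (MonoidHom.normal_ker ρ).map π (QuotientGroup.mk'_surjective _)
    rcases hNn.eq_bot_or_eq_top with hb | ht
    · exfalso
      obtain ⟨u₀, hu₀⟩ : ∃ u₀, u₀ = upper (wedge (ev 0) (ev 1) : Matrix (Fin (k + 1 + 1 + 2)) (Fin (k + 1 + 1 + 2)) F) :=
        ⟨_, rfl⟩
      have hc : sieg hq (Multiplicative.ofAdd u₀) ∈ Subgroup.center (OG F (k + 1 + 1 + 2)) := by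
        have := Subgroup.mem_map_of_mem π (hN u₀)
        rw [hb, Subgroup.mem_bot] at this
        exact (QuotientGroup.eq_one_iff _).1 this
      obtain ⟨s, hs0, hs1⟩ := exists_square_ne_one hq
      obtain ⟨D, hD⟩ : ∃ D : Matrix (Fin (k + 1 + 1 + 2)) (Fin (k + 1 + 1 + 2)) F,
          D = diagonal (Fin.cons (s * s) 1) := ⟨_, rfl⟩
      have hdet : D.det = s * s := by rw [hD, det_diagonal, Fin.prod_univ_succ]; simp
      have hcon := levG_conj_sieg hq (GeneralLinearGroup.mkOfDetNeZero D (by rw [hdet]; exact mul_ne_zero hs0 hs0))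
        ⟨s, hdet⟩ u₀
      rw [Subgroup.mem_center_iff.1 hc, mul_left_inj] at hcon
      have he : u₀ = act Dᵀ u₀ := by
        have h2 := congrArg (fun g : OG F (k + 1 + 1 + 2) => fun p : Pair (k + 1 + 1 + 2) =>
          iv g.1 (Pi.single (Sum.inr p.1.2) 1) (Sum.inl p.1.1)) hcon
        refine funext fun p => ?_
        have h3 := congrFun h2 p
        change iv (siegI (Multiplicative.ofAdd _)) _ _ = iv (siegI (Multiplicative.ofAdd _)) _ _ at h3
        rw [iv_siegI, iv_siegI] at h3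
        have e : ∀ φ : Pair (k + 1 + 1 + 2) → F, (mat φ *ᵥ ((Pi.single (Sum.inr p.1.2) 1 :
            Fin (k + 1 + 1 + 2) ⊕ Fin (k + 1 + 1 + 2) → F) ∘ Sum.inr)) p.1.1 = φ p := fun φ => by
          rw [show ((Pi.single (Sum.inr p.1.2) 1 : Fin (k + 1 + 1 + 2) ⊕ Fin (k + 1 + 1 + 2) → F) ∘ Sum.inr) =
            Pi.single p.1.2 1 from funext fun a => by simp [Pi.single_apply], mulVec_single_one]
          exact congrFun (upper_mat φ) p
        simp only [Sum.elim_inl, Pi.add_apply, e, add_right_inj] at h3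
        exact h3
      rw [hD, diagonal_transpose, hu₀, act_wedge, diagonal_transpose] at he
      have he1 := congrFun he ⟨(0, (0 : Fin (k + 1 + 2)).succ), Fin.succ_pos _⟩
      rw [← Fin.succ_zero_eq_one] at he1
      simp only [upper, wedge_apply, mulVec_diagonal, ev, Pi.single_apply, Fin.succ_ne_zero,
        (Fin.succ_ne_zero _).symm, if_true, if_false, Fin.cons_zero, Fin.cons_succ, Pi.one_apply] at he1
      exact hs1 (by simpa using he1.symm)
    · intro a b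
      have key : ∀ g, ∃ z ∈ Subgroup.center (OG F (k + 1 + 1 + 2)), ρ g = ρ z := fun g => by
        have hm : π g ∈ N.map π := by rw [ht]; trivial
        obtain ⟨m, hm, hmg⟩ := hm
        refine ⟨m⁻¹ * g, ?_, ?_⟩
        · exact (QuotientGroup.eq (s := Subgroup.center (OG F (k + 1 + 1 + 2)))).1 hmg
        · rw [map_mul, show ρ m⁻¹ = 1 from N.inv_mem hm, one_mul]
      obtain ⟨z, hz, e⟩ := key a
      rw [e, ← map_mul, ← map_mul, Subgroup.mem_center_iff.1 hz b]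
  have hsc : ∀ a, ∃ c : ℂ, ρ a = c • 1 := fun a => exists_scalar_of_comm ρ fun g => (hcomm g a)
  obtain ⟨v, hv⟩ := exists_ne (0 : V)
  let S : Subrepresentation ρ :=
    { toSubmodule := ℂ ∙ v
      apply_mem_toSubmodule := fun g x hx => by
        obtain ⟨c, hc⟩ := hsc g
        rw [hc, LinearMap.smul_apply, Module.End.one_apply]
        exact Submodule.smul_mem _ c hx }
  rcases IsSimpleOrder.eq_bot_or_eq_top S with hS | hS
  · have hm : v ∈ S.toSubmodule := Submodule.mem_span_singleton_self v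
    rw [hS] at hm
    exact hv hm
  · have h1 : Module.finrank ℂ (ℂ ∙ v) = 1 := finrank_span_singleton hv
    have : (ℂ ∙ v) = (⊤ : Submodule ℂ V) := congrArg Subrepresentation.toSubmodule hS
    rw [this, finrank_top] at h1
    omega

theorem move_pr (A : GL (Fin (k + 1 + 1 + 2)) F) (h : IsSquare A.1.det) (w w' : Pair (k + 1 + 1 + 2) → F)
    (hw : act A.1 w' = w) : ρ (levG hq A h) * pr hq ρ ψ w = pr hq ρ ψ w' * ρ (levG hq A h) := by
  have hdet : A.1ᵀ.det ≠ 0 := by rw [det_transpose]; exact GeneralLinearGroup.det_ne_zero A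
  refine move_av ψ _ ⟨act A.1ᵀ, act A.1ᵀ⁻¹, fun φ => (act_cancel hdet φ).1, fun φ => (act_cancel hdet φ).2⟩
    (fun φ => ?_) fun φ => ?_
  · show ρ (levG hq A h) * ρ (sieg hq _) = ρ (sieg hq _) * ρ (levG hq A h)
    rw [← map_mul, ← map_mul, levG_conj_sieg]
    rfl
  · show act A.1ᵀ φ ⬝ᵥ w' = φ ⬝ᵥ w
    rw [act_dot, hw]

theorem move_lrep (g : SpecialLinearGroup (Fin (k + 1 + 1 + 2)) F) (w w' : Pair (k + 1 + 1 + 2) → F)
    (hw : act g.1 w' = w) : lrep hq ρ g * pr hq ρ ψ w = pr hq ρ ψ w' * lrep hq ρ g :=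
  move_pr hq ρ ψ (SpecialLinearGroup.toGL g) (by show IsSquare g.1.det; rw [g.2]; exact IsSquare.one) w w' hw

theorem trace_pr_moved (A : GL (Fin (k + 1 + 1 + 2)) F) (h : IsSquare A.1.det) (w : Pair (k + 1 + 1 + 2) → F) :
    LinearMap.trace ℂ V (pr hq ρ ψ (act A.1 w)) = LinearMap.trace ℂ V (pr hq ρ ψ w) :=
  trace_eq_of_conj (T := ρ (levG hq A h)) (U := ρ (levG hq A h)⁻¹)
    (by rw [← map_mul, inv_mul_cancel, map_one]) (move_pr hq ρ ψ A h _ w rfl)

/-- The consequences of a small degree. -/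
theorem small_data (hψ : ψ ≠ 1) [ρ.IsIrreducible] (h2 : 2 ≤ Module.finrank ℂ V)
    (hsmall : ((Fintype.card F : ℤ) ^ 2 - 1) * Module.finrank ℂ V <
      ((Fintype.card F : ℤ) ^ (k + 1 + 1 + 2) - 1) * ((Fintype.card F : ℤ) ^ (k + 1 + 2) + Fintype.card F)) :
    (∀ w, w ≠ 0 → w ∉ wedges (k + 1 + 1 + 2) F → pr hq ρ ψ w = 0) ∧
      (∀ w ∈ wedges (k + 1 + 1 + 2) F, LinearMap.trace ℂ V (pr hq ρ ψ w) = 1 ∧
        Module.finrank ℂ (LinearMap.range (pr hq ρ ψ w)) ≤ 1) ∧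
      ((Fintype.card F : ℤ) - 1) * Module.finrank ℂ (LinearMap.range (pr hq ρ ψ 0)) <
        (Fintype.card F : ℤ) ^ (k + 1 + 1 + 2) - 1 := by
  classical
  have hidem : ∀ w, pr hq ρ ψ w * pr hq ρ ψ w = pr hq ρ ψ w := fun w => av_idem ψ _ hψ w
  obtain ⟨d, hd⟩ : ∃ d : (Pair (k + 1 + 1 + 2) → F) → ℕ, ∀ w,
      LinearMap.trace ℂ V (pr hq ρ ψ w) = (d w : ℂ) ∧ Module.finrank ℂ (LinearMap.range (pr hq ρ ψ w)) = d w :=
    ⟨fun w => (exists_trace_nat (hidem w)).choose, fun w => (exists_trace_nat (hidem w)).choose_spec⟩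
  have hsum : ∑ w, d w = Module.finrank ℂ V := by
    have h : LinearMap.trace ℂ V (∑ w, pr hq ρ ψ w) = LinearMap.trace ℂ V 1 :=
      congrArg (LinearMap.trace ℂ V) (sum_av ψ (ρ.comp (sieg (n := k + 1 + 1 + 2) hq)) hψ)
    rw [map_sum, LinearMap.trace_one, Finset.sum_congr rfl (fun w _ => (hd w).1), ← Nat.cast_sum, Nat.cast_inj] at h
    exact h
  have hmove : ∀ (A : GL (Fin (k + 1 + 1 + 2)) F), IsSquare A.1.det → ∀ w, d (act A.1 w) = d w := fun A h w => by
    have := trace_pr_moved hq ρ ψ A h w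
    rw [(hd _).1, (hd _).1, Nat.cast_inj] at this
    exact this
  obtain ⟨Q, hQ⟩ : ∃ Q : ℤ, Q = (Fintype.card F : ℤ) := ⟨_, rfl⟩
  have hQ4 : 4 ≤ Q := by rw [hQ]; exact_mod_cast hq
  have hbig : ∀ w, w ≠ 0 → w ∉ wedges (k + 1 + 1 + 2) F → d w = 0 := by
    intro w hw0 hw
    by_contra hne
    obtain ⟨O, hO, -, hOmem⟩ := exists_big_orbit hq hw0 hw
    have h1 : O.card ≤ Module.finrank ℂ V := by
      rw [← hsum, Finset.card_eq_sum_ones]
      refine (Finset.sum_le_sum fun w' hw' => ?_).trans (Finset.sum_le_univ_sum_of_nonneg fun _ => Nat.zero_le _)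
      obtain ⟨A, hA, rfl⟩ := hOmem w' hw'
      rw [hmove A hA]
      omega
    have h3 : ((2 * ((Fintype.card F ^ (k + 1 + 2) - 1) * Fintype.card F ^ (k + 1 + 1)) : ℕ) : ℤ) ≤
        (Module.finrank ℂ V : ℤ) := by exact_mod_cast hO.trans h1
    push_cast [Nat.one_le_pow _ _ Fintype.card_pos] at h3
    rw [← hQ] at h3 hsmall
    obtain ⟨P, hP⟩ : ∃ P : ℤ, P = Q ^ (k + 1 + 1) := ⟨_, rfl⟩
    rw [show Q ^ (k + 1 + 2) = Q * P by rw [hP]; ring, ← hP] at h3
    rw [show Q ^ (k + 1 + 1 + 2) = Q * (Q * P) by rw [hP]; ring, show Q ^ (k + 1 + 2) = Q * P by rw [hP]; ring] at hsmall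
    have hPQ : Q * Q ≤ P := by
      rw [hP, show Q * Q = Q ^ 2 by ring]; exact pow_le_pow_right₀ (by omega) (by omega)
    have hQ2 : (0 : ℤ) ≤ Q ^ 2 - 1 := by nlinarith
    have h4 := mul_le_mul_of_nonneg_left h3 hQ2
    nlinarith [mul_nonneg (mul_nonneg (show (0 : ℤ) ≤ Q - 4 by omega) (show (0 : ℤ) ≤ Q by omega))
        (mul_self_nonneg P),
      mul_nonneg (show (0 : ℤ) ≤ P - 1 by nlinarith) (show (0 : ℤ) ≤ P by nlinarith),
      mul_le_mul_of_nonneg_left hPQ (show (0 : ℤ) ≤ Q * P by nlinarith),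
      mul_le_mul_of_nonneg_left hQ4 (show (0 : ℤ) ≤ P by nlinarith)]
  obtain ⟨w₀, hw₀, hd₀⟩ : ∃ w₀ ∈ wedges (k + 1 + 1 + 2) F, d w₀ ≠ 0 := by
    by_contra hall
    push Not at hall
    refine sieg_ne_one hq ρ h2 (MonoidHom.ext fun φ => ?_)
    have hz : ∀ w, w ≠ 0 → pr hq ρ ψ w = 0 := fun w hw => eq_zero_of_trace (hidem w) (by
      rw [(hd w).1, Nat.cast_eq_zero]
      by_cases hm : w ∈ wedges (k + 1 + 1 + 2) F
      · exact hall w hm
      · exact hbig w hw hm)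
    have h1 : pr hq ρ ψ 0 = 1 := by
      refine Eq.trans ?_ (sum_av ψ (ρ.comp (sieg (n := k + 1 + 1 + 2) hq)) hψ)
      exact (Finset.sum_eq_single 0 (fun w _ hw => hz w hw) (fun h => absurd (Finset.mem_univ _) h)).symm
    have h3 := apply_mul_av ψ (ρ.comp (sieg (n := k + 1 + 1 + 2) hq)) φ.toAdd 0
    rw [dotProduct_zero, AddChar.map_zero_eq_one, one_smul, show av ψ _ 0 = pr hq ρ ψ 0 from rfl, h1, mul_one] at h3
    exact h3
  have hd1 : ∀ w ∈ wedges (k + 1 + 1 + 2) F, d w = d w₀ := by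
    intro w hw
    obtain ⟨A, hA⟩ := wedges_transitive (k := k + 1) hw
    obtain ⟨B, hB⟩ := wedges_transitive (k := k + 1) hw₀
    have hsq : ∀ C : SpecialLinearGroup (Fin (k + 1 + 1 + 2)) F, IsSquare (SpecialLinearGroup.toGL C).1.det := fun C => by
      show IsSquare C.1.det
      rw [C.2]; exact IsSquare.one
    rw [← hA, ← hB]
    exact (hmove (SpecialLinearGroup.toGL A) (hsq A) _).trans (hmove (SpecialLinearGroup.toGL B) (hsq B) _).symm
  have hle : d 0 + d w₀ * (wedges (k + 1 + 1 + 2) F).card ≤ Module.finrank ℂ V := by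
    rw [← hsum, ← Finset.add_sum_erase _ _ (Finset.mem_univ (0 : Pair (k + 1 + 1 + 2) → F)), mul_comm,
      ← smul_eq_mul, ← Finset.sum_const]
    refine Nat.add_le_add_left (le_of_eq_of_le (Finset.sum_congr rfl fun w hw => (hd1 w hw).symm) ?_) _
    exact Finset.sum_le_sum_of_subset fun w hw => Finset.mem_erase.2 ⟨(mem_wedges.1 hw).1, Finset.mem_univ w⟩
  have hW := card_wedges (F := F) (k + 1 + 2)
  have hle' : (d 0 : ℤ) + d w₀ * (wedges (k + 1 + 1 + 2) F).card ≤ Module.finrank ℂ V := by exact_mod_cast hle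
  rw [← hQ] at hW hsmall ⊢
  obtain ⟨N, hN⟩ : ∃ N : ℤ, N = ((wedges (k + 1 + 1 + 2) F).card : ℤ) := ⟨_, rfl⟩
  rw [← hN] at hle'
  rw [show (wedges (k + 1 + 2 + 1) F).card = (wedges (k + 1 + 1 + 2) F).card from rfl, ← hN,
    show Q ^ (k + 1 + 2 + 1) = Q ^ (k + 1 + 1 + 2) from rfl] at hW
  obtain ⟨R, hR⟩ : ∃ R : ℤ, R = Q ^ (k + 1 + 2) := ⟨_, rfl⟩
  have hRQ : Q * Q ≤ R := by
    rw [hR, show Q * Q = Q ^ 2 by ring]; exact pow_le_pow_right₀ (by omega) (by omega)
  obtain ⟨M, hM⟩ : ∃ M : ℤ, M = Q ^ (k + 1 + 1 + 2) := ⟨_, rfl⟩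
  have hM1 : 1 < M := by rw [hM]; exact one_lt_pow₀ (by omega) (by omega)
  rw [← hR, ← hM] at hW hsmall
  rw [← hM]
  have hQ2 : (0 : ℤ) ≤ Q ^ 2 - 1 := by nlinarith
  have hl := mul_le_mul_of_nonneg_left hle' hQ2
  have hd0 : (1 : ℤ) ≤ d w₀ := by exact_mod_cast Nat.one_le_iff_ne_zero.2 hd₀
  have hdw : d w₀ = 1 := by
    by_contra hne
    have h3 : (2 : ℤ) ≤ d w₀ := by omega
    have hN0 : 0 ≤ (Q ^ 2 - 1) * N := mul_nonneg hQ2 (hN ▸ Nat.cast_nonneg _)
    have e1 : 2 * ((Q ^ 2 - 1) * N) ≤ (d w₀ : ℤ) * ((Q ^ 2 - 1) * N) := mul_le_mul_of_nonneg_right h3 hN0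
    have e2 : (M - 1) * (Q + 1) < (M - 1) * (R - 1) := mul_lt_mul_of_pos_left (by nlinarith) (by omega)
    have e3 : 0 ≤ (Q ^ 2 - 1) * (d 0 : ℤ) := mul_nonneg hQ2 (Nat.cast_nonneg _)
    have e4 : (Q ^ 2 - 1) * ((d 0 : ℤ) + d w₀ * N) = (Q ^ 2 - 1) * (d 0 : ℤ) + (d w₀ : ℤ) * ((Q ^ 2 - 1) * N) := by ring
    have e5 : (M - 1) * (R + Q) = (M - 1) * (R - 1) + (M - 1) * (Q + 1) := by ring
    linarith
  refine ⟨fun w h0 h => eq_zero_of_trace (hidem w) (by rw [(hd w).1, hbig w h0 h, Nat.cast_zero]), fun w hw => ?_, ?_⟩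
  · rw [(hd w).1, (hd w).2, hd1 w hw, hdw, Nat.cast_one]
    exact ⟨rfl, le_rfl⟩
  · rw [(hd 0).2]
    rw [hdw, Nat.cast_one] at hl
    have h5 : (Q + 1) * ((Q - 1) * d 0) < (Q + 1) * (M - 1) := by nlinarith
    exact lt_of_mul_lt_mul_left h5 (by omega)

/-- A transvection fixing a weight of rank two is trivial on it. -/
theorem lam {w : Pair (k + 1 + 1 + 2) → F} (hψ : ψ ≠ 1) (hw : w ∈ wedges (k + 1 + 1 + 2) F)
    (hfix : act (tv (ev (0 : Fin (k + 1 + 1 + 2))) (ev 1)).1 w = w)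
    (h1 : Module.finrank ℂ (LinearMap.range (pr hq ρ ψ w)) ≤ 1) (c : F) :
    lrep hq ρ (tv (ev 0) (c • ev 1)) * pr hq ρ ψ w = pr hq ρ ψ w := by
  obtain ⟨A, t, ht, hsq, hA, hcom⟩ := fixed_torus hq hw hfix
  obtain ⟨p, hp⟩ : ∃ p, p = pr hq ρ ψ w := ⟨_, rfl⟩
  have hall : ∀ c : F, act (tv (ev (0 : Fin (k + 1 + 1 + 2))) (c • ev 1)).1 w = w := by
    intro c
    have hrow := (act_tv_fixed_iff w).1 hfix
    funext q
    rw [← congrFun (upper_mat (act (tv (ev (0 : Fin (k + 1 + 1 + 2))) (c • ev 1)).1 w)) q, ← congrFun (upper_mat w) q]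
    obtain ⟨⟨i, j⟩, hij⟩ := q
    show mat _ i j = mat w i j
    rw [act_entry, tv_mulVec (ev_dot_ne (by simp) c), tv_mulVec (ev_dot_ne (by simp) c)]
    simp only [smul_dotProduct, dot_ev, mulVec_add, mulVec_smul, dotProduct_add, dotProduct_smul, add_dotProduct,
      ev_form, mat_diag, smul_eq_mul]
    obtain ⟨b, rfl⟩ := Fin.exists_succ_eq.2 (ne_of_gt (lt_of_le_of_lt (Fin.zero_le i) hij))
    rcases eq_or_ne b 0 with rfl | hb
    · have hi : i = 0 := by
        have h1 : i.1 < 1 := hij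
        exact Fin.ext (show i.1 = 0 by omega)
      subst hi
      simp [ev, mat_diag]
    · have hb1 : b.succ ≠ (1 : Fin (k + 1 + 1 + 2)) := by
        rw [← Fin.succ_zero_eq_one, Ne, Fin.succ_inj]; exact hb
      have h0 := hrow b hb
      rw [row_eq_mat] at h0
      simp [ev, hb1, h0]
  have hT : ∀ c : F, lrep hq ρ (tv (ev 0) (c • ev 1)) * p = p * lrep hq ρ (tv (ev 0) (c • ev 1)) := fun c =>
    hp ▸ move_lrep hq ρ ψ _ w w (hall c)
  have hAp : ρ (levG hq A hsq) * p = p * ρ (levG hq A hsq) := hp ▸ move_pr hq ρ ψ A hsq w w hA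
  have key : ∀ c : F, lrep hq ρ (tv (ev 0) ((t * c) • ev 1)) * p = lrep hq ρ (tv (ev 0) (c • ev 1)) * p := by
    intro c
    have hc : ρ (levG hq A hsq) * lrep hq ρ (tv (ev 0) (c • ev 1)) =
        lrep hq ρ (tv (ev 0) ((t * c) • ev 1)) * ρ (levG hq A hsq) := by
      show ρ _ * ρ (levS hq _) = ρ (levS hq _) * ρ _
      rw [← map_mul, ← map_mul]
      refine congrArg ρ (Subtype.ext ?_)
      show lev A * lev (SpecialLinearGroup.toGL _) = lev (SpecialLinearGroup.toGL _) * lev A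
      rw [← map_mul, ← map_mul]
      exact congrArg lev (Units.ext (hcom c))
    have h3 := rank_one_comm (hp ▸ av_idem ψ _ hψ w : p * p = p) (hp ▸ h1) hAp (hT c)
    rw [hc, mul_assoc, mul_assoc, hAp, ← mul_assoc, ← mul_assoc] at h3
    have h4 := congrArg (· * ρ (levG hq A hsq)⁻¹) h3
    simpa [mul_assoc, ← map_mul] using h4
  have h5 := key (c / (t - 1))
  rw [show t * (c / (t - 1)) = c + c / (t - 1) by field_simp [sub_ne_zero.2 ht]; ring, add_smul,
    ← tv_mul (ev_dot_ne (by simp) _) (ev_dot_ne (by simp) _), map_mul, mul_assoc, hT (c / (t - 1)), ← mul_assoc] at h5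
  rw [← hp]
  calc lrep hq ρ (tv (ev 0) (c • ev 1)) * p
      = lrep hq ρ (tv (ev 0) (c • ev 1)) * p * (lrep hq ρ (tv (ev 0) ((c / (t - 1)) • ev 1)) *
          lrep hq ρ (tv (ev 0) ((c / (t - 1)) • ev 1))⁻¹) := by rw [← map_mul, mul_inv_cancel, map_one, mul_one]
    _ = p * lrep hq ρ (tv (ev 0) ((c / (t - 1)) • ev 1)) * lrep hq ρ (tv (ev 0) ((c / (t - 1)) • ev 1))⁻¹ := by
          rw [← mul_assoc, h5]
    _ = p := by rw [mul_assoc, ← map_mul, mul_inv_cancel, map_one, mul_one]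

end Rep

end CfsgLib.MinDegree.PlusWts
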