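import Mathlib
import Cfsg.Agent.Lib.MinDegree.PlusWeights
import Cfsg.Agent.Lib.MinDegree.SLExact

/-!
The bound for the degrees of the plus type orthogonal commutator groups.
-/

namespace CfsgLib.MinDegree.PlusBd

open Matrix Cfsg SLAvg SLTv SLOps SLWts SLBound SLExact PlusAlt PlusSiegel PlusPoint PlusWts

universe u w

variable {F : Type u} [Field F] [Fintype F] [DecidableEq F] {k : ℕ}
variable {V : Type w} [AddCommGroup V] [Module ℂ V] [FiniteDimensional ℂ V]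

theorem act_zero_vec (A : Matrix (Fin (k + 1 + 1 + 2)) (Fin (k + 1 + 1 + 2)) F) :
    act A (0 : Pair (k + 1 + 1 + 2) → F) = 0 := by
  funext p; simp [act, mat_zero, upper]

theorem act_smul_vec (A : Matrix (Fin (k + 1 + 1 + 2)) (Fin (k + 1 + 1 + 2)) F) (c : F)
    (w : Pair (k + 1 + 1 + 2) → F) : act A (c • w) = c • act A w := by
  funext p; simp [act, mat_smul, upper]

/-- The standard weight. -/
def u01 (k : ℕ) (F : Type u) [Field F] : Pair (k + 1 + 1 + 2) → F := upper (wedge (ev 0) (ev 1))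

theorem u01_single : u01 k F = Pi.single ⟨(0, (0 : Fin (k + 1 + 2)).succ), Fin.succ_pos _⟩ 1 := wedge_ev01

theorem dot_u01 (w : Pair (k + 1 + 1 + 2) → F) : u01 k F ⬝ᵥ w = PlusAlt.row w 0 := by
  rw [u01_single, single_dotProduct, one_mul]; rfl

theorem upper_wedge_smul_left (c : F) (u v : Fin (k + 1 + 1 + 2) → F) :
    upper (wedge (c • u) v) = c • upper (wedge u v) := by
  funext p
  simp [upper, wedge_apply]
  ring

theorem upper_wedge_swap (u v : Fin (k + 1 + 1 + 2) → F) : upper (wedge u v) = -upper (wedge v u) := by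
  funext p; simp [upper, wedge_apply]

theorem upper_wedge_smul_right (c : F) (u v : Fin (k + 1 + 1 + 2) → F) :
    upper (wedge u (c • v)) = c • upper (wedge u v) := by
  funext p
  simp [upper, wedge_apply]
  ring

theorem upper_wedge_add_left (u u' v : Fin (k + 1 + 1 + 2) → F) :
    upper (wedge (u + u') v) = upper (wedge u v) + upper (wedge u' v) := by
  funext p
  simp [upper, wedge_apply]
  ring

theorem upper_wedge_add_right (u v v' : Fin (k + 1 + 1 + 2) → F) :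
    upper (wedge u (v + v')) = upper (wedge u v) + upper (wedge u v') := by
  funext p
  simp [upper, wedge_apply]
  ring

theorem upper_wedge_self (u : Fin (k + 1 + 1 + 2) → F) : upper (wedge u u) = 0 := by
  funext p; simp [upper, wedge_apply]

theorem tv0_transpose (d : F) : ((tv (ev 0) (d • ev 1) : SpecialLinearGroup (Fin (k + 1 + 1 + 2)) F).1)ᵀ =
    (tv (ev 1) (d • ev 0) : SpecialLinearGroup (Fin (k + 1 + 1 + 2)) F).1 := by
  rw [tv_val (ev_dot_ne (by simp) d), tv_val (ev_dot_ne (by simp) d), transpose_add, transpose_one,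
    transpose_vecMulVec, smul_vecMulVec, vecMulVec_smul]

theorem tv1_transpose (d : F) : ((tv (ev 1) (d • ev 0) : SpecialLinearGroup (Fin (k + 1 + 1 + 2)) F).1)ᵀ =
    (tv (ev 0) (d • ev 1) : SpecialLinearGroup (Fin (k + 1 + 1 + 2)) F).1 := by
  rw [← tv0_transpose, transpose_transpose]

theorem act_u01_tv0 (d : F) : act (tv (ev 0) (d • ev 1) : SpecialLinearGroup (Fin (k + 1 + 1 + 2)) F).1 (u01 k F) =
    u01 k F := by
  rw [u01, act_wedge, tv0_transpose, tv_mulVec (ev_dot_ne (by simp) d), tv_mulVec (ev_dot_ne (by simp) d)]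
  simp [dot_ev, upper_wedge_add_left, upper_wedge_smul_left, upper_wedge_self, ev]

theorem act_u01_tv1 (d : F) : act (tv (ev 1) (d • ev 0) : SpecialLinearGroup (Fin (k + 1 + 1 + 2)) F).1 (u01 k F) =
    u01 k F := by
  rw [u01, act_wedge, tv1_transpose, tv_mulVec (ev_dot_ne (by simp) d), tv_mulVec (ev_dot_ne (by simp) d)]
  simp [dot_ev, upper_wedge_add_right, upper_wedge_smul_right, upper_wedge_self, ev]

theorem xa_u01 {g : SpecialLinearGroup (Fin (k + 1 + 1 + 2)) F} (hg : g ∈ Xa k F) :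
    act g.1 (u01 k F) = u01 k F ∧ act g.1ᵀ (u01 k F) = u01 k F := by
  induction hg using Subgroup.closure_induction with
  | mem x hx =>
    rcases hx with ⟨c, rfl⟩ | ⟨c, rfl⟩
    · exact ⟨act_u01_tv0 c, by rw [tv0_transpose]; exact act_u01_tv1 c⟩
    · exact ⟨act_u01_tv1 c, by rw [tv1_transpose]; exact act_u01_tv0 c⟩
  | one => exact ⟨act_one _, by rw [show (1 : SpecialLinearGroup (Fin (k + 1 + 1 + 2)) F).1 = 1 from rfl, transpose_one]; exact act_one _⟩
  | mul x y _ _ hx hy =>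
    rw [show (x * y).1 = x.1 * y.1 from rfl, transpose_mul, act_mul, act_mul, hx.1, hy.1, hy.2, hx.2]
    exact ⟨rfl, rfl⟩
  | inv x _ hx =>
    constructor
    · conv_lhs => rw [← hx.1, ← act_mul, show x.1 * (x⁻¹).1 = 1 from congrArg Subtype.val (mul_inv_cancel x), act_one]
    · conv_lhs => rw [← hx.2, ← act_mul, ← transpose_mul,
        show (x⁻¹).1 * x.1 = 1 from congrArg Subtype.val (inv_mul_cancel x), transpose_one, act_one]

theorem tv_smul_swap (c : F) {v φ : Fin (k + 1 + 1 + 2) → F} (h : φ ⬝ᵥ v = 0) :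
    tv v (c • φ) = tv (c • v) φ := by
  refine sl_ext fun x => ?_
  rw [tv_mulVec (by rw [smul_dotProduct, h, smul_zero]), tv_mulVec (by rw [dotProduct_smul, h, smul_zero]),
    smul_dotProduct, smul_comm, smul_assoc]

/-- The elements fixing the first vector and the first row. -/
def Blk (k : ℕ) (F : Type u) [Field F] [Fintype F] [DecidableEq F] :
    Subgroup (SpecialLinearGroup (Fin (k + 1 + 1 + 2)) F) where
  carrier := {g | (g : SpecialLinearGroup (Fin (k + 1 + 1 + 2)) F) ∈ Row0F k F ∧ g.1 *ᵥ ev 0 = ev 0}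
  mul_mem' := by
    rintro g h ⟨hg, hg'⟩ ⟨hh, hh'⟩
    exact ⟨(Row0F k F).mul_mem hg hh, by rw [show (g * h).1 = g.1 * h.1 from rfl, ← mulVec_mulVec, hh', hg']⟩
  one_mem' := ⟨(Row0F k F).one_mem, one_mulVec _⟩
  inv_mem' := by
    rintro g ⟨hg, hg'⟩
    refine ⟨(Row0F k F).inv_mem hg, ?_⟩
    conv_lhs => rw [← hg']
    rw [mulVec_mulVec, show (g⁻¹).1 * g.1 = 1 from congrArg Subtype.val (inv_mul_cancel g), one_mulVec]

theorem row0F_decomp {g : SpecialLinearGroup (Fin (k + 1 + 1 + 2)) F} (hg : g ∈ Row0F k F) :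
    ∃ (v : Fin (k + 1 + 1 + 2) → F) (g' : SpecialLinearGroup (Fin (k + 1 + 1 + 2)) F),
      v 0 = 0 ∧ g' ∈ Blk k F ∧ g = tv v (ev 0) * g' ∧ (g ∈ Row01 k F → v 1 = 0 ∧ g' ∈ Row01 k F) := by
  obtain ⟨v, hv⟩ : ∃ v, v = g.1 *ᵥ ev 0 - ev 0 := ⟨_, rfl⟩
  have he : ∀ (j : Fin (k + 1 + 1 + 2)) (y : Fin (k + 1 + 1 + 2) → F), (ev j : Fin (k + 1 + 1 + 2) → F) ⬝ᵥ y = y j :=
    fun j y => by rw [dotProduct_comm, dot_ev]
  have hv0 : v 0 = 0 := by
    rw [hv, Pi.sub_apply, ← he 0 (g.1 *ᵥ ev 0), dotProduct_mulVec, hg, he]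
    simp [ev]
  have hd : (ev 0 : Fin (k + 1 + 1 + 2) → F) ⬝ᵥ v = 0 := (he 0 v).trans hv0
  have hd' : (ev 0 : Fin (k + 1 + 1 + 2) → F) ⬝ᵥ (-v) = 0 := by rw [dotProduct_neg, hd, neg_zero]
  have hinv : tv v (ev 0) * tv (-v) (ev 0) = 1 := by
    refine sl_ext fun x => ?_
    rw [sl_mul_mulVec, tv_mulVec hd', tv_mulVec hd, dotProduct_add, dotProduct_smul, dotProduct_neg, hd, neg_zero,
      smul_zero, add_zero, show ((1 : SpecialLinearGroup (Fin (k + 1 + 1 + 2)) F)).1 *ᵥ x = x from one_mulVec x]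
    module
  have hrow : ∀ j : Fin (k + 1 + 1 + 2), v j = 0 → (ev j : Fin (k + 1 + 1 + 2) → F) ᵥ* g.1 = ev j →
      (ev j : Fin (k + 1 + 1 + 2) → F) ᵥ* (tv (-v) (ev 0) * g).1 = ev j := fun j hj hgj => by
    rw [show (tv (-v) (ev 0) * g).1 = (tv (-v) (ev 0)).1 * g.1 from rfl, ← vecMul_vecMul, vecMul_tv hd', he,
      Pi.neg_apply, hj, neg_zero, zero_smul, add_zero, hgj]
  refine ⟨v, tv (-v) (ev 0) * g, hv0, ⟨hrow 0 hv0 hg, ?_⟩, by rw [← mul_assoc, hinv, one_mul], fun h => ?_⟩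
  · rw [show (tv (-v) (ev 0) * g).1 = (tv (-v) (ev 0)).1 * g.1 from rfl, ← mulVec_mulVec, tv_mulVec hd',
      dotProduct_mulVec, hg, he, show (ev 0 : Fin (k + 1 + 1 + 2) → F) 0 = 1 from Pi.single_eq_same _ _, one_smul, hv]
    abel
  · have hv1 : v 1 = 0 := by
      rw [hv, Pi.sub_apply, ← he 1 (g.1 *ᵥ ev 0), dotProduct_mulVec, h.2, he]
      simp [ev]
    exact ⟨hv1, hrow 0 hv0 hg, hrow 1 hv1 h.2⟩

theorem axis_mem {v : Fin (k + 1 + 1 + 2) → F} (hv : v 0 = 0) :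
    tv v (ev 0) ∈ Row0F k F ∧ (v 1 = 0 → tv v (ev 0) ∈ Row01 k F) := by
  have hd : (ev 0 : Fin (k + 1 + 1 + 2) → F) ⬝ᵥ v = 0 := by rw [dotProduct_comm, dot_ev, hv]
  have h : ∀ j : Fin (k + 1 + 1 + 2), v j = 0 →
      (ev j : Fin (k + 1 + 1 + 2) → F) ᵥ* (tv v (ev 0)).1 = ev j := fun j hj => by
    rw [vecMul_tv hd, dotProduct_comm, dot_ev, hj, zero_smul, add_zero]
  exact ⟨h 0 hv, fun h1 => ⟨h 0 hv, h 1 h1⟩⟩

theorem sumK_range_apply {U : Submodule ℂ V} (σ : Representation ℂ (SpecialLinearGroup (Fin (k + 1 + 1 + 2)) F) U)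
    (τ : Representation ℂ (SpecialLinearGroup (Fin (k + 1 + 1 + 2)) F) V) (h : ∀ g (v : U), (σ g v).1 = τ g v.1)
    (K : Subgroup (SpecialLinearGroup (Fin (k + 1 + 1 + 2)) F)) (v : U) : (sumK σ K v).1 = sumK τ K v.1 := by
  simp only [sumK, LinearMap.sum_apply, Submodule.coe_sum, h]

section Rep

variable (hq : 3 < Fintype.card F) (ρ : Representation ℂ (OG F (k + 1 + 1 + 2)) V) (ψ : AddChar F ℂ)

/-- Vectors fixed by the Siegel subgroup. -/
def UFix (v : V) : Prop := ∀ φ : Pair (k + 1 + 1 + 2) → F, ρ (sieg hq (Multiplicative.ofAdd φ)) v = v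

/-- The representation twisted by a reflection. -/
noncomputable def twRep : Representation ℂ (OG F (k + 1 + 1 + 2)) V :=
  ρ.comp (tw (0 : Fin (k + 1 + 1 + 2))).toMonoidHom

theorem ufix_iff (hψ : ψ ≠ 1) (v : V) : UFix hq ρ v ↔ pr hq ρ ψ 0 v = v := by
  constructor
  · intro h
    have h' : ∀ φ, (ρ.comp (sieg hq)) (Multiplicative.ofAdd φ) v = v := h
    rw [pr, av_zero, LinearMap.smul_apply, LinearMap.sum_apply, Finset.sum_congr rfl (fun φ _ => h' φ),
      Finset.sum_const, Finset.card_univ, ← Nat.cast_smul_eq_nsmul ℂ, smul_smul,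
      inv_mul_cancel₀ (Nat.cast_ne_zero.2 Fintype.card_ne_zero), one_smul]
  · intro h φ
    have h1 := apply_mul_av ψ (ρ.comp (sieg (n := k + 1 + 1 + 2) hq)) φ 0
    rw [dotProduct_zero, AddChar.map_zero_eq_one, one_smul] at h1
    have h2 := LinearMap.congr_fun h1 v
    rw [Module.End.mul_apply] at h2
    rw [show av ψ (ρ.comp (sieg (n := k + 1 + 1 + 2) hq)) 0 v = v from h] at h2
    exact h2

/-- The Levi subgroup is not trivial on the Siegel fixed space. -/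
theorem levi_ne_one (hψ : ψ ≠ 1) (hbig : ∀ w, w ≠ 0 → w ∉ wedges (k + 1 + 1 + 2) F → pr hq ρ ψ w = 0)
    (h1 : ∀ w ∈ wedges (k + 1 + 1 + 2) F, LinearMap.trace ℂ V (pr hq ρ ψ w) = 1 ∧
      Module.finrank ℂ (LinearMap.range (pr hq ρ ψ w)) ≤ 1) :
    ¬ ∀ g, lrep hq ρ g * pr hq ρ ψ 0 = pr hq ρ ψ 0 := by
  classical
  intro htriv
  obtain ⟨T, hT⟩ : ∃ T : SpecialLinearGroup (Fin (k + 1 + 1 + 2)) F, T = tv (ev 0) (ev 1) := ⟨_, rfl⟩
  obtain ⟨g, hg⟩ : ∃ g : OG F (k + 1 + 1 + 2), g.1 = sI (0 : Fin (k + 1 + 1)).succ.succ * sI 1 :=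
    ⟨⟨_, sI_pair_mem 1 (0 : Fin (k + 1 + 1)).succ.succ⟩, rfl⟩
  have hconj : g * levS hq T = sieg hq (Multiplicative.ofAdd (u01 k F)) * g := by
    have e1 : tw (1 : Fin (k + 1 + 1 + 2)) (levS hq T) = sieg hq (Multiplicative.ofAdd (u01 k F)) := by
      rw [hT]
      exact tw_levS_axis hq (1 : Fin (k + 1 + 1 + 2)) (v := ev 0) (by simp [ev])
    have e2 : tw (0 : Fin (k + 1 + 1)).succ.succ (sieg hq (Multiplicative.ofAdd (u01 k F))) =
        sieg hq (Multiplicative.ofAdd (u01 k F)) := by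
      refine tw_sieg_off hq _ fun i => ?_
      rw [u01, mat_upper_wedge, wedge_apply]
      have h20 : (0 : Fin (k + 1 + 1)).succ.succ ≠ (0 : Fin (k + 1 + 1 + 2)) := Fin.succ_ne_zero _
      have h21 : (0 : Fin (k + 1 + 1)).succ.succ ≠ (1 : Fin (k + 1 + 1 + 2)) := fun h => by
        rw [← Fin.succ_zero_eq_one, Fin.succ_inj] at h; exact Fin.succ_ne_zero _ h
      generalize (0 : Fin (k + 1 + 1)).succ.succ = t at h20 h21 ⊢
      simp [ev, h20, h21]
    refine mul_inv_eq_iff_eq_mul.1 (Subtype.ext ?_)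
    conv_rhs => rw [← e2, ← e1, tw_val, tw_val]
    rw [Subgroup.coe_mul, Subgroup.coe_mul, Subgroup.coe_inv, hg, _root_.mul_inv_rev, sI_inv, sI_inv]
    simp only [mul_assoc]
  have htr := trace_eq_of_conj (T := ρ g) (U := ρ g⁻¹) (by rw [← map_mul, inv_mul_cancel, map_one])
    (show ρ g * ρ (levS hq T) = ρ (sieg hq (Multiplicative.ofAdd (u01 k F))) * ρ g by
      rw [← map_mul, ← map_mul, hconj])
  have hsum := sum_av ψ (ρ.comp (sieg (n := k + 1 + 1 + 2) hq)) hψ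
  rw [← mul_one (ρ (levS hq T)), ← mul_one (ρ (sieg hq _)), ← hsum, Finset.mul_sum, Finset.mul_sum, map_sum,
    map_sum] at htr
  refine balance_ne_zero ψ hψ (k := k) ?_
  rw [← sub_eq_zero, ← Finset.sum_sub_distrib] at htr
  rw [← neg_eq_zero, ← Finset.sum_neg_distrib]
  refine Eq.trans ?_ htr
  refine Finset.sum_subset_zero_on_sdiff (Finset.subset_univ _) (fun w hw => ?_) (fun w hw => ?_)
  · rw [Finset.mem_sdiff] at hw
    rcases eq_or_ne w 0 with rfl | hw0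
    · show LinearMap.trace ℂ V (lrep hq ρ T * pr hq ρ ψ 0) -
        LinearMap.trace ℂ V ((ρ.comp (sieg hq)) (Multiplicative.ofAdd (u01 k F)) * av ψ _ 0) = 0
      rw [htriv, apply_mul_av, dotProduct_zero, AddChar.map_zero_eq_one, one_smul]
      exact sub_self _
    · show LinearMap.trace ℂ V (_ * pr hq ρ ψ w) - LinearMap.trace ℂ V (_ * pr hq ρ ψ w) = 0
      rw [hbig w hw0 hw.2, mul_zero, mul_zero, sub_self]
  · have e2 : LinearMap.trace ℂ V ((ρ.comp (sieg hq)) (Multiplicative.ofAdd (u01 k F)) *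
        av ψ (ρ.comp (sieg hq)) w) = ψ (PlusAlt.row w 0) := by
      rw [apply_mul_av, map_smul, show av ψ (ρ.comp (sieg hq)) w = pr hq ρ ψ w from rfl, (h1 w hw).1, smul_eq_mul,
        mul_one, dot_u01]
    have e1 : LinearMap.trace ℂ V (lrep hq ρ T * pr hq ρ ψ w) =
        if act (tv (ev (0 : Fin (k + 1 + 1 + 2))) (ev 1)).1 w = w then (1 : ℂ) else 0 := by
      have hm := move_lrep hq ρ ψ T w (act (T⁻¹).1 w) (by
        rw [← act_mul, show (T⁻¹).1 * T.1 = 1 from congrArg Subtype.val (inv_mul_cancel T), act_one])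
      split_ifs with hf
      · have hl := lam hq ρ ψ hψ hw hf (h1 w hw).2 1
        rw [one_smul, ← hT] at hl
        rw [hl, (h1 w hw).1]
      · refine trace_moved (av_idem ψ _ hψ w) ?_ hm
        rw [pr, pr, av_mul_av ψ _ hψ, if_neg]
        intro h
        refine hf ?_
        rw [← hT]
        conv_lhs => rw [h, ← act_mul, show (T⁻¹).1 * T.1 = 1 from congrArg Subtype.val (inv_mul_cancel T), act_one]
    show -(ψ (PlusAlt.row w 0) - _) = LinearMap.trace ℂ V (lrep hq ρ T * pr hq ρ ψ w) -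
      LinearMap.trace ℂ V ((ρ.comp (sieg hq)) (Multiplicative.ofAdd (u01 k F)) * av ψ (ρ.comp (sieg hq)) w)
    rw [e1, e2, neg_sub]

/-- A vector which spans the line fixed by the stabiliser of the first row. -/
structure Point (y : V) : Prop where
  ne : y ≠ 0
  fixU : UFix hq ρ y
  fixS : ∀ g ∈ Row0 k F, lrep hq ρ g y = y
  sums_in : ∀ g ∈ inS k F, sumK (lrep hq ρ) (Row0F k F) (lrep hq ρ g y) = (Nat.card (Row0F k F) : ℂ) • y
  sums_out : ∀ g ∉ inS k F, sumK (lrep hq ρ) (Row0F k F) (lrep hq ρ g y) =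
    (-(((inS k F).card : ℂ) / ((Finset.univ \ inS k F).card : ℂ))) • ((Nat.card (Row0F k F) : ℂ) • y)
  only : ∀ v, UFix hq ρ v → (∀ g ∈ Row0F k F, lrep hq ρ g v = v) → ∃ c : ℂ, v = c • y
  line : ∀ v, UFix hq ρ v → (∀ g ∈ Row01 k F, lrep hq ρ g v = v) → (∀ g ∈ Xa k F, lrep hq ρ g v = v) →
    (∀ g ∈ Row01 k F, lrep hq ρ g (sumK (lrep hq ρ) (Xa k F) y) = sumK (lrep hq ρ) (Xa k F) y) →
    ∃ c : ℂ, v = c • sumK (lrep hq ρ) (Xa k F) y

theorem Point.smul {y : V} (h : Point hq ρ y) {c : ℂ} (hc : c ≠ 0) : Point hq ρ (c • y) where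
  ne := smul_ne_zero hc h.ne
  fixU φ := by rw [map_smul, h.fixU φ]
  fixS g hg := by rw [map_smul, h.fixS g hg]
  sums_in g hg := by rw [map_smul, map_smul, h.sums_in g hg, smul_comm]
  sums_out g hg := by rw [map_smul, map_smul, h.sums_out g hg, smul_comm c, smul_comm c]
  only v hv hv' := by
    obtain ⟨d, hd⟩ := h.only v hv hv'
    exact ⟨d / c, by rw [smul_smul, div_mul_cancel₀ _ hc, hd]⟩
  line v hv hv1 hv2 hp := by
    have e : sumK (lrep hq ρ) (Xa k F) y = c⁻¹ • sumK (lrep hq ρ) (Xa k F) (c • y) := by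
      rw [map_smul, inv_smul_smul₀ hc]
    obtain ⟨d, hd⟩ := h.line v hv hv1 hv2 fun g hg => by rw [e, map_smul, hp g hg]
    exact ⟨d / c, by rw [map_smul, smul_smul, div_mul_cancel₀ _ hc, hd]⟩

/-- A small representation has a point vector. -/
theorem exists_point [ρ.IsIrreducible] (h2 : 2 ≤ Module.finrank ℂ V)
    (hsmall : ((Fintype.card F : ℤ) ^ 2 - 1) * Module.finrank ℂ V <
      ((Fintype.card F : ℤ) ^ (k + 1 + 1 + 2) - 1) * ((Fintype.card F : ℤ) ^ (k + 1 + 2) + Fintype.card F))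
    (hψ : ψ ≠ 1) : ∃ y : V, Point hq ρ y := by
  classical
  obtain ⟨hbig, h1, hc⟩ := small_data hq ρ ψ hψ h2 hsmall
  obtain ⟨C, hC⟩ : ∃ C : Submodule ℂ V, C = LinearMap.range (pr hq ρ ψ 0) := ⟨_, rfl⟩
  rw [← hC] at hc
  have hidem : pr hq ρ ψ 0 * pr hq ρ ψ 0 = pr hq ρ ψ 0 := av_idem ψ _ hψ 0
  have hmem : ∀ v, v ∈ C ↔ pr hq ρ ψ 0 v = v := fun v => by
    rw [hC]
    exact ⟨by rintro ⟨x, rfl⟩; exact LinearMap.congr_fun hidem x, fun h => ⟨v, h⟩⟩
  have hcomm : ∀ g, lrep hq ρ g * pr hq ρ ψ 0 = pr hq ρ ψ 0 * lrep hq ρ g := fun g =>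
    move_lrep hq ρ ψ g 0 0 (act_zero_vec _)
  let τ : Representation ℂ (SpecialLinearGroup (Fin (k + 1 + 1 + 2)) F) C :=
    { toFun := fun g => (lrep hq ρ g).restrict (fun v hv => by
        rw [hmem] at hv ⊢
        rw [← Module.End.mul_apply, ← hcomm, Module.End.mul_apply, hv])
      map_one' := LinearMap.ext fun v => Subtype.ext (by simp)
      map_mul' := fun g h => LinearMap.ext fun v => Subtype.ext (by simp) }
  have hτv : ∀ g (v : C), (τ g v).1 = lrep hq ρ g v.1 := fun g v => rfl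
  have hτ : τ ≠ 1 := fun h => levi_ne_one hq ρ ψ hψ hbig h1 fun g => LinearMap.ext fun x => by
    rw [Module.End.mul_apply]
    have := congrArg Subtype.val
      (LinearMap.congr_fun (DFunLike.congr_fun h g) ⟨pr hq ρ ψ 0 x, (hmem _).2 (LinearMap.congr_fun hidem x)⟩)
    exact this
  have hex : (k + 1 = 0 → Fintype.card F ≠ 2 ∧ Fintype.card F ≠ 4) ∧
      (k + 1 = 1 → Fintype.card F ≠ 2 ∧ Fintype.card F ≠ 3) := by omega
  obtain ⟨Q, hQ⟩ : ∃ Q : ℤ, Q = (Fintype.card F : ℤ) := ⟨_, rfl⟩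
  have hQ4 : 4 ≤ Q := by rw [hQ]; exact_mod_cast hq
  rw [← hQ] at hc
  obtain ⟨N, hN⟩ : Q - 1 ∣ Q ^ (k + 1 + 1 + 2) - Q := by
    have := sub_one_dvd_pow_sub_one Q (k + 1 + 1 + 2)
    rw [show Q ^ (k + 1 + 1 + 2) - Q = (Q ^ (k + 1 + 1 + 2) - 1) - (Q - 1) by ring]
    exact dvd_sub this dvd_rfl
  have hlow : ∀ {W : Type w} [AddCommGroup W] [Module ℂ W] [FiniteDimensional ℂ W]
      (σ : Representation ℂ (SpecialLinearGroup (Fin (k + 1 + 1 + 2)) F) W), σ ≠ 1 →
      N ≤ (Module.finrank ℂ W : ℤ) := by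
    intro W _ _ _ σ hσ
    have h := sl_bound_of_ne_one (l := k + 1) hex σ hσ
    rw [← hQ] at h
    rw [hN] at h
    exact le_of_mul_le_mul_left h (by omega)
  have hcN : (Module.finrank ℂ C : ℤ) ≤ N := by
    by_contra hlt
    push Not at hlt
    have h5 : (Q - 1) * (N + 1) ≤ (Q - 1) * Module.finrank ℂ C := mul_le_mul_of_nonneg_left (by omega) (by omega)
    linarith
  haveI hirr : τ.IsIrreducible := irreducible_of_minimal (sl_commutator (k + 1) F) τ hτ
    (fun U σ hσ => by exact_mod_cast hcN.trans (hlow σ hσ)) (fun U σ hσ => by exact_mod_cast hcN.trans (hlow σ hσ))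
  haveI := irreducible_comp τ (dualHom (k + 1 + 1 + 2) F) (dualHom_surjective _)
  have hτ' : τ.comp (dualHom (k + 1 + 1 + 2) F) ≠ 1 := fun h => hτ (MonoidHom.ext fun g => by
    obtain ⟨g', rfl⟩ := dualHom_surjective _ g
    exact DFunLike.congr_fun h g')
  have hexact : ((Fintype.card F : ℤ) - 1) * Module.finrank ℂ C =
      (Fintype.card F : ℤ) ^ (k + 1 + 1 + 2) - Fintype.card F := by
    rw [← hQ, hN, le_antisymm hcN (hlow τ hτ)]
  obtain ⟨y, hy0, hy⟩ := exists_point_fixed (l := k) (V := C) (by omega) (τ.comp (dualHom (k + 1 + 1 + 2) F)) hτ' hexact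
  have hfix : ∀ g ∈ Row0 k F, τ g y = y := by
    intro g hg
    obtain ⟨a, ha⟩ := (Row0 k F).inv_mem hg
    have hdd : dualHom (k + 1 + 1 + 2) F (dualHom (k + 1 + 1 + 2) F g) = g := Subtype.ext (by
      show (Matrix.adjugate (Matrix.adjugate g.1)ᵀ)ᵀ = g.1
      rw [← Matrix.adjugate_transpose, transpose_transpose]
      exact congrArg Subtype.val (inv_inv g))
    have h3 := hy (dualHom (k + 1 + 1 + 2) F g) a (by
      show ((g⁻¹).1)ᵀ *ᵥ ev 0 = a • ev 0
      rw [mulVec_transpose, ha])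
    rwa [MonoidHom.comp_apply, hdd] at h3
  obtain ⟨hin, hout, honly⟩ := row0F_data τ hτ hy0 hfix
  have hsum := fun K (v : C) => sumK_range_apply τ (lrep hq ρ) hτv K v
  have hU : ∀ v, UFix hq ρ v ↔ v ∈ C := fun v => (ufix_iff hq ρ ψ hψ v).trans (hmem v).symm
  refine ⟨y.1, ⟨fun h => hy0 (Subtype.ext h), (hU _).2 y.2, fun g hg => congrArg Subtype.val (hfix g hg),
    fun g hg => ?_, fun g hg => ?_, fun v hv hv' => ?_, fun v hv hv1 hv2 hp => ?_⟩⟩
  · rw [← hτv, ← hsum]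
    exact congrArg Subtype.val (hin g hg)
  · rw [← hτv, ← hsum]
    exact congrArg Subtype.val (hout g hg)
  · obtain ⟨c, hc'⟩ := honly ⟨v, (hU v).1 hv⟩ fun g hg => Subtype.ext (hv' g hg)
    exact ⟨c, congrArg Subtype.val hc'⟩
  · obtain ⟨c, hc'⟩ := line_fixed τ hτ hy0 hfix (p := sumK τ (Xa k F) y) rfl (v := ⟨v, (hU v).1 hv⟩)
      (fun g hg => Subtype.ext (by rw [hτv, hsum]; exact hp g hg)) (fun g hg => Subtype.ext (hv1 g hg))
      (fun g hg => Subtype.ext (hv2 g hg))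
    refine ⟨c, ?_⟩
    rw [← hsum]
    exact congrArg Subtype.val hc'

end Rep

section Pencil

variable (hq : 3 < Fintype.card F) (ρ : Representation ℂ (OG F (k + 1 + 1 + 2)) V)

/-- Fixed by the stabiliser of the first two rows. -/
def RFix (v : V) : Prop := ∀ g ∈ Row01 k F, lrep hq ρ g v = v

/-- Fixed by the first block. -/
def XFix (v : V) : Prop := ∀ g ∈ Xa k F, lrep hq ρ g v = v

theorem twRep_twRep : twRep (twRep ρ) = ρ :=
  MonoidHom.ext fun g => by
    show ρ (tw _ (tw _ g)) = ρ g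
    rw [tw_tw]

theorem ufix_lrep {v : V} (hv : UFix hq ρ v) (g : SpecialLinearGroup (Fin (k + 1 + 1 + 2)) F) :
    UFix hq ρ (lrep hq ρ g v) := by
  intro φ
  obtain ⟨χ, hχ⟩ : ∃ χ, χ = act ((g⁻¹).1)ᵀ φ := ⟨_, rfl⟩
  have h : act g.1ᵀ χ = φ := by
    rw [hχ, ← act_mul, ← transpose_mul, show g.1 * (g⁻¹).1 = 1 from congrArg Subtype.val (mul_inv_cancel g),
      transpose_one, act_one]
  show ρ _ (ρ (levS hq g) v) = ρ (levS hq g) v
  rw [← h, ← Module.End.mul_apply, ← map_mul, ← levS_conj_sieg, map_mul, Module.End.mul_apply, hv χ]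

theorem ufix_sumK {v : V} (hv : UFix hq ρ v) (K : Subgroup (SpecialLinearGroup (Fin (k + 1 + 1 + 2)) F)) :
    UFix hq ρ (sumK (lrep hq ρ) K v) := by
  intro φ
  letI := Fintype.ofFinite K
  simp only [sumK, LinearMap.sum_apply, map_sum]
  exact Finset.sum_congr rfl fun g _ => ufix_lrep hq ρ hv g.1 φ

theorem rfix_lrep {v : V} (hv : RFix hq ρ v) {x : SpecialLinearGroup (Fin (k + 1 + 1 + 2)) F} (hx : x ∈ Xa k F) :
    RFix hq ρ (lrep hq ρ x v) := by
  intro g hg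
  rw [← Module.End.mul_apply, ← map_mul, show g * x = x * (x⁻¹ * g * x) by simp [mul_assoc], map_mul,
    Module.End.mul_apply, hv _ (xa_normalise hx g hg)]

theorem rfix_sumK {v : V} (hv : RFix hq ρ v) : RFix hq ρ (sumK (lrep hq ρ) (Xa k F) v) := by
  intro g hg
  letI := Fintype.ofFinite (Xa k F)
  simp only [sumK, LinearMap.sum_apply, map_sum]
  exact Finset.sum_congr rfl fun x _ => rfix_lrep hq ρ hv x.2 g hg

theorem xfix_sumK (v : V) : XFix hq ρ (sumK (lrep hq ρ) (Xa k F) v) := fun _ hg =>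
  (sumK_apply_mem (lrep hq ρ) _ hg v).2

theorem xfix_of_gens {v : V} (h0 : ∀ c : F, lrep hq ρ (tv (ev 0) (c • ev 1)) v = v)
    (h1 : ∀ c : F, lrep hq ρ (tv (ev 1) (c • ev 0)) v = v) : XFix hq ρ v := by
  intro g hg
  induction hg using Subgroup.closure_induction with
  | mem x hx =>
    rcases hx with ⟨c, rfl⟩ | ⟨c, rfl⟩
    · exact h0 c
    · exact h1 c
  | one => rw [map_one, Module.End.one_apply]
  | mul x y _ _ hx hy => rw [map_mul, Module.End.mul_apply, hy, hx]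
  | inv x _ hx =>
    conv_lhs => rw [← hx]
    rw [← Module.End.mul_apply, ← map_mul, inv_mul_cancel, map_one, Module.End.one_apply]

theorem axis_fixed {v : V} (hR : RFix hq ρ v) (hX : XFix hq ρ v) {x : Fin (k + 1 + 1 + 2) → F} (hx : x 0 = 0) :
    lrep hq ρ (tv x (ev 0)) v = v := by
  obtain ⟨y, hy⟩ : ∃ y, y = x - x 1 • ev 1 := ⟨_, rfl⟩
  have hy0 : y 0 = 0 := by rw [hy]; simp [hx, ev]
  have hy1 : y 1 = 0 := by rw [hy]; simp [ev]
  have hd : ∀ z : Fin (k + 1 + 1 + 2) → F, z 0 = 0 → (ev 0 : Fin (k + 1 + 1 + 2) → F) ⬝ᵥ z = 0 := fun z hz => by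
    rw [dotProduct_comm, dot_ev, hz]
  have h10 : (ev 0 : Fin (k + 1 + 1 + 2) → F) ⬝ᵥ ev 1 = 0 := hd _ (by simp [ev])
  have he : tv x (ev 0) = tv y (ev 0) * tv (ev 1) (x 1 • ev 0) := by
    refine sl_ext fun z => ?_
    rw [sl_mul_mulVec, tv_mulVec (hd _ hx), tv_mulVec (ev_dot_ne (by simp) _), tv_mulVec (hd _ hy0), dotProduct_add,
      dotProduct_smul, h10, smul_zero, add_zero, hy, smul_dotProduct]
    module
  rw [he, map_mul, Module.End.mul_apply, hX _ (tv1_mem _), hR _ ((axis_mem hy0).2 hy1)]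

theorem tw_blk {g : SpecialLinearGroup (Fin (k + 1 + 1 + 2)) F} (hg : g ∈ Blk k F) :
    tw (0 : Fin (k + 1 + 1 + 2)) (levS hq g) = levS hq g := by
  refine tw_levS_off hq _ (fun i => ?_) (fun i => ?_)
  · have h := congrFun (hg.1 : (ev 0 : Fin (k + 1 + 1 + 2) → F) ᵥ* g.1 = ev 0) i
    rw [ev, single_one_vecMul] at h
    rw [Matrix.one_apply]
    simpa [Pi.single_apply, eq_comm] using h
  · have h := congrFun hg.2 i
    rw [ev, mulVec_single_one] at h
    rw [Matrix.one_apply]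
    simpa [Pi.single_apply] using h

theorem tw_axis {x : Fin (k + 1 + 1 + 2) → F} (hx : x 0 = 0) :
    tw (0 : Fin (k + 1 + 1 + 2)) (levS hq (tv x (ev 0))) = sieg hq (Multiplicative.ofAdd (upper (wedge x (ev 0)))) :=
  tw_levS_axis hq _ hx

theorem twLev_blk {g : SpecialLinearGroup (Fin (k + 1 + 1 + 2)) F} (hg : g ∈ Blk k F) :
    lrep hq (twRep ρ) g = lrep hq ρ g :=
  congrArg ρ (tw_blk hq hg)

theorem twLev_axis {x : Fin (k + 1 + 1 + 2) → F} (hx : x 0 = 0) :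
    lrep hq (twRep ρ) (tv x (ev 0)) = ρ (sieg hq (Multiplicative.ofAdd (upper (wedge x (ev 0))))) :=
  congrArg ρ (tw_axis hq hx)

theorem twLev_row0F {v : V} (hU : UFix hq ρ v) {g : SpecialLinearGroup (Fin (k + 1 + 1 + 2)) F}
    (hg : g ∈ Row0F k F) (h : ∀ g' ∈ Blk k F, (g ∈ Row01 k F → g' ∈ Row01 k F) → lrep hq ρ g' v = v) :
    lrep hq (twRep ρ) g v = v := by
  obtain ⟨x, g', hx, hg', e, h01⟩ := row0F_decomp hg
  rw [e, map_mul, Module.End.mul_apply, twLev_blk hq ρ hg', h g' hg' (fun hh => (h01 hh).2), twLev_axis hq ρ hx, hU]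

theorem tw_rfix {v : V} (hU : UFix hq ρ v) (hR : RFix hq ρ v) : RFix hq (twRep ρ) v := fun _ hg =>
  twLev_row0F hq ρ hU hg.1 fun g' _ h => hR g' (h hg)

theorem exists_split (φ : Pair (k + 1 + 1 + 2) → F) : ∃ (χ : Pair (k + 1 + 1 + 2) → F) (x : Fin (k + 1 + 1 + 2) → F),
    x 0 = 0 ∧ φ = χ + upper (wedge x (ev 0)) ∧ (∀ i, mat χ 0 i = 0) ∧ x 1 = -PlusAlt.row φ 0 := by
  obtain ⟨x, hx⟩ : ∃ x : Fin (k + 1 + 1 + 2) → F, x = Fin.cons 0 fun j => -PlusAlt.row φ j := ⟨_, rfl⟩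
  refine ⟨φ - upper (wedge x (ev 0)), x, by rw [hx]; rfl, (sub_add_cancel _ _).symm, fun i => ?_, by
    rw [hx, ← Fin.succ_zero_eq_one, Fin.cons_succ]⟩
  have h := congrArg mat (sub_add_cancel φ (upper (wedge x (ev 0))))
  rw [mat_add, mat_upper_wedge] at h
  have h' := congrFun (congrFun h 0) i
  rw [Matrix.add_apply, wedge_apply] at h'
  refine Fin.cases (fun h' => ?_) (fun j h' => ?_) i h'
  · exact mat_diag _ _
  · rw [← row_eq_mat φ] at h'
    simp [ev, hx, Fin.succ_ne_zero] at h' ⊢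
    exact h'

theorem twU_split {φ χ : Pair (k + 1 + 1 + 2) → F} {x : Fin (k + 1 + 1 + 2) → F} (hx : x 0 = 0)
    (e : φ = χ + upper (wedge x (ev 0))) (hχ : ∀ i, mat χ 0 i = 0) :
    tw (0 : Fin (k + 1 + 1 + 2)) (sieg hq (Multiplicative.ofAdd φ)) =
      sieg hq (Multiplicative.ofAdd χ) * levS hq (tv x (ev 0)) := by
  rw [e, ofAdd_add, map_mul, map_mul, tw_sieg_off hq _ hχ, ← tw_axis hq hx, tw_tw]

theorem tw_ufix {v : V} (hU : UFix hq ρ v)
    (hA : ∀ x : Fin (k + 1 + 1 + 2) → F, x 0 = 0 → lrep hq ρ (tv x (ev 0)) v = v) : UFix hq (twRep ρ) v := by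
  intro φ
  obtain ⟨χ, x, hx, e, hχ, -⟩ := exists_split φ
  show ρ (tw _ (sieg hq _)) v = v
  rw [twU_split hq hx e hχ, map_mul, Module.End.mul_apply, show ρ (levS hq (tv x (ev 0))) v = v from hA x hx, hU]

/-- The properties of the sum over the first block. -/
theorem sum_props {y : V} (hy : Point hq ρ y) :
    UFix hq ρ (sumK (lrep hq ρ) (Xa k F) y) ∧ RFix hq ρ (sumK (lrep hq ρ) (Xa k F) y) ∧
      UFix hq (twRep ρ) (sumK (lrep hq ρ) (Xa k F) y) ∧ RFix hq (twRep ρ) (sumK (lrep hq ρ) (Xa k F) y) := by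
  have hU := ufix_sumK hq ρ hy.fixU (Xa k F)
  have hR := rfix_sumK hq ρ (fun g hg => hy.fixS g (row0F_le (row01_le hg)) : RFix hq ρ y)
  exact ⟨hU, hR, tw_ufix hq ρ hU fun x hx => axis_fixed hq ρ hR (xfix_sumK hq ρ y) hx, tw_rfix hq ρ hU hR⟩

/-- The factor of the sum over the first block. -/
noncomputable def lamc (k : ℕ) (F : Type u) [Field F] [Fintype F] [DecidableEq F] : ℂ :=
  haveI : DecidablePred fun x => x ∈ (Xa k F : Set (SpecialLinearGroup (Fin (k + 1 + 1 + 2)) F)) := fun _ => _root_.Classical.propDecidable _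
  ((((Finset.univ : Finset (SpecialLinearGroup (Fin (k + 1 + 1 + 2)) F)).filter
      fun x => x ∈ inS k F ∧ x ∈ (Xa k F : Set _)).card : ℕ) : ℂ) -
    ((((Finset.univ : Finset (SpecialLinearGroup (Fin (k + 1 + 1 + 2)) F)).filter
      fun x => x ∉ inS k F ∧ x ∈ (Xa k F : Set _)).card : ℕ) : ℂ) *
      (((inS k F).card : ℂ) / ((Finset.univ \ inS k F).card : ℂ))

theorem lamc_eq (k : ℕ) (F : Type u) [Field F] [Fintype F] [DecidableEq F]
    [DecidablePred fun x => x ∈ (Xa k F : Set (SpecialLinearGroup (Fin (k + 1 + 1 + 2)) F))] : lamc k F =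
  ((((Finset.univ : Finset (SpecialLinearGroup (Fin (k + 1 + 1 + 2)) F)).filter
      fun x => x ∈ inS k F ∧ x ∈ (Xa k F : Set _)).card : ℕ) : ℂ) -
    ((((Finset.univ : Finset (SpecialLinearGroup (Fin (k + 1 + 1 + 2)) F)).filter
      fun x => x ∉ inS k F ∧ x ∈ (Xa k F : Set _)).card : ℕ) : ℂ) *
      (((inS k F).card : ℂ) / ((Finset.univ \ inS k F).card : ℂ)) := by
  rw [lamc]
  congr!

theorem lamc_ne (k : ℕ) (F : Type u) [Field F] [Fintype F] [DecidableEq F] :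
    lamc k F ≠ (Nat.card (Xa k F) : ℂ) ∧ 2 * lamc k F ≠ (Nat.card (Xa k F) : ℂ) := by
  classical
  obtain ⟨A, hA⟩ : ∃ A, A = (Finset.univ : Finset (SpecialLinearGroup (Fin (k + 1 + 1 + 2)) F)).filter
      fun x => x ∈ inS k F ∧ x ∈ (Xa k F : Set _) := ⟨_, rfl⟩
  obtain ⟨B, hB⟩ : ∃ B, B = (Finset.univ : Finset (SpecialLinearGroup (Fin (k + 1 + 1 + 2)) F)).filter
      fun x => x ∉ inS k F ∧ x ∈ (Xa k F : Set _) := ⟨_, rfl⟩
  have hX : (Nat.card (Xa k F) : ℂ) = ((A.card + B.card : ℕ) : ℂ) := by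
    rw [Nat.card_eq_fintype_card, ← Finset.card_union_of_disjoint, Fintype.card_subtype]
    · congr 2
      rw [hA, hB]
      ext x
      simp only [Finset.mem_filter, Finset.mem_univ, true_and, Finset.mem_union, SetLike.mem_coe]
      tauto
    · rw [hA, hB, Finset.disjoint_filter]
      exact fun x _ h h' => h'.1 h.1
  have hl : lamc k F = (A.card : ℂ) - (B.card : ℂ) * (((inS k F).card : ℂ) / ((Finset.univ \ inS k F).card : ℂ)) := by
    rw [hA, hB, lamc_eq]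
  obtain ⟨t, htX, htS⟩ : ∃ t, t ∈ Xa k F ∧ t ∉ Row0 k F := ⟨_, tv0_mem 1, tv0_not_row0⟩
  have hmem : ∀ x, x ∈ inS k F ↔ x ∈ Row0 k F := fun x => by simp [inS]
  have hAB : A.card ≤ B.card := Finset.card_le_card_of_injOn (t * ·) (fun x hx => by
    rw [hA, Finset.coe_filter] at hx
    rw [hB, Finset.coe_filter]
    refine ⟨Finset.mem_univ _, fun h => htS ?_, (Xa k F).mul_mem htX hx.2.2⟩
    have := (Row0 k F).mul_mem ((hmem _).1 h) ((Row0 k F).inv_mem ((hmem _).1 hx.2.1))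
    rwa [mul_inv_cancel_right] at this) (mul_right_injective t).injOn
  have hA0 : 0 < A.card := Finset.card_pos.2 ⟨1, by
    rw [hA]; exact Finset.mem_filter.2 ⟨Finset.mem_univ _, (hmem 1).2 (Row0 k F).one_mem, (Xa k F).one_mem⟩⟩
  have hNi : 0 < (inS k F).card := Finset.card_pos.2 ⟨1, (hmem 1).2 (Row0 k F).one_mem⟩
  have hNo : 0 < (Finset.univ \ inS k F).card := Finset.card_pos.2
    ⟨t, Finset.mem_sdiff.2 ⟨Finset.mem_univ _, fun h => htS ((hmem t).1 h)⟩⟩
  have hNoC : ((Finset.univ \ inS k F).card : ℂ) ≠ 0 := Nat.cast_ne_zero.2 hNo.ne'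
  rw [hl, hX]
  constructor <;> intro h <;> field_simp at h <;> push_cast at h
  · have h' : B.card * ((Finset.univ \ inS k F).card + (inS k F).card) = 0 := by
      refine Nat.cast_injective (R := ℂ) ?_
      push_cast
      linear_combination -h
    rw [Nat.mul_eq_zero] at h'
    omega
  · have h' : A.card * (Finset.univ \ inS k F).card =
        B.card * ((Finset.univ \ inS k F).card + 2 * (inS k F).card) := by
      refine Nat.cast_injective (R := ℂ) ?_
      push_cast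
      linear_combination h
    nlinarith

theorem sumBlk_sum {y : V} (hy : Point hq ρ y) :
    sumK (lrep hq ρ) (Blk k F) (sumK (lrep hq ρ) (Xa k F) y) = ((Nat.card (Blk k F) : ℂ) * lamc k F) • y := by
  classical
  obtain ⟨hU, hR, -, -⟩ := sum_props hq ρ hy
  obtain ⟨L, hL⟩ : ∃ L, L = lrep hq ρ := ⟨_, rfl⟩
  obtain ⟨p, hp⟩ : ∃ p, p = sumK (lrep hq ρ) (Xa k F) y := ⟨_, rfl⟩
  rw [← hp] at hU hR ⊢
  rw [← hL]
  have hfix : ∀ g ∈ Row0F k F, L g (sumK L (Blk k F) p) = sumK L (Blk k F) p := by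
    intro g hg
    obtain ⟨x, g', hx, hg', e, -⟩ := row0F_decomp hg
    rw [e, map_mul, Module.End.mul_apply, (sumK_apply_mem L _ hg' p).2]
    letI := Fintype.ofFinite (Blk k F)
    simp only [sumK, LinearMap.sum_apply, map_sum]
    refine Finset.sum_congr rfl fun h _ => ?_
    obtain ⟨z, hz⟩ : ∃ z, z = ((h.1)⁻¹).1 *ᵥ x := ⟨_, rfl⟩
    have hhz : h.1.1 *ᵥ z = x := by
      rw [hz, mulVec_mulVec, show h.1.1 * ((h.1)⁻¹).1 = 1 from congrArg Subtype.val (mul_inv_cancel h.1), one_mulVec]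
    have hrow : ∀ u, (ev 0 : Fin (k + 1 + 1 + 2) → F) ⬝ᵥ (h.1.1 *ᵥ u) = (ev 0 : Fin (k + 1 + 1 + 2) → F) ⬝ᵥ u := fun u => by
      rw [dotProduct_mulVec, h.2.1]
    have hz0 : z 0 = 0 := by
      have := hrow z
      rw [hhz, dotProduct_comm, dot_ev, hx, dotProduct_comm, dot_ev] at this
      exact this.symm
    have hconj : tv x (ev 0) * h.1 = h.1 * tv z (ev 0) := by
      refine (mul_tv h.1 (by rw [dotProduct_comm, dot_ev, hz0]) (by rw [dotProduct_comm, dot_ev, hx]) fun u => ?_).symm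
      rw [hhz, hrow]
    rw [← Module.End.mul_apply, ← map_mul, hconj, map_mul, Module.End.mul_apply,
      show L (tv z (ev 0)) p = p by rw [hL]; exact axis_fixed hq ρ hR (hp ▸ xfix_sumK hq ρ y) hz0]
  obtain ⟨c, hc⟩ := hy.only (sumK L (Blk k F) p) (hL ▸ ufix_sumK hq ρ hU _) (hL ▸ hfix)
  have h1 := congrArg (sumK L (Row0F k F)) hc
  rw [map_smul, sumK_fixed L (Row0F k F) (v := y) (fun g hg => by rw [hL]; exact hy.fixS g (row0F_le hg))] at h1
  have h2 : sumK L (Row0F k F) (sumK L (Blk k F) p) = (Nat.card (Blk k F) : ℂ) • sumK L (Row0F k F) p := by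
    letI := Fintype.ofFinite (Blk k F)
    rw [sumK.eq_1 L (Blk k F), LinearMap.sum_apply, map_sum,
      Finset.sum_congr rfl (fun (h : Blk k F) _ => (sumK_apply_mem L (Row0F k F) h.2.1 p).1), Finset.sum_const,
      Finset.card_univ, Nat.card_eq_fintype_card, Nat.cast_smul_eq_nsmul]
  have h3 : sumK L (Row0F k F) p = (lamc k F * (Nat.card (Row0F k F) : ℂ)) • y := by
    letI := Fintype.ofFinite (Xa k F)
    rw [hp, ← hL, sumK.eq_1 L (Xa k F), LinearMap.sum_apply, map_sum,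
      ← Finset.sum_subtype (Finset.univ.filter fun x => x ∈ (Xa k F : Set _)) (by simp)
        (fun x => sumK L (Row0F k F) (L x y)),
      ← Finset.sum_filter_add_sum_filter_not (Finset.univ.filter fun x => x ∈ (Xa k F : Set _)) (· ∈ inS k F),
      Finset.sum_congr rfl (fun x (hx : x ∈ (Finset.univ.filter fun x => x ∈ (Xa k F : Set _)).filter (· ∈ inS k F)) =>
        (hL.symm ▸ hy.sums_in x (Finset.mem_filter.1 hx).2 : sumK L (Row0F k F) (L x y) = _)),
      Finset.sum_congr rfl (fun x (hx : x ∈ (Finset.univ.filter fun x => x ∈ (Xa k F : Set _)).filter (· ∉ inS k F)) =>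
        (hL.symm ▸ hy.sums_out x (Finset.mem_filter.1 hx).2 : sumK L (Row0F k F) (L x y) = _)),
      Finset.sum_const, Finset.sum_const, ← Nat.cast_smul_eq_nsmul ℂ, ← Nat.cast_smul_eq_nsmul ℂ, smul_smul,
      smul_smul, smul_smul, ← add_smul]
    congr 1
    rw [lamc_eq, Finset.filter_filter, Finset.filter_filter,
      Finset.filter_congr (q := fun x => x ∈ inS k F ∧ x ∈ (Xa k F : Set _)) (fun x _ => and_comm),
      Finset.filter_congr (q := fun x => x ∉ inS k F ∧ x ∈ (Xa k F : Set _)) (fun x _ => and_comm)]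
    ring
  rw [h2, h3, smul_smul, smul_smul] at h1
  have h4 := smul_left_injective ℂ hy.ne h1
  rw [hc]
  congr 1
  refine mul_right_cancel₀ (Nat.cast_ne_zero.2 (Nat.card_pos (α := Row0F k F)).ne') ?_
  linear_combination -h4

theorem blocks_commute {x x' : SpecialLinearGroup (Fin (k + 1 + 1 + 2)) F} (hx : x ∈ Xa k F) (hx' : x' ∈ Xa k F) :
    levS hq x * tw (0 : Fin (k + 1 + 1 + 2)) (levS hq x') = tw (0 : Fin (k + 1 + 1 + 2)) (levS hq x') * levS hq x := by
  have h01 : (ev 1 : Fin (k + 1 + 1 + 2) → F) 0 = 0 := by simp [ev]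
  induction hx' using Subgroup.closure_induction with
  | mem y hy =>
    rcases hy with ⟨c, rfl⟩ | ⟨c, rfl⟩
    · show levS hq x * tw (0 : Fin (k + 1 + 1 + 2)) (levS hq (tv (ev 0) (c • ev 1))) =
        tw (0 : Fin (k + 1 + 1 + 2)) (levS hq (tv (ev 0) (c • ev 1))) * levS hq x
      rw [show tw (0 : Fin (k + 1 + 1 + 2)) (levS hq (tv (ev 0) (c • ev 1))) =
        sieg' hq (Multiplicative.ofAdd (c • u01 k F)) by
          rw [u01, ← upper_wedge_smul_right]; exact tw_levS_centre hq _ (by simp [ev]),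
        levS_conj_sieg', act_smul_vec, show x.1⁻¹ = (x⁻¹).1 from inv_eq_right_inv
          (congrArg Subtype.val (mul_inv_cancel x)), (xa_u01 ((Xa k F).inv_mem hx)).1]
    · show levS hq x * tw (0 : Fin (k + 1 + 1 + 2)) (levS hq (tv (ev 1) (c • ev 0))) =
        tw (0 : Fin (k + 1 + 1 + 2)) (levS hq (tv (ev 1) (c • ev 0))) * levS hq x
      rw [tv_smul_swap c (by rw [dot_ev]; simp [ev]), tw_axis hq (by simp [h01]), upper_wedge_smul_left,
        upper_wedge_swap, smul_neg, ← neg_smul, show upper (wedge (ev 0) (ev 1)) = u01 k F from rfl, levS_conj_sieg,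
        act_smul_vec, (xa_u01 hx).2]
  | one => rw [map_one, map_one, mul_one, one_mul]
  | mul a b _ _ ha hb => rw [map_mul, map_mul, ← mul_assoc, ha, mul_assoc, hb, mul_assoc]
  | inv a _ ha =>
    rw [map_inv, map_inv]
    exact (Commute.inv_right ha : Commute _ _)

theorem sums_commute (v : V) :
    sumK (lrep hq ρ) (Xa k F) (sumK (lrep hq (twRep ρ)) (Xa k F) v) =
      sumK (lrep hq (twRep ρ)) (Xa k F) (sumK (lrep hq ρ) (Xa k F) v) := by
  letI := Fintype.ofFinite (Xa k F)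
  simp only [sumK, LinearMap.sum_apply, map_sum]
  rw [Finset.sum_comm]
  refine Finset.sum_congr rfl fun a _ => Finset.sum_congr rfl fun b _ => ?_
  have h := congrArg ρ (blocks_commute hq a.2 b.2)
  rw [map_mul, map_mul] at h
  exact LinearMap.congr_fun h v

theorem weight_supported (ψ : AddChar F ℂ) (hψ : ψ ≠ 1) {v : V}
    (hv : ∀ φ : Pair (k + 1 + 1 + 2) → F, PlusAlt.row φ 0 = 0 → ρ (sieg hq (Multiplicative.ofAdd φ)) v = v)
    (w : Pair (k + 1 + 1 + 2) → F) (hw : pr hq ρ ψ w v ≠ 0) : w = PlusAlt.row w 0 • u01 k F := by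
  classical
  obtain ⟨c, hc⟩ : ∃ c, ψ c ≠ 1 := by
    by_contra h
    push Not at h
    exact hψ (DFunLike.ext _ _ fun x => (h x).trans (AddChar.one_apply x).symm)
  funext p
  rw [u01_single, Pi.smul_apply, smul_eq_mul]
  by_cases hp : p = ⟨(0, (0 : Fin (k + 1 + 2)).succ), Fin.succ_pos _⟩
  · subst hp
    rw [Pi.single_eq_same, mul_one]
    rfl
  · rw [Pi.single_eq_of_ne hp, mul_zero]
    by_contra hne
    have hrow : PlusAlt.row (Pi.single p (c / w p) : Pair (k + 1 + 1 + 2) → F) 0 = 0 := Pi.single_eq_of_ne (Ne.symm hp) _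
    have h := LinearMap.congr_fun (av_mul_apply ψ (ρ.comp (sieg (n := k + 1 + 1 + 2) hq)) (Pi.single p (c / w p)) w) v
    rw [Module.End.mul_apply, LinearMap.smul_apply, MonoidHom.comp_apply, hv _ hrow, single_dotProduct,
      div_mul_cancel₀ _ hne] at h
    exact hc ((smul_left_injective ℂ hw (h.symm.trans (one_smul ℂ _).symm)))

/-- The contradiction of the two point vectors. -/
theorem not_two_points (ψ : AddChar F ℂ) (hψ : ψ ≠ 1)
    (h1 : ∀ w ∈ wedges (k + 1 + 1 + 2) F, Module.finrank ℂ (LinearMap.range (pr hq ρ ψ w)) ≤ 1)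
    {y : V} (hy : Point hq ρ y) (hy' : Point hq (twRep ρ) y) : False := by
  classical
  obtain ⟨p, hp⟩ : ∃ p, p = sumK (lrep hq ρ) (Xa k F) y := ⟨_, rfl⟩
  obtain ⟨p', hp'⟩ : ∃ p', p' = sumK (lrep hq (twRep ρ)) (Xa k F) y := ⟨_, rfl⟩
  obtain ⟨X, hX⟩ : ∃ X : ℂ, X = (Nat.card (Xa k F) : ℂ) := ⟨_, rfl⟩
  obtain ⟨hpU, hpR, hpU', hpR'⟩ := hp ▸ sum_props hq ρ hy
  obtain ⟨-, -, hp'U, hp'R⟩ := hp' ▸ sum_props hq (twRep ρ) hy'
  rw [twRep_twRep] at hp'U hp'R
  obtain ⟨ga, hga⟩ : ∃ ga : SpecialLinearGroup (Fin (k + 1 + 1 + 2)) F,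
      ga = tv (ev 0) ((1 : F) • ev 1) * tv (ev 1) ((-1 : F) • ev 0) * tv (ev 0) ((1 : F) • ev 1) := ⟨_, rfl⟩
  have hgaX : ga ∈ Xa k F := hga ▸ (Xa k F).mul_mem ((Xa k F).mul_mem (tv0_mem _) (tv1_mem _)) (tv0_mem _)
  have hgconj : ∀ c : F, tv (ev 1) ((-c) • ev 0) * ga = ga * tv (ev 0) (c • ev 1) := by
    intro c
    refine sl_ext fun x => ?_
    simp only [hga, sl_mul_mulVec, tv_mulVec (ev_dot_ne (by simp : (0 : Fin (k + 1 + 1 + 2)) ≠ 1) _),
      tv_mulVec (ev_dot_ne (by simp : (1 : Fin (k + 1 + 1 + 2)) ≠ 0) _), smul_dotProduct, dotProduct_add,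
      dotProduct_smul, dotProduct_comm (ev 0) x, dotProduct_comm (ev 1) x, dot_ev]
    simp only [ev, Pi.single_eq_same, Pi.single_eq_of_ne (by simp : (0 : Fin (k + 1 + 1 + 2)) ≠ 1),
      Pi.single_eq_of_ne (by simp : (1 : Fin (k + 1 + 1 + 2)) ≠ 0), smul_eq_mul]
    module
  obtain ⟨L', hL'⟩ : ∃ L', L' = lrep hq (twRep ρ) := ⟨_, rfl⟩
  have hyR' : RFix hq (twRep ρ) y := fun g hg => hy'.fixS g (row0F_le (row01_le hg))
  -- the translate of the point is fixed by the smaller Siegel group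
  have hv : ∀ φ : Pair (k + 1 + 1 + 2) → F, PlusAlt.row φ 0 = 0 →
      ρ (sieg hq (Multiplicative.ofAdd φ)) (L' ga y) = L' ga y := by
    intro φ hφ
    obtain ⟨χ, x, hx, e, hχ, hx1⟩ := exists_split φ
    rw [hφ, neg_zero] at hx1
    rw [e, ofAdd_add, map_mul, map_mul, Module.End.mul_apply, hL']
    have e1 := twLev_axis hq ρ hx
    rw [← e1, rfix_lrep hq (twRep ρ) hyR' hgaX _ ((axis_mem hx).2 hx1)]
    have e2 : ρ (sieg hq (Multiplicative.ofAdd χ)) = (twRep ρ) (sieg hq (Multiplicative.ofAdd χ)) :=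
      congrArg ρ (tw_sieg_off hq _ hχ).symm
    rw [e2]
    exact ufix_lrep hq (twRep ρ) hy'.fixU ga χ
  obtain ⟨v, hv'⟩ : ∃ v, v = L' ga y := ⟨_, rfl⟩
  rw [← hv'] at hv
  -- the weights of the translate
  obtain ⟨D, hD⟩ : ∃ D : Module.End ℂ V, D = X • (1 : Module.End ℂ V) - sumK (lrep hq ρ) (Xa k F) := ⟨_, rfl⟩
  have hkill : ∀ w, w ≠ 0 → D (pr hq ρ ψ w v) = 0 := by
    intro w hw0
    rcases eq_or_ne (pr hq ρ ψ w v) 0 with hz | hz
    · rw [hz, map_zero]
    obtain ⟨r, hr⟩ : ∃ r, r = PlusAlt.row w 0 := ⟨_, rfl⟩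
    have hwr : w = r • u01 k F := hr ▸ weight_supported hq ρ ψ hψ hv w hz
    have hmem : w ∈ wedges (k + 1 + 1 + 2) F := mem_wedges.2 ⟨hw0, r • ev 0, ev 1, by
      rw [hwr, upper_wedge_smul_left]; rfl⟩
    have hfix : act (tv (ev (0 : Fin (k + 1 + 1 + 2))) (ev 1)).1 w = w := by
      have h := act_u01_tv0 (k := k) (F := F) 1
      rw [one_smul] at h
      rw [hwr, act_smul_vec, h]
    have h0 : ∀ c : F, lrep hq ρ (tv (ev 0) (c • ev 1)) (pr hq ρ ψ w v) = pr hq ρ ψ w v := fun c =>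
      LinearMap.congr_fun (lam hq ρ ψ hψ hmem hfix (h1 w hmem) c) v
    have hg : lrep hq ρ ga * pr hq ρ ψ w = pr hq ρ ψ w * lrep hq ρ ga :=
      move_lrep hq ρ ψ ga w w (by rw [hwr, act_smul_vec, (xa_u01 hgaX).1])
    have h1' : ∀ c : F, lrep hq ρ (tv (ev 1) (c • ev 0)) (pr hq ρ ψ w v) = pr hq ρ ψ w v := by
      intro c
      obtain ⟨v', hv''⟩ : ∃ v', v' = lrep hq ρ ga⁻¹ v := ⟨_, rfl⟩
      have e : pr hq ρ ψ w v = lrep hq ρ ga (pr hq ρ ψ w v') := by
        rw [← Module.End.mul_apply, hg, Module.End.mul_apply, hv'', ← Module.End.mul_apply (lrep hq ρ ga),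
          ← map_mul, mul_inv_cancel, map_one, Module.End.one_apply]
      rw [e, ← Module.End.mul_apply, ← map_mul, show tv (ev 1) (c • ev 0) * ga = ga * tv (ev 0) ((-c) • ev 1) by
        rw [← hgconj, neg_neg], map_mul, Module.End.mul_apply]
      congr 1
      exact LinearMap.congr_fun (lam hq ρ ψ hψ hmem hfix (h1 w hmem) (-c)) v'
    rw [hD, LinearMap.sub_apply, LinearMap.smul_apply, Module.End.one_apply,
      sumK_fixed _ _ (xfix_of_gens hq ρ h0 h1'), hX, sub_self]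
  have hDU : UFix hq ρ (D v) := by
    have e : D v = D (pr hq ρ ψ 0 v) := by
      conv_lhs => rw [← Module.End.one_apply (R := ℂ) (M := V) v, ← sum_av ψ (ρ.comp (sieg (n := k + 1 + 1 + 2) hq)) hψ,
        LinearMap.sum_apply, map_sum]
      exact Finset.sum_eq_single 0 (fun w _ hw => hkill w hw) (fun h => absurd (Finset.mem_univ _) h)
    have hU0 : UFix hq ρ (pr hq ρ ψ 0 v) :=
      (ufix_iff hq ρ ψ hψ _).2 (LinearMap.congr_fun (av_idem ψ (ρ.comp (sieg (n := k + 1 + 1 + 2) hq)) hψ 0) v)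
    intro φ
    rw [e, hD, LinearMap.sub_apply, LinearMap.smul_apply, Module.End.one_apply, map_sub, map_smul, hU0 φ,
      ufix_sumK hq ρ hU0 _ φ]
  -- the difference is fixed by the second block
  obtain ⟨z, hz⟩ : ∃ z, z = D y := ⟨_, rfl⟩
  have hzU : UFix hq ρ z := fun φ => by
    rw [hz, hD, LinearMap.sub_apply, LinearMap.smul_apply, Module.End.one_apply, ← hp, map_sub, map_smul, hy.fixU φ,
      hpU φ]
  have hgz : L' ga z = D v := by
    rw [hz, hv', hD]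
    simp only [LinearMap.sub_apply, LinearMap.smul_apply, Module.End.one_apply, map_sub, map_smul]
    congr 1
    rw [hL']
    letI := Fintype.ofFinite (Xa k F)
    simp only [sumK, LinearMap.sum_apply, map_sum]
    refine Finset.sum_congr rfl fun a _ => ?_
    have h := congrArg ρ (blocks_commute hq a.2 hgaX)
    rw [map_mul, map_mul] at h
    exact (LinearMap.congr_fun h y).symm
  have haxis : ∀ {u : V}, UFix hq ρ u → ∀ c : F, L' (tv (ev 1) (c • ev 0)) u = u := fun hu c => by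
    rw [hL', tv_smul_swap c (by rw [dot_ev]; simp [ev]), twLev_axis hq ρ (by simp [ev]), hu]
  have hzX : XFix hq (twRep ρ) z := xfix_of_gens hq (twRep ρ) (fun c => by
    rw [← hL']
    have h : L' ga (L' (tv (ev 0) (c • ev 1)) z) = L' ga z := by
      rw [← Module.End.mul_apply, ← map_mul, ← hgconj, map_mul, Module.End.mul_apply]
      exact haxis (hgz ▸ hDU) (-c)
    have hinv : ∀ u, L' ga⁻¹ (L' ga u) = u := fun u => by
      rw [← Module.End.mul_apply, ← map_mul, inv_mul_cancel, map_one, Module.End.one_apply]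
    have h2 := congrArg (L' ga⁻¹) h
    rwa [hinv, hinv] at h2)
    (fun c => by rw [← hL']; exact haxis hzU c)
  have hident : X • (X • y) - X • p = X • p' - sumK (lrep hq (twRep ρ)) (Xa k F) p := by
    have h := sumK_fixed (lrep hq (twRep ρ)) (Xa k F) hzX
    rw [← hX, hz, hD, LinearMap.sub_apply, LinearMap.smul_apply, Module.End.one_apply, ← hp, map_sub, map_smul,
      ← hp', smul_sub] at h
    exact h.symm
  -- the common part
  obtain ⟨q, hqw⟩ : ∃ q, q = sumK (lrep hq (twRep ρ)) (Xa k F) p := ⟨_, rfl⟩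
  have hq2 : q = sumK (lrep hq ρ) (Xa k F) p' := by rw [hqw, hp, hp', sums_commute]
  obtain ⟨α, hα⟩ : ∃ α : ℂ, q = α • p := hp ▸ hy.line q (hq2 ▸ ufix_sumK hq ρ hp'U _)
    (fun g hg => (hq2 ▸ rfix_sumK hq ρ hp'R : RFix hq ρ q) g hg)
    (fun g hg => (hq2 ▸ xfix_sumK hq ρ p' : XFix hq ρ q) g hg) (fun g hg => hp ▸ hpR g hg)
  have hBq : sumK (lrep hq (twRep ρ)) (Xa k F) q = X • q := by
    rw [hX]
    refine sumK_fixed _ _ fun g hg => ?_
    rw [hqw]
    exact xfix_sumK hq (twRep ρ) p g hg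
  rw [hα, map_smul, ← hqw, hα, smul_smul, smul_smul] at hBq
  rw [← hqw, hα] at hident
  have hX0 : X ≠ 0 := hX ▸ Nat.cast_ne_zero.2 Nat.card_pos.ne'
  obtain ⟨μ, hμ⟩ : ∃ μ, μ = (Nat.card (Blk k F) : ℂ) * lamc k F := ⟨_, rfl⟩
  have hTy : sumK (lrep hq ρ) (Blk k F) y = (Nat.card (Blk k F) : ℂ) • y :=
    sumK_fixed _ _ fun g hg => hy.fixS g (row0F_le hg.1)
  have hTp : sumK (lrep hq ρ) (Blk k F) p = μ • y := by rw [hp, hμ]; exact sumBlk_sum hq ρ hy
  have hTp' : sumK (lrep hq ρ) (Blk k F) p' = μ • y := by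
    rw [hμ, hp', ← sumBlk_sum hq (twRep ρ) hy']
    simp only [sumK, LinearMap.sum_apply]
    exact Finset.sum_congr rfl fun g _ => by rw [twLev_blk hq ρ g.2]
  have hB0 : (Nat.card (Blk k F) : ℂ) ≠ 0 := Nat.cast_ne_zero.2 Nat.card_pos.ne'
  obtain ⟨hl1, hl2⟩ := lamc_ne k F
  rcases eq_or_ne (α • p) 0 with h0 | h0
  · rw [h0, sub_zero] at hident
    have h := congrArg (sumK (lrep hq ρ) (Blk k F)) hident
    rw [map_sub, map_smul, map_smul, map_smul, map_smul, hTy, hTp, hTp'] at h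
    simp only [smul_smul, ← sub_smul] at h
    have h' := smul_left_injective ℂ hy.ne h
    refine hl2 (mul_left_cancel₀ (mul_ne_zero hX0 hB0) ?_)
    rw [← hX]
    linear_combination -h' - 2 * X * hμ
  · have hαX : α = X := by
      have : (α * α - X * α) • p = 0 := by rw [sub_smul, hBq, sub_self]
      rw [← mul_comm α X, ← mul_sub, mul_comm, mul_smul, smul_eq_zero, sub_eq_zero] at this
      exact this.resolve_right h0
    rw [hαX] at hident
    have h := congrArg (sumK (lrep hq ρ) (Blk k F)) hident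
    rw [map_sub, map_sub, map_smul, map_smul, map_smul, map_smul, hTy, hTp, hTp'] at h
    simp only [smul_smul, ← sub_smul] at h
    have h' := smul_left_injective ℂ hy.ne h
    refine hl1 (mul_left_cancel₀ (mul_ne_zero hX0 hB0) ?_)
    rw [← hX]
    linear_combination -h' - X * hμ

include hq in
/-- No irreducible representation has a degree below the bound. -/
theorem plus_bound [ρ.IsIrreducible] (h2 : 2 ≤ Module.finrank ℂ V) :
    ((Fintype.card F : ℤ) ^ (k + 1 + 1 + 2) - 1) * ((Fintype.card F : ℤ) ^ (k + 1 + 2) + Fintype.card F) ≤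
      ((Fintype.card F : ℤ) ^ 2 - 1) * Module.finrank ℂ V := by
  by_contra hsmall
  push Not at hsmall
  obtain ⟨ψ, hψ⟩ := CfsgLib.MinDegree.exists_nontrivial_addChar (F := F) (K := ℂ)
    (Nat.cast_ne_zero.2 Fintype.card_ne_zero)
  haveI : (twRep ρ).IsIrreducible := irreducible_comp ρ _ (tw (0 : Fin (k + 1 + 1 + 2))).surjective
  obtain ⟨y, hy⟩ := exists_point hq ρ ψ h2 hsmall hψ
  obtain ⟨y', hy'⟩ := exists_point hq (twRep ρ) ψ h2 hsmall hψ
  have hU : UFix hq (twRep ρ) y :=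
    tw_ufix hq ρ hy.fixU fun x hx => hy.fixS _ (row0F_le (axis_mem hx).1)
  obtain ⟨c, hc⟩ := hy'.only y hU fun g hg =>
    twLev_row0F hq ρ hy.fixU hg fun g' hg' _ => hy.fixS g' (row0F_le hg'.1)
  have hc0 : c ≠ 0 := fun h => hy.ne (by rw [hc, h, zero_smul])
  exact not_two_points hq ρ ψ hψ (fun w hw => ((small_data hq ρ ψ hψ h2 hsmall).2.1 w hw).2) hy
    (hc ▸ hy'.smul hq (twRep ρ) hc0)

end Pencil

end CfsgLib.MinDegree.PlusBd
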