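import Mathlib
import Cfsg.Agent.Lib.MinDegree.SymOdd
import Cfsg.Agent.Lib.Classical.SpSimple

/-!
Restriction of representations of the symplectic group to the symmetric matrices.
-/

namespace CfsgLib.MinDegree

open Matrix CfsgLib.Classical

variable {F : Type*} [Field F] {m : ℕ}

/-- The unipotent radical of the Siegel parabolic. -/
def spSHom : Multiplicative (symA m F) →* symplecticGroup (Fin m) F where
  toFun S := spS S.toAdd.1 S.toAdd.2
  map_one' := Subtype.ext (by simp [spS])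
  map_mul' S T := (spS_mul _ _ _ _).symm

theorem spS_mul_spD (g : GL (Fin m) F) (a : symA m F) :
    spSHom (Multiplicative.ofAdd a) * spD g⁻¹ = spD g⁻¹ * spSHom (Multiplicative.ofAdd (congrAct g a)) := by
  refine Subtype.ext ?_
  have h1 : ((g⁻¹ : GL (Fin m) F) : Matrix (Fin m) (Fin m) F) * (g : Matrix (Fin m) (Fin m) F) = 1 := g.inv_mul
  simp only [spSHom, MonoidHom.coe_mk, OneHom.coe_mk, toAdd_ofAdd, spS, spD, Submonoid.coe_mul,
    fromBlocks_multiply, inv_inv, congrAct, AddMonoidHom.coe_mk, ZeroHom.coe_mk]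
  simp [← Matrix.mul_assoc, h1, -Matrix.coe_units_inv]

variable {K : Type*} [Field K] {V : Type*} [AddCommGroup V] [Module K V]
variable (ρ : symplecticGroup (Fin m) F →* Module.End K V)

theorem hmove_sp (g : GL (Fin m) F) : ∃ T : V →ₗ[K] V, Function.Injective T ∧
    ∀ (a : symA m F) v, ρ.comp spSHom (Multiplicative.ofAdd a) (T v) =
      T (ρ.comp spSHom (Multiplicative.ofAdd (congrAct g a)) v) := by
  refine ⟨ρ (spD g⁻¹), Function.LeftInverse.injective (g := ρ (spD g⁻¹)⁻¹) fun v => ?_, fun a v => ?_⟩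
  · rw [← Module.End.mul_apply, ← map_mul, inv_mul_cancel, map_one, Module.End.one_apply]
  · simp only [MonoidHom.comp_apply, ← Module.End.mul_apply, ← map_mul, spS_mul_spD]

theorem spT_eq_one_of_spS (hm : 1 ≤ m) {N : Subgroup (symplecticGroup (Fin m) F)} [N.Normal]
    (h : ∀ c : F, spS (Matrix.single (⟨0, hm⟩ : Fin m) ⟨0, hm⟩ c) (isSymm_single _ c) ∈ N) : N = ⊤ := by
  rw [eq_top_iff, ← spTGroup_univ, spTGroup, Subgroup.closure_le]
  rintro A ⟨v, -, c, rfl⟩
  rcases eq_or_ne v 0 with rfl | hv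
  · rw [show spT (0 : Fin m ⊕ Fin m → F) c = 1 from sp_ext fun x => by simp [spT_apply]]
    exact one_mem _
  · obtain ⟨g, -, hg⟩ := exists_sp_move (v := Pi.single (Sum.inl ⟨0, hm⟩) (1 : F)) (by simp) hv
    rw [← hg, ← spT_conj, ← spS_single_eq_spT _ c (isSymm_single _ c)]
    exact (inferInstance : N.Normal).conj_mem _ (h c) g

theorem exists_ne_one_sp (hm : 1 ≤ m) (hρ : ρ ≠ 1) :
    ∃ a : symA m F, ρ.comp spSHom (Multiplicative.ofAdd a) ≠ 1 := by
  by_contra hall
  push Not at hall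
  refine hρ (MonoidHom.ext fun g => ?_)
  have htop := spT_eq_one_of_spS hm (N := ρ.ker) fun c =>
    hall ⟨Matrix.single ⟨0, hm⟩ ⟨0, hm⟩ c, isSymm_single _ c⟩
  exact (show g ∈ ρ.ker from htop ▸ Subgroup.mem_top g)

theorem spS_ne_central {B : Matrix (Fin m) (Fin m) F} (hB : B.IsSymm) (h : B ≠ 0) :
    spS B hB ∉ Subgroup.center (symplecticGroup (Fin m) F) := by
  rw [mem_center_sp_iff]
  rintro (e | e) <;> refine h ?_ <;>
  · have := congrArg (fun g : symplecticGroup (Fin m) F => g.1.toBlocks₁₂) e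
    simpa [spS, spNegOne, ← fromBlocks_one, fromBlocks_neg] using this

theorem ne_one_of_ker_le_center (hm : 1 ≤ m) (hker : ρ.ker ≤ Subgroup.center (symplecticGroup (Fin m) F)) :
    ρ ≠ 1 := by
  rintro rfl
  refine spS_ne_central (isSymm_single (⟨0, hm⟩ : Fin m) (1 : F)) (fun e => by simpa using congrFun₂ e ⟨0, hm⟩ ⟨0, hm⟩) (hker ?_)
  simp

/-- In characteristic two the off-diagonal part acts non-trivially. -/
theorem exists_sy_ne_one_sp [Fintype F] (hm : 2 ≤ m) (h23 : m = 2 → 3 ≤ Fintype.card F) (h2 : (2 : F) = 0)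
    (hρ : ρ ≠ 1) : ∃ v w : Fin m → F, ∃ c : F, ρ.comp spSHom (Multiplicative.ofAdd (sy v w c)) ≠ 1 := by
  by_contra hall
  push Not at hall
  set i : Fin m := ⟨0, by omega⟩
  set j : Fin m := ⟨1, by omega⟩
  have hij : i ≠ j := fun e => by simpa [i, j] using congrArg Fin.val e
  haveI := isSimpleGroup_PSp (F := F) hm h23
  have hz : Subgroup.center (symplecticGroup (Fin m) F) = ⊥ := by
    refine (Subgroup.eq_bot_iff_forall _).2 fun g hg => ?_
    rcases (mem_center_sp_iff g).1 hg with e | e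
    · exact e
    · rw [e, (spNegOne_eq_one_iff (by omega)).2 h2]
  set p := QuotientGroup.mk' (Subgroup.center (symplecticGroup (Fin m) F))
  have hsurj : Function.Surjective p := QuotientGroup.mk'_surjective _
  haveI : (ρ.ker.map p).Normal := Subgroup.Normal.map inferInstance p hsurj
  have hmem : spSHom (Multiplicative.ofAdd (sy (Pi.single i 1) (Pi.single j 1) (1 : F))) ∈ ρ.ker := hall _ _ _
  rcases IsSimpleGroup.eq_bot_or_eq_top_of_normal (ρ.ker.map p) inferInstance with h | h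
  · have := (QuotientGroup.eq_one_iff _).1 (Subgroup.mem_bot.1 (h ▸ Subgroup.mem_map_of_mem p hmem))
    refine spS_ne_central (sy (Pi.single i 1) (Pi.single j 1) (1 : F)).2 ?_ this
    intro e
    have := congrFun₂ e i j
    simp [sy, vecMulVec_apply, hij, hij.symm] at this
  · have htop : ρ.ker = ⊤ := by
      refine eq_top_iff.2 fun g _ => ?_
      obtain ⟨g', hg', e⟩ := (h ▸ Subgroup.mem_top (p g) : p g ∈ ρ.ker.map p)
      have := QuotientGroup.eq.1 e
      rw [hz, Subgroup.mem_bot, inv_mul_eq_one] at this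
      exact this ▸ hg'
    exact hρ (MonoidHom.ext fun g => (show g ∈ ρ.ker from htop ▸ Subgroup.mem_top g))

/-- Odd `q`: the dimension of a non-trivial representation of `Sp(2m, q)` is at least `(q^m - 1)/2`. -/
theorem sp_bound_odd [Fintype F] [IsAlgClosed K] [FiniteDimensional K V] (hF : (Fintype.card F : K) ≠ 0)
    (h2 : (2 : F) ≠ 0) (hm : 1 ≤ m) (hρ : ρ ≠ 1) : Fintype.card F ^ m - 1 ≤ 2 * Module.finrank K V :=
  sym_bound_odd hF h2 (ρ.comp spSHom) (hmove_sp ρ) (exists_ne_one_sp ρ hm hρ)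

end CfsgLib.MinDegree
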