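import Mathlib
import Cfsg.Agent.Lib.MinDegree.SymOdd

/-!
Representations of the group of symmetric matrices in characteristic two: the bound from the characters whose
polar form is non-zero.
-/

namespace CfsgLib.MinDegree

open Matrix

variable {F : Type*} [Field F] {m : ℕ}

/-- A binary form `c a² + a b + d b²` without zeros takes each value at most `q + 1` times. -/
theorem norm_count [Fintype F] (h2 : (2 : F) = 0) {c d : F} (he : ∀ t : F, c * t * t + t + d ≠ 0) (e : F) :
    Nat.card {p : F × F // c * p.1 * p.1 + p.1 * p.2 + d * p.2 * p.2 = e} ≤ Fintype.card F + 1 := by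
  classical
  set N : F × F → F := fun p => c * p.1 * p.1 + p.1 * p.2 + d * p.2 * p.2 with hN
  rw [Nat.card_eq_fintype_card, Fintype.card_subtype]
  change (Finset.univ.filter fun p => N p = e).card ≤ _
  have hc : c ≠ 0 := fun h => he (-d) (by rw [h]; ring)
  have hzero : ∀ p, N p = 0 → p = (0 : F × F) := by
    rintro ⟨a, b⟩ h
    simp only [hN] at h
    rcases eq_or_ne b 0 with rfl | hb
    · simp [hc] at h
      simp [h]
    · refine (he (a / b) ?_).elim
      field_simp
      linear_combination h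
  rcases eq_or_ne e 0 with rfl | he0
  · refine le_trans (Finset.card_le_one.2 fun a ha b hb => ?_) (by omega)
    rw [hzero a (Finset.mem_filter.1 ha).2, hzero b (Finset.mem_filter.1 hb).2]
  haveI hchar : CharP F 2 := CharTwo.of_one_ne_zero_of_two_eq_zero one_ne_zero h2
  have hsq : ∀ x : F, IsSquare x := FiniteField.isSquare_of_char_two (ringChar.eq F 2)
  have heq : ∀ e' : F, e' ≠ 0 →
      (Finset.univ.filter fun p => N p = e').card = (Finset.univ.filter fun p => N p = e).card := by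
    intro e' he'
    obtain ⟨s, hs⟩ := hsq (e / e')
    have hs0 : s ≠ 0 := fun h => div_ne_zero he0 he' (by rw [hs, h, mul_zero])
    have hs' : e' * (s * s) = e := by rw [← hs]; field_simp
    refine Finset.card_bij' (fun p _ => s • p) (fun p _ => s⁻¹ • p) (fun p hp => ?_) (fun p hp => ?_)
      (fun p _ => inv_smul_smul₀ hs0 p) (fun p _ => smul_inv_smul₀ hs0 p)
    · have := (Finset.mem_filter.1 hp).2
      simp only [hN] at this
      simp only [Finset.mem_filter, Finset.mem_univ, true_and, hN, Prod.smul_fst, Prod.smul_snd, smul_eq_mul]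
      rw [← hs', ← this]
      ring
    · have := (Finset.mem_filter.1 hp).2
      simp only [hN] at this
      simp only [Finset.mem_filter, Finset.mem_univ, true_and, hN, Prod.smul_fst, Prod.smul_snd, smul_eq_mul]
      field_simp
      linear_combination this - hs'
  have hsum := Finset.card_eq_sum_card_fiberwise (s := (Finset.univ.erase (0 : F × F))) (t := Finset.univ.erase (0 : F))
    (f := N) fun p hp => Finset.mem_erase.2 ⟨fun h => (Finset.mem_erase.1 hp).1 (hzero p h), Finset.mem_univ _⟩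
  have hfib : ∀ e' ∈ Finset.univ.erase (0 : F), ((Finset.univ.erase (0 : F × F)).filter fun p => N p = e').card =
      (Finset.univ.filter fun p => N p = e).card := by
    intro e' he'
    rw [← heq e' (Finset.mem_erase.1 he').1]
    congr 1
    ext p
    simp only [Finset.mem_filter, Finset.mem_erase, Finset.mem_univ, and_true, true_and, and_iff_right_iff_imp]
    exact fun h hp => (Finset.mem_erase.1 he').1 (by rw [← h, hp]; simp [hN])
  rw [Finset.sum_congr rfl hfib, Finset.sum_const, smul_eq_mul,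
    Finset.card_erase_of_mem (Finset.mem_univ _), Finset.card_erase_of_mem (Finset.mem_univ _), Finset.card_univ,
    Finset.card_univ, Fintype.card_prod] at hsum
  have h1 := Fintype.one_lt_card (α := F)
  refine Nat.le_of_mul_le_mul_left (le_of_eq_of_le hsum.symm ?_) (Nat.sub_pos_of_lt h1)
  obtain ⟨k, hk⟩ := Nat.exists_eq_add_of_le h1.le
  rw [hk]
  simp only [Nat.add_sub_cancel_left]
  rw [Nat.sub_le_iff_le_add]
  exact le_of_eq (by ring)

section Plane

variable [Fintype F] {K : Type*} [Field K] {ψ : AddChar F K} {χ : AddChar (symA m F) K}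
  {Q : (Fin m → F) → F} {B : (Fin m → F) → (Fin m → F) → F}

omit [Fintype F] in
theorem IsForm.polar_alt (hψ : ψ ≠ 1) (hf : IsForm ψ χ Q B) (h2 : (2 : F) = 0) (v : Fin m → F) : B v v = 0 := by
  rw [hf.polar_self hψ, ← two_mul, h2, zero_mul]

/-- Counting over the translates of a plane with `B v w = 1`. -/
theorem count_by_plane (hψ : ψ ≠ 1) (hf : IsForm ψ χ Q B) (h2 : (2 : F) = 0) (hm : 2 ≤ m) {v w : Fin m → F}
    (h : B v w = 1) (P : (Fin m → F) → Prop) (k : ℕ)
    (hk : ∀ u, B v u = 0 → B w u = 0 → Nat.card {p : F × F // P (u + p.1 • v + p.2 • w)} ≤ k) :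
    Nat.card {x // P x} ≤ k * Fintype.card F ^ (m - 2) := by
  classical
  have hwv : B w v = 1 := by rw [hf.polar_comm hψ, h]
  have hneg : ∀ a : F, -a = a := fun a => by linear_combination -a * h2
  let Φ : {u // B v u = 0 ∧ B w u = 0} × (F × F) ≃ (Fin m → F) :=
    { toFun := fun z => z.1.1 + z.2.1 • v + z.2.2 • w
      invFun := fun x => (⟨x + B w x • v + B v x • w, by
          constructor
          · simp only [hf.polar_add hψ, hf.polar_smul hψ, hf.polar_alt hψ h2, h, mul_zero, mul_one, add_zero]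
            rw [← two_mul, h2, zero_mul]
          · simp only [hf.polar_add hψ, hf.polar_smul hψ, hf.polar_alt hψ h2, hwv, mul_zero, mul_one, add_zero]
            rw [← two_mul, h2, zero_mul]⟩, (B w x, B v x))
      left_inv := by
        rintro ⟨⟨u, hu1, hu2⟩, a, b⟩
        simp only [hf.polar_add hψ, hf.polar_smul hψ, hf.polar_alt hψ h2, h, hwv, hu1, hu2, mul_zero, mul_one,
          add_zero, zero_add, Prod.mk.injEq, Subtype.mk.injEq, and_true]
        funext i
        simp only [Pi.add_apply, Pi.smul_apply, smul_eq_mul]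
        linear_combination (a * v i + b * w i) * h2
      right_inv := fun x => by
        funext i
        simp only [Pi.add_apply, Pi.smul_apply, smul_eq_mul]
        linear_combination (B w x * v i + B v x * w i) * h2 }
  have hcard : Nat.card {u // B v u = 0 ∧ B w u = 0} = Fintype.card F ^ (m - 2) := by
    have := Nat.card_congr Φ
    rw [Nat.card_prod, Nat.card_prod, Nat.card_fun, Nat.card_eq_fintype_card (α := F), Nat.card_eq_fintype_card (α := Fin m),
      Fintype.card_fin] at this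
    refine Nat.eq_of_mul_eq_mul_right (Nat.mul_pos Fintype.card_pos Fintype.card_pos) (this.trans ?_)
    rw [← mul_assoc, ← pow_succ, ← pow_succ, show m - 2 + 1 + 1 = m by omega]
  rw [← Nat.card_congr (Φ.subtypeEquiv (q := P) (p := fun z => P (Φ z)) fun z => Iff.rfl),
    Nat.card_congr (Equiv.subtypeProdEquivSigmaSubtype fun u p => P (Φ (u, p))), Nat.card_sigma, ← hcard,
    Nat.card_eq_fintype_card (α := {u // B v u = 0 ∧ B w u = 0}), mul_comm, ← Finset.card_univ,
    ← smul_eq_mul, ← Finset.sum_const]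
  exact Finset.sum_le_sum fun u _ => hk u.1 u.2.1 u.2.2

omit [Fintype F] in
theorem IsForm.plane_value (hψ : ψ ≠ 1) (hf : IsForm ψ χ Q B) {v w u : Fin m → F} (h : B v w = 1)
    (hu1 : B v u = 0) (hu2 : B w u = 0) (a b : F) :
    Q (u + a • v + b • w) = Q u + (Q v * a * a + a * b + Q w * b * b) := by
  rw [hf.map_add hψ, hf.map_add hψ, hf.map_smul hψ, hf.map_smul hψ, hf.polar_smul hψ, hf.polar_smul hψ,
    hf.polar_comm hψ (u + a • v), hf.polar_add hψ, hf.polar_smul hψ, hu2, hf.polar_comm hψ u v, hu1,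
    hf.polar_comm hψ w v, h]
  ring

/-- The partners of a vector in the pairs of prescribed values. -/
theorem count_partners (hψ : ψ ≠ 1) (hf : IsForm ψ χ Q B) (h2 : (2 : F) = 0) (hm : 2 ≤ m) (c d : F) (k : ℕ)
    (hk : ∀ e, Nat.card {a : F // c * a * a + a = e} ≤ k) {v : Fin m → F} (hv : Q v = c) :
    Nat.card {w // B v w = 1 ∧ Q w = d} ≤ k * Fintype.card F ^ (m - 2) := by
  classical
  rcases isEmpty_or_nonempty {w // B v w = 1 ∧ Q w = d} with hE | ⟨⟨w₀, h0, hd⟩⟩
  · simp
  refine count_by_plane hψ hf h2 hm h0 _ k fun u hu1 hu2 => le_trans ?_ (hk (Q u))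
  have key : ∀ p : F × F, B v (u + p.1 • v + p.2 • w₀) = 1 ∧ Q (u + p.1 • v + p.2 • w₀) = d →
      p.2 = 1 ∧ c * p.1 * p.1 + p.1 = Q u := by
    rintro ⟨a, b⟩ ⟨h1, h'⟩
    simp only [hf.polar_add hψ, hf.polar_smul hψ, hu1, hf.polar_alt hψ h2, h0, mul_zero, zero_add, mul_one] at h1
    subst h1
    rw [hf.plane_value hψ h0 hu1 hu2, hv, hd] at h'
    refine ⟨rfl, ?_⟩
    linear_combination h' - Q u * h2
  refine Nat.card_le_card_of_injective (fun p : {p : F × F // B v (u + p.1 • v + p.2 • w₀) = 1 ∧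
      Q (u + p.1 • v + p.2 • w₀) = d} => (⟨p.1.1, (key p.1 p.2).2⟩ : {a : F // c * a * a + a = Q u})) ?_
  intro p p' e
  exact Subtype.ext (Prod.ext (congrArg Subtype.val e) ((key p.1 p.2).1.trans (key p'.1 p'.2).1.symm))

omit [Fintype F] in
theorem IsForm.linearIndependent_pair (hψ : ψ ≠ 1) (hf : IsForm ψ χ Q B) (h2 : (2 : F) = 0) {v w : Fin m → F}
    (h : B v w = 1) : LinearIndependent F ![v, w] := by
  rw [LinearIndependent.pair_iff]
  intro a b hab
  have hz : ∀ x, B x 0 = 0 := fun x => by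
    simpa using hf.polar_smul hψ 0 x x
  have e1 := congrArg (B v) hab
  have e2 := congrArg (B w) hab
  rw [hf.polar_add hψ, hf.polar_smul hψ, hf.polar_smul hψ, hf.polar_alt hψ h2, h, hz] at e1
  rw [hf.polar_add hψ, hf.polar_smul hψ, hf.polar_smul hψ, hf.polar_alt hψ h2, hf.polar_comm hψ w v, h, hz] at e2
  simp_all

end Plane

section Bound

variable {K : Type*} [Field K] [IsAlgClosed K] {V : Type*} [AddCommGroup V] [Module K V] [FiniteDimensional K V]

omit [IsAlgClosed K] in
theorem pairs_bound [Fintype F] (hF : (Fintype.card F : K) ≠ 0) (h2 : (2 : F) = 0) (hm : 2 ≤ m)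
    [Fintype (symA m F)] (hA : (Fintype.card (symA m F) : K) ≠ 0)
    (π : Multiplicative (symA m F) →* Module.End K V)
    (hmove : ∀ g : GL (Fin m) F, ∃ T : V →ₗ[K] V, Function.Injective T ∧
      ∀ a v, π (Multiplicative.ofAdd a) (T v) = T (π (Multiplicative.ofAdd (congrAct g a)) v))
    {ψ : AddChar F K} (hψ : ψ ≠ 1) {Q : AddChar (symA m F) K → (Fin m → F) → F}
    {B : AddChar (symA m F) K → (Fin m → F) → (Fin m → F) → F} (hf : ∀ χ, IsForm ψ χ (Q χ) (B χ))
    (c d : F) (M : ℕ)
    (hex : ∃ χ, weightSpace π χ ≠ ⊥ ∧ ∃ v w, B χ v w = 1 ∧ Q χ v = c ∧ Q χ w = d)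
    (hM : ∀ χ, weightSpace π χ ≠ ⊥ → ∀ v w, B χ v w = 1 → Q χ v = c → Q χ w = d →
      Nat.card {s : Fin 2 → Fin m → F // B χ (s 0) (s 1) = 1 ∧ Q χ (s 0) = c ∧ Q χ (s 1) = d} ≤
        M * (Fintype.card F ^ (m - 2) * Fintype.card F ^ (m - 2))) :
    (Fintype.card F ^ m - 1) * (Fintype.card F ^ m - Fintype.card F) ≤ M * Module.finrank K V := by
  classical
  haveI : Finite (AddChar (symA m F) K) := finite_addChar
  haveI : Fintype (AddChar (symA m F) K) := Fintype.ofFinite _
  obtain ⟨χ₁, hW₁, v₁, w₁, hB₁, hc₁, hd₁⟩ := hex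
  set O : Finset (AddChar (symA m F) K) := Finset.univ.filter fun χ =>
    weightSpace π χ ≠ ⊥ ∧ ∃ v w, B χ v w = 1 ∧ Q χ v = c ∧ Q χ w = d with hO
  have hdim : O.card ≤ Module.finrank K V := card_le_finrank π hA O fun χ hχ => (Finset.mem_filter.1 hχ).2.1
  refine le_trans ?_ (Nat.mul_le_mul_left M hdim)
  have hQc : ∀ (χ : AddChar (symA m F) K) (g : GL (Fin m) F) x,
      Q (χ.compAddMonoidHom (congrAct g)) x = Q χ ((g : Matrix (Fin m) (Fin m) F) *ᵥ x) := fun χ g x =>
    cancel_shift hψ fun d => by rw [← (hf _).sq_eq, ((hf χ).comp g).sq_eq]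
  have hBc : ∀ (χ : AddChar (symA m F) K) (g : GL (Fin m) F) x y, B (χ.compAddMonoidHom (congrAct g)) x y =
      B χ ((g : Matrix (Fin m) (Fin m) F) *ᵥ x) ((g : Matrix (Fin m) (Fin m) F) *ᵥ y) := fun χ g x y =>
    cancel_shift hψ fun d => by rw [← (hf _).sy_eq, ((hf χ).comp g).sy_eq]
  set P := Finset.univ.filter fun s : Fin 2 → Fin m → F => LinearIndependent F s with hP
  have hPc : P.card = (Fintype.card F ^ m - 1) * (Fintype.card F ^ m - Fintype.card F) := by
    have h := card_linearIndependent (K := F) (V := Fin m → F) (k := 2) (by rw [Module.finrank_fin_fun]; exact hm)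
    rw [Nat.card_eq_fintype_card, Fintype.card_subtype, Fin.prod_univ_two, Module.finrank_fin_fun] at h
    simpa [hP] using h
  set N := Fintype.card F ^ (m - 2)
  have key := Finset.card_mul_le_card_mul
    (fun (s : Fin 2 → Fin m → F) χ => B χ (s 0) (s 1) = 1 ∧ Q χ (s 0) = c ∧ Q χ (s 1) = d)
    (s := P) (t := O) (m := N * N) (n := M * (N * N)) (fun s hs => ?_) (fun χ hχ => ?_)
  · rw [hPc] at key
    exact Nat.le_of_mul_le_mul_right (key.trans_eq (by ring)) (Nat.mul_pos (Nat.pow_pos Fintype.card_pos) (Nat.pow_pos Fintype.card_pos))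
  · have hs' := (Finset.mem_filter.1 hs).2
    obtain ⟨g, hg⟩ := exists_gl_map (n := Fin m) hs' ((hf χ₁).linearIndependent_pair hψ h2 hB₁)
    have hg0 : (g : Matrix (Fin m) (Fin m) F) *ᵥ s 0 = v₁ := by simpa using hg 0
    have hg1 : (g : Matrix (Fin m) (Fin m) F) *ᵥ s 1 = w₁ := by simpa using hg 1
    obtain ⟨T, hT, hint⟩ := hmove g
    set χ := χ₁.compAddMonoidHom (congrAct g) with hχdef
    have hW : weightSpace π χ ≠ ⊥ := weightSpace_moved π (congrAct g) T hT hint hW₁
    have hB : B χ (s 0) (s 1) = 1 := by rw [hBc, hg0, hg1, hB₁]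
    have hq0 : Q χ (s 0) = c := by rw [hQc, hg0, hc₁]
    have hq1 : Q χ (s 1) = d := by rw [hQc, hg1, hd₁]
    haveI : Finite ((Fin m → F) →ₗ[F] F) := Module.finite_of_finite F
    haveI : Fintype {φ : (Fin m → F) →ₗ[F] F // ∀ i : Fin 2, φ (s i) = 0} := Fintype.ofFinite _
    have hcard : Fintype.card {φ : (Fin m → F) →ₗ[F] F // ∀ i : Fin 2, φ (s i) = 0} = N := by
      rw [← Nat.card_eq_fintype_card, card_vanishing hs', Fintype.card_fin]
    rw [← hcard, ← Fintype.card_prod]
    choose t ht using fun φ : {φ : (Fin m → F) →ₗ[F] F // ∀ i : Fin 2, φ (s i) = 0} => exists_shear φ.1 (φ.2 0)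
    choose t' ht' using fun φ : {φ : (Fin m → F) →ₗ[F] F // ∀ i : Fin 2, φ (s i) = 0} => exists_shear φ.1 (φ.2 1)
    have hact : ∀ φ φ' x, ((t φ * t' φ' : GL (Fin m) F) : Matrix (Fin m) (Fin m) F) *ᵥ x =
        x + φ.1 x • s 0 + φ'.1 x • s 1 := by
      intro φ φ' x
      rw [Units.val_mul, ← mulVec_mulVec, ht', mulVec_add, mulVec_smul, ht, ht, φ.2 1, zero_smul, add_zero]
    refine Finset.card_le_card_of_injOn (fun p => χ.compAddMonoidHom (congrAct (t p.1 * t' p.2))) (fun p _ => ?_) ?_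
    · obtain ⟨T', hT', hint'⟩ := hmove (t p.1 * t' p.2)
      have e0 : ((t p.1 * t' p.2 : GL (Fin m) F) : Matrix (Fin m) (Fin m) F) *ᵥ s 0 = s 0 := by
        rw [hact, p.1.2 0, p.2.2 0]; simp
      have e1 : ((t p.1 * t' p.2 : GL (Fin m) F) : Matrix (Fin m) (Fin m) F) *ᵥ s 1 = s 1 := by
        rw [hact, p.1.2 1, p.2.2 1]; simp
      have h' : B (χ.compAddMonoidHom (congrAct (t p.1 * t' p.2))) (s 0) (s 1) = 1 ∧
          Q (χ.compAddMonoidHom (congrAct (t p.1 * t' p.2))) (s 0) = c ∧
          Q (χ.compAddMonoidHom (congrAct (t p.1 * t' p.2))) (s 1) = d := by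
        rw [hBc χ, hQc χ, hQc χ, e0, e1]; exact ⟨hB, hq0, hq1⟩
      simp only [Finset.mem_coe, Finset.mem_bipartiteAbove, hO, Finset.mem_filter, Finset.mem_univ, true_and]
      exact ⟨⟨weightSpace_moved π _ T' hT' hint' hW, s 0, s 1, h'⟩, h'⟩
    · rintro ⟨φ, φ'⟩ _ ⟨η, η'⟩ _ h
      have h0 := fun x => congrArg (fun ξ => B ξ (s 0) x) h
      have h1 := fun x => congrArg (fun ξ => B ξ (s 1) x) h
      simp only [hBc, hact, φ.2 0, φ'.2 0, η.2 0, η'.2 0, φ.2 1, φ'.2 1, η.2 1, η'.2 1, zero_smul, add_zero,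
        (hf χ).polar_add hψ, (hf χ).polar_smul hψ, (hf χ).polar_alt hψ h2, hB, (hf χ).polar_comm hψ (s 1) (s 0),
        mul_zero, mul_one, add_right_inj] at h0 h1
      exact Prod.ext (Subtype.ext (LinearMap.ext h1)) (Subtype.ext (LinearMap.ext h0))
  · obtain ⟨hWχ, v, w, hvw, hv, hw⟩ := (Finset.mem_filter.1 hχ).2
    refine le_trans ?_ (hM χ hWχ v w hvw hv hw)
    rw [Nat.card_eq_fintype_card, Fintype.card_subtype]
    refine Finset.card_le_card fun s hs => ?_
    simp only [Finset.mem_bipartiteBelow] at hs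
    simp [hs.2]

omit [IsAlgClosed K] in
/-- Pairs of prescribed values: a bound from the first entries and the partners of each. -/
theorem card_pairs_le [Fintype F] (hψ : {ψ : AddChar F K // ψ ≠ 1}) {χ : AddChar (symA m F) K}
    {Q : (Fin m → F) → F} {B : (Fin m → F) → (Fin m → F) → F} (hf : IsForm hψ.1 χ Q B) (h2 : (2 : F) = 0)
    (hm : 2 ≤ m) (c d : F) (k₁ k₂ : ℕ) (hk : ∀ e, Nat.card {a : F // c * a * a + a = e} ≤ k₂)
    {v₀ w₀ : Fin m → F} (h0 : B v₀ w₀ = 1)
    (hv : ∀ u, B v₀ u = 0 → B w₀ u = 0 → Nat.card {p : F × F // Q (u + p.1 • v₀ + p.2 • w₀) = c ∧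
      ∃ w, B (u + p.1 • v₀ + p.2 • w₀) w = 1} ≤ k₁) :
    Nat.card {s : Fin 2 → Fin m → F // B (s 0) (s 1) = 1 ∧ Q (s 0) = c ∧ Q (s 1) = d} ≤
      k₁ * k₂ * (Fintype.card F ^ (m - 2) * Fintype.card F ^ (m - 2)) := by
  classical
  have h1 := count_by_plane hψ.2 hf h2 hm h0 (fun v => Q v = c ∧ ∃ w, B v w = 1) k₁ hv
  rw [Nat.card_eq_fintype_card, Fintype.card_subtype] at h1 ⊢
  set S := Finset.univ.filter fun s : Fin 2 → Fin m → F => B (s 0) (s 1) = 1 ∧ Q (s 0) = c ∧ Q (s 1) = d
  refine le_trans (Finset.card_le_mul_card_image (f := fun s : Fin 2 → Fin m → F => s 0) S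
    (k₂ * Fintype.card F ^ (m - 2)) fun v hvS => ?_) ?_
  · obtain ⟨s, hs, rfl⟩ := Finset.mem_image.1 hvS
    have h' := count_partners hψ.2 hf h2 hm c d k₂ hk (v := s 0) (Finset.mem_filter.1 hs).2.2.1
    rw [Nat.card_eq_fintype_card, Fintype.card_subtype] at h'
    refine le_trans (Finset.card_le_card_of_injOn (fun t : Fin 2 → Fin m → F => t 1) (fun t ht => ?_) ?_) h'
    · simp only [Finset.mem_coe, Finset.mem_filter, S, Finset.mem_univ, true_and] at ht ⊢
      exact ⟨ht.2 ▸ ht.1.1, ht.1.2.2⟩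
    · intro t ht t' ht' e
      simp only [Finset.mem_coe, Finset.mem_filter] at ht ht'
      funext i
      fin_cases i
      · exact ht.2.trans ht'.2.symm
      · exact e
  · refine le_trans (Nat.mul_le_mul_left _ (le_trans (Finset.card_le_card fun v hv' => ?_) h1)) (le_of_eq (by ring))
    obtain ⟨s, hs, rfl⟩ := Finset.mem_image.1 hv'
    simp only [S, Finset.mem_filter, Finset.mem_univ, true_and] at hs ⊢
    exact ⟨hs.2.1, s 1, hs.1⟩

/-- Characteristic two: a representation of the symmetric matrices, moved by the linear group, on which some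
element `v wᵀ + w vᵀ` acts non-trivially has dimension at least `(q^m - 1)(q^m - q)/(2(q + 1))`. -/
theorem sym_bound_even [Fintype F] (hF : (Fintype.card F : K) ≠ 0) (h2 : (2 : F) = 0) (hm : 2 ≤ m)
    [Fintype (symA m F)] (hA : (Fintype.card (symA m F) : K) ≠ 0)
    (π : Multiplicative (symA m F) →* Module.End K V)
    (hmove : ∀ g : GL (Fin m) F, ∃ T : V →ₗ[K] V, Function.Injective T ∧
      ∀ a v, π (Multiplicative.ofAdd a) (T v) = T (π (Multiplicative.ofAdd (congrAct g a)) v))
    (hne : ∃ v w : Fin m → F, ∃ c : F, π (Multiplicative.ofAdd (sy v w c)) ≠ 1) :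
    (Fintype.card F ^ m - 1) * (Fintype.card F ^ m - Fintype.card F) ≤
      2 * (Fintype.card F + 1) * Module.finrank K V := by
  classical
  obtain ⟨ψ, hψ⟩ := exists_nontrivial_addChar (K := K) (F := F) hF
  choose Q B hf using fun χ => exists_form (m := m) hF hψ χ
  obtain ⟨a, b, r, har⟩ := hne
  obtain ⟨χ₀, hχ₀, hW₀⟩ := exists_weight π hA har
  rw [(hf χ₀).sy_eq] at hχ₀
  have hab : B χ₀ a b ≠ 0 := fun e => hχ₀ (by rw [e, mul_zero, AddChar.map_zero_eq_one])
  set w₁ := (B χ₀ a b)⁻¹ • b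
  have hB₁ : B χ₀ a w₁ = 1 := by rw [(hf χ₀).polar_smul hψ, inv_mul_cancel₀ hab]
  have hneg : ∀ x : F, -x = x := fun x => by linear_combination -x * h2
  by_cases hell : ∃ c d : F, (∀ t : F, c * t * t + t + d ≠ 0) ∧
      ∃ χ, weightSpace π χ ≠ ⊥ ∧ ∃ v w, B χ v w = 1 ∧ Q χ v = c ∧ Q χ w = d
  · obtain ⟨c, d, he, hex⟩ := hell
    have hc : c ≠ 0 := fun h => he (-d) (by rw [h]; ring)
    refine le_trans (pairs_bound hF h2 hm hA π hmove hψ hf c d ((Fintype.card F + 1) * 2) hex ?_) (le_of_eq (by ring))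
    intro χ _ v w hvw hv hw
    refine card_pairs_le ⟨ψ, hψ⟩ (hf χ) h2 hm c d _ _ (fun e => ?_) hvw fun u hu1 hu2 => ?_
    · refine le_of_eq_of_le (Nat.card_congr (Equiv.subtypeEquivRight fun t => ?_)) (at_most_two c 1 (-e) hc)
      constructor <;> intro h <;> linear_combination h
    · refine le_trans ?_ (norm_count h2 he (c - Q χ u))
      refine Nat.card_le_card_of_injective (fun p : {p : F × F // Q χ (u + p.1 • v + p.2 • w) = c ∧
          ∃ w', B χ (u + p.1 • v + p.2 • w) w' = 1} =>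
        (⟨p.1, by
          have hp := p.2.1
          rw [(hf χ).plane_value hψ hvw hu1 hu2, hv, hw] at hp
          exact eq_sub_iff_add_eq'.2 hp⟩ :
          {p : F × F // c * p.1 * p.1 + p.1 * p.2 + d * p.2 * p.2 = c - Q χ u})) ?_
      exact fun p p' e => Subtype.ext (congrArg Subtype.val e :)
  · push Not at hell
    -- an isotropic pair
    have hex : ∃ χ, weightSpace π χ ≠ ⊥ ∧ ∃ v w, B χ v w = 1 ∧ Q χ v = 0 ∧ Q χ w = 0 := by
      obtain ⟨t, ht⟩ : ∃ t : F, Q χ₀ a * t * t + t + Q χ₀ w₁ = 0 := by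
        by_contra hno
        push Not at hno
        exact hell _ _ hno χ₀ hW₀ a w₁ hB₁ rfl rfl
      set v' := w₁ + t • a with hv'
      have hQv : Q χ₀ v' = 0 := by
        rw [(hf χ₀).line hψ, (hf χ₀).polar_comm hψ w₁ a, hB₁]
        linear_combination ht
      have hBv : B χ₀ v' a = 1 := by
        rw [(hf χ₀).polar_comm hψ, (hf χ₀).polar_add hψ, (hf χ₀).polar_smul hψ t, hB₁, (hf χ₀).polar_alt hψ h2,
          mul_zero, add_zero]
      refine ⟨χ₀, hW₀, v', a + Q χ₀ a • v', ?_, hQv, ?_⟩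
      · rw [(hf χ₀).polar_add hψ, (hf χ₀).polar_smul hψ, hBv, (hf χ₀).polar_alt hψ h2, mul_zero, add_zero]
      · rw [(hf χ₀).line hψ, (hf χ₀).polar_comm hψ, hBv, hQv]
        linear_combination Q χ₀ a * h2
    refine le_trans (pairs_bound hF h2 hm hA π hmove hψ hf 0 0 (2 * (Fintype.card F - 1) * 1) hex ?_)
      (Nat.mul_le_mul_right _ (by omega))
    intro χ hW v₀ w₀ hvw hv hw
    -- the form vanishes on the orthogonal of an isotropic pair
    have hW0 : ∀ u, B χ v₀ u = 0 → B χ w₀ u = 0 → Q χ u = 0 := by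
      intro u hu1 hu2
      by_contra hQu
      haveI hchar : CharP F 2 := CharTwo.of_one_ne_zero_of_two_eq_zero one_ne_zero h2
      have hsq : ∀ x : F, IsSquare x := FiniteField.isSquare_of_char_two (ringChar.eq F 2)
      obtain ⟨d, hd⟩ : ∃ d : F, ∀ t : F, t * t + t + d ≠ 0 := by
        by_contra hall
        push Not at hall
        have hsurj : Function.Surjective fun t : F => t * t + t := fun y => by
          obtain ⟨t, ht⟩ := hall y
          exact ⟨t, by linear_combination ht - y * h2⟩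
        have hinj := Finite.injective_iff_surjective.2 hsurj
        exact zero_ne_one (α := F) (hinj (by simp only [mul_zero, add_zero, mul_one]; rw [one_add_one_eq_two, h2]))
      obtain ⟨k, hk⟩ := hsq (d / Q χ u)
      refine hell 1 d (fun t => by rw [one_mul]; exact hd t) χ hW (v₀ + w₀) (w₀ + k • u) ?_ ?_ ?_
      · rw [(hf χ).polar_add hψ, (hf χ).polar_smul hψ, (hf χ).polar_comm hψ (v₀ + w₀), (hf χ).polar_add hψ,
          (hf χ).polar_comm hψ (v₀ + w₀), (hf χ).polar_add hψ, (hf χ).polar_comm hψ u, (hf χ).polar_comm hψ u,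
          hu1, hu2, (hf χ).polar_comm hψ w₀ v₀, hvw, (hf χ).polar_alt hψ h2]
        ring
      · rw [(hf χ).map_add hψ, hv, hw, hvw]; ring
      · rw [(hf χ).line hψ, (hf χ).polar_comm hψ, hw, (hf χ).polar_comm hψ u w₀, hu2]
        rw [show k * k = d / Q χ u from hk.symm]
        field_simp
        ring
    refine card_pairs_le ⟨ψ, hψ⟩ (hf χ) h2 hm 0 0 _ _ (fun e => ?_) hvw fun u hu1 hu2 => ?_
    · rw [Nat.card_eq_fintype_card, Fintype.card_subtype]
      refine Finset.card_le_one.2 fun x hx y hy => ?_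
      have := (Finset.mem_filter.1 hx).2
      have := (Finset.mem_filter.1 hy).2
      simp_all
    · rw [Nat.card_eq_fintype_card, Fintype.card_subtype]
      refine le_trans (Finset.card_le_card (t := ({0} : Finset F) ×ˢ Finset.univ.erase 0 ∪
        Finset.univ.erase 0 ×ˢ ({0} : Finset F)) fun p hp => ?_) (le_trans (Finset.card_union_le _ _) ?_)
      · obtain ⟨h, w', hw'⟩ := (Finset.mem_filter.1 hp).2
        rw [(hf χ).plane_value hψ hvw hu1 hu2, hW0 u hu1 hu2, hv, hw] at h
        obtain ⟨x, y⟩ := p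
        have hxy : x * y = 0 := by linear_combination h
        have hne : ¬ (x = 0 ∧ y = 0) := by
          rintro ⟨rfl, rfl⟩
          simp only [zero_smul, add_zero] at hw'
          set z := w' + B χ w₀ w' • v₀ + B χ v₀ w' • w₀ with hz
          have hz1 : B χ v₀ z = 0 := by
            simp only [hz, (hf χ).polar_add hψ, (hf χ).polar_smul hψ, (hf χ).polar_alt hψ h2, hvw]
            linear_combination B χ v₀ w' * h2
          have hz2 : B χ w₀ z = 0 := by
            simp only [hz, (hf χ).polar_add hψ, (hf χ).polar_smul hψ, (hf χ).polar_alt hψ h2,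
              (hf χ).polar_comm hψ w₀ v₀, hvw]
            linear_combination B χ w₀ w' * h2
          have hsum : Q χ (u + z) = 0 := hW0 _ (by rw [(hf χ).polar_add hψ, hu1, hz1, add_zero])
            (by rw [(hf χ).polar_add hψ, hu2, hz2, add_zero])
          rw [(hf χ).map_add hψ, hW0 u hu1 hu2, hW0 z hz1 hz2, zero_add, zero_add, hz, (hf χ).polar_add hψ,
            (hf χ).polar_add hψ, (hf χ).polar_smul hψ, (hf χ).polar_smul hψ, (hf χ).polar_comm hψ u v₀,
            (hf χ).polar_comm hψ u w₀, hu1, hu2, hw'] at hsum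
          simp at hsum
        rcases mul_eq_zero.1 hxy with h' | h' <;> simp_all
      · simp [Finset.card_erase_of_mem]
        omega

end Bound

end CfsgLib.MinDegree
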