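import Mathlib
import Cfsg.Agent.Lib.MinDegree.SymEven
import Cfsg.Agent.Lib.MinDegree.Sp

/-!
Lower bounds for the degrees of representations of the symplectic groups in even characteristic.
-/

namespace CfsgLib.MinDegree

open Matrix

variable {F : Type*} [Field F] {m : ℕ} {K : Type*} [Field K] {V : Type*} [AddCommGroup V] [Module K V]

theorem card_symA_ne_zero [Fintype F] [Fintype (symA m F)] (hF : (Fintype.card F : K) ≠ 0) :
    (Fintype.card (symA m F) : K) ≠ 0 := by
  classical
  intro h0
  have hd : Nat.card (symA m F) ∣ Nat.card (Matrix (Fin m) (Fin m) F) := AddSubgroup.card_addSubgroup_dvd_card _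
  obtain ⟨r, hr⟩ := hd
  rw [Module.natCard_eq_pow_finrank (K := F), Nat.card_eq_fintype_card, Nat.card_eq_fintype_card] at hr
  have := congrArg (fun k : ℕ => (k : K)) hr
  simp [h0, hF] at this

/-- Even `q`: the dimension of a non-trivial representation of `Sp(2m, q)`. -/
theorem sp_bound_even [Fintype F] [IsAlgClosed K] [FiniteDimensional K V]
    (ρ : symplecticGroup (Fin m) F →* Module.End K V) (hF : (Fintype.card F : K) ≠ 0) (h2 : (2 : F) = 0)
    (hm : 2 ≤ m) (h23 : m = 2 → 3 ≤ Fintype.card F) (hρ : ρ ≠ 1) :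
    (Fintype.card F ^ m - 1) * (Fintype.card F ^ m - Fintype.card F) ≤
      2 * (Fintype.card F + 1) * Module.finrank K V := by
  haveI : Fintype (symA m F) := Fintype.ofFinite _
  exact sym_bound_even hF h2 hm (card_symA_ne_zero hF) (ρ.comp spSHom) (hmove_sp ρ)
    (exists_sy_ne_one_sp ρ hm h23 h2 hρ)

/-- An irreducible representation of degree at least two is not trivial. -/
theorem ne_one_of_irreducible {G : Type*} [Group G] {k : ℕ} (ρ : Representation K G (Fin k → K))
    (h : ρ.IsIrreducible) (hk : 2 ≤ k) : ρ ≠ 1 := by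
  intro e
  let S : Subrepresentation ρ :=
    { toSubmodule := K ∙ (Pi.single ⟨0, by omega⟩ 1)
      apply_mem_toSubmodule := fun g v hv => by rw [e]; exact hv }
  haveI : IsSimpleOrder (Subrepresentation ρ) := h
  rcases IsSimpleOrder.eq_bot_or_eq_top S with hS | hS
  · have : S.toSubmodule = ⊥ := by rw [hS]; rfl
    simp [S] at this
  · have : S.toSubmodule = ⊤ := by rw [hS]; rfl
    have h1 := finrank_span_singleton (K := K) (v := (Pi.single ⟨0, by omega⟩ 1 : Fin k → K)) (by simp)
    change Module.finrank K S.toSubmodule = 1 at h1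
    rw [this, finrank_top, Module.finrank_fin_fun] at h1
    omega

end CfsgLib.MinDegree
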